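import Cfsg.Agent.StdSz.OutLie

/-!
# Standard subgroups of type `U₃(2ⁿ)`: identification of the layer

A simple group of order divisible by 3 having a strongly closed subgroup of class two and order at
least 16 is of Lie type in characteristic 2 (from S1170).
-/

set_option autoImplicit false
set_option linter.unusedSectionVars false

namespace Cfsg.Agent.StdU3.EndLie

open Cfsg Subgroup Cfsg.Agent.StdSz.Out Cfsg.Agent.StdSz.OutLie

universe u

theorem not_sixteen_dvd_psl {K : Type*} [Field K] [Fintype K]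
    (hK : Fintype.card K % 16 = 7 ∨ Fintype.card K % 16 = 9) :
    ¬ 16 ∣ Nat.card (Matrix.ProjectiveSpecialLinearGroup (Fin 2) K) := by
  intro h16
  have h1 := Cfsg.Agent.SmallSimple.PSLTwoPart.card_psl_two_odd (F := K) (by
    rw [Nat.odd_iff]; omega)
  obtain ⟨c, hc⟩ := h16
  rw [hc] at h1
  generalize Fintype.card K = r at h1 hK
  rcases hK with hK | hK
  · obtain ⟨d, rfl⟩ : ∃ d, r = 16 * d + 7 := ⟨r / 16, by omega⟩
    have h2 : (16 * d + 7) ^ 2 - 1 = 16 * (16 * d ^ 2 + 14 * d + 3) := by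
      rw [Nat.sub_eq_iff_eq_add (by nlinarith)]; ring
    rw [h2] at h1
    have h3 : 2 * c = (16 * d + 7) * (16 * d ^ 2 + 14 * d + 3) := by nlinarith
    have h4 : (16 * d + 7) * (16 * d ^ 2 + 14 * d + 3) =
      2 * (128 * d ^ 3 + 168 * d ^ 2 + 73 * d + 10) + 1 := by ring
    omega
  · obtain ⟨d, rfl⟩ : ∃ d, r = 16 * d + 9 := ⟨r / 16, by omega⟩
    have h2 : (16 * d + 9) ^ 2 - 1 = 16 * (16 * d ^ 2 + 18 * d + 5) := by
      rw [Nat.sub_eq_iff_eq_add (by nlinarith)]; ring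
    rw [h2] at h1
    have h3 : 2 * c = (16 * d + 9) * (16 * d ^ 2 + 18 * d + 5) := by nlinarith
    have h4 : (16 * d + 9) * (16 * d ^ 2 + 18 * d + 5) =
      2 * (128 * d ^ 3 + 216 * d ^ 2 + 121 * d + 22) + 1 := by ring
    omega

theorem not_three_dvd_suzuki {L : Type*} [Group L] (h : IsSuzuki L) : ¬ 3 ∣ Nat.card L := by
  obtain ⟨-, m, -, hcard⟩ := h
  rw [hcard]
  have h1 : ∀ k : ℕ, 2 ^ (2 * k + 1) % 3 = 2 := by
    intro k
    induction k with
    | zero => rfl
    | succ k ih =>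
      have : 2 ^ (2 * (k + 1) + 1) = 4 * 2 ^ (2 * k + 1) := by
        rw [show 2 * (k + 1) + 1 = 2 * k + 1 + 2 by ring, pow_add]; ring
      rw [this]; omega
  have h2 := h1 m
  generalize 2 ^ (2 * m + 1) = q at h2
  obtain ⟨r, rfl⟩ : ∃ r, q = 3 * r + 2 := ⟨q / 3, by omega⟩
  intro h3
  have h4 : (3 * r + 2) ^ 2 * ((3 * r + 2) ^ 2 + 1) * (3 * r + 2 - 1) =
      3 * (3 * r + 1) * (27 * r ^ 4 + 72 * r ^ 3 + 75 * r ^ 2 + 36 * r + 6) +
      2 * (3 * r + 1) := by
    have : 3 * r + 2 - 1 = 3 * r + 1 := by omega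
    rw [this]; ring
  rw [h4] at h3
  have h5 : 3 ∣ 2 * (3 * r + 1) := by
    refine (Nat.dvd_add_right ?_).mp h3
    exact ⟨(3 * r + 1) * (27 * r ^ 4 + 72 * r ^ 3 + 75 * r ^ 2 + 36 * r + 6), by ring⟩
  omega

/-- **Identification.** -/
theorem lie_of_closed {L : Type u} [Group L] [Finite L] [IsSimpleGroup L]
    (h1170 : S1170Stmt.{u}) (S : Sylow 2 L) (U : Subgroup L)
    (hU : IsStronglyClosed U (S : Subgroup L)) (hnc : ¬ IsMulCommutative U)
    (hcl : ⁅(⊤ : Subgroup U), ⊤⁆ ≤ Subgroup.center U) (h16 : 16 ≤ Nat.card U)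
    (h3 : 3 ∣ Nat.card L) : IsLieTypeChar 2 L := by
  haveI : Fact (Nat.Prime 2) := ⟨Nat.prime_two⟩
  have hp : IsPGroup 2 U := S.isPGroup'.to_le hU.1
  have h16' : 16 ∣ Nat.card L := by
    obtain ⟨k, hk⟩ := hp.exists_card_eq
    have h1 : 4 ≤ k := by
      by_contra hcon
      have h2 : Nat.card U ≤ 2 ^ 3 := by
        rw [hk]; exact Nat.pow_le_pow_right (by norm_num) (by omega)
      omega
    refine Dvd.dvd.trans ?_ (Subgroup.card_subgroup_dvd_card U)
    rw [hk, show (16 : ℕ) = 2 ^ 4 by norm_num]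
    exact pow_dvd_pow 2 h1
  rcases h1170 L S U hU hnc hcl with h | h | h | h | h | h
  · exfalso
    obtain ⟨K, _, _, hK, ⟨e⟩⟩ := h
    rw [Nat.card_congr e.toEquiv] at h16'
    exact not_sixteen_dvd_psl hK h16'
  · obtain ⟨K, _, _, q, hK, hq, hq4, he⟩ := h
    have hev : Even (Fintype.card K) := by
      rw [hK, pow_two]; exact hq.mul_left q
    right; right; left
    exact ⟨K, inferInstance, inferInstance, charP_two_of_even hev, 3, q, hK, le_rfl,
      fun h => by omega, he⟩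
  · exact absurd h3 (not_three_dvd_suzuki h)
  · obtain ⟨K, _, _, hK, he⟩ := h
    left
    exact ⟨K, inferInstance, inferInstance, hK, 3, by norm_num, fun h => by omega, he⟩
  · obtain ⟨K, _, _, hK, hK4, he⟩ := h
    right; left
    exact ⟨K, inferInstance, inferInstance, hK, 2, le_rfl, fun _ => by omega, he⟩
  · exfalso
    obtain ⟨e⟩ := h
    rw [Nat.card_congr e.toEquiv] at h16'
    have := card_A7
    omega

end Cfsg.Agent.StdU3.EndLie
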