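import Mathlib

/-!
# The field `K = F_{q²}`, `q = 2 ^ n ≥ 4`: conjugation, norm and trace to `F_q`

`F_q` is the set of the `x : K` with `bar n x = x`.
-/

set_option autoImplicit false
set_option linter.unusedSectionVars false

namespace Cfsg.Agent.StdU3.Field

variable {K : Type*} [Field K]

/-- conjugation `x ↦ x ^ q` -/
def bar (n : ℕ) (x : K) : K := x ^ (2 ^ n)

/-- norm -/
def N (n : ℕ) (x : K) : K := x * bar n x

/-- trace -/
def Tr (n : ℕ) (x : K) : K := x + bar n x

theorem bar_def (n : ℕ) (x : K) : bar n x = x ^ (2 ^ n) := rfl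
theorem N_def (n : ℕ) (x : K) : N n x = x * bar n x := rfl
theorem Tr_def (n : ℕ) (x : K) : Tr n x = x + bar n x := rfl

theorem bar_zero (n : ℕ) : bar n (0 : K) = 0 := by
  rw [bar_def, zero_pow (by positivity)]

theorem bar_one (n : ℕ) : bar n (1 : K) = 1 := by rw [bar_def, one_pow]

theorem bar_mul (n : ℕ) (x y : K) : bar n (x * y) = bar n x * bar n y := mul_pow x y _

theorem bar_inv (n : ℕ) (x : K) : bar n x⁻¹ = (bar n x)⁻¹ := inv_pow x _

theorem bar_pow (n : ℕ) (x : K) (k : ℕ) : bar n (x ^ k) = bar n x ^ k := by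
  rw [bar_def, bar_def, ← pow_mul, ← pow_mul, mul_comm]

theorem bar_eq_zero {n : ℕ} {x : K} (h : bar n x = 0) : x = 0 :=
  (pow_eq_zero_iff (by positivity)).mp h

theorem N_mul (n : ℕ) (x y : K) : N n (x * y) = N n x * N n y := by
  rw [N_def, N_def, N_def, bar_mul]; ring

theorem N_zero (n : ℕ) : N n (0 : K) = 0 := by rw [N_def, zero_mul]

theorem N_one (n : ℕ) : N n (1 : K) = 1 := by rw [N_def, bar_one, one_mul]

theorem N_inv (n : ℕ) (x : K) : N n x⁻¹ = (N n x)⁻¹ := by
  rw [N_def, N_def, bar_inv, mul_inv]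

theorem N_eq_zero {n : ℕ} {x : K} (h : N n x = 0) : x = 0 := by
  rcases mul_eq_zero.mp h with h | h
  · exact h
  · exact bar_eq_zero h

theorem N_ne_zero {n : ℕ} {x : K} (h : x ≠ 0) : N n x ≠ 0 := fun h' => h (N_eq_zero h')

theorem N_of_fixed {n : ℕ} {x : K} (h : bar n x = x) : N n x = x ^ 2 := by
  rw [N_def, h, sq]

section char

variable [CharP K 2]

theorem add_self (x : K) : x + x = 0 := CharTwo.add_self_eq_zero x

theorem add_eq_zero {x y : K} : x + y = 0 ↔ x = y := by
  constructor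
  · intro h
    have := congrArg (fun z => z + y) h
    simpa only [add_assoc, add_self, add_zero, zero_add] using this
  · rintro rfl; exact add_self x

theorem add_add_self (x y : K) : x + y + y = x := by rw [add_assoc, add_self, add_zero]

theorem bar_add (n : ℕ) (x y : K) : bar n (x + y) = bar n x + bar n y :=
  add_pow_char_pow x y 2 n

theorem Tr_add (n : ℕ) (x y : K) : Tr n (x + y) = Tr n x + Tr n y := by
  rw [Tr_def, Tr_def, Tr_def, bar_add]; ring

theorem Tr_zero (n : ℕ) : Tr n (0 : K) = 0 := by rw [Tr_def, bar_zero, add_zero]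

theorem N_add (n : ℕ) (x y : K) : N n (x + y) = N n x + N n y + (x * bar n y + bar n x * y) := by
  rw [N_def, N_def, N_def, bar_add]; ring

theorem Tr_mul_fixed {n : ℕ} {c : K} (h : bar n c = c) (x : K) :
    Tr n (c * x) = c * Tr n x := by
  rw [Tr_def, Tr_def, bar_mul, h]; ring

theorem Tr_of_fixed {n : ℕ} {c : K} (h : bar n c = c) : Tr n c = 0 := by
  rw [Tr_def, h, add_self]

theorem fixed_of_Tr {n : ℕ} {c : K} (h : Tr n c = 0) : bar n c = c :=
  (add_eq_zero.mp h).symm

theorem fixed_add {n : ℕ} {b c : K} (hb : bar n b = b) (hc : bar n c = c) :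
    bar n (b + c) = b + c := by rw [bar_add, hb, hc]

end char

theorem fixed_mul {n : ℕ} {b c : K} (hb : bar n b = b) (hc : bar n c = c) :
    bar n (b * c) = b * c := by rw [bar_mul, hb, hc]

theorem fixed_inv {n : ℕ} {b : K} (hb : bar n b = b) : bar n b⁻¹ = b⁻¹ := by rw [bar_inv, hb]

variable [Fintype K]

/-- the standing assumption: `K = F_{q²}`, `q = 2 ^ n`, `n ≥ 2`. -/
structure Qd (K : Type*) [Field K] [Fintype K] (n : ℕ) : Prop where
  hn : 2 ≤ n
  hK : Fintype.card K = (2 ^ n) ^ 2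

variable {n : ℕ}

theorem bar_bar (h : Qd K n) (x : K) : bar n (bar n x) = x := by
  rw [bar_def, bar_def, ← pow_mul, ← sq, ← h.hK, FiniteField.pow_card]

theorem bar_inj (h : Qd K n) {x y : K} (hxy : bar n x = bar n y) : x = y := by
  rw [← bar_bar h x, hxy, bar_bar h]

theorem fixed_N (h : Qd K n) (x : K) : bar n (N n x) = N n x := by
  rw [N_def, bar_mul, bar_bar h, mul_comm]

theorem N_bar (h : Qd K n) (x : K) : N n (bar n x) = N n x := by
  rw [N_def, N_def, bar_bar h, mul_comm]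

section char2
variable [CharP K 2]

theorem fixed_Tr (h : Qd K n) (x : K) : bar n (Tr n x) = Tr n x := by
  rw [Tr_def, bar_add, bar_bar h, add_comm]

theorem Tr_bar (h : Qd K n) (x : K) : Tr n (bar n x) = Tr n x := by
  rw [Tr_def, Tr_def, bar_bar h, add_comm]

/-- the polar form -/
theorem N_add' (h : Qd K n) (x y : K) : N n (x + y) = N n x + N n y + Tr n (x * bar n y) := by
  rw [N_add, Tr_def, bar_mul, bar_bar h]

theorem Tr_comm (h : Qd K n) (x y : K) : Tr n (x * bar n y) = Tr n (y * bar n x) := by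
  rw [Tr_def, Tr_def, bar_mul, bar_mul, bar_bar h, bar_bar h]; ring

theorem Tr_self (h : Qd K n) (x : K) : Tr n (x * bar n x) = 0 :=
  Tr_of_fixed (fixed_N h x)

/-- `Tr (x ȳ) = 0` means that `x` and `y` are proportional over `F_q`. -/
theorem fixed_div_of_Tr (h : Qd K n) {x y : K} (hxy : Tr n (x * bar n y) = 0) (hx : x ≠ 0) :
    bar n (y / x) = y / x := by
  have h1 : bar n (x * bar n y) = x * bar n y := fixed_of_Tr hxy
  rw [bar_mul, bar_bar h] at h1
  have hx' : bar n x ≠ 0 := fun h' => hx (bar_eq_zero h')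
  rw [div_eq_mul_inv, bar_mul, bar_inv]
  field_simp
  linear_combination -h1

end char2

theorem exists_generator (h : Qd K n) : ∃ g : Kˣ, orderOf g = 2 ^ n * 2 ^ n - 1 := by
  classical
  obtain ⟨g, hg⟩ := IsCyclic.exists_generator (α := Kˣ)
  refine ⟨g, ?_⟩
  have h1 := orderOf_eq_card_of_forall_mem_zpowers hg
  rw [h1, Nat.card_units, Nat.card_eq_fintype_card, h.hK, sq]

theorem four_le (h : Qd K n) : 4 ≤ 2 ^ n := by
  calc 4 = 2 ^ 2 := by norm_num
    _ ≤ 2 ^ n := Nat.pow_le_pow_right (by norm_num) h.hn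

theorem card_factor (m : ℕ) (hm : 1 ≤ m) : m * m - 1 = (m - 1) * (m + 1) := by
  obtain ⟨k, rfl⟩ := Nat.exists_eq_add_of_le hm
  have : 1 + k - 1 = k := by omega
  rw [this]
  have : (1 + k) * (1 + k) = k * (1 + k + 1) + 1 := by ring
  omega

/-- the norm on units is `x ^ (q + 1)` -/
theorem N_eq_pow (x : K) : N n x = x ^ (2 ^ n + 1) := by
  rw [N_def, bar_def, pow_succ, mul_comm]

/-- an element of norm one whose cube is not one -/
theorem exists_norm_one (h : Qd K n) : ∃ k : Kˣ, N n (k : K) = 1 ∧ (k : K) ^ 3 ≠ 1 ∧ k ≠ 1 := by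
  obtain ⟨g, hg⟩ := exists_generator h
  have h4 := four_le h
  have hf := card_factor (2 ^ n) (by omega)
  refine ⟨g ^ (2 ^ n - 1), ?_, ?_, ?_⟩
  · rw [N_eq_pow, Units.val_pow_eq_pow_val, ← pow_mul, ← hf, ← hg, ← Units.val_pow_eq_pow_val,
      pow_orderOf_eq_one, Units.val_one]
  · rw [Units.val_pow_eq_pow_val, ← pow_mul, ← Units.val_pow_eq_pow_val, Ne, Units.val_eq_one]
    intro h1
    have h2 := orderOf_dvd_of_pow_eq_one h1
    rw [hg, hf] at h2
    have h3 := Nat.dvd_of_mul_dvd_mul_left (by omega) h2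
    have h5 := Nat.le_of_dvd (by norm_num) h3
    omega
  · intro h1
    have h2 := orderOf_dvd_of_pow_eq_one h1
    rw [hg, hf] at h2
    have h3 : (2 ^ n - 1) * (2 ^ n + 1) ∣ (2 ^ n - 1) * 1 := by rwa [mul_one]
    have h4 := Nat.dvd_of_mul_dvd_mul_left (by omega) h3
    have h5 := Nat.le_of_dvd (by norm_num) h4
    omega

/-- the norm is surjective onto `F_q` -/
theorem exists_norm (h : Qd K n) {b : K} (hb : bar n b = b) : ∃ x : K, N n x = b := by
  by_cases h0 : b = 0
  · exact ⟨0, by rw [h0, N_zero]⟩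
  obtain ⟨g, hg⟩ := exists_generator h
  have h4 := four_le h
  have hf := card_factor (2 ^ n) (by omega)
  classical
  have hgen : ∀ x : Kˣ, x ∈ Subgroup.zpowers g := by
    intro x
    have h1 : Subgroup.zpowers g = ⊤ := by
      apply Subgroup.eq_top_of_card_eq
      rw [Nat.card_zpowers, hg, Nat.card_units, Nat.card_eq_fintype_card, h.hK, sq]
    rw [h1]; exact Subgroup.mem_top x
  obtain ⟨k, hk⟩ := (mem_powers_iff_mem_zpowers (x := g)).mpr (hgen (Units.mk0 b h0))
  have hk' : ((g : K)) ^ k = b := by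
    have := congrArg Units.val hk
    simpa using this
  have h1 : g ^ (k * (2 ^ n - 1)) = 1 := by
    apply Units.val_injective
    rw [Units.val_pow_eq_pow_val, pow_mul, hk', Units.val_one]
    have h2 : b ^ (2 ^ n - 1) * b = 1 * b := by
      rw [← pow_succ, one_mul, Nat.sub_add_cancel (by omega)]
      exact hb
    exact mul_right_cancel₀ h0 h2
  have h2 := orderOf_dvd_of_pow_eq_one h1
  rw [hg, hf, mul_comm k] at h2
  obtain ⟨m, hm⟩ := Nat.dvd_of_mul_dvd_mul_left (by omega) h2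
  refine ⟨(g : K) ^ m, ?_⟩
  rw [N_eq_pow, ← pow_mul, ← hk', hm, mul_comm]

/-- a fixed element different from `0` and `1` -/
theorem exists_fixed_ne (h : Qd K n) : ∃ l : Kˣ, bar n (l : K) = l ∧ (l : K) ≠ 1 := by
  obtain ⟨g, hg⟩ := exists_generator h
  have h4 := four_le h
  have hf := card_factor (2 ^ n) (by omega)
  refine ⟨g ^ (2 ^ n + 1), ?_, ?_⟩
  · rw [Units.val_pow_eq_pow_val, ← N_eq_pow, fixed_N h]
  · rw [Ne, Units.val_eq_one]
    intro h1
    have h2 := orderOf_dvd_of_pow_eq_one h1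
    rw [hg, hf] at h2
    have h3 : (2 ^ n + 1) * (2 ^ n - 1) ∣ (2 ^ n + 1) * 1 := by rw [mul_one, mul_comm]; exact h2
    have h4 := Nat.dvd_of_mul_dvd_mul_left (by omega) h3
    have h5 := Nat.le_of_dvd (by norm_num) h4
    omega

variable [CharP K 2]

theorem exists_Tr_one (h : Qd K n) : ∃ e : K, Tr n e = 1 := by
  obtain ⟨g, hg⟩ := exists_generator h
  have h4 := four_le h
  have hf := card_factor (2 ^ n) (by omega)
  have h1 : Tr n (g : K) ≠ 0 := by
    intro h1
    have h2 := fixed_of_Tr h1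
    have h3 : g ^ (2 ^ n - 1) = 1 := by
      apply Units.val_injective
      rw [Units.val_pow_eq_pow_val, Units.val_one]
      have h5 : (g : K) ^ (2 ^ n - 1) * g = 1 * g := by
        rw [← pow_succ, one_mul, Nat.sub_add_cancel (by omega)]
        exact h2
      exact mul_right_cancel₀ g.ne_zero h5
    have h5 := orderOf_dvd_of_pow_eq_one h3
    rw [hg, hf] at h5
    have h6 : (2 ^ n - 1) * (2 ^ n + 1) ∣ (2 ^ n - 1) * 1 := by rwa [mul_one]
    have h7 := Nat.dvd_of_mul_dvd_mul_left (by omega) h6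
    have h8 := Nat.le_of_dvd (by norm_num) h7
    omega
  refine ⟨(Tr n (g : K))⁻¹ * g, ?_⟩
  rw [Tr_mul_fixed (fixed_inv (fixed_Tr h _)), inv_mul_cancel₀ h1]

/-- the pairing `Tr (x ȳ)` is surjective in `y` -/
theorem exists_Tr_eq (h : Qd K n) {x : K} (hx : x ≠ 0) {b : K} (hb : bar n b = b) :
    ∃ y, Tr n (x * bar n y) = b := by
  obtain ⟨e, he⟩ := exists_Tr_one h
  refine ⟨bar n (b * e / x), ?_⟩
  rw [bar_bar h, mul_div_cancel₀ _ hx, Tr_mul_fixed hb, he, mul_one]

/-- the pairing is nondegenerate -/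
theorem eq_zero_of_Tr (h : Qd K n) {x : K} (hx : ∀ y, Tr n (x * bar n y) = 0) : x = 0 := by
  by_contra h0
  obtain ⟨y, hy⟩ := exists_Tr_eq h h0 (bar_one n)
  rw [hx y] at hy
  exact zero_ne_one hy

/-- if `y ≠ 0` there is `x ≠ 0` with `N (x + y) = N y` -/
theorem exists_N_add_eq (h : Qd K n) {y : K} (hy : y ≠ 0) : ∃ x, x ≠ 0 ∧ N n (x + y) = N n y := by
  obtain ⟨k, hk, -, hk1⟩ := exists_norm_one h
  refine ⟨y * (k + 1), ?_, ?_⟩
  · intro h0
    rcases mul_eq_zero.mp h0 with h0 | h0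
    · exact hy h0
    · rw [add_eq_zero] at h0
      exact hk1 (Units.val_injective (by rw [h0, Units.val_one]))
  · have : y * ((k : K) + 1) + y = y * k := by
      rw [mul_add, mul_one, add_add_self]
    rw [this, N_mul, hk, mul_one]

end Cfsg.Agent.StdU3.Field
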