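import Mathlib
import Cfsg.Agent.StdU3.Field

/-!
# Automorphisms of `F_{q²}`
-/

set_option autoImplicit false
set_option linter.unusedSectionVars false

namespace Cfsg.Agent.StdU3.FieldAut

open Cfsg.Agent.StdU3.Field

theorem unique_of_cyclic {X : Type*} [Group X] [Finite X] [IsCyclic X] {r s : X}
    (hr2 : r * r = 1) (hs2 : s * s = 1) (hr1 : r ≠ 1) (hs1 : s ≠ 1) : r = s := by
  classical
  by_contra hne
  have : Fintype X := Fintype.ofFinite X
  have h1 := IsCyclic.card_pow_eq_one_le (α := X) (n := 2) (by norm_num)
  have h2 : ({1, r, s} : Finset X) ⊆ Finset.univ.filter (fun a : X => a ^ 2 = 1) := by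
    intro a ha
    rw [Finset.mem_filter]
    refine ⟨Finset.mem_univ _, ?_⟩
    simp only [Finset.mem_insert, Finset.mem_singleton] at ha
    rcases ha with rfl | rfl | rfl
    · exact one_pow 2
    · rw [pow_two, hr2]
    · rw [pow_two, hs2]
  have h3 : ({1, r, s} : Finset X).card = 3 := by
    rw [Finset.card_eq_three]
    exact ⟨1, r, s, fun h => hr1 h.symm, fun h => hs1 h.symm, hne, rfl⟩
  have h4 := Finset.card_le_card h2
  omega

variable {F : Type*} [Field F]

/-- the inclusion of the ring automorphisms in the Galois group over the prime field -/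
noncomputable def toGal (p : ℕ) [Fact p.Prime] [Algebra (ZMod p) F] : (F ≃+* F) →* (F ≃ₐ[ZMod p] F) where
  toFun τ := AlgEquiv.ofRingEquiv (f := τ) (by
    intro r
    have h : (τ : F →+* F).comp (algebraMap (ZMod p) F) = algebraMap (ZMod p) F :=
      Subsingleton.elim _ _
    exact congrArg (fun f : ZMod p →+* F => f r) h)
  map_one' := by ext x; rfl
  map_mul' a b := by ext x; rfl

theorem isCyclic [Finite F] [CharP F 2] : IsCyclic (F ≃+* F) := by
  have : Fact (Nat.Prime 2) := ⟨Nat.prime_two⟩
  letI : Algebra (ZMod 2) F := ZMod.algebra F 2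
  have hinj : Function.Injective (toGal (F := F) 2) := by
    intro a b h
    ext x
    exact congrArg (fun f : F ≃ₐ[ZMod 2] F => f x) h
  exact isCyclic_of_injective _ hinj

theorem finite_aut [Finite F] : Finite (F ≃+* F) :=
  Finite.of_injective (fun τ : F ≃+* F => (τ : F → F)) (fun a b h => RingEquiv.ext (congrFun h))

theorem comm [Finite F] [CharP F 2] (τ τ' : F ≃+* F) : τ * τ' = τ' * τ := by
  have h := isCyclic (F := F)
  exact (@IsCyclic.commGroup _ _ h).mul_comm τ τ'

variable [Fintype F] [CharP F 2] {n : ℕ}

/-- `bar` as an automorphism -/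
noncomputable def barE (h : Qd F n) : F ≃+* F where
  toFun := bar n
  invFun := bar n
  left_inv := bar_bar h
  right_inv := bar_bar h
  map_mul' := bar_mul n
  map_add' := bar_add n

theorem barE_apply (h : Qd F n) (x : F) : barE h x = bar n x := rfl

theorem barE_ne_one (h : Qd F n) : barE h ≠ 1 := by
  intro h1
  obtain ⟨e, he⟩ := exists_Tr_one h
  have h2 : bar n e = e := by
    rw [← barE_apply h, h1]; rfl
  rw [Tr_def, h2, Field.add_self] at he
  exact zero_ne_one he

/-- `bar` is the only automorphism of order two -/
theorem eq_bar (h : Qd F n) {τ : F ≃+* F} (h2 : τ * τ = 1) (h1 : τ ≠ 1) : τ = barE h := by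
  have := isCyclic (F := F)
  have := finite_aut (F := F)
  apply unique_of_cyclic h2 _ h1 (barE_ne_one h)
  ext x
  show bar n (bar n x) = x
  exact bar_bar h x

/-- the fixed field of a nontrivial automorphism has at most `q` elements -/
theorem card_fix_le (h : Qd F n) {τ : F ≃+* F} (h1 : τ ≠ 1) :
    Nat.card {x : F // τ x = x} ≤ 2 ^ n := by
  classical
  let E : Subfield F :=
    { carrier := {x | τ x = x}
      mul_mem' := by
        intro a b ha hb
        show τ (a * b) = a * b
        rw [map_mul, show τ a = a from ha, show τ b = b from hb]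
      one_mem' := map_one τ
      add_mem' := by
        intro a b ha hb
        show τ (a + b) = a + b
        rw [map_add, show τ a = a from ha, show τ b = b from hb]
      zero_mem' := map_zero τ
      neg_mem' := by
        intro a ha
        show τ (-a) = -a
        rw [map_neg, show τ a = a from ha]
      inv_mem' := by
        intro a ha
        show τ a⁻¹ = a⁻¹
        rw [map_inv₀, show τ a = a from ha] }
  have hE : Nat.card {x : F // τ x = x} = Nat.card E := rfl
  rw [hE]
  have hfr : Nat.card F = Nat.card E ^ Module.finrank E F := Module.natCard_eq_pow_finrank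
  have hr : 2 ≤ Module.finrank E F := by
    by_contra hlt
    have hpos : 0 < Module.finrank E F := Module.finrank_pos
    have h2 : Module.finrank E F = 1 := by omega
    rw [h2, pow_one] at hfr
    apply h1
    ext x
    have h4 : (E : Set F) = Set.univ := by
      apply Set.eq_of_subset_of_ncard_le (Set.subset_univ _)
      rw [Set.ncard_univ, hfr]
      exact le_rfl
    have h5 : x ∈ (E : Set F) := by rw [h4]; trivial
    exact h5
  have hF : Nat.card F = (2 ^ n) ^ 2 := by rw [Nat.card_eq_fintype_card, h.hK]
  rw [hF] at hfr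
  have hpos : 0 < Nat.card E := Nat.card_pos
  by_contra hlt
  push Not at hlt
  have h6 : (2 ^ n) ^ 2 < Nat.card E ^ 2 := Nat.pow_lt_pow_left hlt (by norm_num)
  have h7 : Nat.card E ^ 2 ≤ Nat.card E ^ Module.finrank E F := Nat.pow_le_pow_right hpos hr
  omega

/-- a semilinear map `x ↦ c τ x` with more than `q` fixed points is the identity -/
theorem eq_one_of_fixed (h : Qd F n) {τ : F ≃+* F} {c : F} {S : Set F} (hS : 2 ^ n < S.ncard)
    (hfix : ∀ x ∈ S, c * τ x = x) : τ = 1 ∧ c = 1 := by
  classical
  -- a nonzero element of `S`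
  obtain ⟨s, hs, hs0⟩ : ∃ s ∈ S, s ≠ 0 := by
    by_contra hcon
    push Not at hcon
    have h1 : S ⊆ {0} := fun x hx => hcon x hx
    have h2 := Set.ncard_le_ncard h1 (Set.finite_singleton 0)
    rw [Set.ncard_singleton] at h2
    have := Nat.one_le_two_pow (n := n)
    omega
  have hτ : τ = 1 := by
    by_contra hne
    have h1 := card_fix_le h hne
    have h2 : (fun x => x / s) '' S ⊆ {x : F | τ x = x} := by
      rintro _ ⟨x, hx, rfl⟩
      show τ (x / s) = x / s
      have e1 := hfix x hx
      have e2 := hfix s hs
      have hc : c ≠ 0 := by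
        rintro rfl
        rw [zero_mul] at e2
        exact hs0 e2.symm
      have hτs : τ s ≠ 0 := fun h0 => hs0 ((map_eq_zero τ).mp h0)
      rw [map_div₀, div_eq_div_iff hτs hs0]
      have h3 : c * (τ x * s) = c * (x * τ s) := by
        rw [← mul_assoc, e1, mul_left_comm, e2]
      exact mul_left_cancel₀ hc h3
    have h3 := Set.ncard_le_ncard h2 (Set.toFinite _)
    rw [Set.ncard_image_of_injective _ (fun x y hxy => by
      have hxy : x / s = y / s := hxy
      field_simp at hxy
      exact hxy)] at h3
    have h4 : Set.ncard {x : F | τ x = x} = Nat.card {x : F // τ x = x} :=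
      (Nat.card_coe_set_eq _).symm
    omega
  subst hτ
  refine ⟨rfl, ?_⟩
  have := hfix s hs
  exact mul_right_cancel₀ hs0 (by rw [one_mul]; exact this)

end Cfsg.Agent.StdU3.FieldAut
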