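import Mathlib.Algebra.CharP.Two
import Mathlib.FieldTheory.Finite.Basic
import Mathlib.FieldTheory.Perfect

/-!
# Additive maps multiplying the norm form of a quadratic extension by an additive map (characteristic two)

`K` a finite field of characteristic two, `τ` an automorphism of order two of `K`, `A` an injective additive map with
`A b * τ (A b) = θ (b * τ b)` for a map `θ` which is additive on the fixed field. Then `A b = c * σ b` for a scalar `c`
and a field automorphism `σ`.
-/

set_option autoImplicit false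

namespace Cfsg.Agent.StdU3.Semilinear

variable {K : Type*} [Field K] [CharP K 2]

private theorem dbl (x : K) : x + x = 0 := CharTwo.add_self_eq_zero x

/-- Normalised version: `B 1 = 1`; the conclusion is that `B` is multiplicative. -/
theorem map_mul_of_norm (τ : K ≃+* K) (hτ : ∀ x, τ (τ x) = x) (hne : ∃ x, τ x ≠ x)
    (hsq : ∀ x : K, τ x = x → ∃ y, τ y = y ∧ y * y = x)
    (B : K →+ K) (hB : Function.Injective B) (hB1 : B 1 = 1) (η : K → K)
    (hη : ∀ x y, τ x = x → τ y = y → η (x + y) = η x + η y)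
    (h : ∀ b, B b * τ (B b) = η (b * τ b)) :
    (∀ x y : K, B (x * y) = B x * B y) ∧ ∀ x : K, τ x = x → τ (B x) = B x := by
  -- basic facts
  have fixN : ∀ b : K, τ (b * τ b) = b * τ b := fun b => by rw [map_mul, hτ, mul_comm]
  have fixT : ∀ b c : K, τ (b * τ c + c * τ b) = b * τ c + c * τ b := fun b c => by
    rw [map_add, map_mul, map_mul, hτ, hτ]; ring
  have η0 : η 0 = 0 := by
    have := hη 0 0 (map_zero τ) (map_zero τ)
    rw [add_zero, dbl] at this
    exact this
  have η1 : η 1 = 1 := by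
    have := h 1
    rw [hB1, map_one, one_mul] at this
    exact this.symm
  have hT : ∀ b c : K, B b * τ (B c) + B c * τ (B b) = η (b * τ c + c * τ b) := by
    intro b c
    have h1 := h (b + c)
    have e1 : (b + c) * τ (b + c) = (b * τ b + c * τ c) + (b * τ c + c * τ b) := by
      rw [map_add]; ring
    rw [e1, hη _ _ (by rw [map_add, fixN, fixN]) (fixT b c), hη _ _ (fixN b) (fixN c), ← h b, ← h c, map_add,
      map_add] at h1
    have h2 : B b * τ (B c) + B c * τ (B b) =
        (B b + B c) * (τ (B b) + τ (B c)) + (B b * τ (B b) + B c * τ (B c)) := by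
      have e2 := dbl (B b * τ (B b) + B c * τ (B c))
      linear_combination (-1 : K) * e2
    rw [h2, h1]
    have e3 := dbl (B b * τ (B b) + B c * τ (B c))
    linear_combination e3
  have hinj0 : ∀ b, b ≠ 0 → B b ≠ 0 := fun b hb h0 => hb (hB (by rw [h0, map_zero]))
  -- lines are preserved
  have hline : ∀ lam b : K, τ lam = lam → b ≠ 0 → ∃ μ, τ μ = μ ∧ B (lam * b) = μ * B b := by
    intro lam b hl hb
    have h1 := hT b (lam * b)
    have e1 : b * τ (lam * b) + lam * b * τ b = 0 := by
      rw [map_mul, hl]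
      have := dbl (lam * (b * τ b))
      linear_combination this
    rw [e1, η0] at h1
    have hb' := hinj0 b hb
    have hb'' : τ (B b) ≠ 0 := fun h0 => hb' (by rw [← hτ (B b), h0, map_zero])
    refine ⟨B (lam * b) / B b, ?_, by field_simp⟩
    rw [map_div₀, div_eq_div_iff hb'' hb']
    have e2 := dbl (B (lam * b) * τ (B b))
    linear_combination h1 - e2
  have fixB : ∀ lam : K, τ lam = lam → τ (B lam) = B lam := by
    intro lam hl
    obtain ⟨μ, h1, h2⟩ := hline lam 1 hl one_ne_zero
    rw [mul_one, hB1, mul_one] at h2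
    rw [h2, h1]
  -- a generator
  obtain ⟨ω, hω⟩ : ∃ ω : K, τ ω = ω + 1 := by
    obtain ⟨x, hx⟩ := hne
    have hd : x + τ x ≠ 0 := fun h0 => hx (by
      have := dbl x
      have h1 : τ x = x := by linear_combination h0 - this
      exact h1)
    have hd' : τ (x + τ x) = x + τ x := by rw [map_add, hτ, add_comm]
    refine ⟨x / (x + τ x), ?_⟩
    rw [map_div₀, hd', div_add_one hd]
    congr 1
    have := dbl x
    linear_combination (-1 : K) * this
  have hBω : τ (B ω) = B ω + 1 := by
    have h1 := hT 1 ω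
    rw [hB1, map_one, one_mul, mul_one, one_mul, mul_one, hω] at h1
    have e1 : ω + 1 + ω = 1 := by
      have := dbl ω
      linear_combination this
    rw [e1, η1] at h1
    have := dbl (B ω)
    linear_combination h1 - this
  -- coordinates are unique
  have huniq : ∀ a b : K, τ a = a → τ b = b → a * B ω = b → a = 0 := by
    intro a b ha hb hab
    by_contra hne0
    have h1 : τ (a * B ω) = a * B ω := by rw [hab, hb]
    rw [map_mul, ha, hBω] at h1
    apply hne0
    linear_combination h1
  have hmulω : ∀ lam : K, τ lam = lam → B (lam * ω) = B lam * B ω := by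
    intro lam hl
    have hω0 : ω ≠ 0 := by
      rintro rfl
      rw [map_zero, zero_add] at hω
      exact zero_ne_one hω
    have hω1 : (1 : K) + ω ≠ 0 := by
      intro h0
      have h1 : τ (1 + ω) = 0 := by rw [h0, map_zero]
      rw [map_add, map_one, hω] at h1
      have : (1 : K) = 0 := by linear_combination h1 - h0
      exact one_ne_zero this
    obtain ⟨μ, h1, h2⟩ := hline lam ω hl hω0
    obtain ⟨μ', h3, h4⟩ := hline lam (1 + ω) hl hω1
    rw [mul_add, mul_one, map_add, map_add, hB1, h2] at h4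
    have h5 : (μ - μ') * B ω = μ' - B lam := by linear_combination h4
    have h6 : μ - μ' = 0 := huniq _ _ (by rw [map_sub, h1, h3]) (by rw [map_sub, h3, fixB _ hl]) h5
    rw [h6, zero_mul] at h5
    rw [h2]
    linear_combination (h6 + (-1 : K) * (h5 : (0 : K) = μ' - B lam)) * B ω
  have hmulfix : ∀ lam ρ : K, τ lam = lam → τ ρ = ρ → B (lam * ρ) = B lam * B ρ := by
    intro lam ρ hl hρ
    have hb : ρ + ω ≠ 0 := by
      intro h0
      have h1 : τ (ρ + ω) = 0 := by rw [h0, map_zero]
      rw [map_add, hρ, hω] at h1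
      have : (1 : K) = 0 := by linear_combination h1 - h0
      exact one_ne_zero this
    obtain ⟨μ, h1, h2⟩ := hline lam (ρ + ω) hl hb
    rw [mul_add, map_add, map_add, hmulω lam hl] at h2
    have h5 : (B lam - μ) * B ω = μ * B ρ - B (lam * ρ) := by linear_combination h2
    have h6 : B lam - μ = 0 := huniq _ _ (by rw [map_sub, h1, fixB _ hl])
      (by rw [map_sub, map_mul, h1, fixB _ hρ, fixB _ (by rw [map_mul, hl, hρ])]) h5
    rw [h6, zero_mul] at h5
    linear_combination (-1 : K) * h6 * B ρ + (h5 : (0 : K) = μ * B ρ - B (lam * ρ))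
  -- the quadratic equation
  have hδ : τ (ω * ω + ω) = ω * ω + ω := by
    rw [map_add, map_mul, hω]
    have := dbl ω
    have := dbl (1 : K)
    linear_combination dbl ω + dbl (1 : K)
  have hBδ : B ω * B ω + B ω = B (ω * ω + ω) := by
    obtain ⟨ρ, hρ, hρ2⟩ := hsq _ hδ
    have h1 := h ω
    rw [hω, hBω] at h1
    have e1 : ω * (ω + 1) = ρ * τ ρ := by rw [hρ, hρ2]; ring
    rw [e1, ← h ρ, fixB ρ hρ, ← hmulfix ρ ρ hρ hρ, hρ2] at h1
    linear_combination h1
  have hBω2 : B (ω * ω) = B ω * B ω := by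
    rw [map_add] at hBδ
    linear_combination (-1 : K) * hBδ
  have hmulω2 : ∀ lam : K, τ lam = lam → B (lam * (ω * ω)) = B lam * (B ω * B ω) := by
    intro lam hl
    have e1 : lam * (ω * ω) = lam * (ω * ω + ω) + lam * ω := by
      have := dbl (lam * ω)
      linear_combination (-1 : K) * this
    rw [e1, map_add, hmulfix lam _ hl hδ, hmulω lam hl, ← hBδ]
    have := dbl (B lam * B ω)
    linear_combination this
  -- decomposition
  have hdec : ∀ x : K, ∃ x0 x1, τ x0 = x0 ∧ τ x1 = x1 ∧ x = x0 + x1 * ω := by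
    intro x
    refine ⟨x + (x + τ x) * ω, x + τ x, ?_, by rw [map_add, hτ, add_comm], ?_⟩
    · rw [map_add, map_mul, map_add, hτ, hω]
      have := dbl (τ x)
      linear_combination dbl (τ x)
    · have := dbl ((x + τ x) * ω)
      linear_combination (-1 : K) * this
  refine ⟨fun x y => ?_, fixB⟩
  obtain ⟨x0, x1, hx0, hx1, rfl⟩ := hdec x
  obtain ⟨y0, y1, hy0, hy1, rfl⟩ := hdec y
  have e1 : (x0 + x1 * ω) * (y0 + y1 * ω) =
      x0 * y0 + (x0 * y1 + x1 * y0) * ω + (x1 * y1) * (ω * ω) := by ring
  rw [e1, map_add, map_add, map_add, map_add, hmulfix x0 y0 hx0 hy0,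
    hmulω _ (by rw [map_add, map_mul, map_mul, hx0, hx1, hy0, hy1]), hmulω2 _ (by rw [map_mul, hx1, hy1]),
    hmulω x1 hx1, hmulω y1 hy1, map_add, hmulfix x0 y1 hx0 hy1, hmulfix x1 y0 hx1 hy0, hmulfix x1 y1 hx1 hy1]
  ring

/-- **Semilinearity.** An injective additive map which multiplies the norm form of a quadratic extension of finite
fields of characteristic two by a map which is additive on the fixed field is a scalar times a field automorphism. -/
theorem exists_semilinear [Finite K] (τ : K ≃+* K) (hτ : ∀ x, τ (τ x) = x) (hne : ∃ x, τ x ≠ x)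
    (A : K →+ K) (hA : Function.Injective A) (θ : K → K)
    (hθ : ∀ x y, τ x = x → τ y = y → θ (x + y) = θ x + θ y)
    (h : ∀ b, A b * τ (A b) = θ (b * τ b)) :
    ∃ c : K, c ≠ 0 ∧ ∃ σ : K ≃+* K, (∀ b, A b = c * σ b) ∧ ∀ x, τ x = x → θ x = c * τ c * σ x := by
  classical
  have hc : A 1 ≠ 0 := fun h0 => one_ne_zero (hA (by rw [h0, map_zero]))
  have hc' : τ (A 1) ≠ 0 := fun h0 => hc (by rw [← hτ (A 1), h0, map_zero])
  have hsq : ∀ x : K, τ x = x → ∃ y, τ y = y ∧ y * y = x := by
    intro x hx
    obtain ⟨y, hy⟩ : ∃ y : K, y ^ 2 = x := by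
      have hs : Function.Surjective (fun y : K => y ^ 2) := by
        apply Finite.surjective_of_injective
        intro a b hab
        have h1 : (a - b) ^ 2 = 0 := by
          have h2 := CharTwo.add_sq a b
          have h3 : a ^ 2 = b ^ 2 := hab
          rw [CharTwo.sub_eq_add, h2, h3, dbl]
        exact sub_eq_zero.1 (pow_eq_zero_iff (two_ne_zero) |>.1 h1)
      exact hs x
    refine ⟨y, ?_, by rw [← hy]; ring⟩
    have h1 : (τ y - y) ^ 2 = 0 := by
      rw [CharTwo.sub_eq_add, CharTwo.add_sq, ← map_pow, hy, hx, dbl]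
    exact sub_eq_zero.1 (pow_eq_zero_iff (two_ne_zero) |>.1 h1)
  let B : K →+ K := (AddMonoidHom.mulLeft (A 1)⁻¹).comp A
  have hBdef : ∀ b, B b = (A 1)⁻¹ * A b := fun b => rfl
  have hBinj : Function.Injective B := by
    intro a b hab
    rw [hBdef, hBdef] at hab
    exact hA (mul_left_cancel₀ (inv_ne_zero hc) hab)
  have hB1 : B 1 = 1 := by rw [hBdef, inv_mul_cancel₀ hc]
  obtain ⟨hmul, hfixB⟩ := map_mul_of_norm τ hτ hne hsq B hBinj hB1 (fun x => (A 1 * τ (A 1))⁻¹ * θ x)
    (fun x y hx hy => by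
      show (A 1 * τ (A 1))⁻¹ * θ (x + y) = _
      rw [hθ x y hx hy, mul_add])
    (fun b => by
      show B b * τ (B b) = (A 1 * τ (A 1))⁻¹ * θ (b * τ b)
      rw [← h b, hBdef, map_mul, map_inv₀]
      field_simp)
  let σ0 : K →+* K :=
    { toFun := B, map_one' := hB1, map_mul' := hmul, map_zero' := map_zero B, map_add' := map_add B }
  have hbij : Function.Bijective σ0 := Finite.injective_iff_bijective.1 hBinj
  let σ : K ≃+* K := RingEquiv.ofBijective σ0 hbij
  have hσ : ∀ b, σ b = B b := fun b => rfl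
  have hAσ : ∀ b, A b = A 1 * σ b := by
    intro b
    rw [hσ, hBdef, ← mul_assoc, mul_inv_cancel₀ hc, one_mul]
  refine ⟨A 1, hc, σ, hAσ, ?_⟩
  intro x hx
  obtain ⟨y, hy, rfl⟩ := hsq x hx
  have h1 := h y
  rw [hy] at h1
  rw [← h1, hAσ y, map_mul, map_mul]
  have hfix : τ (σ y) = σ y := by rw [hσ]; exact hfixB y hy
  rw [hfix]
  ring

end Cfsg.Agent.StdU3.Semilinear
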