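import Mathlib
import Cfsg.Agent.SuzukiRankOne.PSUModel

/-!
# `PSU₃(q)`, `q` even, by its Bruhat decomposition

`URel.URel J σ` is a parametrisation of a group `J` by the Bruhat decomposition of `PSU₃(F)`; the unipotent
subgroup is `Heis σ` (pairs `(a, b)` with `b + σ b = a * σ a`), the torus acts by
`(a, b) ↦ (l ^ 2 / σ l * a, l * σ l * b)`.
-/

set_option autoImplicit false
set_option linter.unusedSectionVars false
set_option linter.dupNamespace false

namespace Cfsg.Agent.StdU3.URel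

open Cfsg.Agent.LieRecognition Cfsg.Agent.LieRecognition.HermHeis

variable {F : Type*} [Field F]

/-- the weight of the torus on the first coordinate -/
def wt (σ : F →+* F) (l : Fˣ) : F := (l : F) ^ 2 * (σ l)⁻¹

/-- the norm of `l` -/
def nm (σ : F →+* F) (l : Fˣ) : F := l * σ l

/-- `l ↦ 1 / σ l` -/
def hat (σ : F →+* F) (l : Fˣ) : Fˣ := (Units.map (σ : F →* F) l)⁻¹

section

variable (σ : F →+* F)

theorem sig_ne (l : Fˣ) : σ (l : F) ≠ 0 := fun h => l.ne_zero ((map_eq_zero σ).mp h)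

theorem wt_one : wt σ 1 = 1 := by simp [wt]

theorem nm_one : nm σ 1 = 1 := by simp [nm]

theorem wt_mul (l m : Fˣ) : wt σ (l * m) = wt σ l * wt σ m := by
  unfold wt
  rw [Units.val_mul, map_mul, mul_inv]; ring

theorem nm_mul (l m : Fˣ) : nm σ (l * m) = nm σ l * nm σ m := by
  unfold nm
  rw [Units.val_mul, map_mul]; ring

theorem wt_ne_zero (l : Fˣ) : wt σ l ≠ 0 :=
  mul_ne_zero (pow_ne_zero _ l.ne_zero) (inv_ne_zero (sig_ne σ l))

theorem nm_ne_zero (l : Fˣ) : nm σ l ≠ 0 := mul_ne_zero l.ne_zero (sig_ne σ l)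

theorem hat_val (l : Fˣ) : ((hat σ l : Fˣ) : F) = (σ l)⁻¹ := by
  unfold hat
  rw [Units.val_inv_eq_inv_val, Units.coe_map]; rfl

theorem wt_of_fixed {l : Fˣ} (h : σ (l : F) = l) : wt σ l = l := by
  unfold wt
  rw [h]
  have := l.ne_zero
  field_simp

theorem nm_of_fixed {l : Fˣ} (h : σ (l : F) = l) : nm σ l = (l : F) ^ 2 := by
  unfold nm
  rw [h, sq]

theorem wt_inv (l : Fˣ) : wt σ l⁻¹ = (wt σ l)⁻¹ := by
  apply eq_inv_of_mul_eq_one_left
  rw [← wt_mul, inv_mul_cancel, wt_one]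

end

variable [CharP F 2] {σ : F →+* F} [hσ : Fact (∀ x, σ (σ x) = x)]

theorem fixed_nm (l : Fˣ) : σ (nm σ l) = nm σ l := by
  unfold nm
  rw [map_mul, HermHeis.sig, mul_comm]

theorem nm_wt (l : Fˣ) : wt σ l * σ (wt σ l) = nm σ l := by
  unfold wt nm
  rw [map_mul, map_pow, map_inv₀, HermHeis.sig]
  have h1 := l.ne_zero
  have h2 := sig_ne σ l
  field_simp

/-- the action of the torus on `Heis σ` -/
def act (l : Fˣ) (x : Heis σ) : Heis σ :=
  ⟨wt σ l * x.a, nm σ l * x.b, by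
    have h := x.h
    rw [map_mul, fixed_nm, map_mul]
    linear_combination nm σ l * h - (x.a * σ x.a) * nm_wt (σ := σ) l⟩

@[simp] theorem act_a (l : Fˣ) (x : Heis σ) : (act l x).a = wt σ l * x.a := rfl
@[simp] theorem act_b (l : Fˣ) (x : Heis σ) : (act l x).b = nm σ l * x.b := rfl

theorem act_one (x : Heis σ) : act 1 x = x := by
  ext <;> simp [wt_one, nm_one]

theorem act_act (l m : Fˣ) (x : Heis σ) : act l (act m x) = act (l * m) x := by
  ext <;> simp [wt_mul, nm_mul, mul_assoc]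

theorem act_mul (l : Fˣ) (x y : Heis σ) : act l (x * y) = act l x * act l y := by
  ext
  · simp [mul_add]
  · simp only [act_b, mul_b, act_a, map_mul]
    linear_combination (-(x.a * σ y.a)) * nm_wt (σ := σ) l

theorem act_inv (l : Fˣ) (x : Heis σ) : act l x⁻¹ = (act l x)⁻¹ := by
  rw [eq_inv_iff_mul_eq_one, ← act_mul, inv_mul_cancel]
  ext <;> simp

/-- A parametrisation of `J` as a unitary group of dimension three. -/
structure URel (J : Type*) [Group J] (σ : F →+* F) [hσ : Fact (∀ x, σ (σ x) = x)] where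
  u : Heis σ →* J
  u_inj : Function.Injective u
  d : Fˣ →* J
  w : J
  d_u : ∀ (l : Fˣ) (x : Heis σ), d l * u x = u (act l x) * d l
  d_one_of : ∀ l : Fˣ, wt σ l = 1 → d l = 1
  w_w : w * w = 1
  w_d : ∀ l : Fˣ, w * d l = d (hat σ l) * w
  w_ne : ∀ x l, w ≠ u x * d l
  bruhat : ∀ g, (∃ x l, g = u x * d l) ∨ ∃ x y l, g = u x * w * (u y * d l)
  inter : ∀ x y l, w * u x * w = u y * d l → x = 1

/-- transport of a parametrisation along an isomorphism -/
def URel.map {J K : Type*} [Group J] [Group K] (R : URel J σ) (f : J ≃* K) : URel K σ where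
  u := f.toMonoidHom.comp R.u
  u_inj := f.injective.comp R.u_inj
  d := f.toMonoidHom.comp R.d
  w := f R.w
  d_u l x := by
    show f (R.d l) * f (R.u x) = f (R.u (act l x)) * f (R.d l)
    rw [← map_mul, R.d_u, map_mul]
  d_one_of l h := by
    show f (R.d l) = 1
    rw [R.d_one_of l h, map_one]
  w_w := by rw [← map_mul, R.w_w, map_one]
  w_d l := by
    show f R.w * f (R.d l) = f (R.d (hat σ l)) * f R.w
    rw [← map_mul, R.w_d, map_mul]
  w_ne x l h := by
    have h : f R.w = f (R.u x) * f (R.d l) := h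
    rw [← map_mul] at h
    exact R.w_ne x l (f.injective h)
  bruhat g := by
    rcases R.bruhat (f.symm g) with ⟨x, l, h⟩ | ⟨x, y, l, h⟩
    · left
      refine ⟨x, l, ?_⟩
      show g = f (R.u x) * f (R.d l)
      rw [← map_mul, ← h, MulEquiv.apply_symm_apply]
    · right
      refine ⟨x, y, l, ?_⟩
      show g = f (R.u x) * f R.w * (f (R.u y) * f (R.d l))
      rw [← map_mul, ← map_mul, ← map_mul, ← h, MulEquiv.apply_symm_apply]
  inter x y l h := by
    have h : f R.w * f (R.u x) * f R.w = f (R.u y) * f (R.d l) := h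
    rw [← map_mul, ← map_mul, ← map_mul] at h
    exact R.inter x y l (f.injective h)

namespace URel

variable {J : Type*} [Group J] (R : URel J σ)

theorem u_act (l : Fˣ) (x : Heis σ) : R.u (act l x) = R.d l * R.u x * (R.d l)⁻¹ := by
  rw [R.d_u, mul_inv_cancel_right]

theorem w_inv : (R.w)⁻¹ = R.w := inv_eq_of_mul_eq_one_right R.w_w

/-- the unipotent subgroup -/
def T : Subgroup J := R.u.range

theorem u_mem (x : Heis σ) : R.u x ∈ R.T := ⟨x, rfl⟩

theorem mem_T {g : J} : g ∈ R.T ↔ ∃ x, R.u x = g := Iff.rfl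

/-- the Borel subgroup -/
def B : Subgroup J where
  carrier := {g | ∃ x l, g = R.u x * R.d l}
  mul_mem' := by
    rintro _ _ ⟨x, l, rfl⟩ ⟨y, m, rfl⟩
    refine ⟨x * act l y, l * m, ?_⟩
    rw [map_mul, map_mul]
    calc R.u x * R.d l * (R.u y * R.d m) = R.u x * (R.d l * R.u y) * R.d m := by group
      _ = R.u x * (R.u (act l y) * R.d l) * R.d m := by rw [R.d_u]
      _ = R.u x * R.u (act l y) * (R.d l * R.d m) := by group
  one_mem' := ⟨1, 1, by rw [map_one, map_one, one_mul]⟩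
  inv_mem' := by
    rintro _ ⟨x, l, rfl⟩
    refine ⟨act l⁻¹ x⁻¹, l⁻¹, ?_⟩
    rw [← R.d_u, _root_.mul_inv_rev, map_inv, map_inv]

theorem mem_B {g : J} : g ∈ R.B ↔ ∃ x l, g = R.u x * R.d l := Iff.rfl

theorem T_le_B : R.T ≤ R.B := by
  rintro _ ⟨x, rfl⟩
  exact ⟨x, 1, by rw [map_one, mul_one]⟩

theorem d_mem_B (l : Fˣ) : R.d l ∈ R.B := ⟨1, l, by rw [map_one, one_mul]⟩

theorem w_not_mem : R.w ∉ R.B := by
  rintro ⟨x, l, h⟩
  exact R.w_ne x l h

theorem eq_one_of_conj {x : Heis σ} (h : R.w * R.u x * R.w ∈ R.B) : x = 1 := by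
  obtain ⟨y, l, h⟩ := h
  exact R.inter x y l h

theorem ud_inj {x y : Heis σ} {l m : Fˣ} (h : R.u x * R.d l = R.u y * R.d m) :
    x = y ∧ R.d l = R.d m := by
  have h1 : R.u (y⁻¹ * x) = R.d (m * l⁻¹) := by
    rw [map_mul, map_mul, map_inv, map_inv, eq_mul_inv_iff_mul_eq, mul_assoc, h,
      inv_mul_cancel_left]
  have h2 : y⁻¹ * x = 1 := by
    apply R.eq_one_of_conj
    rw [h1, R.w_d, mul_assoc, R.w_w, mul_one]
    exact R.d_mem_B _
  have h3 : x = y := (inv_mul_eq_one.mp h2).symm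
  subst h3
  exact ⟨rfl, mul_left_cancel h⟩

theorem w_d' (l : Fˣ) : R.w * R.d l * R.w = R.d (hat σ l) := by
  rw [R.w_d, mul_assoc, R.w_w, mul_one]

/-- uniqueness in the Bruhat decomposition -/
theorem big_inj {x x' : Heis σ} {b b' : J} (hb : b ∈ R.B) (hb' : b' ∈ R.B)
    (h : R.u x * R.w * b = R.u x' * R.w * b') : x = x' ∧ b = b' := by
  have h1 : x'⁻¹ * x = 1 := by
    apply R.eq_one_of_conj
    rw [map_mul, map_inv]
    have : R.w * ((R.u x')⁻¹ * R.u x) * R.w = b' * b⁻¹ := by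
      calc R.w * ((R.u x')⁻¹ * R.u x) * R.w = R.w * (R.u x')⁻¹ * (R.u x * R.w * b) * b⁻¹ := by group
        _ = R.w * (R.u x')⁻¹ * (R.u x' * R.w * b') * b⁻¹ := by rw [h]
        _ = (R.w * R.w) * b' * b⁻¹ := by group
        _ = b' * b⁻¹ := by rw [R.w_w, one_mul]
    rw [this]
    exact mul_mem hb' (inv_mem hb)
  have h3 : x = x' := (inv_mul_eq_one.mp h1).symm
  subst h3
  exact ⟨rfl, mul_left_cancel h⟩

theorem conj_T_of_B {b : J} (hb : b ∈ R.B) (x : Heis σ) :
    ∃ y, b * R.u x * b⁻¹ = R.u y := by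
  obtain ⟨z, l, rfl⟩ := hb
  refine ⟨z * act l x * z⁻¹, ?_⟩
  rw [map_mul, map_mul, map_inv, R.u_act]
  group

theorem conj_a_of_B (x : Heis σ) (l : Fˣ) (y : Heis σ) :
    R.u x * R.d l * R.u y * (R.u x * R.d l)⁻¹ = R.u (x * act l y * x⁻¹) := by
  rw [map_mul, map_mul, map_inv, R.u_act]
  group

theorem B_le : R.B ≤ Subgroup.normalizer (R.T : Set J) := by
  intro b hb
  rw [Subgroup.mem_normalizer_iff]
  intro x
  constructor
  · rintro ⟨y, rfl⟩
    obtain ⟨z, hz⟩ := R.conj_T_of_B hb y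
    exact ⟨z, hz.symm⟩
  · rintro ⟨y, hy⟩
    obtain ⟨z, hz⟩ := R.conj_T_of_B (inv_mem hb) y
    refine ⟨z, ?_⟩
    rw [← hz, hy]
    group

/-- an element moving a nontrivial element of `T` into `T` lies in the Borel subgroup -/
theorem mem_B_of {g x : J} (hx : x ∈ R.T) (hx1 : x ≠ 1) (h : g * x * g⁻¹ ∈ R.T) : g ∈ R.B := by
  rcases R.bruhat g with h1 | ⟨y, z, l, h1⟩
  · exact h1
  · exfalso
    obtain ⟨x, rfl⟩ := hx
    obtain ⟨x', hx'⟩ := R.conj_T_of_B (b := R.u z * R.d l) ⟨z, l, rfl⟩ x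
    obtain ⟨v, hv⟩ := h
    have h4 : g * R.u x * g⁻¹ = R.u y * (R.w * R.u x' * R.w) * (R.u y)⁻¹ := by
      rw [← hx', h1]
      simp only [_root_.mul_inv_rev, R.w_inv]
      group
    have h5 : R.w * R.u x' * R.w = R.u (y⁻¹ * v * y) := by
      rw [map_mul, map_mul, map_inv, hv, h4]
      group
    have h6 : x' = 1 := by
      apply R.eq_one_of_conj
      rw [h5]
      exact R.T_le_B (R.u_mem _)
    rw [h6, map_one, mul_inv_eq_one, mul_eq_left] at hx'
    exact hx1 hx'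

theorem norm_eq {g : J} (hT : ∃ x : Heis σ, x ≠ 1) (hg : g ∈ Subgroup.normalizer (R.T : Set J)) :
    g ∈ R.B := by
  obtain ⟨x, hx⟩ := hT
  refine R.mem_B_of (R.u_mem x) ?_ ((Subgroup.mem_normalizer_iff.mp hg _).1 (R.u_mem x))
  intro h
  exact hx (R.u_inj (by rw [h, map_one]))

theorem ti {g x : J} (hx : x ∈ R.T) (hx1 : x ≠ 1) (h : g * x * g⁻¹ ∈ R.T) :
    g ∈ Subgroup.normalizer (R.T : Set J) := R.B_le (R.mem_B_of hx hx1 h)

end URel

end Cfsg.Agent.StdU3.URel
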