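import Mathlib
import Cfsg.Agent.StdU3.URel

/-!
# Automorphisms of `PSU₃(q)` normalising `P` and trivial on `P / Z(P)` are inner
-/

set_option autoImplicit false
set_option linter.unusedSectionVars false
set_option linter.dupNamespace false

namespace Cfsg.Agent.StdU3.URelAut

open Cfsg.Agent.LieRecognition Cfsg.Agent.LieRecognition.HermHeis Cfsg.Agent.StdU3.URel

variable {F : Type*} [Field F] [CharP F 2] {σ : F →+* F} [hσ : Fact (∀ x, σ (σ x) = x)]
variable {J : Type*} [Group J] (R : URel J σ)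

/-- The facts on the field used below. -/
structure FieldOK (σ : F →+* F) : Prop where
  /-- a fixed scalar different from one -/
  fixed : ∃ l : Fˣ, σ (l : F) = l ∧ l ≠ 1
  /-- a torus element acting trivially on `Z` and without fixed points on `P / Z` -/
  norm : ∃ k : Fˣ, nm σ k = 1 ∧ wt σ k ≠ 1
  /-- norm is surjective -/
  surj : ∀ b : F, σ b = b → ∃ a : F, a * σ a = b
  /-- trace is surjective -/
  tr : ∀ b : F, σ b = b → ∃ c : F, c + σ c = b

theorem act_fixed_eq_one {l : Fˣ} (h1 : wt σ l ≠ 1) (h2 : nm σ l ≠ 1) {x : Heis σ}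
    (h : act l x = x) : x = 1 := by
  have ha := congrArg Heis.a h
  have hb := congrArg Heis.b h
  rw [act_a] at ha
  rw [act_b] at hb
  have h3 : x.a = 0 := by
    by_contra h0
    exact h1 (mul_right_cancel₀ h0 (by rw [ha, one_mul]))
  have h4 : x.b = 0 := by
    by_contra h0
    exact h2 (mul_right_cancel₀ h0 (by rw [hb, one_mul]))
  ext
  · exact h3
  · exact h4

theorem heis_mul_inv_a (x y : Heis σ) : (x * y⁻¹).a = x.a + y.a := by
  rw [mul_a, inv_a]

variable [Finite F]

theorem finite_heis : Finite (Heis σ) := by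
  have h : Function.Injective (fun x : Heis σ => (x.a, x.b)) := by
    intro x y h
    ext
    · exact congrArg Prod.fst h
    · exact congrArg Prod.snd h
  exact Finite.of_injective _ h

theorem exists_comm_eq {l : Fˣ} (h1 : wt σ l ≠ 1) (h2 : nm σ l ≠ 1) (x : Heis σ) :
    ∃ y, y * (act l y)⁻¹ = x := by
  have := finite_heis (σ := σ)
  have hinj : Function.Injective (fun y : Heis σ => y * (act l y)⁻¹) := by
    intro y z h
    have h : y * (act l y)⁻¹ = z * (act l z)⁻¹ := h
    have h3 : act l (z⁻¹ * y) = z⁻¹ * y := by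
      rw [act_mul, act_inv]
      have h4 : z⁻¹ * y = (act l z)⁻¹ * act l y := by
        rw [inv_mul_eq_iff_eq_mul]
        calc y = y * (act l y)⁻¹ * act l y := by group
          _ = z * (act l z)⁻¹ * act l y := by rw [h]
          _ = z * ((act l z)⁻¹ * act l y) := by group
      rw [h4]
    have h4 := act_fixed_eq_one h1 h2 h3
    exact (inv_mul_eq_one.mp h4).symm
  exact (Finite.surjective_of_injective hinj) x

/-- the data preserved: `φ` maps `T` to itself, trivially modulo the centre. -/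
def Triv (φ : MulAut J) : Prop := ∀ x, ∃ y, φ (R.u x) = R.u y ∧ y.a = x.a

variable {R}

theorem Triv.conj_mul {φ : MulAut J} (h : Triv R φ) (x : Heis σ) :
    Triv R (MulAut.conj (R.u x) * φ) := by
  intro y
  obtain ⟨z, hz, ha⟩ := h y
  refine ⟨x * z * x⁻¹, ?_, ?_⟩
  · rw [MulAut.mul_apply, hz, MulAut.conj_apply, map_mul, map_mul, map_inv]
  · rw [mul_a, mul_a, inv_a, ha]
    have := CharTwo.add_self_eq_zero x.a
    linear_combination this

theorem Triv.map_T [Finite J] {φ : MulAut J} (h : Triv R φ) : R.T.map (φ : J ≃* J).toMonoidHom = R.T := by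
  apply Subgroup.eq_of_le_of_card_ge
  · rintro _ ⟨_, ⟨x, rfl⟩, rfl⟩
    obtain ⟨y, hy, -⟩ := h x
    exact ⟨y, hy.symm⟩
  · exact (Nat.card_congr (R.T.equivMapOfInjective _ (φ : J ≃* J).injective).toEquiv).le

theorem Triv.map_B [Finite J] {φ : MulAut J} (h : Triv R φ) (hF : FieldOK σ) {b : J}
    (hb : b ∈ R.B) : φ b ∈ R.B := by
  obtain ⟨a, ha⟩ := hF.surj 1 (map_one σ)
  obtain ⟨c, hc⟩ := hF.tr (a * σ a) (by rw [ha, map_one])
  have hex : ∃ x : Heis σ, x ≠ 1 := by
    refine ⟨⟨a, c, hc⟩, fun h1 => ?_⟩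
    have h2 : a = 0 := congrArg Heis.a h1
    rw [h2, zero_mul] at ha
    exact zero_ne_one ha
  apply R.norm_eq hex
  have h1 := R.B_le hb
  rw [Subgroup.mem_normalizer_iff] at h1 ⊢
  intro x
  have hT := h.map_T
  have key : ∀ y, φ y ∈ R.T ↔ y ∈ R.T := by
    intro y
    constructor
    · intro hy
      rw [← hT] at hy
      obtain ⟨z, hz, hzy⟩ := hy
      have : z = y := (φ : J ≃* J).injective hzy
      rwa [← this]
    · intro hy
      rw [← hT]
      exact ⟨y, hy, rfl⟩
  obtain ⟨x, rfl⟩ := (φ : J ≃* J).surjective x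
  have e : φ b * (φ : J ≃* J) x * (φ b)⁻¹ = φ (b * x * b⁻¹) := by
    rw [map_mul, map_mul, map_inv]
  rw [e]
  exact ((key x).trans (h1 x)).trans (key _).symm

theorem Triv.map_d [Finite J] {φ : MulAut J} (h : Triv R φ) (hF : FieldOK σ) (l : Fˣ) :
    ∃ x, φ (R.d l) = R.u x * R.d l := by
  obtain ⟨x, m, hx⟩ := h.map_B hF (R.d_mem_B l)
  refine ⟨x, ?_⟩
  -- test element
  obtain ⟨a, ha⟩ := hF.surj 1 (map_one σ)
  obtain ⟨c, hc⟩ := hF.tr (a * σ a) (by rw [ha, map_one])
  have ha0 : a ≠ 0 := by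
    rintro rfl
    rw [zero_mul] at ha
    exact zero_ne_one ha
  let p : Heis σ := ⟨a, c, hc⟩
  have hp : p.a = a := rfl
  obtain ⟨p', hp', hpa⟩ := h p
  obtain ⟨r, hr, hra⟩ := h (act l p)
  have h1 : φ (R.u (act l p)) = R.u x * R.d m * R.u p' * (R.u x * R.d m)⁻¹ := by
    rw [R.u_act, map_mul, map_mul, map_inv, hx, hp']
  rw [hr, R.conj_a_of_B] at h1
  have h2 := congrArg Heis.a (R.u_inj h1)
  rw [hra, mul_a, mul_a, inv_a, act_a, act_a, hpa, hp] at h2
  have h3 : wt σ m = wt σ l := by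
    apply mul_right_cancel₀ ha0
    have := CharTwo.add_self_eq_zero x.a
    linear_combination -h2 - this
  have h4 : R.d (l⁻¹ * m) = 1 := by
    apply R.d_one_of
    rw [wt_mul, h3, wt_inv, inv_mul_cancel₀ (wt_ne_zero σ l)]
  rw [map_mul, map_inv, inv_mul_eq_one] at h4
  rw [hx, h4]

/-- Conjugating by an element of `T`, `φ` centralises the torus. -/
theorem Triv.exists_conj [Finite J] {φ : MulAut J} (h : Triv R φ) (hF : FieldOK σ) :
    ∃ y, Triv R (MulAut.conj (R.u y) * φ) ∧ ∀ l, (MulAut.conj (R.u y) * φ) (R.d l) = R.d l := by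
  obtain ⟨l, hl, hl1⟩ := hF.fixed
  have hl1' : (l : F) ≠ 1 := fun h => hl1 (Units.ext h)
  have hw : wt σ l ≠ 1 := by rwa [wt_of_fixed σ hl]
  have hn : nm σ l ≠ 1 := by
    rw [nm_of_fixed σ hl]
    intro h
    apply hl1'
    have h1 : ((l : F) - 1) ^ 2 = 0 := by
      have := CharTwo.two_eq_zero (R := F)
      linear_combination h - ((l : F) - 1) * this
    have h2 := (pow_eq_zero_iff (two_ne_zero)).mp h1
    exact sub_eq_zero.mp h2
  obtain ⟨x, hx⟩ := h.map_d hF l
  obtain ⟨y, hy⟩ := exists_comm_eq hw hn x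
  have hψ := h.conj_mul y⁻¹
  have hd : (MulAut.conj (R.u y⁻¹) * φ) (R.d l) = R.d l := by
    rw [MulAut.mul_apply, hx, MulAut.conj_apply, ← hy, map_mul, map_inv, map_inv, R.u_act]
    group
  refine ⟨y⁻¹, hψ, ?_⟩
  intro m
  obtain ⟨v, hv⟩ := hψ.map_d hF m
  set ψ := MulAut.conj (R.u y⁻¹) * φ with hψdef
  -- commute with `d l`
  have h1 : R.d l * (R.u v * R.d m) = (R.u v * R.d m) * R.d l := by
    rw [← hv, ← hd, ← map_mul, ← map_mul, ← map_mul, ← map_mul, mul_comm]
  have h2 : R.u (act l v) * R.d (l * m) = R.u v * R.d (m * l) := by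
    rw [map_mul, map_mul, ← mul_assoc, ← mul_assoc, ← R.d_u, mul_assoc, h1]
  have h3 := (R.ud_inj h2).1
  have h4 := act_fixed_eq_one hw hn h3
  rw [hv, h4, map_one, one_mul]

/-- An automorphism centralising the torus and trivial on `P / Z` centralises `T`. -/
theorem Triv.fix_T {φ : MulAut J} (h : Triv R φ) (hF : FieldOK σ)
    (hd : ∀ l, φ (R.d l) = R.d l) (x : Heis σ) : φ (R.u x) = R.u x := by
  choose y hy hya using h
  -- `e x = y x * x⁻¹`
  let e : Heis σ → Heis σ := fun x => x⁻¹ * y x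
  have he : ∀ x, φ (R.u x) = R.u (x * e x) := by
    intro x
    rw [hy, mul_inv_cancel_left]
  have hea : ∀ x, (e x).a = 0 := by
    intro x
    show (x⁻¹ * y x).a = 0
    rw [mul_a, inv_a, hya]
    exact CharTwo.add_self_eq_zero _
  have hcent : ∀ x z, z * e x = e x * z := by
    intro x z
    rw [commute_iff, hea, map_zero, mul_zero, zero_mul]
  have hmul : ∀ x z, e (x * z) = e x * e z := by
    intro x z
    have h1 : x * z * e (x * z) = (x * e x) * (z * e z) := by
      apply R.u_inj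
      rw [← he, map_mul, map_mul, he, he, ← map_mul]
    have h2 : (x * e x) * (z * e z) = x * z * (e x * e z) := by
      rw [mul_assoc, ← mul_assoc (e x), ← hcent x z]
      group
    rw [h2] at h1
    exact mul_left_cancel h1
  have hsq : ∀ x, e x * e x = 1 := by
    intro x
    rw [HermHeis.mul_self_eq_one_iff]
    exact hea x
  obtain ⟨k, hk1, hk2⟩ := hF.norm
  have hact : ∀ x, e (act k x) = e x := by
    intro x
    have h1 : φ (R.u (act k x)) = R.u (act k (x * e x)) := by
      rw [R.u_act, map_mul, map_mul, map_inv, hd, he, R.u_act]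
    rw [he] at h1
    have h2 := R.u_inj h1
    rw [act_mul] at h2
    have h3 := mul_left_cancel h2
    rw [h3]
    ext
    · rw [act_a, hea, mul_zero]
    · rw [act_b, hk1, one_mul]
  -- `e` vanishes on the centre
  have hz : ∀ z : Heis σ, z.a = 0 → e z = 1 := by
    intro z hz0
    have hfix : σ z.b = z.b := b_fixed_of_a_eq_zero hz0
    obtain ⟨a, ha⟩ := hF.surj z.b hfix
    obtain ⟨c, hc⟩ := hF.tr (a * σ a) (by rw [ha, hfix])
    let p : Heis σ := ⟨a, c, hc⟩
    have h1 : z = p * p := by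
      ext
      · rw [hz0, mul_a]; exact (CharTwo.add_self_eq_zero _).symm
      · rw [mul_b]
        show z.b = c + c + a * σ a
        rw [ha, CharTwo.add_self_eq_zero, zero_add]
    rw [h1, hmul, hsq]
  have hone : ∀ x, e x = 1 := by
    intro x
    have hne : wt σ k + 1 ≠ 0 := by
      intro h0
      apply hk2
      have := CharTwo.two_eq_zero (R := F)
      linear_combination h0 - this
    -- `y` with `(wt k + 1) y.a = x.a`
    obtain ⟨c, hc⟩ := hF.tr ((x.a / (wt σ k + 1)) * σ (x.a / (wt σ k + 1))) (by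
      rw [map_mul, HermHeis.sig, mul_comm])
    let p : Heis σ := ⟨x.a / (wt σ k + 1), c, hc⟩
    have h1 : (act k p * p).a = x.a := by
      rw [mul_a, act_a]
      show wt σ k * (x.a / (wt σ k + 1)) + x.a / (wt σ k + 1) = x.a
      field_simp
    have h2 : ((act k p * p)⁻¹ * x).a = 0 := by
      rw [mul_a, inv_a, h1]
      exact CharTwo.add_self_eq_zero _
    have h3 := hz _ h2
    have h4 : x = (act k p * p) * ((act k p * p)⁻¹ * x) := by group
    rw [h4, hmul, hmul, hact, hsq, h3, one_mul]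
  rw [he, hone, mul_one]

/-- An automorphism centralising `T` and the torus is trivial. -/
theorem eq_one_of_fix {φ : MulAut J} (hF : FieldOK σ) (hT : ∀ x, φ (R.u x) = R.u x)
    (hd : ∀ l, φ (R.d l) = R.d l) : φ = 1 := by
  obtain ⟨l, hl, hl1⟩ := hF.fixed
  have hl1' : (l : F) ≠ 1 := fun h => hl1 (Units.ext h)
  have hw : wt σ l ≠ 1 := by rwa [wt_of_fixed σ hl]
  have hsq1 : ∀ m : Fˣ, (m : F) ^ 2 = 1 → m = 1 := by
    intro m h
    have h1 : ((m : F) - 1) ^ 2 = 0 := by
      have := CharTwo.two_eq_zero (R := F)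
      linear_combination h - ((m : F) - 1) * this
    have h2 := (pow_eq_zero_iff (two_ne_zero)).mp h1
    exact Units.ext (sub_eq_zero.mp h2)
  have hn : nm σ l ≠ 1 := by
    rw [nm_of_fixed σ hl]
    intro h
    exact hl1 (hsq1 l h)
  have hhat : hat σ l = l⁻¹ := by
    apply Units.ext
    rw [hat_val, hl, Units.val_inv_eq_inv_val]
  have hw2 : wt σ (hat σ l) ≠ 1 := by
    rw [hhat, wt_inv]
    intro h
    exact hw (inv_eq_one.mp h)
  have hn2 : nm σ (hat σ l) ≠ 1 := by
    rw [hhat]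
    intro h
    apply hn
    have h1 : nm σ (l⁻¹ * l) = nm σ l⁻¹ * nm σ l := nm_mul σ _ _
    rw [inv_mul_cancel, nm_one, h, one_mul] at h1
    exact h1.symm
  -- `w⁻¹ φ w` commutes with the torus
  set c := R.w * φ R.w with hc
  have hcomm : c * R.d l = R.d l * c := by
    have h1 : φ R.w * R.d l = R.d (hat σ l) * φ R.w := by
      have h2 := congrArg φ (R.w_d l)
      rwa [map_mul, map_mul, hd, hd] at h2
    calc c * R.d l = R.w * (φ R.w * R.d l) := by rw [hc]; group
      _ = (R.w * R.d (hat σ l)) * φ R.w := by rw [h1]; group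
      _ = R.d (hat σ (hat σ l)) * c := by rw [R.w_d, hc]; group
      _ = R.d l * c := by
        congr 2
        apply Units.ext
        rw [hat_val, hat_val, map_inv₀, HermHeis.sig, inv_inv]
  -- hence in the torus
  obtain ⟨m, hm⟩ : ∃ m, c = R.d m := by
    rcases R.bruhat c with ⟨x, m, h⟩ | ⟨x, y, m, h⟩
    · refine ⟨m, ?_⟩
      rw [h] at hcomm
      have h1 : R.u x * R.d (m * l) = R.u (act l x) * R.d (l * m) := by
        rw [map_mul, map_mul, ← mul_assoc, ← mul_assoc, ← R.d_u, hcomm, mul_assoc]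
      have h2 := act_fixed_eq_one hw hn (R.ud_inj h1).1.symm
      rw [h, h2, map_one, one_mul]
    · exfalso
      rw [h] at hcomm
      have e1 : R.d l * (R.u x * R.w * (R.u y * R.d m)) =
          R.u (act l x) * R.w * (R.u (act (hat σ l) y) * R.d (hat σ l * m)) := by
        have e2 : R.d l * R.w = R.w * R.d (hat σ l) := by
          rw [R.w_d]
          congr 2
          apply Units.ext
          rw [hat_val, hat_val, map_inv₀, HermHeis.sig, inv_inv]
        calc R.d l * (R.u x * R.w * (R.u y * R.d m))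
            = (R.d l * R.u x) * R.w * (R.u y * R.d m) := by group
          _ = R.u (act l x) * (R.d l * R.w) * (R.u y * R.d m) := by rw [R.d_u]; group
          _ = R.u (act l x) * R.w * ((R.d (hat σ l) * R.u y) * R.d m) := by rw [e2]; group
          _ = R.u (act l x) * R.w * (R.u (act (hat σ l) y) * R.d (hat σ l * m)) := by
              rw [R.d_u, map_mul]; group
      have e3 : R.u x * R.w * (R.u y * R.d m) * R.d l =
          R.u x * R.w * (R.u y * R.d (m * l)) := by rw [map_mul]; group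
      rw [e3, e1] at hcomm
      obtain ⟨h1, h2⟩ := R.big_inj (R.mem_B.mpr ⟨y, m * l, rfl⟩)
        (R.mem_B.mpr ⟨act (hat σ l) y, hat σ l * m, rfl⟩) hcomm
      obtain ⟨-, h4⟩ := R.ud_inj h2
      rw [mul_comm m l, map_mul, map_mul] at h4
      have h5 := mul_right_cancel h4
      have h7 : R.d (l * l) = 1 := by
        rw [map_mul]
        nth_rewrite 2 [h5]
        rw [hhat, map_inv, mul_inv_cancel]
      -- `d (l²) = 1` acts trivially
      obtain ⟨a, ha⟩ := hF.surj 1 (map_one σ)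
      obtain ⟨c, hc⟩ := hF.tr (a * σ a) (by rw [ha, map_one])
      have ha0 : a ≠ 0 := by
        rintro rfl
        rw [zero_mul] at ha
        exact zero_ne_one ha
      let p : Heis σ := ⟨a, c, hc⟩
      have h8 := R.u_act (l * l) p
      rw [h7, one_mul, inv_one, mul_one] at h8
      have h9 := congrArg Heis.a (R.u_inj h8)
      rw [act_a] at h9
      have h10 : wt σ (l * l) = 1 := mul_right_cancel₀ ha0 (by rw [one_mul]; exact h9)
      rw [wt_mul, wt_of_fixed σ hl, ← sq] at h10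
      exact hl1 (hsq1 l h10)
  have hφw : φ R.w = R.w * R.d m := by
    rw [← hm, hc, ← mul_assoc, R.w_w, one_mul]
  -- the relation of rank one
  obtain ⟨a, ha⟩ := hF.surj 1 (map_one σ)
  obtain ⟨c', hc'⟩ := hF.tr (a * σ a) (by rw [ha, map_one])
  have ha0 : a ≠ 0 := by
    rintro rfl
    rw [zero_mul] at ha
    exact zero_ne_one ha
  let p : Heis σ := ⟨a, c', hc'⟩
  have hp1 : p ≠ 1 := fun h => ha0 (congrArg Heis.a h)
  have hnB : R.w * R.u p * R.w ∉ R.B := fun h => hp1 (R.eq_one_of_conj h)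
  obtain ⟨x, y, k, hx⟩ := (R.bruhat (R.w * R.u p * R.w)).resolve_left (by
    rintro ⟨x, k, h⟩
    exact hnB ⟨x, k, h⟩)
  -- `w u(x) w = u(p) w b`
  set b := R.u y * R.d k with hb
  have hbB : b ∈ R.B := ⟨y, k, rfl⟩
  have hxw : R.w * R.u x * R.w = R.u p * R.w * b⁻¹ := by
    rw [eq_mul_inv_iff_mul_eq]
    calc R.w * R.u x * R.w * b = R.w * (R.u x * R.w * b) := by group
      _ = R.w * (R.w * R.u p * R.w) := by rw [hx]
      _ = (R.w * R.w) * (R.u p * R.w) := by group
      _ = R.u p * R.w := by rw [R.w_w, one_mul]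
  have hφB : ∀ b ∈ R.B, φ b = b := by
    rintro _ ⟨x, k, rfl⟩
    rw [map_mul, hT, hd]
  -- apply `φ`
  have h1 : R.w * R.d m * R.u x * (R.w * R.d m) = R.u p * (R.w * R.d m) * b⁻¹ := by
    have := congrArg φ hxw
    rw [map_mul, map_mul, map_mul, map_mul, hφw, hT, hT, hφB _ (inv_mem hbB)] at this
    exact this
  -- the other expression
  have h2 : R.w * R.d m * R.u x * (R.w * R.d m) =
      R.u (act (hat σ m) p) * R.w * (R.d m * b⁻¹ * R.d m) := by
    have e0 : R.w * R.d m = R.d (hat σ m) * R.w := R.w_d m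
    calc R.w * R.d m * R.u x * (R.w * R.d m)
        = (R.d (hat σ m) * R.w) * R.u x * (R.w * R.d m) := by rw [e0]
      _ = R.d (hat σ m) * (R.w * R.u x * R.w) * R.d m := by group
      _ = R.d (hat σ m) * (R.u p * R.w * b⁻¹) * R.d m := by rw [hxw]
      _ = (R.d (hat σ m) * R.u p) * R.w * b⁻¹ * R.d m := by group
      _ = R.u (act (hat σ m) p) * (R.d (hat σ m) * R.w) * b⁻¹ * R.d m := by rw [R.d_u]; group
      _ = R.u (act (hat σ m) p) * (R.w * R.d m) * b⁻¹ * R.d m := by rw [e0]
      _ = R.u (act (hat σ m) p) * R.w * (R.d m * b⁻¹ * R.d m) := by group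
  rw [h1] at h2
  have h3 : R.u p * R.w * (R.d m * b⁻¹) =
      R.u (act (hat σ m) p) * R.w * (R.d m * b⁻¹ * R.d m) := by
    rw [← h2]; group
  have h4 := (R.big_inj (mul_mem (R.d_mem_B m) (inv_mem hbB))
    (mul_mem (mul_mem (R.d_mem_B m) (inv_mem hbB)) (R.d_mem_B m)) h3).2
  have h5 : R.d m = 1 := mul_eq_left.mp h4.symm
  rw [h5, mul_one] at hφw
  ext g
  rw [MulAut.one_apply]
  rcases R.bruhat g with ⟨x, k, rfl⟩ | ⟨x, y, k, rfl⟩
  · exact hφB _ ⟨x, k, rfl⟩
  · rw [map_mul, map_mul, hT, hφw, hφB _ ⟨y, k, rfl⟩]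

/-- **Automorphisms normalising `T` and trivial on `T / Z(T)` are induced by elements of `T`.** -/
theorem Triv.inner [Finite J] {φ : MulAut J} (h : Triv R φ) (hF : FieldOK σ) :
    ∃ x, φ = MulAut.conj (R.u x) := by
  obtain ⟨y, h1, h2⟩ := h.exists_conj hF
  have h3 := eq_one_of_fix (R := R) hF (h1.fix_T hF h2) h2
  refine ⟨y⁻¹, ?_⟩
  rw [map_inv, map_inv]
  exact (inv_eq_of_mul_eq_one_right h3).symm

end Cfsg.Agent.StdU3.URelAut
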