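import Mathlib
import Cfsg.Agent.StdU3.URelAut
import Cfsg.Agent.StdU3.FieldAut
import Cfsg.Agent.StdU3.Semilinear

/-!
# Elements normalising `W × P`, `P ≅ Heis σ`, act semilinearly on `P / Z(P)`
-/

set_option autoImplicit false
set_option linter.unusedSectionVars false
set_option linter.dupNamespace false

namespace Cfsg.Agent.StdU3.Semi

open Cfsg.Agent.LieRecognition Cfsg.Agent.LieRecognition.HermHeis Cfsg.Agent.StdU3.URel
  Cfsg.Agent.StdU3.Field Cfsg.Agent.StdU3.FieldAut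

variable {F : Type*} [Field F] [Fintype F] [CharP F 2] {σ : F →+* F}
  [hσ : Fact (∀ x, σ (σ x) = x)] {n : ℕ}

/-- `σ` is the `q`-power map on `F_{q²}`, `q = 2 ^ n ≥ 4`. -/
structure Sg (σ : F →+* F) (n : ℕ) : Prop where
  hq : Qd F n
  eq : ∀ x, σ x = bar n x

theorem sg_tr (h : Sg σ n) (b : F) (hb : σ b = b) : ∃ c : F, c + σ c = b := by
  obtain ⟨e, he⟩ := exists_Tr_one h.hq
  refine ⟨b * e, ?_⟩
  rw [map_mul, hb, h.eq, ← mul_add]
  rw [Tr_def] at he
  rw [he, mul_one]

theorem fieldOK (h : Sg σ n) : URelAut.FieldOK σ where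
  fixed := by
    obtain ⟨l, h1, h2⟩ := exists_fixed_ne h.hq
    exact ⟨l, by rw [h.eq, h1], fun h0 => h2 (by rw [h0, Units.val_one])⟩
  norm := by
    obtain ⟨k, h1, h2, -⟩ := exists_norm_one h.hq
    refine ⟨k, ?_, ?_⟩
    · unfold nm; rw [h.eq]; exact h1
    · unfold wt
      intro h3
      apply h2
      have h4 : σ (k : F) ≠ 0 := sig_ne σ k
      rw [mul_inv_eq_one₀ h4] at h3
      have h5 : (k : F) * σ k = 1 := by rw [h.eq]; exact h1
      rw [← h3] at h5
      calc (k : F) ^ 3 = k * k ^ 2 := by ring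
        _ = 1 := h5
  surj := by
    intro b hb
    obtain ⟨a, ha⟩ := Field.exists_norm h.hq (b := b) (by rw [← h.eq, hb])
    exact ⟨a, by rw [h.eq]; exact ha⟩
  tr := sg_tr h

/-- an element of `Heis σ` with given first coordinate -/
theorem exists_a (h : Sg σ n) (a : F) : ∃ x : Heis σ, x.a = a := by
  obtain ⟨c, hc⟩ := sg_tr h (a * σ a) (by rw [map_mul, HermHeis.sig, mul_comm])
  exact ⟨⟨a, c, hc⟩, rfl⟩

theorem sq_a (x : Heis σ) : (x * x).a = 0 := CharTwo.add_self_eq_zero _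

theorem sq_b (x : Heis σ) : (x * x).b = x.a * σ x.a := by
  rw [mul_b, CharTwo.add_self_eq_zero, zero_add]

theorem ext_z {x y : Heis σ} (hx : x.a = 0) (hy : y.a = 0) (h : x.b = y.b) : x = y := by
  ext
  · rw [hx, hy]
  · exact h

/-- central elements are squares -/
theorem exists_sq (h : Sg σ n) {z : Heis σ} (hz : z.a = 0) : ∃ x : Heis σ, z = x * x := by
  obtain ⟨a, ha⟩ := (fieldOK h).surj z.b (b_fixed_of_a_eq_zero hz)
  obtain ⟨x, hx⟩ := exists_a h a
  exact ⟨x, ext_z hz (sq_a x) (by rw [sq_b, hx, ha])⟩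

theorem comm_of_a_eq_zero {z : Heis σ} (hz : z.a = 0) (x : Heis σ) : z * x = x * z := by
  rw [commute_iff, hz, map_zero, mul_zero, zero_mul]

variable {G : Type*} [Group G] (p : Heis σ →* G) (W : Subgroup G)

/-- `W` is an elementary abelian group centralising `P` and disjoint from it -/
structure PW : Prop where
  inj : Function.Injective p
  comm : ∀ r ∈ W, ∀ x, r * p x = p x * r
  sq : ∀ r ∈ W, r * r = 1
  disj : ∀ x, p x ∈ W → x = 1

/-- `s` acts on `W P / W Z(P)` as the semilinear map `c τ`. -/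
def SL (s : G) (c : F) (τ : F ≃+* F) : Prop :=
  ∀ x, ∃ y, ∃ r ∈ W, s * p x * s⁻¹ = r * p y ∧ y.a = c * τ x.a

/-- `s` maps `P` into `W P`. -/
def Nm (s : G) : Prop := ∀ x, ∃ y, ∃ r ∈ W, s * p x * s⁻¹ = r * p y

variable {p W}

theorem PW.cancel (H : PW p W) {r r' : G} (hr : r ∈ W) (hr' : r' ∈ W) {y y' : Heis σ}
    (h : r * p y = r' * p y') : r = r' ∧ y = y' := by
  have h1 : r'⁻¹ * r = p (y' * y⁻¹) := by
    rw [map_mul, map_inv, eq_mul_inv_iff_mul_eq, mul_assoc, h, inv_mul_cancel_left]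
  have h2 : y' * y⁻¹ = 1 := H.disj _ (by rw [← h1]; exact mul_mem (inv_mem hr') hr)
  have h3 : y' = y := mul_inv_eq_one.mp h2
  subst h3
  exact ⟨mul_right_cancel h, rfl⟩

theorem PW.mul (H : PW p W) {r r' : G} (hr' : r' ∈ W) (y y' : Heis σ) :
    (r * p y) * (r' * p y') = (r * r') * p (y * y') := by
  calc (r * p y) * (r' * p y') = r * (p y * r') * p y' := by group
    _ = r * (r' * p y) * p y' := by rw [H.comm r' hr']
    _ = (r * r') * p (y * y') := by rw [map_mul]; group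

theorem SL.nm {s : G} {c : F} {τ : F ≃+* F} (h : SL p W s c τ) : Nm p W s := by
  intro x
  obtain ⟨y, r, hr, h, -⟩ := h x
  exact ⟨y, r, hr, h⟩

/-- the centre of `P` is mapped to itself -/
theorem Nm.z (hS : Sg σ n) (H : PW p W) {s : G} (h : Nm p W s) {z : Heis σ} (hz : z.a = 0) :
    ∃ z' : Heis σ, z'.a = 0 ∧ s * p z * s⁻¹ = p z' := by
  obtain ⟨x, rfl⟩ := exists_sq hS hz
  obtain ⟨y, r, hr, hy⟩ := h x
  refine ⟨y * y, sq_a y, ?_⟩
  have e : s * p (x * x) * s⁻¹ = (s * p x * s⁻¹) * (s * p x * s⁻¹) := by rw [map_mul]; group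
  rw [e, hy, H.mul hr, H.sq r hr, one_mul]

/-- **semilinearity** -/
theorem Nm.exists_SL (hS : Sg σ n) (H : PW p W) {s : G} (h : Nm p W s) :
    ∃ c : F, c ≠ 0 ∧ ∃ τ : F ≃+* F, SL p W s c τ ∧
      ∀ z : Heis σ, z.a = 0 → ∃ z' : Heis σ, z'.a = 0 ∧ z'.b = (c * σ c) * τ z.b ∧
        s * p z * s⁻¹ = p z' := by
  classical
  choose y r hr hy using h
  have hmul : ∀ x x', y (x * x') = y x * y x' := by
    intro x x'
    have h1 : r (x * x') * p (y (x * x')) = (r x * r x') * p (y x * y x') := by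
      rw [← hy, ← H.mul (hr x'), ← hy, ← hy, map_mul]; group
    exact (H.cancel (hr _) (mul_mem (hr x) (hr x')) h1).2
  have hz : ∀ z : Heis σ, z.a = 0 → (y z).a = 0 ∧ r z = 1 := by
    intro z hz
    obtain ⟨z', hz', h1⟩ := Nm.z hS H (fun x => ⟨y x, r x, hr x, hy x⟩) hz
    rw [hy, ← one_mul (p z')] at h1
    obtain ⟨h2, h3⟩ := H.cancel (hr _) (one_mem W) h1
    exact ⟨by rw [h3]; exact hz', h2⟩
  choose sec hsec using exists_a hS
  have hdep : ∀ x x' : Heis σ, x.a = x'.a → (y x).a = (y x').a := by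
    intro x x' hxx
    have h1 : (x'⁻¹ * x).a = 0 := by
      rw [mul_a, inv_a, hxx]; exact CharTwo.add_self_eq_zero _
    have h2 := hmul x' (x'⁻¹ * x)
    rw [mul_inv_cancel_left] at h2
    rw [h2, mul_a, (hz _ h1).1, add_zero]
  let A : F →+ F :=
    { toFun := fun a => (y (sec a)).a
      map_zero' := (hz _ (hsec 0)).1
      map_add' := fun a b => by
        show (y (sec (a + b))).a = (y (sec a)).a + (y (sec b)).a
        rw [← mul_a, ← hmul]
        apply hdep
        rw [hsec, mul_a, hsec, hsec] }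
  have hA : ∀ x : Heis σ, (y x).a = A x.a := fun x => hdep _ _ (hsec x.a).symm
  have hinj : Function.Injective A := by
    rw [injective_iff_map_eq_zero]
    intro a ha
    have h1 : (y (sec a)).a = 0 := ha
    have h2 : (s * p (sec a) * s⁻¹) * (s * p (sec a) * s⁻¹) = 1 := by
      have h3 : y (sec a) * y (sec a) = 1 := by
        rw [HermHeis.mul_self_eq_one_iff]; exact h1
      rw [hy, H.mul (hr _), H.sq _ (hr _), h3, map_one, one_mul]
    have h3 : p (sec a * sec a) = 1 := by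
      have e : (s * p (sec a) * s⁻¹) * (s * p (sec a) * s⁻¹) = s * p (sec a * sec a) * s⁻¹ := by
        rw [map_mul]; group
      rw [e, mul_inv_eq_one, mul_eq_left] at h2
      exact h2
    have h4 : sec a * sec a = 1 := H.inj (by rw [h3, map_one])
    rw [HermHeis.mul_self_eq_one_iff, hsec] at h4
    exact h4
  -- the map on the centre
  have hfix : ∀ b : F, barE hS.hq b = b → σ b = b := by
    intro b hb
    rw [hS.eq]; exact hb
  let θ : F → F := fun b => if hb : σ b = b then (y (zet b hb)).b else 0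
  have hθ : ∀ z : Heis σ, z.a = 0 → (y z).b = θ z.b := by
    intro z hz0
    have hb := b_fixed_of_a_eq_zero hz0
    show _ = if hb : σ z.b = z.b then (y (zet z.b hb)).b else 0
    rw [dif_pos hb]
    congr 2
    exact ext_z hz0 rfl rfl
  have hzetmul : ∀ (b c : F) (hb : σ b = b) (hc : σ c = c) (hbc : σ (b + c) = b + c),
      (zet (b + c) hbc : Heis σ) = zet b hb * zet c hc := by
    intro b c hb hc hbc
    ext
    · simp
    · simp
  obtain ⟨c, hc, τ, h1, h2⟩ := Semilinear.exists_semilinear (barE hS.hq) (fun x => bar_bar hS.hq x)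
    (by
      by_contra hcon
      push Not at hcon
      exact barE_ne_one hS.hq (RingEquiv.ext hcon)) A hinj θ
    (by
      intro b c hb hc
      have hb' := hfix b hb
      have hc' := hfix c hc
      have hbc' : σ (b + c) = b + c := by rw [map_add, hb', hc']
      show (if h : σ (b + c) = b + c then (y (zet (b + c) h)).b else 0) =
        (if h : σ b = b then (y (zet b h)).b else 0) + (if h : σ c = c then (y (zet c h)).b else 0)
      rw [dif_pos hbc', dif_pos hb', dif_pos hc', hzetmul b c hb' hc' hbc', hmul, mul_b,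
        (hz _ (zet_a b hb')).1, zero_mul, add_zero])
    (by
      intro b
      have h3 : σ (b * σ b) = b * σ b := by rw [map_mul, HermHeis.sig, mul_comm]
      have e1 : barE hS.hq b = σ b := (hS.eq b).symm
      have e2 : barE hS.hq (A b) = σ (A b) := (hS.eq _).symm
      rw [e1, e2]
      have h4 := hθ (sec b * sec b) (sq_a _)
      rw [hmul, sq_b, sq_b, hsec] at h4
      exact h4)
  refine ⟨c, hc, τ, ?_, ?_⟩
  · intro x
    refine ⟨y x, r x, hr x, hy x, ?_⟩
    rw [hA, h1]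
  · intro z hz0
    refine ⟨y z, (hz z hz0).1, ?_, ?_⟩
    · rw [hθ z hz0, h2 z.b (by
        show bar n z.b = z.b
        rw [← hS.eq]; exact b_fixed_of_a_eq_zero hz0)]
      have e2 : barE hS.hq c = σ c := (hS.eq _).symm
      rw [e2]
    · rw [hy, (hz z hz0).2, one_mul]

theorem SL.unique (hS : Sg σ n) (H : PW p W) {s : G} {c c' : F} {τ τ' : F ≃+* F}
    (h : SL p W s c τ) (h' : SL p W s c' τ') : c = c' ∧ τ = τ' := by
  have key : ∀ a, c * τ a = c' * τ' a := by
    intro a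
    obtain ⟨x, rfl⟩ := exists_a hS a
    obtain ⟨y, r, hr, h1, h2⟩ := h x
    obtain ⟨y', r', hr', h1', h2'⟩ := h' x
    rw [h1] at h1'
    rw [← h2, ← h2', (H.cancel hr hr' h1').2]
  have h1 := key 1
  rw [map_one, map_one, mul_one, mul_one] at h1
  subst h1
  by_cases hc : c = 0
  · subst hc
    -- impossible: `SL` with `c = 0`
    exfalso
    obtain ⟨x, hx⟩ := exists_a hS (1 : F)
    obtain ⟨y, r, hr, h1, h2⟩ := h x
    rw [zero_mul] at h2
    have h3 : (s * p x * s⁻¹) * (s * p x * s⁻¹) = 1 := by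
      have h4 : y * y = 1 := by rw [HermHeis.mul_self_eq_one_iff]; exact h2
      rw [h1, H.mul hr, H.sq r hr, h4, map_one, one_mul]
    have e : (s * p x * s⁻¹) * (s * p x * s⁻¹) = s * p (x * x) * s⁻¹ := by rw [map_mul]; group
    rw [e, mul_inv_eq_one, mul_eq_left] at h3
    have h4 : x * x = 1 := H.inj (by rw [h3, map_one])
    rw [HermHeis.mul_self_eq_one_iff, hx] at h4
    exact one_ne_zero h4
  · refine ⟨rfl, ?_⟩
    ext a
    exact mul_left_cancel₀ hc (key a)

/-- composition; `W` is normalised -/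
theorem SL.mul (H : PW p W) {s s' : G} {c c' : F} {τ τ' : F ≃+* F}
    (hW : ∀ r ∈ W, ∃ y, ∃ r' ∈ W, s * r * s⁻¹ = r' * p y ∧ y.a = 0)
    (h : SL p W s c τ) (h' : SL p W s' c' τ') : SL p W (s * s') (c * τ c') (τ * τ') := by
  intro x
  obtain ⟨y, r, hr, h1, h2⟩ := h' x
  obtain ⟨z, r', hr', h3, h4⟩ := h y
  obtain ⟨v, r'', hr'', h5, h6⟩ := hW r hr
  refine ⟨v * z, r'' * r', mul_mem hr'' hr', ?_, ?_⟩
  · calc s * s' * p x * (s * s')⁻¹ = s * (s' * p x * s'⁻¹) * s⁻¹ := by group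
      _ = (s * r * s⁻¹) * (s * p y * s⁻¹) := by rw [h1]; group
      _ = r'' * r' * p (v * z) := by rw [h5, h3, H.mul hr']
  · rw [mul_a, h6, zero_add, h4, h2, map_mul, mul_assoc]; rfl

theorem SL.one : SL p W 1 1 1 := by
  intro x
  exact ⟨x, 1, one_mem W, by rw [inv_one, mul_one], by rw [one_mul]; rfl⟩

end Cfsg.Agent.StdU3.Semi
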