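import Mathlib
import Cfsg.Agent.StdU3.URel

/-!
# `PSU 3 F (2 ^ n)` has a parametrisation `URel`
-/

set_option autoImplicit false
set_option linter.unusedSectionVars false
set_option linter.dupNamespace false

namespace Cfsg.Agent.StdU3.URelModel

open Matrix Cfsg.Agent.LieRecognition Cfsg.Agent.LieRecognition.HermHeis
  Cfsg.Agent.LieRecognition.PSUThreeSylow Cfsg.Agent.LieRecognition.RankOneAbstract
  Cfsg.Agent.SuzukiRankOne.PSUModel Cfsg.Agent.StdU3.URel

section Model

variable {F : Type*} [Field F] {σ : F →+* F}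

/-- The matrix `diag(l, σ l / l, 1 / σ l)`. -/
def dmat (σ : F →+* F) (l : Fˣ) : Matrix (Fin 3) (Fin 3) F :=
  !![(l : F), 0, 0; 0, σ l * (l : F)⁻¹, 0; 0, 0, (σ l)⁻¹]

theorem det_dmat (l : Fˣ) : (dmat σ l).det = 1 := by
  rw [dmat, Matrix.det_fin_three]
  have h1 := l.ne_zero
  have h2 := sig_ne σ l
  simp
  field_simp

variable [CharP F 2] [hσ : Fact (∀ x, σ (σ x) = x)]

/-- The element `diag(l, σ l / l, 1 / σ l)` of `SUJ σ`. -/
def del (σ : F →+* F) [hσ : Fact (∀ x, σ (σ x) = x)] (l : Fˣ) : SUJ σ :=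
  ⟨⟨dmat σ l, det_dmat l⟩, by
    change (dmat σ l)ᵀ * Jm F * (dmat σ l).map σ = Jm F
    have h1 := l.ne_zero
    have h2 := sig_ne σ l
    ext i j
    fin_cases i <;> fin_cases j <;>
      simp [dmat, Jm, Matrix.mul_apply, Fin.sum_univ_three, HermHeis.sig]
    field_simp⟩

theorem del_val (l : Fˣ) : (del σ l).1.1 = dmat σ l := rfl

/-- the torus as a homomorphism -/
def delHom (σ : F →+* F) [hσ : Fact (∀ x, σ (σ x) = x)] : Fˣ →* SUJ σ where
  toFun := del σ
  map_one' := by
    apply Subtype.ext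
    apply Subtype.ext
    show dmat σ 1 = 1
    ext i j
    fin_cases i <;> fin_cases j <;> simp [dmat]
  map_mul' l m := by
    apply Subtype.ext
    apply Subtype.ext
    show dmat σ (l * m) = dmat σ l * dmat σ m
    ext i j
    fin_cases i <;> fin_cases j <;> simp [dmat, Matrix.mul_apply, Fin.sum_univ_three]
    · ring
    · ring

theorem del_mul_emb (l : Fˣ) (x : Heis σ) :
    del σ l * emb σ x = emb σ (act l x) * del σ l := by
  have h1 := l.ne_zero
  have h2 := sig_ne σ l
  apply Subtype.ext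
  apply Subtype.ext
  rw [coe_mul_SUJ, coe_mul_SUJ, emb_val, emb_val]
  show dmat σ l * umat x = umat (act l x) * dmat σ l
  ext i j
  fin_cases i <;> fin_cases j <;>
    simp [dmat, umat, Matrix.mul_apply, Fin.sum_univ_three, wt, nm, HermHeis.sig]
  · field_simp
  · field_simp
  · field_simp

theorem wel_mul_del (l : Fˣ) : wel σ * del σ l = del σ (hat σ l) * wel σ := by
  have h1 := l.ne_zero
  have h2 := sig_ne σ l
  apply Subtype.ext
  apply Subtype.ext
  rw [coe_mul_SUJ, coe_mul_SUJ, wel_val]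
  show Jm F * dmat σ l = dmat σ (hat σ l) * Jm F
  ext i j
  fin_cases i <;> fin_cases j <;>
    simp [dmat, Jm, Matrix.mul_apply, Fin.sum_univ_three, hat_val, HermHeis.sig]
  field_simp

theorem del_mem_center {l : Fˣ} (h : wt σ l = 1) : del σ l ∈ Subgroup.center (SUJ σ) := by
  have h1 := l.ne_zero
  have h2 := sig_ne σ l
  have h3 : σ (l : F) = (l : F) ^ 2 := by
    unfold wt at h
    rw [mul_inv_eq_one₀ h2] at h
    exact h.symm
  have h4 : (l : F) ^ 3 = 1 := by
    have h5 := congrArg σ h3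
    rw [HermHeis.sig, map_pow, h3] at h5
    apply mul_left_cancel₀ h1
    linear_combination -h5
  have hm : dmat σ l = (l : F) • (1 : Matrix (Fin 3) (Fin 3) F) := by
    ext i j
    fin_cases i <;> fin_cases j <;> simp [dmat, h3]
    · field_simp
    · field_simp
      linear_combination -h4
  rw [Subgroup.mem_center_iff]
  intro g
  apply Subtype.ext
  apply Subtype.ext
  rw [coe_mul_SUJ, coe_mul_SUJ, del_val, hm]
  simp

theorem exists_of_borel {g : SUJ σ} (hg : g ∈ borel σ) : ∃ x l, g = emb σ x * del σ l := by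
  have h00 : g.1.1 0 0 ≠ 0 := by
    intro h0
    have hdet : g.1.1.det = 1 := g.1.2
    rw [Matrix.det_fin_three, hg.1, hg.2, h0] at hdet
    simp at hdet
  have hinv : (del σ (Units.mk0 _ h00))⁻¹ = del σ (Units.mk0 _ h00)⁻¹ := by
    show (delHom σ (Units.mk0 _ h00))⁻¹ = delHom σ (Units.mk0 _ h00)⁻¹
    rw [map_inv]
  have hcol : ∀ i, (g * del σ (Units.mk0 _ h00)⁻¹).1.1 i 0 = g.1.1 i 0 * (g.1.1 0 0)⁻¹ := by
    intro i
    rw [coe_mul_SUJ, Matrix.mul_apply, Fin.sum_univ_three]
    simp [del_val, dmat]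
  obtain ⟨x, hx⟩ := mem_range_of_col (g := g * del σ (Units.mk0 _ h00)⁻¹)
    (by rw [hcol, mul_inv_cancel₀ h00]) (by rw [hcol, hg.1, zero_mul])
    (by rw [hcol, hg.2, zero_mul])
  refine ⟨x, Units.mk0 _ h00, ?_⟩
  rw [hx, ← hinv, inv_mul_cancel_right]

theorem del_mem_borel (l : Fˣ) : del σ l ∈ borel σ := by
  rw [mem_borel]
  constructor <;> simp [del_val, dmat]

end Model

section PSU

variable {F : Type*} [Field F] [Finite F] [CharP F 2] {σ : F →+* F}
  [hσ : Fact (∀ x, σ (σ x) = x)] {n : ℕ}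

theorem nonempty_urel (hn : 1 ≤ n) (hs : ∀ x, σ x = x ^ (2 ^ n)) (hF : Nat.card F = (2 ^ n) ^ 2) :
    Nonempty (URel.URel (Cfsg.PSU 3 F (2 ^ n)) σ) := by
  have hq : 1 < 2 ^ n := Nat.one_lt_two_pow (by omega)
  obtain ⟨x₀, hx₀⟩ := HermHeis.exists_heis_a (σ := σ) hq hs hF 1
  have hx : ∃ x : Heis σ, x.a ≠ 0 := ⟨x₀, by rw [hx₀]; exact one_ne_zero⟩
  obtain ⟨c, hc⟩ := HermHeis.exists_not_fixed (σ := σ) hq hs hF
  obtain ⟨T, T', hTT', hT⟩ := exists_T hc
  let e : SUJ σ ≃* Cfsg.SU 3 F (2 ^ n) :=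
    ((conjT hTT').subgroupMap (SUJ σ)).trans (MulEquiv.subgroupCongr (SU_eq_map hs hTT' hT))
  let π : SUJ σ →* Cfsg.PSU 3 F (2 ^ n) :=
    (QuotientGroup.mk' (Subgroup.center (Cfsg.SU 3 F (2 ^ n)))).comp e.toMonoidHom
  have hπ : Function.Surjective π := (QuotientGroup.mk'_surjective _).comp e.surjective
  have hker : ∀ g, π g = 1 ↔ g ∈ Subgroup.center (SUJ σ) := by
    intro g
    have h1 : π g = 1 ↔ e g ∈ Subgroup.center (Cfsg.SU 3 F (2 ^ n)) := by
      rw [← QuotientGroup.eq_one_iff]
      exact Iff.rfl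
    rw [h1, Subgroup.mem_center_iff, Subgroup.mem_center_iff]
    constructor
    · intro h k
      apply e.injective
      rw [map_mul, map_mul]
      exact h (e k)
    · intro h k
      obtain ⟨k, rfl⟩ := e.surjective k
      rw [← map_mul, ← map_mul, h k]
  have hkB : ∀ g, π g = 1 → g ∈ borel σ := fun g hg => center_le_borel hx ((hker g).mp hg)
  have hinj : ∀ x : Heis σ, π (emb σ x) = 1 → x = 1 := by
    intro x h
    exact eq_one_of_mem_center ((hker _).mp h)
  have hinj2 : Function.Injective (π.comp (emb σ)) := by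
    rw [injective_iff_map_eq_one]
    exact hinj
  exact ⟨
    { u := π.comp (emb σ)
      u_inj := hinj2
      d := π.comp (delHom σ)
      w := π (wel σ)
      d_u := fun l x => by
        show π (del σ l) * π (emb σ x) = π (emb σ (act l x)) * π (del σ l)
        rw [← map_mul, del_mul_emb, map_mul]
      d_one_of := fun l h => (hker _).mpr (del_mem_center h)
      w_w := by rw [← map_mul, wel_mul_wel, map_one]
      w_d := fun l => by
        show π (wel σ) * π (del σ l) = π (del σ (hat σ l)) * π (wel σ)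
        rw [← map_mul, wel_mul_del, map_mul]
      w_ne := fun x l h => by
        have h : π (wel σ) = π (emb σ x) * π (del σ l) := h
        have h1 : π ((emb σ x * del σ l)⁻¹ * wel σ) = 1 := by
          rw [map_mul, map_inv, map_mul, h, inv_mul_cancel]
        have h2 := hkB _ h1
        have h3 : emb σ x * del σ l ∈ borel σ :=
          mul_mem (data_SUJ.le ⟨x, rfl⟩) (del_mem_borel l)
        apply (data_SUJ (σ := σ)).w_not_mem
        have h4 := mul_mem h3 h2
        rwa [mul_inv_cancel_left] at h4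
      bruhat := fun g' => by
        obtain ⟨g, rfl⟩ := hπ g'
        by_cases hg : g ∈ borel σ
        · left
          obtain ⟨x, l, h⟩ := exists_of_borel hg
          exact ⟨x, l, by rw [h, map_mul]; rfl⟩
        · right
          obtain ⟨_, ⟨x, rfl⟩, h⟩ := data_SUJ.bruhat g hg
          obtain ⟨y, l, h'⟩ := exists_of_borel h
          refine ⟨x, y, l, ?_⟩
          have h2 : g = emb σ x * wel σ * (emb σ y * del σ l) := by
            rw [← h', mul_inv_cancel_left]
          rw [h2, map_mul, map_mul, map_mul]; rfl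
      inter := fun x y l h => by
        have h : π (wel σ) * π (emb σ x) * π (wel σ) = π (emb σ y) * π (del σ l) := h
        have h1 : π ((emb σ y * del σ l)⁻¹ * (wel σ * emb σ x * wel σ)) = 1 := by
          rw [map_mul, map_inv, map_mul, map_mul, map_mul, h, inv_mul_cancel]
        have h2 := hkB _ h1
        have h3 : emb σ y * del σ l ∈ borel σ :=
          mul_mem (data_SUJ.le ⟨y, rfl⟩) (del_mem_borel l)
        have h4 := mul_mem h3 h2
        rw [mul_inv_cancel_left] at h4
        have h5 := data_SUJ.inter (emb σ x) ⟨x, rfl⟩ (by rw [wel_inv]; exact h4)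
        exact emb_injective (by rw [h5, map_one]) }⟩

end PSU

end Cfsg.Agent.StdU3.URelModel
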