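import Mathlib
import Cfsg.Agent.StdU3.Semi
import Cfsg.Agent.StdU3.URelModel
import Cfsg.Agent.StdSz.Base

/-!
# Coordinates of a Sylow 2-subgroup of a perfect central extension `X` of `PSU₃(q)` by a group of
odd order, and the action of the normalizer of `A` on it.
-/

set_option autoImplicit false
set_option linter.unusedSectionVars false
set_option linter.dupNamespace false

namespace Cfsg.Agent.StdU3.Base

open Subgroup Cfsg.Agent.LieRecognition.HermHeis Cfsg.Agent.StdU3.URel Cfsg.Agent.StdU3.Semi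
  Cfsg.Agent.StdU3.Field Cfsg.Agent.ThreePrime.AutQuot Cfsg.Agent.StdSz.Base

variable {F : Type*} [Field F] [Fintype F] [CharP F 2] {σ : F →+* F}
  [hσ : Fact (∀ x, σ (σ x) = x)] {n : ℕ}

section Model

variable {J : Type*} [Group J] (R : URel.URel J σ)

include R in
theorem odd_d (hS : Sg σ n) (l : Fˣ) : Odd (orderOf (R.d l)) := by
  have h1 : orderOf (R.d l) ∣ orderOf l := orderOf_map_dvd R.d l
  have h2 : orderOf l ∣ Nat.card Fˣ := orderOf_dvd_natCard l
  refine Odd.of_dvd_nat ?_ (h1.trans h2)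
  rw [Nat.card_units, Nat.card_eq_fintype_card, hS.hq.hK]
  refine Nat.Even.sub_odd (Nat.one_le_pow _ _ (by positivity)) ?_ odd_one
  have := hS.hq.hn
  exact (Nat.even_pow' (by norm_num)).mpr ((Nat.even_pow' (by omega)).mpr even_two)

theorem heis_pow_four (x : Heis σ) : x ^ 4 = 1 := by
  have h1 : x ^ 4 = (x * x) * (x * x) := by
    rw [← pow_two, ← pow_two, ← pow_mul]
  rw [h1, Cfsg.Agent.LieRecognition.HermHeis.mul_self_eq_one_iff]
  exact sq_a x

theorem T_two : IsPGroup 2 R.T := by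
  rintro ⟨_, x, rfl⟩
  refine ⟨2, Subtype.ext ?_⟩
  show R.u x ^ 2 ^ 2 = 1
  have : (2 : ℕ) ^ 2 = 4 := by norm_num
  rw [this, ← map_pow, heis_pow_four, map_one]

theorem exists_z_ne : ∃ z : Heis σ, z.a = 0 ∧ z ≠ 1 := by
  refine ⟨zet 1 (map_one σ), rfl, fun h => ?_⟩
  have h1 : (1 : F) = 0 := congrArg Heis.b h
  exact one_ne_zero h1

/-- `T` is a Sylow 2-subgroup -/
theorem exists_sylow_eq [Finite J] (hS : Sg σ n) : ∃ P : Sylow 2 J, (P : Subgroup J) = R.T := by
  have : Fact (Nat.Prime 2) := ⟨Nat.prime_two⟩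
  obtain ⟨P, hP⟩ := (T_two R).exists_le_sylow
  obtain ⟨z0, hz0, hz1⟩ := exists_z_ne (σ := σ)
  have hu1 : R.u z0 ≠ 1 := fun h => hz1 (R.u_inj (by rw [h, map_one]))
  refine ⟨P, le_antisymm ?_ hP⟩
  -- elements of `P ∩ B` are in `T`
  have key : ∀ g ∈ (P : Subgroup J), g ∈ R.B → g ∈ R.T := by
    rintro g hg ⟨x, k, rfl⟩
    have h1 : R.d k ∈ (P : Subgroup J) := by
      have := mul_mem (inv_mem (hP (R.u_mem x))) hg
      rwa [inv_mul_cancel_left] at this
    have h2 : R.d k = 1 := by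
      obtain ⟨m, hm⟩ := P.isPGroup' ⟨R.d k, h1⟩
      have hm' : R.d k ^ 2 ^ m = 1 := congrArg Subtype.val hm
      exact eq_one_of_two_odd hm' (odd_d R hS k) dvd_rfl
    rw [h2, mul_one]
    exact R.u_mem x
  have hnt : Nontrivial (P : Subgroup J) := by
    refine ⟨⟨⟨R.u z0, hP (R.u_mem z0)⟩, 1, ?_⟩⟩
    intro h
    exact hu1 (congrArg Subtype.val h)
  have hc := P.isPGroup'.center_nontrivial
  obtain ⟨⟨⟨x, hxP⟩, hxc⟩, hx1⟩ := exists_ne (1 : Subgroup.center (P : Subgroup J))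
  have hx1 : x ≠ 1 := by
    rintro rfl
    exact hx1 rfl
  rw [Subgroup.mem_center_iff] at hxc
  have hxc : ∀ g ∈ (P : Subgroup J), g * x = x * g := fun g hg => congrArg Subtype.val (hxc ⟨g, hg⟩)
  have hxT : x ∈ R.T := by
    refine key x hxP ?_
    refine R.mem_B_of (R.u_mem z0) hu1 ?_
    rw [← hxc _ (hP (R.u_mem z0)), mul_inv_cancel_right]
    exact R.u_mem z0
  intro g hg
  refine key g hg (R.mem_B_of hxT hx1 ?_)
  rw [hxc g hg, mul_inv_cancel_right]
  exact hxT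

include R in
/-- `J` is not commutative -/
theorem exists_not_comm (hS : Sg σ n) : ∃ x y : J, x * y ≠ y * x := by
  obtain ⟨e, he⟩ := exists_Tr_one hS.hq
  obtain ⟨x, hx⟩ := exists_a hS e
  obtain ⟨y, hy⟩ := exists_a hS (1 : F)
  refine ⟨R.u x, R.u y, fun h => ?_⟩
  rw [← map_mul, ← map_mul] at h
  have h1 := R.u_inj h
  rw [commute_iff, hx, hy, map_one, mul_one, one_mul, hS.eq] at h1
  rw [Tr_def, ← h1, CharTwo.add_self_eq_zero] at he
  exact zero_ne_one he

end Model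

section Lift

variable {X : Type*} [Group X] [Finite X] (R : URel.URel (X ⧸ center X) σ)

include R in
theorem exists_lift (hS : Sg σ n) (hZ : Odd (Nat.card (center X))) :
    ∃ (P1 : Sylow 2 X) (q : Heis σ →* X), (∀ x, x ∈ (P1 : Subgroup X) ↔ ∃ y, q y = x) ∧
      (∀ y, (QuotientGroup.mk (q y) : X ⧸ center X) = R.u y) ∧
      (∀ w : X, (∃ k : ℕ, w ^ 2 ^ k = 1) → ∀ y, (QuotientGroup.mk w : X ⧸ center X) = R.u y →
        w = q y) := by
  have : Fact (Nat.Prime 2) := ⟨Nat.prime_two⟩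
  obtain ⟨PJ, hPJ⟩ := exists_sylow_eq R hS
  have hsurj : Function.Surjective (QuotientGroup.mk' (center X)) := QuotientGroup.mk'_surjective _
  obtain ⟨P1, hP1⟩ := Sylow.mapSurjective_surjective hsurj 2 PJ
  have hmap : (P1 : Subgroup X).map (QuotientGroup.mk' (center X)) = R.T := by
    rw [← hPJ, ← hP1]; rfl
  have hex : ∀ y, ∃ x ∈ (P1 : Subgroup X), (QuotientGroup.mk x : X ⧸ center X) = R.u y := by
    intro y
    have h1 : R.u y ∈ R.T := R.u_mem y
    rw [← hmap] at h1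
    obtain ⟨x, hx, hxy⟩ := h1
    exact ⟨x, hx, hxy⟩
  choose q hq hqu using hex
  have htwo : ∀ x ∈ (P1 : Subgroup X), ∃ k : ℕ, x ^ 2 ^ k = 1 := by
    intro x hx
    obtain ⟨k, hk⟩ := P1.isPGroup' ⟨x, hx⟩
    exact ⟨k, congrArg Subtype.val hk⟩
  have huniq : ∀ w : X, (∃ k : ℕ, w ^ 2 ^ k = 1) → ∀ y,
      (QuotientGroup.mk w : X ⧸ center X) = R.u y → w = q y := by
    rintro w ⟨k, hk⟩ y h
    obtain ⟨l, hl⟩ := htwo _ (hq y)
    exact eq_of_mk_eq hZ hk hl (by rw [h, hqu])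
  let Q : Heis σ →* X :=
    { toFun := q
      map_one' := (huniq 1 ⟨0, one_pow _⟩ 1 (by rw [QuotientGroup.mk_one, map_one])).symm
      map_mul' := fun x y => (huniq (q x * q y) (htwo _ (mul_mem (hq x) (hq y))) (x * y) (by
        rw [QuotientGroup.mk_mul, hqu, hqu, map_mul])).symm }
  refine ⟨P1, Q, ?_, hqu, huniq⟩
  intro x
  constructor
  · intro hx
    have h1 : (QuotientGroup.mk x : X ⧸ center X) ∈ R.T := by
      rw [← hmap]; exact ⟨x, hx, rfl⟩
    obtain ⟨y, hy⟩ := h1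
    exact ⟨y, (huniq x (htwo x hx) y hy.symm).symm⟩
  · rintro ⟨y, rfl⟩
    exact hq y

end Lift

section Group

variable {G : Type*} [Group G] {A : Subgroup G} [Finite G] (R : URel.URel (A ⧸ center A) σ)

/-- An element of `N(A)` acting on the unipotent subgroup of `A / Z(A)` trivially modulo its
centre lies in `P C(A)`. -/
theorem exists_of_triv (hS : Sg σ n) (hA : Group.IsPerfect A) {s : G}
    (hs : s ∈ normalizer (A : Set G)) (q : Heis σ → A)
    (hq : ∀ x, (QuotientGroup.mk (q x) : A ⧸ center A) = R.u x)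
    (h : ∀ x, ∃ y, s * (q x : G) * s⁻¹ = q y ∧ y.a = x.a) :
    ∃ x, (q x : G)⁻¹ * s ∈ centralizer (A : Set G) := by
  set φ := autQuot A (A.normalizerMonoidHom ⟨s, hs⟩) with hφ
  have h1 : URelAut.Triv R φ := by
    intro x
    obtain ⟨y, hy, hya⟩ := h x
    refine ⟨y, ?_, hya⟩
    rw [← hq, hφ, autQuot_mk, ← hq]
    congr 1
    apply Subtype.ext
    rw [normalizerMonoidHom_apply]
    exact hy
  obtain ⟨x, hx⟩ := h1.inner (fieldOK hS)
  refine ⟨x, inv_mul_mem_of_autQuot hA ⟨s, hs⟩ (q x) ?_⟩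
  rw [← hφ, hx, hq]

/-- An element of `N(A)` commuting with a nontrivial element of the unipotent subgroup
normalizes the unipotent subgroup. -/
theorem conj_mem_of_comm (hS : Sg σ n) (x : normalizer (A : Set G)) (w : A) {z : Heis σ}
    (hz : z ≠ 1) (hw : QuotientGroup.mk w = R.u z) (hxw : (x : G) * w = w * x) (a : A)
    (ha : (QuotientGroup.mk a : A ⧸ center A) ∈ R.T) :
    (QuotientGroup.mk (A.normalizerMonoidHom x a) : A ⧸ center A) ∈ R.T := by
  have : Fact (Nat.Prime 2) := ⟨Nat.prime_two⟩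
  have hu1 : R.u z ≠ 1 := fun h => hz (R.u_inj (by rw [h, map_one]))
  obtain ⟨PJ, hPJ⟩ := exists_sylow_eq R hS
  set φ := autQuot A (A.normalizerMonoidHom x) with hφ
  have hφw : φ (R.u z) = R.u z := by
    rw [← hw, hφ, autQuot_mk]
    congr 1
    apply Subtype.ext
    rw [normalizerMonoidHom_apply, hxw, mul_inv_cancel_right]
  obtain ⟨j, hj⟩ := MulAction.exists_smul_eq (A ⧸ center A) PJ (φ • PJ)
  have hmem : ∀ y, y ∈ R.T → φ y ∈ ((j • PJ : Sylow 2 (A ⧸ center A)) : Subgroup (A ⧸ center A)) := by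
    intro y hy
    rw [hj, Sylow.pointwise_smul_def]
    rw [← hPJ] at hy
    exact Subgroup.smul_mem_pointwise_smul _ φ _ hy
  have hconj : ∀ y, y ∈ ((j • PJ : Sylow 2 (A ⧸ center A)) : Subgroup (A ⧸ center A)) →
      j⁻¹ * y * j ∈ R.T := by
    intro y hy
    rw [Sylow.smul_def, Sylow.pointwise_smul_def,
      Subgroup.mem_pointwise_smul_iff_inv_smul_mem] at hy
    have h1 : (MulAut.conj j)⁻¹ • y = j⁻¹ * y * j := by
      show (MulAut.conj j)⁻¹ y = _
      rw [← map_inv, MulAut.conj_apply, inv_inv]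
    rw [h1, ← hPJ] at *
    exact hy
  have h1 : j⁻¹ * R.u z * j ∈ R.T := by
    apply hconj
    have := hmem _ (R.u_mem z)
    rwa [hφw] at this
  have h2 : j⁻¹ ∈ normalizer (R.T : Set (A ⧸ center A)) := by
    refine R.ti (R.u_mem z) hu1 ?_
    rwa [inv_inv]
  have h3 := hconj _ (hmem _ ha)
  rw [hφ, autQuot_mk] at h3
  have h4 := (mem_normalizer_iff.mp h2 (QuotientGroup.mk (A.normalizerMonoidHom x a))).mpr
    (by rwa [inv_inv])
  exact h4

end Group

end Cfsg.Agent.StdU3.Base
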