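import Cfsg.Agent.StdU3.NormQ

/-!
# The kernel `N2` of `N(Q)` on `V / W`, and the principle

Either all elements of `N(Q)` normalize `t Z`, or `gam ∈ {0, 1}` and `N2` is transitive on the
possible classes of conjugates of `t` in `Q`.
-/

set_option autoImplicit false
set_option linter.unusedSectionVars false

namespace Cfsg.Agent.StdU3.Kernel

open Cfsg.Agent.StdU3.Field Cfsg.Agent.StdU3.PreDef Cfsg.Agent.StdU3.LevelOne
open Cfsg.Agent.StdU3.LevelOneW Cfsg.Agent.StdU3.NormQ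

section field
variable {K : Type*} [Field K] [Fintype K] [CharP K 2] {n : ℕ}

theorem w_of_fixed {l : Kˣ} (hl : bar n (l : K) = l) : w n l = l := by
  unfold w
  rw [hl, sq, mul_assoc, mul_inv_cancel₀ l.ne_zero, mul_one]

theorem w_of_norm_one {k : Kˣ} (hk : N n (k : K) = 1) : w n k = (k : K) ^ 3 := by
  have hb : bar n (k : K) ≠ 0 := fun h => k.ne_zero (bar_eq_zero h)
  unfold w
  rw [N_def] at hk
  have h1 : (bar n (k : K))⁻¹ = k := (eq_inv_of_mul_eq_one_left hk).symm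
  rw [h1]; ring

/-- an additive subgroup of `K` invariant under the torus is trivial or everything. -/
theorem mem_of_closed (h : Qd K n) (M : AddSubgroup K) (hM : ∀ l : Kˣ, ∀ m ∈ M, w n l * m ∈ M)
    {m : K} (hm : m ∈ M) (hm0 : m ≠ 0) (x : K) : x ∈ M := by
  obtain ⟨k, hk, hk3, -⟩ := exists_norm_one h
  set c : K := (k : K) ^ 3 with hc
  have hcN : N n c = 1 := by
    have : N n c = (N n (k : K)) ^ 3 := by rw [hc, N_def, N_def, bar_pow]; ring
    rw [this, hk, one_pow]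
  have hcf : bar n c ≠ c := by
    intro h1
    apply hk3
    rw [N_def, h1] at hcN
    have h2 : (c + 1) * (c + 1) = 0 := by
      have : (c + 1) * (c + 1) = c * c + (c + c) + 1 := by ring
      rw [this, hcN, add_self, add_zero, add_self]
    have h3 := mul_self_eq_zero.mp h2
    exact Field.add_eq_zero.mp h3
  have hT : Tr n c ≠ 0 := fun h1 => hcf (fixed_of_Tr h1)
  have hfix : ∀ b : K, bar n b = b → ∀ m ∈ M, b * m ∈ M := by
    intro b hb m hm
    by_cases hb0 : b = 0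
    · rw [hb0, zero_mul]; exact M.zero_mem
    · have h1 := hM (Units.mk0 b hb0) m hm
      rw [w_of_fixed (show bar n ((Units.mk0 b hb0 : Kˣ) : K) = (Units.mk0 b hb0 : Kˣ) from hb)]
        at h1
      exact h1
  have hcm : ∀ m ∈ M, c * m ∈ M := by
    intro m hm
    have h1 := hM k m hm
    rw [w_of_norm_one hk] at h1
    exact h1
  -- `x = (α + β c) m`
  set y := x * m⁻¹ with hy
  set β := Tr n y * (Tr n c)⁻¹ with hβ
  have hβf : bar n β = β := fixed_mul (fixed_Tr h _) (fixed_inv (fixed_Tr h _))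
  set α := y + β * c with hα
  have hαf : bar n α = α := by
    apply fixed_of_Tr
    rw [hα, Tr_add, Tr_mul_fixed hβf, hβ, mul_assoc, inv_mul_cancel₀ hT, mul_one, add_self]
  have hx : x = α * m + β * (c * m) := by
    have h1 : y = α + β * c := by rw [hα, add_assoc, add_self, add_zero]
    have h2 : x = y * m := by rw [hy, mul_assoc, inv_mul_cancel₀ hm0, mul_one]
    rw [h2, h1]; ring
  rw [hx]
  exact M.add_mem (hfix _ hαf _ hm) (hfix _ hβf _ (hcm _ hm))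

/-- the same for `F_q`. -/
theorem mem_of_closed' (h : Qd K n) (M : AddSubgroup K)
    (hM : ∀ l : Kˣ, ∀ m ∈ M, N n (l : K) * m ∈ M) {m : K} (hm : m ∈ M) (hmf : bar n m = m)
    (hm0 : m ≠ 0) {x : K} (hx : bar n x = x) : x ∈ M := by
  obtain ⟨y, hy⟩ := exists_norm h (fixed_mul hx (fixed_inv hmf))
  by_cases hy0 : y = 0
  · rw [hy0, N_zero] at hy
    have : x = 0 := (mul_eq_zero.mp hy.symm).resolve_right (inv_ne_zero hm0)
    rw [this]; exact M.zero_mem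
  · have h1 := hM (Units.mk0 y hy0) m hm
    have h2 : N n ((Units.mk0 y hy0 : Kˣ) : K) = x * m⁻¹ := hy
    rw [h2, mul_assoc, inv_mul_cancel₀ hm0, mul_one] at h1
    exact h1

end field

variable {G : Type*} [Group G] {K : Type*} [Field K] [Fintype K] [CharP K 2] {n : ℕ}
variable (D : Pre G K n)

/-! ### The maps `A s` -/

theorem A_mul {s r : G} (hs : Norm D s) (hr : Norm D r) (b : K) :
    A D (s * r) b = A D s (A D r b) := by
  obtain ⟨x, hx, rfl⟩ := D.ca_surj b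
  rw [← A_P D (Norm.mul D hs hr) hx, ← A_P D hr hx, ← A_spec D hs (conj_V D hr (P_le_V D hx))]
  congr 1
  group

theorem A_of_mem {s : G} (hs : s ∈ D.Q) (b : K) : A D s b = b := by
  obtain ⟨x, hx, rfl⟩ := D.ca_surj b
  have hxQ := D.P_le hx
  rw [← A_P D (Norm.of_mem D hs) hx, a_mul D (mul_mem hs hxQ) (inv_mem hs), a_mul D hs hxQ,
    a_inv D hs, a_P D hx, add_comm (a D s), add_assoc, add_self, add_zero]

theorem A_one (b : K) : A D 1 b = b := A_of_mem D D.Q.one_mem b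

theorem A_inv_left {s : G} (hs : Norm D s) (b : K) : A D s⁻¹ (A D s b) = b := by
  rw [← A_mul D (Norm.inv D hs) hs, inv_mul_cancel, A_one]

theorem A_inv_right {s : G} (hs : Norm D s) (b : K) : A D s (A D s⁻¹ b) = b := by
  rw [← A_mul D hs (Norm.inv D hs), mul_inv_cancel, A_one]

theorem A_h [Finite G] (l : Kˣ) (b : K) : A D (D.h l) b = w n l * b := by
  obtain ⟨x, hx, rfl⟩ := D.ca_surj b
  rw [← A_P D (norm_h D l) hx, a_h D l (D.P_le hx), a_P D hx]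

/-- the normalizer of `Q`. -/
def NQ : Subgroup G where
  carrier := {s | Norm D s}
  mul_mem' := fun ha hb => Norm.mul D ha hb
  one_mem' := Norm.one D
  inv_mem' := fun ha => Norm.inv D ha

theorem mem_NQ {s : G} : s ∈ NQ D ↔ Norm D s := Iff.rfl

/-- the kernel of the action on `V / W`. -/
def N2 : Subgroup G where
  carrier := {s | Norm D s ∧ ∀ b, A D s b = b}
  mul_mem' := fun {s r} hs hr => ⟨Norm.mul D hs.1 hr.1, fun b => by
    rw [A_mul D hs.1 hr.1, hr.2, hs.2]⟩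
  one_mem' := ⟨Norm.one D, A_one D⟩
  inv_mem' := fun {s} hs => ⟨Norm.inv D hs.1, fun b => by
    have h1 := A_inv_left D hs.1 b
    rwa [hs.2] at h1⟩

theorem mem_N2 {s : G} : s ∈ N2 D ↔ Norm D s ∧ ∀ b, A D s b = b := Iff.rfl

theorem N2_le : N2 D ≤ NQ D := fun _ h => h.1

theorem Q_le_N2 : D.Q ≤ N2 D := fun _ hg => ⟨Norm.of_mem D hg, A_of_mem D hg⟩

theorem Q_le_NQ : D.Q ≤ NQ D := fun _ hg => Norm.of_mem D hg

theorem N2_conj {s r : G} (hs : Norm D s) (hr : r ∈ N2 D) : s * r * s⁻¹ ∈ N2 D := by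
  refine ⟨Norm.mul D (Norm.mul D hs hr.1) (Norm.inv D hs), fun b => ?_⟩
  rw [A_mul D (Norm.mul D hs hr.1) (Norm.inv D hs), A_mul D hs hr.1, hr.2, A_inv_right D hs]

/-- elements of `N2` act trivially on `Z`. -/
theorem th_N2 {s : G} (hs : s ∈ N2 D) {b : K} (hb : bar n b = b) : th D s b = b := by
  obtain ⟨x, rfl⟩ := exists_norm D.hq hb
  rw [← N_A D hs.1, hs.2]

theorem N2_z {s : G} (hs : s ∈ N2 D) (b : K) : s * D.z b = D.z b * s := by
  obtain ⟨c, hc, h⟩ := z_fixed D b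
  rw [h]
  have h1 := th_conj D hs.1 c
  rw [th_N2 D hs hc] at h1
  exact mul_inv_eq_iff_eq_mul.mp h1

/-- elements of `Q` in the same class modulo `Z`. -/
theorem exists_z_mul {g k : G} (hg : g ∈ D.Q) (hk : k ∈ D.Q) (ha : a D g = a D k)
    (hu : u D g = u D k) (he : e D g = e D k) : ∃ b, bar n b = b ∧ g = D.z b * k := by
  obtain ⟨b, hb, h⟩ := ker_eq D (mul_mem hg (inv_mem hk))
    (by rw [a_mul D hg (inv_mem hk), a_inv D hk, ha, add_self])
    (by rw [u_mul D hg (inv_mem hk), u_inv D hk, hu, add_self])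
    (by rw [e_mul D hg (inv_mem hk), e_inv D hk, he, add_self])
  exact ⟨b, hb, mul_inv_eq_iff_eq_mul.mp h⟩

/-- `s` normalizes `t Z`. -/
def Fx (s : G) : Prop := a D (s * D.t * s⁻¹) = 0 ∧ u D (s * D.t * s⁻¹) = 0

theorem Fx_iff {s : G} (hs : Norm D s) :
    Fx D s ↔ ∃ b, bar n b = b ∧ s * D.t * s⁻¹ = D.z b * D.t := by
  constructor
  · rintro ⟨h1, h2⟩
    exact exists_z_mul D (hs.fwd _ D.Q_t) D.Q_t (by rw [h1, a_t]) (by rw [h2, u_t])
      (by rw [e_conj D hs])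
  · rintro ⟨b, -, h⟩
    refine ⟨?_, ?_⟩
    · rw [h, a_mul D (z_mem_Q D b) D.Q_t, a_z, a_t, add_zero]
    · rw [h, u_mul D (z_mem_Q D b) D.Q_t, u_z, u_t, add_zero]

theorem Fx_iff' {s : G} (hs : Norm D s) :
    Fx D s ↔ ∃ g ∈ D.Q, (g⁻¹ * s) * D.t = D.t * (g⁻¹ * s) := by
  rw [Fx_iff D hs]
  constructor
  · rintro ⟨b, hb, h⟩
    obtain ⟨g, hg, hgb⟩ := D.Q_surj b hb
    refine ⟨g, hg, ?_⟩
    have h2 : s * D.t * s⁻¹ = g * D.t * g⁻¹ := by rw [h, hgb]
    have h3 : s * D.t = g * D.t * g⁻¹ * s := by rw [← h2]; group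
    rw [mul_assoc, h3]; group
  · rintro ⟨g, hg, h1⟩
    refine ⟨u D g, u_fixed D hg, ?_⟩
    have h2 : s * D.t * s⁻¹ = g * ((g⁻¹ * s) * D.t) * s⁻¹ := by group
    have h3 : s * D.t * s⁻¹ = g * D.t * g⁻¹ := by rw [h2, h1]; group
    rw [h3, u_conj D hg]

theorem conj_sub (s r g : G) : (s * r) * g * (s * r)⁻¹ = s * (r * g * r⁻¹) * s⁻¹ := by group

theorem Fx_mul {s r : G} (hs : Norm D s) (hr : Norm D r) (h1 : Fx D s) (h2 : Fx D r) :
    Fx D (s * r) := by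
  rw [Fx_iff D (Norm.mul D hs hr)]
  obtain ⟨b, hb, hs1⟩ := (Fx_iff D hs).mp h1
  obtain ⟨c, hc, hr1⟩ := (Fx_iff D hr).mp h2
  refine ⟨th D s c + b, fixed_add (th_fixed D hs c) hb, ?_⟩
  rw [conj_sub, hr1, NormQ.conj_mul, hs1, th_conj D hs, D.z_add]; group

/-- a class fixed by the torus is the class of `t`. -/
theorem Fx_of_h [Finite G] {s : G} (hs : Norm D s)
    (h : a D (D.h (l1 D) * (s * D.t * s⁻¹) * (D.h (l1 D))⁻¹) = a D (s * D.t * s⁻¹) ∧
      u D (D.h (l1 D) * (s * D.t * s⁻¹) * (D.h (l1 D))⁻¹) = u D (s * D.t * s⁻¹)) : Fx D s := by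
  have hQ := hs.fwd _ D.Q_t
  rw [a_h D _ hQ, u_h D _ hQ, w_of_fixed (l1_fixed D)] at h
  refine ⟨?_, ?_⟩
  · have h1 : ((l1 D : K) + 1) * a D (s * D.t * s⁻¹) = 0 := by
      rw [add_mul, one_mul, h.1, add_self]
    exact (mul_eq_zero.mp h1).resolve_left fun h2 => l1_ne D (Field.add_eq_zero.mp h2)
  · have h1 : (N n (l1 D : K) + 1) * u D (s * D.t * s⁻¹) = 0 := by
      rw [add_mul, one_mul, h.2, add_self]
    exact (mul_eq_zero.mp h1).resolve_left (N_l1 D)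

/-- **The principle**: if `N2` normalizes `t Z`, then so does `N(Q)`. -/
theorem all_fix [Finite G] (H : ∀ r ∈ N2 D, Fx D r) {s : G} (hs : Norm D s) : Fx D s := by
  -- step 1: `N2` fixes all classes of conjugates of `t`
  have H1 : ∀ r ∈ N2 D, ∀ s, Norm D s →
      ∃ b, bar n b = b ∧ r * (s * D.t * s⁻¹) * r⁻¹ = D.z b * (s * D.t * s⁻¹) := by
    intro r hr s hs
    have h1 : s⁻¹ * r * s ∈ N2 D := by
      have := N2_conj D (Norm.inv D hs) hr
      rwa [inv_inv] at this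
    obtain ⟨b, hb, h2⟩ := (Fx_iff D h1.1).mp (H _ h1)
    refine ⟨th D s b, th_fixed D hs b, ?_⟩
    have h3 : r * (s * D.t * s⁻¹) * r⁻¹ = s * (s⁻¹ * r * s * D.t * (s⁻¹ * r * s)⁻¹) * s⁻¹ := by
      group
    rw [h3, h2, NormQ.conj_mul, th_conj D hs]
  -- step 2: elements acting as scalars
  have H2 : ∀ s, Norm D s → (∃ c, ∀ b, A D s b = c * b) → Fx D s := by
    rintro s hs ⟨c, hc⟩
    have hd := norm_h D (l1 D)
    set d := D.h (l1 D) with hdd
    have hcomm : s * d * s⁻¹ * d⁻¹ ∈ N2 D := by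
      refine ⟨Norm.mul D (Norm.mul D (Norm.mul D hs hd) (Norm.inv D hs)) (Norm.inv D hd),
        fun b => ?_⟩
      rw [A_mul D (Norm.mul D (Norm.mul D hs hd) (Norm.inv D hs)) (Norm.inv D hd),
        A_mul D (Norm.mul D hs hd) (Norm.inv D hs), A_mul D hs hd]
      have e1 : ∀ b, A D s (A D d b) = A D d (A D s b) := by
        intro b
        rw [hdd, A_h, hc, hc, A_h]; ring
      rw [e1, A_inv_right D hs, A_inv_right D hd]
    obtain ⟨b, hb, h1⟩ := H1 _ hcomm (d * s) (Norm.mul D hd hs)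
    have h2 : s * d * s⁻¹ * d⁻¹ * (d * s * D.t * (d * s)⁻¹) * (s * d * s⁻¹ * d⁻¹)⁻¹ =
        s * (d * D.t * d⁻¹) * s⁻¹ := by group
    have h3 : d * D.t * d⁻¹ = D.t := by rw [hdd, ← D.t_h]; group
    rw [h2, h3, conj_sub] at h1
    have hQ := hd.fwd _ (hs.fwd _ D.Q_t)
    apply Fx_of_h D hs
    rw [← hdd]
    refine ⟨?_, ?_⟩
    · conv_rhs => rw [h1, a_mul D (z_mem_Q D b) hQ, a_z, zero_add]
    · conv_rhs => rw [h1, u_mul D (z_mem_Q D b) hQ, u_z, zero_add]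
  -- step 3: arbitrary elements
  have hd := norm_h D (l1 D)
  set d := D.h (l1 D) with hdd
  obtain ⟨c, hc, σ, hA, -⟩ := exists_semilin D hs
  have hn : Norm D (s⁻¹ * d * s) := Norm.mul D (Norm.mul D (Norm.inv D hs) hd) hs
  have h1 : Fx D (s⁻¹ * d * s) := by
    apply H2 _ hn
    refine ⟨σ.symm (w n (l1 D)), fun b => ?_⟩
    rw [A_mul D (Norm.mul D (Norm.inv D hs) hd) hs, A_mul D (Norm.inv D hs) hd, hdd, A_h]
    have e1 : w n (l1 D) * A D s b = A D s (σ.symm (w n (l1 D)) * b) := by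
      rw [hA, hA, map_mul, RingEquiv.apply_symm_apply]; ring
    rw [e1, A_inv_left D hs]
  obtain ⟨b, hb, h2⟩ := (Fx_iff D hn).mp h1
  have hQ := hs.fwd _ D.Q_t
  have h3 : d * (s * D.t * s⁻¹) * d⁻¹ = D.z (th D s b) * (s * D.t * s⁻¹) := by
    have e1 : d * (s * D.t * s⁻¹) * d⁻¹ = s * (s⁻¹ * d * s * D.t * (s⁻¹ * d * s)⁻¹) * s⁻¹ := by
      group
    rw [e1, h2, NormQ.conj_mul, th_conj D hs]
  apply Fx_of_h D hs
  rw [← hdd]
  refine ⟨?_, ?_⟩
  · rw [h3, a_mul D (z_mem_Q D _) hQ, a_z, zero_add]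
  · rw [h3, u_mul D (z_mem_Q D _) hQ, u_z, zero_add]

/-! ### Transitivity of `N2` -/

theorem a_t_mul {s r : G} (hs : s ∈ N2 D) (hr : Norm D r) :
    a D (s * r * D.t * (s * r)⁻¹) = a D (r * D.t * r⁻¹) + a D (s * D.t * s⁻¹) := by
  rw [conj_sub, a_conj D hs.1 (hr.fwd _ D.Q_t), hs.2, e_conj D hr, e_t, one_mul]

theorem u_t_mul {s r : G} (hs : s ∈ N2 D) (hr : Norm D r) (h : a D (r * D.t * r⁻¹) = 0) :
    u D (s * r * D.t * (s * r)⁻¹) = u D (r * D.t * r⁻¹) + u D (s * D.t * s⁻¹) := by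
  have hQ := hr.fwd _ D.Q_t
  rw [conj_sub, u_conj' D hs.1 hQ, th_N2 D hs (u_fixed D hQ), h, e_conj D hr, e_t, one_mul]
  have h1 : psi D s 0 = 0 := by
    have := psi_add D hs.1 0 0
    rw [add_zero, add_self] at this
    exact this
  rw [h1, add_zero]

theorem t_conj_h [Finite G] (l : Kˣ) (s : G) : (D.h l * s * (D.h l)⁻¹) * D.t *
    (D.h l * s * (D.h l)⁻¹)⁻¹ = D.h l * (s * D.t * s⁻¹) * (D.h l)⁻¹ := by
  have h1 : (D.h l)⁻¹ * D.t * D.h l = D.t := by rw [mul_assoc, D.t_h]; group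
  have h2 : (D.h l * s * (D.h l)⁻¹) * D.t * (D.h l * s * (D.h l)⁻¹)⁻¹ =
    D.h l * (s * ((D.h l)⁻¹ * D.t * D.h l) * s⁻¹) * (D.h l)⁻¹ := by group
  rw [h2, h1]

theorem trans_zero [Finite G] {r : G} (hr : r ∈ N2 D) (h : a D (r * D.t * r⁻¹) ≠ 0) (c : K) :
    ∃ s ∈ N2 D, a D (s * D.t * s⁻¹) = c := by
  let M : AddSubgroup K :=
    { carrier := {c | ∃ s ∈ N2 D, a D (s * D.t * s⁻¹) = c}
      zero_mem' := ⟨1, one_mem _, by rw [one_mul, inv_one, mul_one, a_t]⟩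
      add_mem' := by
        rintro x y ⟨s, hs, rfl⟩ ⟨r, hr, rfl⟩
        exact ⟨r * s, mul_mem hr hs, a_t_mul D hr hs.1⟩
      neg_mem' := by
        rintro x ⟨s, hs, rfl⟩
        exact ⟨s, hs, (CharTwo.neg_eq _).symm⟩ }
  have hM : ∀ l : Kˣ, ∀ m ∈ M, w n l * m ∈ M := by
    rintro l m ⟨s, hs, rfl⟩
    refine ⟨_, N2_conj D (norm_h D l) hs, ?_⟩
    rw [t_conj_h D, a_h D l (hs.1.fwd _ D.Q_t)]
  exact mem_of_closed D.hq M hM ⟨r, hr, rfl⟩ h c

theorem trans_one [Finite G] (hg : gam D ≠ 0) {r : G} (hr : r ∈ N2 D)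
    (h : u D (r * D.t * r⁻¹) ≠ 0) {c : K} (hc : bar n c = c) :
    ∃ s ∈ N2 D, u D (s * D.t * s⁻¹) = c := by
  let M : AddSubgroup K :=
    { carrier := {c | ∃ s ∈ N2 D, u D (s * D.t * s⁻¹) = c}
      zero_mem' := ⟨1, one_mem _, by rw [one_mul, inv_one, mul_one, u_t]⟩
      add_mem' := by
        rintro x y ⟨s, hs, rfl⟩ ⟨r, hr, rfl⟩
        exact ⟨r * s, mul_mem hr hs, u_t_mul D hr hs.1 (a_t_of_gam D hs.1 hg)⟩
      neg_mem' := by
        rintro x ⟨s, hs, rfl⟩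
        exact ⟨s, hs, (CharTwo.neg_eq _).symm⟩ }
  have hM : ∀ l : Kˣ, ∀ m ∈ M, N n (l : K) * m ∈ M := by
    rintro l m ⟨s, hs, rfl⟩
    refine ⟨_, N2_conj D (norm_h D l) hs, ?_⟩
    rw [t_conj_h D, u_h D l (hs.1.fwd _ D.Q_t)]
  exact mem_of_closed' D.hq M hM ⟨r, hr, rfl⟩ (u_fixed D (hr.1.fwd _ D.Q_t)) h hc

end Cfsg.Agent.StdU3.Kernel
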