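import Mathlib
import Cfsg.Agent.StdU3.Base
import Cfsg.Agent.StdSz.CoverA

/-!
# The 2-part of the Schur multiplier of `PSU₃(q)`, `q ≥ 4` even, is trivial
-/

set_option autoImplicit false
set_option linter.unusedSectionVars false
set_option linter.dupNamespace false

namespace Cfsg.Agent.StdU3.Cover

open Subgroup Cfsg.Agent.LieRecognition.HermHeis Cfsg.Agent.StdU3.URel Cfsg.Agent.StdU3.Semi
  Cfsg.Agent.StdU3.Field
open scoped commutatorElement

section Comm

variable {X : Type*} [Group X]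

theorem cl_of {x y z : X} (h : ⁅y, z⁆ * x = x * ⁅y, z⁆) : ⁅x * y, z⁆ = ⁅y, z⁆ * ⁅x, z⁆ := by
  have h1 : ⁅x * y, z⁆ = (x * ⁅y, z⁆) * x⁻¹ * ⁅x, z⁆ := by
    simp only [commutatorElement_def]; group
  rw [h1, ← h, mul_inv_cancel_right]

theorem cr_of {x y z : X} (h : ⁅x, z⁆ * y = y * ⁅x, z⁆) : ⁅x, y * z⁆ = ⁅x, y⁆ * ⁅x, z⁆ := by
  have h1 : ⁅x, y * z⁆ = ⁅x, y⁆ * ((y * ⁅x, z⁆) * y⁻¹) := by
    simp only [commutatorElement_def]; group
  rw [h1, ← h, mul_inv_cancel_right]

theorem conj_comm (g x y : X) : g * ⁅x, y⁆ * g⁻¹ = ⁅g * x * g⁻¹, g * y * g⁻¹⁆ := by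
  simp only [commutatorElement_def]; group

theorem comm_one_iff {x y : X} : ⁅x, y⁆ = 1 ↔ x * y = y * x := commutatorElement_eq_one_iff_mul_comm

end Comm

variable {F : Type*} [Field F] [Fintype F] [CharP F 2] {σ : F →+* F}
  [hσ : Fact (∀ x, σ (σ x) = x)] {n : ℕ}

/-- two torus weights `w`, `w + 1` with `w² + w + 1 ≠ 0` -/
theorem exists_wt (hS : Sg σ n) : ∃ l m : Fˣ, wt σ l + 1 = wt σ m ∧ wt σ l + (wt σ l)⁻¹ + 1 ≠ 0 := by
  classical
  have hq := hS.hq
  -- few bad elements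
  let p : Polynomial F := Polynomial.X * (Polynomial.X + 1) * (Polynomial.X ^ 2 + Polynomial.X + 1)
  have hp : p ≠ 0 := by
    have h1 : (Polynomial.X + 1 : Polynomial F) ≠ 0 := by
      have := Polynomial.X_add_C_ne_zero (1 : F)
      rwa [Polynomial.C_1] at this
    have h2 : (Polynomial.X ^ 2 + Polynomial.X + 1 : Polynomial F) ≠ 0 := by
      intro h
      have h3 := congrArg (Polynomial.eval 0) h
      simp at h3
    exact mul_ne_zero (mul_ne_zero Polynomial.X_ne_zero h1) h2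
  have hdeg : p.natDegree ≤ 4 := by
    have h1 : (Polynomial.X + 1 : Polynomial F).natDegree ≤ 1 := by compute_degree
    have h2 : (Polynomial.X ^ 2 + Polynomial.X + 1 : Polynomial F).natDegree ≤ 2 := by
      compute_degree
    have h3 : (Polynomial.X : Polynomial F).natDegree ≤ 1 := Polynomial.natDegree_X_le
    calc p.natDegree ≤ (Polynomial.X * (Polynomial.X + 1) : Polynomial F).natDegree +
          (Polynomial.X ^ 2 + Polynomial.X + 1 : Polynomial F).natDegree :=
          Polynomial.natDegree_mul_le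
      _ ≤ (1 + 1) + 2 := by
          refine Nat.add_le_add (Polynomial.natDegree_mul_le.trans (Nat.add_le_add h3 h1)) h2
      _ = 4 := by norm_num
  have hroots : p.roots.toFinset.card ≤ 4 :=
    (Multiset.toFinset_card_le _).trans ((Polynomial.card_roots' p).trans hdeg)
  have good : ∀ w : F, w ∉ p.roots.toFinset → w ≠ 0 ∧ w + 1 ≠ 0 ∧ w + w⁻¹ + 1 ≠ 0 := by
    intro w hw
    rw [Multiset.mem_toFinset, Polynomial.mem_roots hp, Polynomial.IsRoot.def] at hw
    simp only [p, Polynomial.eval_mul, Polynomial.eval_add, Polynomial.eval_pow,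
      Polynomial.eval_X, Polynomial.eval_one] at hw
    have h0 : w ≠ 0 := by rintro rfl; simp at hw
    have h1 : w + 1 ≠ 0 := by intro h; rw [h] at hw; simp at hw
    refine ⟨h0, h1, ?_⟩
    intro h
    apply hw
    have h2 : w ^ 2 + w + 1 = w * (w + w⁻¹ + 1) := by field_simp; ring
    rw [h2, h]; ring
  by_cases hn : n = 2
  · -- `F` of order 16
    subst hn
    have hcard : Fintype.card F = 16 := by rw [hq.hK]; norm_num
    have hex : ∃ w : F, w ∉ p.roots.toFinset := by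
      by_contra hcon
      push Not at hcon
      have h1 : Fintype.card F ≤ p.roots.toFinset.card := by
        rw [← Finset.card_univ]
        exact Finset.card_le_card (fun x _ => hcon x)
      omega
    obtain ⟨w, hw⟩ := hex
    obtain ⟨h0, h1, h2⟩ := good w hw
    have hwt : ∀ v : F, (hv : v ≠ 0) → wt σ ((Units.mk0 v hv) ^ 7) = v := by
      intro v hv
      have h15 : v ^ 15 = 1 := by
        have := FiniteField.pow_card_sub_one_eq_one v hv
        rwa [hcard] at this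
      unfold wt
      rw [Units.val_pow_eq_pow_val, Units.val_mk0, map_pow, hS.eq, bar_def]
      have h3 : ((v ^ 2 ^ 2) ^ 7 : F) ≠ 0 := pow_ne_zero _ (pow_ne_zero _ hv)
      rw [mul_inv_eq_iff_eq_mul₀ h3]
      have e1 : ((v ^ 7) ^ 2 : F) = v ^ 14 := by rw [← pow_mul]
      have e2 : (v * (v ^ 2 ^ 2) ^ 7 : F) = v ^ 14 * v ^ 15 := by
        rw [← pow_mul, ← pow_add]; ring
      rw [e1, e2, h15, mul_one]
    exact ⟨(Units.mk0 w h0) ^ 7, (Units.mk0 (w + 1) h1) ^ 7, by rw [hwt, hwt], by rwa [hwt]⟩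
  · have hn3 : 3 ≤ n := by have := hq.hn; omega
    have h8 : 8 ≤ 2 ^ n := by
      calc 8 = 2 ^ 3 := by norm_num
        _ ≤ 2 ^ n := Nat.pow_le_pow_right (by norm_num) hn3
    have hcard : Nat.card {b : F // σ b = b} = 2 ^ n :=
      (card_fixed (σ := σ) (by omega) hS.eq
        (by rw [Nat.card_eq_fintype_card, hS.hq.hK])).1
    have hex : ∃ w : F, σ w = w ∧ w ∉ p.roots.toFinset := by
      by_contra hcon
      push Not at hcon
      have h1 : Nat.card {b : F // σ b = b} ≤ Nat.card {x // x ∈ p.roots.toFinset} :=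
        Nat.card_le_card_of_injective (fun b => ⟨b.1, hcon b.1 b.2⟩)
          (fun b c h => Subtype.ext (Subtype.mk.inj h))
      rw [hcard, Nat.card_eq_fintype_card, Fintype.card_coe] at h1
      omega
    obtain ⟨w, hw, hw'⟩ := hex
    obtain ⟨h0, h1, h2⟩ := good w hw'
    have e1 : wt σ (Units.mk0 w h0) = w := wt_of_fixed σ (by exact hw)
    have e2 : wt σ (Units.mk0 (w + 1) h1) = w + 1 :=
      wt_of_fixed σ (by rw [Units.val_mk0, map_add, hw, map_one])
    exact ⟨Units.mk0 w h0, Units.mk0 (w + 1) h1, by rw [e1, e2], by rwa [e1]⟩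

variable {J : Type*} [Group J] (R : URel.URel J σ) {X : Type*} [Group X] (π : X →* J)

/-- central extension by an elementary abelian 2-group -/
structure Cov : Prop where
  surj : Function.Surjective π
  cen : ∀ v, π v = 1 → ∀ x, v * x = x * v
  sq : ∀ v, π v = 1 → v * v = 1

variable {R π}

namespace Cov

variable (K : Cov π)
include K

theorem comm_ker {v : X} (h : π v = 1) (x : X) : ⁅v, x⁆ = 1 := comm_one_iff.mpr (K.cen v h x)

theorem comm_ker' {v : X} (h : π v = 1) (x : X) : ⁅x, v⁆ = 1 := comm_one_iff.mpr (K.cen v h x).symm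

/-- commutators depend only on the images. -/
theorem comm_eq {x x' y y' : X} (hx : π x = π x') (hy : π y = π y') : ⁅x, y⁆ = ⁅x', y'⁆ := by
  have h1 : π (x'⁻¹ * x) = 1 := by rw [map_mul, map_inv, hx, inv_mul_cancel]
  have h2 : π (y'⁻¹ * y) = 1 := by rw [map_mul, map_inv, hy, inv_mul_cancel]
  have e1 : x = x' * (x'⁻¹ * x) := by group
  have e2 : y = y' * (y'⁻¹ * y) := by group
  rw [e1, cl_of (by rw [K.comm_ker h1, one_mul, mul_one]), K.comm_ker h1, one_mul, e2,
    cr_of (by rw [K.comm_ker' h2, one_mul, mul_one]), K.comm_ker' h2, mul_one]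

theorem conj_ker {v : X} (h : π v = 1) (g : X) : g * v * g⁻¹ = v := by
  rw [← K.cen v h, mul_inv_cancel_right]

omit K in
theorem map_comm (x y : X) : π ⁅x, y⁆ = ⁅π x, π y⁆ := map_commutatorElement π x y

omit K in
theorem comm_u {z y : Heis σ} (hz : z.a = 0) : ⁅R.u z, R.u y⁆ = 1 := by
  rw [comm_one_iff, ← map_mul, ← map_mul, comm_of_a_eq_zero hz]

omit K in
theorem ker_comm {e x : X} {z y : Heis σ} (hz : z.a = 0) (he : π e = R.u z) (hx : π x = R.u y) :
    π ⁅e, x⁆ = 1 := by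
  rw [map_comm, he, hx, comm_u hz]

theorem comm_sq {e x : X} {z y : Heis σ} (hz : z.a = 0) (he : π e = R.u z) (hx : π x = R.u y) :
    ⁅e, x * x⁆ = 1 := by
  have h1 : π ⁅e, x⁆ = 1 := ker_comm hz he hx
  rw [cr_of (K.cen _ h1 x), K.sq _ h1]

theorem comm_e (hS : Sg σ n) {e e' : X} {z z' : Heis σ} (hz : z.a = 0) (hz' : z'.a = 0)
    (he : π e = R.u z) (he' : π e' = R.u z') : e * e' = e' * e := by
  obtain ⟨y, rfl⟩ := exists_sq hS hz'
  obtain ⟨x, hx⟩ := K.surj (R.u y)
  rw [← comm_one_iff, K.comm_eq (x' := e) rfl (show π e' = π (x * x) by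
    rw [he', map_mul, map_mul, hx])]
  exact K.comm_sq hz he hx

omit K in
theorem conj_image {g x : X} {l : Fˣ} {y : Heis σ} (hg : π g = R.d l) (hx : π x = R.u y) :
    π (g * x * g⁻¹) = R.u (act l y) := by
  rw [map_mul, map_mul, map_inv, hg, hx, R.u_act]

/-- the centre of the unipotent group lifts to the centre -/
theorem comm_z (hS : Sg σ n) {e x : X} {z y : Heis σ} (hz : z.a = 0) (he : π e = R.u z)
    (hx : π x = R.u y) : e * x = x * e := by
  obtain ⟨l, hl1, hl2⟩ := (fieldOK hS).norm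
  have hl3 : wt σ l + 1 ≠ 0 := by
    intro h
    apply hl2
    have := CharTwo.add_self_eq_zero (1 : F)
    linear_combination h - this
  obtain ⟨y', hy'⟩ := exists_a hS (y.a / (wt σ l + 1))
  obtain ⟨g, hg⟩ := K.surj (R.d l)
  obtain ⟨x', hx'⟩ := K.surj (R.u y')
  set c : Heis σ := (act l y' * y'⁻¹)⁻¹ * y with hc
  have hca : c.a = 0 := by
    rw [hc, mul_a, inv_a, mul_a, inv_a]
    show wt σ l * y'.a + y'.a + y.a = 0
    rw [hy']
    have h1 := CharTwo.add_self_eq_zero y.a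
    have h2 : (wt σ l + 1) * (y.a / (wt σ l + 1)) = y.a := mul_div_cancel₀ _ hl3
    linear_combination h1 + h2
  obtain ⟨e0, he0⟩ := K.surj (R.u c)
  have hg1 : π (g * x' * g⁻¹) = R.u (act l y') := conj_image hg hx'
  have hx1 : π x'⁻¹ = R.u y'⁻¹ := by rw [map_inv, hx', map_inv]
  have h1 : π x = π ((g * x' * g⁻¹) * x'⁻¹ * e0) := by
    rw [map_mul, map_mul, hg1, hx1, he0, ← map_mul, ← map_mul, hx, hc, mul_inv_cancel_left]
  have h2 : ⁅e, e0⁆ = 1 := comm_one_iff.mpr (K.comm_e hS hz hca he he0)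
  have h3 : π ⁅e, x'⁻¹⁆ = 1 := ker_comm hz he hx1
  have h4 : π ⁅e, x'⁆ = 1 := ker_comm hz he hx'
  have h5 : ⁅e, g * x' * g⁻¹⁆ = ⁅e, x'⁆ := by
    have e1 : g * ⁅g⁻¹ * e * g, x'⁆ * g⁻¹ = ⁅e, g * x' * g⁻¹⁆ := by
      rw [conj_comm]; congr 1; group
    have hg' : π g⁻¹ = R.d l⁻¹ := by rw [map_inv, hg, map_inv]
    have e2 : π (g⁻¹ * e * g) = π e := by
      have := conj_image hg' he
      rw [inv_inv] at this
      rw [this, he]
      congr 1
      refine ext_z ?_ hz ?_
      · rw [act_a, hz, mul_zero]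
      · rw [act_b]
        have h6 : nm σ l⁻¹ = 1 := by
          have := nm_mul σ l l⁻¹
          rw [mul_inv_cancel, nm_one, hl1, one_mul] at this
          exact this.symm
        rw [h6, one_mul]
    rw [← e1, K.comm_eq e2 rfl, K.conj_ker h4]
  have h6 : ⁅e, x'⁻¹⁆ * ⁅e, x'⁆ = 1 := by
    rw [← cr_of (K.cen _ h4 _), inv_mul_cancel, commutatorElement_one_right]
  rw [← comm_one_iff, K.comm_eq (x' := e) rfl h1, cr_of (by rw [h2, one_mul, mul_one]), h2, mul_one,
    cr_of (K.cen _ h3 _), h5]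
  have h7 : ⁅e, x'⁆ * ⁅e, x'⁻¹⁆ = ⁅e, x'⁻¹⁆ * ⁅e, x'⁆ := K.cen _ h4 _
  rw [h7, h6]

theorem sq_eq_of_image {e e' : X} {z : Heis σ} (he : π e = R.u z)
    (he' : π e' = R.u z) : e * e = e' * e' := by
  have h1 : π (e'⁻¹ * e) = 1 := by rw [map_mul, map_inv, he, he', inv_mul_cancel]
  have e1 : e = e' * (e'⁻¹ * e) := by group
  calc e * e = (e' * (e'⁻¹ * e)) * (e' * (e'⁻¹ * e)) := by rw [← e1]
    _ = e' * ((e'⁻¹ * e) * e') * (e'⁻¹ * e) := by group
    _ = e' * (e' * (e'⁻¹ * e)) * (e'⁻¹ * e) := by rw [K.cen _ h1]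
    _ = e' * e' * ((e'⁻¹ * e) * (e'⁻¹ * e)) := by group
    _ = e' * e' := by rw [K.sq _ h1, mul_one]

omit K in
theorem ker_sq {e : X} {z : Heis σ} (hz : z.a = 0) (he : π e = R.u z) : π (e * e) = 1 := by
  rw [map_mul, he, ← map_mul, (Cfsg.Agent.LieRecognition.HermHeis.mul_self_eq_one_iff z).mpr hz,
    map_one]

/-- the squares of all lifts of nontrivial central elements agree -/
theorem sq_eq (hS : Sg σ n) {e e' : X} {z z' : Heis σ} (hz : z.a = 0) (hz' : z'.a = 0)
    (hzb : z.b ≠ 0) (hzb' : z'.b ≠ 0) (he : π e = R.u z) (he' : π e' = R.u z') :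
    e * e = e' * e' := by
  obtain ⟨a, ha⟩ := (fieldOK hS).surj (z'.b / z.b) (by
    rw [map_div₀, b_fixed_of_a_eq_zero hz, b_fixed_of_a_eq_zero hz'])
  have ha0 : a ≠ 0 := by
    rintro rfl
    rw [zero_mul] at ha
    rcases div_eq_zero_iff.mp ha.symm with h | h
    · exact hzb' h
    · exact hzb h
  obtain ⟨g, hg⟩ := K.surj (R.d (Units.mk0 a ha0))
  have h1 : π (g * e * g⁻¹) = R.u z' := by
    rw [conj_image hg he]
    congr 1
    refine ext_z ?_ hz' ?_
    · rw [act_a, hz, mul_zero]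
    · rw [act_b]
      show (a * σ a) * z.b = z'.b
      rw [ha, div_mul_cancel₀ _ hzb]
  have h2 := K.sq_eq_of_image h1 he'
  rw [← h2]
  have h3 : (g * e * g⁻¹) * (g * e * g⁻¹) = g * (e * e) * g⁻¹ := by group
  rw [h3, K.conj_ker (ker_sq hz he)]

/-- the lifts of central elements are involutions -/
theorem sq_one (hS : Sg σ n) {e : X} {z : Heis σ} (hz : z.a = 0) (he : π e = R.u z) :
    e * e = 1 := by
  by_cases hzb : z.b = 0
  · apply K.sq
    have : z = 1 := ext_z hz rfl hzb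
    rw [he, this, map_one]
  · obtain ⟨l, hl1, hl2⟩ := (fieldOK hS).fixed
    have hl2' : (l : F) + 1 ≠ 0 := by
      intro h
      apply hl2
      apply Units.ext
      have := CharTwo.add_self_eq_zero (1 : F)
      show (l : F) = 1
      linear_combination h - this
    have hbz := b_fixed_of_a_eq_zero hz
    let z1 : Heis σ := zet (l * z.b) (by rw [map_mul, hl1, hbz])
    let z2 : Heis σ := zet ((l + 1) * z.b) (by rw [map_mul, map_add, hl1, hbz, map_one])
    have hb1 : z1.b = l * z.b := rfl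
    have hb2 : z2.b = (l + 1) * z.b := rfl
    have ha1 : z1.a = 0 := rfl
    have ha2 : z2.a = 0 := rfl
    have h12 : z1 * z2 = z := by
      refine ext_z ?_ hz ?_
      · rw [mul_a, ha1, ha2, add_zero]
      · rw [mul_b, ha1, zero_mul, add_zero, hb1, hb2]
        have := CharTwo.add_self_eq_zero ((l : F) * z.b)
        linear_combination this
    obtain ⟨e1, he1⟩ := K.surj (R.u z1)
    obtain ⟨e2, he2⟩ := K.surj (R.u z2)
    have h3 : π (e1 * e2) = R.u z := by rw [map_mul, he1, he2, ← map_mul, h12]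
    have h4 := K.sq_eq_of_image he h3
    have h5 : e2 * e1 = e1 * e2 := K.comm_e hS ha2 ha1 he2 he1
    have h6 := K.sq_eq hS ha1 ha2 (by rw [hb1]; exact mul_ne_zero l.ne_zero hzb)
      (by rw [hb2]; exact mul_ne_zero hl2' hzb) he1 he2
    calc e * e = e1 * e2 * (e1 * e2) := h4
      _ = e1 * (e2 * e1) * e2 := by group
      _ = e1 * (e1 * e2) * e2 := by rw [h5]
      _ = (e1 * e1) * (e2 * e2) := by group
      _ = (e1 * e1) * (e1 * e1) := by rw [h6]
      _ = 1 := K.sq _ (ker_sq ha1 he1)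

end Cov

/-- a torus element used for splitting -/
structure Spl (R : URel.URel J σ) (π : X →* J) (k : X) (l : Fˣ) : Prop where
  img : π k = R.d l
  ne : nm σ l + 1 ≠ 0
  fix : σ (nm σ l) = nm σ l

theorem exists_spl (hS : Sg σ n) (K : Cov π) : ∃ k l, Spl R π k l := by
  obtain ⟨l, hl1, hl2⟩ := (fieldOK hS).fixed
  obtain ⟨k, hk⟩ := K.surj (R.d l)
  refine ⟨k, l, hk, ?_, fixed_nm l⟩
  rw [nm_of_fixed σ hl1]
  intro h
  apply hl2
  apply Units.ext
  show (l : F) = 1
  have h1 : ((l : F) + 1) ^ 2 = 0 := by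
    have := CharTwo.two_eq_zero (R := F)
    linear_combination h + l * this
  have h2 := (pow_eq_zero_iff (two_ne_zero)).mp h1
  have := CharTwo.add_self_eq_zero (1 : F)
  linear_combination h2 - this

/-- `v` is the projection of `e` to the kernel -/
def Pr (R : URel.URel J σ) (π : X →* J) (k e v : X) : Prop :=
  π v = 1 ∧ ∃ (e' : X) (z' : Heis σ), z'.a = 0 ∧ π e' = R.u z' ∧ e = v * ⁅k, e'⁆

namespace Pr

variable (K : Cov π) {k : X} {l : Fˣ} (hk : Spl R π k l)
include K hk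

theorem map_comm {e' : X} {z' : Heis σ} (hz : z'.a = 0) (he : π e' = R.u z') :
    ∃ z : Heis σ, z.a = 0 ∧ z.b = (nm σ l + 1) * z'.b ∧ π ⁅k, e'⁆ = R.u z := by
  refine ⟨act l z' * z'⁻¹, ?_, ?_, ?_⟩
  · rw [mul_a, act_a, inv_a, hz, mul_zero, add_zero]
  · rw [mul_b, act_b, act_a, hz, mul_zero, zero_mul, add_zero, inv_b, b_fixed_of_a_eq_zero hz]
    ring
  · have h1 : ⁅k, e'⁆ = (k * e' * k⁻¹) * e'⁻¹ := by rw [commutatorElement_def]
    rw [h1, map_mul, Cov.conj_image hk.img he, map_inv, he, map_mul, map_inv]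

theorem exists_pr {e : X} {z : Heis σ} (hz : z.a = 0) (he : π e = R.u z) :
    ∃ v, Pr R π k e v := by
  have hb := b_fixed_of_a_eq_zero hz
  let z' : Heis σ := zet (z.b / (nm σ l + 1)) (by rw [map_div₀, hb, map_add, hk.fix, map_one])
  obtain ⟨e', he'⟩ := K.surj (R.u z')
  obtain ⟨y, hy1, hy2, hy3⟩ := map_comm K hk (z' := z') rfl he'
  have hyz : y = z := by
    refine ext_z hy1 hz ?_
    rw [hy2]
    show (nm σ l + 1) * (z.b / (nm σ l + 1)) = z.b
    rw [mul_div_cancel₀ _ hk.ne]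
  refine ⟨e * ⁅k, e'⁆⁻¹, ?_, e', z', rfl, he', by group⟩
  rw [map_mul, map_inv, hy3, hyz, he, mul_inv_cancel]

theorem image {e v : X} (h : Pr R π k e v) : ∃ z : Heis σ, z.a = 0 ∧ π e = R.u z := by
  obtain ⟨hv, e', z', h1, h2, h3⟩ := h
  obtain ⟨y, hy1, hy2, hy3⟩ := map_comm K hk h1 h2
  exact ⟨y, hy1, by rw [h3, map_mul, hv, one_mul, hy3]⟩

theorem unique {e v v' : X} (h : Pr R π k e v) (h' : Pr R π k e v') : v = v' := by
  obtain ⟨hv, e', z', h1, h2, h3⟩ := h
  obtain ⟨hv', f', y', h1', h2', h3'⟩ := h'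
  obtain ⟨y, hy1, hy2, hy3⟩ := map_comm K hk h1 h2
  obtain ⟨x, hx1, hx2, hx3⟩ := map_comm K hk h1' h2'
  have h4 : π e = R.u y := by rw [h3, map_mul, hv, one_mul, hy3]
  have h5 : π e = R.u x := by rw [h3', map_mul, hv', one_mul, hx3]
  have h6 : y = x := R.u_inj (by rw [← h4, h5])
  have h7 : z' = y' := by
    refine ext_z h1 h1' (mul_left_cancel₀ hk.ne ?_)
    rw [← hy2, ← hx2, h6]
  have h8 : ⁅k, e'⁆ = ⁅k, f'⁆ := K.comm_eq rfl (by rw [h2, h2', h7])
  rw [h3, h8] at h3'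
  exact mul_right_cancel h3'

theorem mul (hS : Sg σ n) {e v f w : X} (h : Pr R π k e v) (h' : Pr R π k f w) :
    Pr R π k (e * f) (v * w) := by
  obtain ⟨hv, e', z', h1, h2, h3⟩ := h
  obtain ⟨hw, f', y', h1', h2', h3'⟩ := h'
  refine ⟨by rw [map_mul, hv, hw, mul_one], e' * f', z' * y', ?_, ?_, ?_⟩
  · rw [mul_a, h1, h1', add_zero]
  · rw [map_mul, h2, h2', map_mul]
  · obtain ⟨x, hx1, hx2, hx3⟩ := map_comm K hk h1' h2'
    rw [cr_of (K.comm_e hS hx1 h1 hx3 h2), h3, h3']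
    calc v * ⁅k, e'⁆ * (w * ⁅k, f'⁆) = v * (⁅k, e'⁆ * w) * ⁅k, f'⁆ := by group
      _ = v * (w * ⁅k, e'⁆) * ⁅k, f'⁆ := by rw [K.cen w hw]
      _ = v * w * (⁅k, e'⁆ * ⁅k, f'⁆) := by group

theorem of_ker {v : X} (hv : π v = 1) : Pr R π k v v :=
  ⟨hv, 1, 1, rfl, by rw [map_one, map_one], by rw [commutatorElement_one_right, mul_one]⟩

theorem inv (hS : Sg σ n) {e v : X} (h : Pr R π k e v) : Pr R π k e⁻¹ v⁻¹ := by
  obtain ⟨z, hz, hze⟩ := image K hk h
  obtain ⟨w, hw⟩ := exists_pr K hk (e := e⁻¹) (z := z⁻¹) (by rw [inv_a, hz])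
    (by rw [map_inv, hze, map_inv])
  have h1 := mul K hk hS h hw
  rw [mul_inv_cancel] at h1
  have h2 := unique K hk h1 (of_ker K hk (map_one π))
  have h3 : w = v⁻¹ := eq_inv_of_mul_eq_one_right h2
  rwa [h3] at hw

theorem conj {e v g : X} {m : Fˣ} (hg : π g = R.d m) (h : Pr R π k e v) :
    Pr R π k (g * e * g⁻¹) v := by
  obtain ⟨hv, e', z', h1, h2, h3⟩ := h
  refine ⟨hv, g * e' * g⁻¹, act m z', by rw [act_a, h1, mul_zero], Cov.conj_image hg h2, ?_⟩
  have e1 : g * e * g⁻¹ = (g * v * g⁻¹) * (g * ⁅k, e'⁆ * g⁻¹) := by rw [h3]; group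
  have e2 : π (g * k * g⁻¹) = π k := by
    rw [map_mul, map_mul, map_inv, hg, hk.img, ← map_mul, mul_comm m l, map_mul,
      mul_inv_cancel_right]
  rw [e1, K.conj_ker hv, conj_comm, K.comm_eq e2 rfl]

end Pr

section Main

variable (K : Cov π) {k : X} {l : Fˣ} (hk : Spl R π k l)
include K

/-- commutators of lifts depend only on the first coordinates -/
theorem comm_eq_of_a (hS : Sg σ n) {x x' w w' : X} {y y' z z' : Heis σ} (hx : π x = R.u y)
    (hx' : π x' = R.u y') (hw : π w = R.u z) (hw' : π w' = R.u z') (hy : y.a = y'.a)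
    (hz : z.a = z'.a) : ⁅x, w⁆ = ⁅x', w'⁆ := by
  have h0 : ∀ {a b : F}, a = b → a + b = 0 := by
    rintro a b rfl; exact CharTwo.add_self_eq_zero a
  have e1 : x = x' * (x'⁻¹ * x) := by group
  have e2 : w = w' * (w'⁻¹ * w) := by group
  have p1 : π (x'⁻¹ * x) = R.u (y'⁻¹ * y) := by rw [map_mul, map_inv, hx', hx, map_mul, map_inv]
  have p2 : π (w'⁻¹ * w) = R.u (z'⁻¹ * z) := by rw [map_mul, map_inv, hw', hw, map_mul, map_inv]
  have a1 : (y'⁻¹ * y).a = 0 := by rw [mul_a, inv_a]; exact h0 hy.symm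
  have a2 : (z'⁻¹ * z).a = 0 := by rw [mul_a, inv_a]; exact h0 hz.symm
  have c1 : ⁅x'⁻¹ * x, w⁆ = 1 := comm_one_iff.mpr (K.comm_z hS a1 p1 hw)
  have c2 : ⁅x', w'⁻¹ * w⁆ = 1 := comm_one_iff.mpr (K.comm_z hS a2 p2 hx').symm
  rw [e1, cl_of (by rw [c1, one_mul, mul_one]), c1, one_mul, e2,
    cr_of (by rw [c2, one_mul, mul_one]), c2, mul_one]

omit K in
theorem comm_image {x w : X} {y z : Heis σ} (hx : π x = R.u y) (hw : π w = R.u z) :
    ∃ c : Heis σ, c.a = 0 ∧ π ⁅x, w⁆ = R.u c := by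
  refine ⟨y * z * y⁻¹ * z⁻¹, ?_, ?_⟩
  · rw [mul_a, mul_a, mul_a, inv_a, inv_a]
    have h1 := CharTwo.add_self_eq_zero y.a
    have h2 := CharTwo.add_self_eq_zero z.a
    linear_combination h1 + h2
  · rw [commutatorElement_def, map_mul, map_mul, map_mul, map_inv, map_inv, hx, hw, map_mul,
      map_mul, map_mul, map_inv, map_inv]

/-- a lift of an element with given first coordinate -/
theorem exists_sec (hS : Sg σ n) : ∃ s : F → X, ∀ a, ∃ y : Heis σ, y.a = a ∧ π (s a) = R.u y := by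
  have h : ∀ a, ∃ x : X, ∃ y : Heis σ, y.a = a ∧ π x = R.u y := by
    intro a
    obtain ⟨y, hy⟩ := exists_a hS a
    obtain ⟨x, hx⟩ := K.surj (R.u y)
    exact ⟨x, y, hy, hx⟩
  choose s hs using h
  exact ⟨s, hs⟩

include hk in
/-- the projection of a commutator to the kernel is trivial -/
theorem pr_comm (hS : Sg σ n) {x w : X} {y z : Heis σ} (hx : π x = R.u y) (hw : π w = R.u z) :
    Pr R π k ⁅x, w⁆ 1 := by
  classical
  obtain ⟨s, hs⟩ := exists_sec (R := R) K hS
  have hex : ∀ a b, ∃ v, Pr R π k ⁅s a, s b⁆ v := by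
    intro a b
    obtain ⟨y1, -, h1⟩ := hs a
    obtain ⟨y2, -, h2⟩ := hs b
    obtain ⟨c, hc, h3⟩ := comm_image h1 h2
    exact Pr.exists_pr K hk hc h3
  choose f hf using hex
  have hf1 : ∀ a b, π (f a b) = 1 := fun a b => (hf a b).1
  -- value on general commutators
  have hgen : ∀ {x w : X} {y z : Heis σ}, π x = R.u y → π w = R.u z →
      Pr R π k ⁅x, w⁆ (f y.a z.a) := by
    intro x w y z hx hw
    obtain ⟨y1, e1, h1⟩ := hs y.a
    obtain ⟨y2, e2, h2⟩ := hs z.a
    rw [comm_eq_of_a K hS hx h1 hw h2 e1.symm e2.symm]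
    exact hf _ _
  have hadd1 : ∀ a a' b, f (a + a') b = f a b * f a' b := by
    intro a a' b
    obtain ⟨y1, rfl, h1⟩ := hs a
    obtain ⟨y2, rfl, h2⟩ := hs a'
    obtain ⟨y3, rfl, h3⟩ := hs b
    have h4 : π (s y1.a * s y2.a) = R.u (y1 * y2) := by rw [map_mul, h1, h2, map_mul]
    obtain ⟨c, hc, h5⟩ := comm_image h2 h3
    have h6 := hgen h4 h3
    rw [cl_of (K.comm_z hS hc h5 h1)] at h6
    have h7 := Pr.mul K hk hS (hf y2.a y3.a) (hf y1.a y3.a)
    have h8 := Pr.unique K hk h6 h7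
    rw [mul_a] at h8
    rw [h8, K.cen _ (hf1 _ _)]
  have hadd2 : ∀ a b b', f a (b + b') = f a b * f a b' := by
    intro a b b'
    obtain ⟨y1, rfl, h1⟩ := hs a
    obtain ⟨y2, rfl, h2⟩ := hs b
    obtain ⟨y3, rfl, h3⟩ := hs b'
    have h4 : π (s y2.a * s y3.a) = R.u (y2 * y3) := by rw [map_mul, h2, h3, map_mul]
    obtain ⟨c, hc, h5⟩ := comm_image h1 h3
    have h6 := hgen h1 h4
    rw [cr_of (K.comm_z hS hc h5 h2)] at h6
    have h7 := Pr.mul K hk hS (hf y1.a y2.a) (hf y1.a y3.a)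
    have h8 := Pr.unique K hk h6 h7
    rw [mul_a] at h8
    exact h8
  have hinv : ∀ (m : Fˣ) a b, f (wt σ m * a) (wt σ m * b) = f a b := by
    intro m a b
    obtain ⟨y1, rfl, h1⟩ := hs a
    obtain ⟨y2, rfl, h2⟩ := hs b
    obtain ⟨g, hg⟩ := K.surj (R.d m)
    have h3 := Pr.conj K hk hg (hf y1.a y2.a)
    rw [conj_comm] at h3
    have h4 := hgen (Cov.conj_image hg h1) (Cov.conj_image hg h2)
    exact Pr.unique K hk h4 h3
  have hsq : ∀ a b, f a b * f a b = 1 := fun a b => K.sq _ (hf1 a b)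
  obtain ⟨l1, m1, hlm, hne⟩ := exists_wt hS
  set W := wt σ l1 with hW
  have hW0 : W ≠ 0 := wt_ne_zero σ l1
  -- the relation
  have hrel : ∀ a b, f ((W + W⁻¹ + 1) * a) b = 1 := by
    intro a b
    have h1 := hinv m1 a b
    rw [← hlm, add_mul, add_mul, one_mul, one_mul, hadd1, hadd2, hadd2, hinv l1] at h1
    have h2 : f a (W * b) = f (W⁻¹ * a) b := by
      have := hinv l1 (W⁻¹ * a) b
      rw [← hW, mul_inv_cancel_left₀ hW0] at this
      exact this
    have h3 : f ((W + W⁻¹ + 1) * a) b = f (W * a) b * f (W⁻¹ * a) b * f a b := by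
      rw [add_mul, add_mul, one_mul, hadd1, hadd1]
    rw [h3, ← h2]
    -- `f a b * f (W a) b * (f a (W b) * f a b) = f a b`
    have h4 : f a b * (f (W * a) b * (f a (W * b) * f a b)) = f a b := by
      rw [← mul_assoc]; exact h1
    have h5 : f (W * a) b * (f a (W * b) * f a b) = 1 := by
      have := mul_left_cancel (a := f a b) (b := f (W * a) b * (f a (W * b) * f a b)) (c := 1)
        (by rw [h4, mul_one])
      exact this
    rw [mul_assoc]; exact h5
  have h0 : f y.a z.a = 1 := by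
    have := hrel ((W + W⁻¹ + 1)⁻¹ * y.a) z.a
    rwa [mul_inv_cancel_left₀ hne] at this
  have := hgen hx hw
  rwa [h0] at this

include hk in
/-- the subgroup of lifts with trivial projection -/
theorem exists_E0 (hS : Sg σ n) : ∃ E : Subgroup X, ∀ e, e ∈ E ↔ Pr R π k e 1 :=
  ⟨{ carrier := {e | Pr R π k e 1}
     mul_mem' := fun {a b} h h' => by
       have := Pr.mul K hk hS h h'
       rwa [mul_one] at this
     one_mem' := Pr.of_ker K hk (map_one π)
     inv_mem' := fun {a} h => by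
       have := Pr.inv K hk hS h
       rwa [inv_one] at this }, fun _ => Iff.rfl⟩

/-- **The 2-part of the multiplier is trivial.** -/
theorem ker_eq_bot [Finite X] (hS : Sg σ n) (R : URel.URel J σ) (hX : commutator X = ⊤) {v : X}
    (hv : π v = 1) : v = 1 := by
  classical
  have : Fact (Nat.Prime 2) := ⟨Nat.prime_two⟩
  have hJ : Finite J := Finite.of_surjective π K.surj
  obtain ⟨k, l, hk⟩ := exists_spl (R := R) hS K
  obtain ⟨E, hE⟩ := exists_E0 K hk hS
  obtain ⟨PJ, hPJ⟩ := Base.exists_sylow_eq R hS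
  let P : Subgroup X := R.T.comap π
  have hodd : Odd P.index := by
    have h1 : P.index = R.T.index := Subgroup.index_comap_of_surjective _ K.surj
    rw [h1, ← hPJ]
    have h2 := PJ.not_dvd_index
    rwa [← even_iff_two_dvd, Nat.not_even_iff_odd] at h2
  have hvP : v ∈ P := by
    show π v ∈ R.T
    rw [hv]; exact one_mem _
  have h1 := Cfsg.Agent.StdSz.CoverA.mem_commutator_of_central P hodd v hvP (K.cen v hv)
    (K.sq v hv) (by rw [hX]; exact mem_top _)
  have h2 : commutator P ≤ E.subgroupOf P := by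
    rw [commutator_def, Subgroup.commutator_le]
    rintro ⟨x, hx⟩ - ⟨y, hy⟩ -
    obtain ⟨a, ha⟩ := hx
    obtain ⟨b, hb⟩ := hy
    rw [mem_subgroupOf, hE]
    exact pr_comm K hk hS ha.symm hb.symm
  have h3 := h2 h1
  rw [mem_subgroupOf, hE] at h3
  exact Pr.unique K hk (Pr.of_ker K hk hv) h3

end Main

/-- **The centre of a perfect group `A` with `A / Z(A)` of type `PSU₃(q)`, `q ≥ 4` even, has odd
order.** -/
theorem odd_center {A : Type*} [Group A] [Finite A] (hS : Sg σ n) (hA : commutator A = ⊤)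
    (R : URel.URel (A ⧸ center A) σ) : Odd (Nat.card (center A)) := by
  classical
  -- the subgroup of squares of the centre
  let M : Subgroup A :=
    { carrier := {x | ∃ z ∈ center A, x = z * z}
      mul_mem' := by
        rintro _ _ ⟨z, hz, rfl⟩ ⟨w, hw, rfl⟩
        refine ⟨z * w, mul_mem hz hw, ?_⟩
        have : w * z = z * w := Subgroup.mem_center_iff.mp hz w
        calc z * z * (w * w) = z * (z * w) * w := by group
          _ = z * (w * z) * w := by rw [this]
          _ = z * w * (z * w) := by group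
      one_mem' := ⟨1, one_mem _, (one_mul 1).symm⟩
      inv_mem' := by
        rintro _ ⟨z, hz, rfl⟩
        exact ⟨z⁻¹, inv_mem hz, by rw [_root_.mul_inv_rev]⟩ }
  have hM : M ≤ center A := by
    rintro _ ⟨z, hz, rfl⟩
    exact mul_mem hz hz
  haveI : M.Normal := by
    constructor
    intro x hx g
    have h1 : g * x = x * g := Subgroup.mem_center_iff.mp (hM hx) g
    rw [h1, mul_inv_cancel_right]
    exact hx
  let π : A ⧸ M →* A ⧸ center A := QuotientGroup.map M (center A) (MonoidHom.id A) (by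
    intro x hx; exact hM hx)
  have hπ : ∀ a : A, π (QuotientGroup.mk a) = QuotientGroup.mk a := fun a => rfl
  have hker : ∀ v : A ⧸ M, π v = 1 → ∃ z ∈ center A, v = QuotientGroup.mk z := by
    intro v hv
    obtain ⟨a, rfl⟩ := QuotientGroup.mk_surjective v
    rw [hπ, QuotientGroup.eq_one_iff] at hv
    exact ⟨a, hv, rfl⟩
  have K : Cov π := by
    refine ⟨?_, ?_, ?_⟩
    · intro x
      obtain ⟨a, rfl⟩ := QuotientGroup.mk_surjective x
      exact ⟨QuotientGroup.mk a, rfl⟩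
    · intro v hv x
      obtain ⟨z, hz, rfl⟩ := hker v hv
      obtain ⟨a, rfl⟩ := QuotientGroup.mk_surjective x
      rw [← QuotientGroup.mk_mul, ← QuotientGroup.mk_mul, Subgroup.mem_center_iff.mp hz a]
    · intro v hv
      obtain ⟨z, hz, rfl⟩ := hker v hv
      rw [← QuotientGroup.mk_mul, QuotientGroup.eq_one_iff]
      exact ⟨z, hz, rfl⟩
  have hperf : commutator (A ⧸ M) = ⊤ := by
    have h1 : (commutator A).map (QuotientGroup.mk' M) = commutator (A ⧸ M) := by
      rw [commutator_def, Subgroup.map_commutator, commutator_def,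
        Subgroup.map_top_of_surjective _ (QuotientGroup.mk'_surjective M)]
    rw [← h1, hA, Subgroup.map_top_of_surjective _ (QuotientGroup.mk'_surjective M)]
  -- squaring is surjective on the centre
  have hsurj : ∀ z ∈ center A, ∃ w ∈ center A, z = w * w := by
    intro z hz
    have h1 : (QuotientGroup.mk z : A ⧸ M) = 1 := by
      apply ker_eq_bot K hS R hperf
      rw [hπ, QuotientGroup.eq_one_iff]; exact hz
    rw [QuotientGroup.eq_one_iff] at h1
    exact h1
  by_contra hodd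
  rw [Nat.not_odd_iff_even, even_iff_two_dvd] at hodd
  have : Fact (Nat.Prime 2) := ⟨Nat.prime_two⟩
  obtain ⟨z, hz⟩ := exists_prime_orderOf_dvd_card' 2 hodd
  let f : center A → center A := fun z => z * z
  have hf : Function.Surjective f := by
    rintro ⟨z, hz⟩
    obtain ⟨w, hw, h⟩ := hsurj z hz
    exact ⟨⟨w, hw⟩, Subtype.ext h.symm⟩
  have hinj : Function.Injective f := Finite.injective_iff_surjective.mpr hf
  have h1 : f z = f 1 := by
    show z * z = 1 * 1
    rw [one_mul, ← sq, ← hz, pow_orderOf_eq_one]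
  have h2 : z = 1 := hinj h1
  rw [h2, orderOf_one] at hz
  exact absurd hz (by norm_num)

end Cfsg.Agent.StdU3.Cover
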