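import Cfsg.Agent.StdU3.Next

/-!
# What is known on `C_G(t)`: the structure `Fld`

Produced by `StdU3.LZero` (from the hypotheses of S1771), used for the field automorphism part.
-/

set_option autoImplicit false

namespace Cfsg.Agent.StdU3.FldDef

open Cfsg.Agent.StdU3.Field Cfsg.Agent.StdU3.PreDef Cfsg.Agent.StdU3.Next
open Cfsg.Agent.StdU3.NormQ

variable {G : Type*} [Group G] {K : Type*} [Field K] [Fintype K] [CharP K 2] {n : ℕ}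

/-- the centralizer of `t`. `A` is the standard subgroup, `O` the odd part of `C(A) ∩ C(t)`,
`Sg` a Sylow 2-subgroup of `C(t)` containing `⟨t⟩ P`, `chi` the Galois component. -/
structure Fld (D : Pre G K n) where
  A : Subgroup G
  P_A : D.P ≤ A
  A_t : ∀ a ∈ A, a * D.t = D.t * a
  t_A : D.t ∉ A
  /-- `C(t)` normalizes `A` -/
  A_norm : ∀ g, g * D.t = D.t * g → ∀ a ∈ A, g * a * g⁻¹ ∈ A
  /-- 2-subgroups of `A` are conjugate in `A` into `P` -/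
  syl : ∀ X : Subgroup G, IsPGroup 2 X → X ≤ A → ∃ a ∈ A, ∀ x ∈ X, a⁻¹ * x * a ∈ D.P
  /-- `P` is a TI subgroup for `C(t)` -/
  ti : ∀ g, g * D.t = D.t * g → ∀ x ∈ D.P, x ≠ 1 → g * x * g⁻¹ ∈ D.P → ∀ y ∈ D.P, g * y * g⁻¹ ∈ D.P
  /-- Frattini -/
  frat : ∀ g, g * D.t = D.t * g → ∃ a ∈ A, ∃ m, g = a * m ∧ ∀ y ∈ D.P, m * y * m⁻¹ ∈ D.P
  O : Subgroup G
  amb : Amb D O
  O_A : ∀ k ∈ O, ∀ a ∈ A, k * a = a * k
  O_dec : ∀ g, g * D.t = D.t * g → (∀ a ∈ A, g * a = a * g) → ∃ k ∈ O, g = k ∨ g = k * D.t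
  O_conj : ∀ g, g * D.t = D.t * g → ∀ k ∈ O, g * k * g⁻¹ ∈ O
  Sg : Subgroup G
  Sg_two : IsPGroup 2 Sg
  Sg_t : ∀ s ∈ Sg, s * D.t = D.t * s
  P_Sg : D.P ≤ Sg
  t_Sg : D.t ∈ Sg
  Sg_P : ∀ s ∈ Sg, ∀ x ∈ D.P, s * x * s⁻¹ ∈ D.P
  /-- `Sg` normalizes `Q` -/
  Sg_norm : ∀ s ∈ Sg, Norm D s
  /-- 2-subgroups of `C(t)` are conjugate in `C(t)` into `Sg` -/
  Sg_conj : ∀ X : Subgroup G, IsPGroup 2 X → (∀ x ∈ X, x * D.t = D.t * x) →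
    ∃ g, g * D.t = D.t * g ∧ ∀ x ∈ X, g⁻¹ * x * g ∈ Sg
  chi : Subgroup.centralizer ({D.t} : Set G) →* (K ≃+* K)
  chi_A : ∀ g : Subgroup.centralizer ({D.t} : Set G), (g : G) ∈ A → chi g = 1
  chi_C : ∀ g : Subgroup.centralizer ({D.t} : Set G), (∀ a ∈ A, (g : G) * a = a * g) → chi g = 1
  /-- the semilinear action on `P / Z` and `Z` of the elements of `C(t)` normalizing `P` -/
  chi_ca : ∀ g : Subgroup.centralizer ({D.t} : Set G), (∀ x ∈ D.P, (g : G) * x * (g : G)⁻¹ ∈ D.P) →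
    ∃ c : K, c ≠ 0 ∧ (∀ x ∈ D.P, D.ca ((g : G) * x * (g : G)⁻¹) = c * chi g (D.ca x)) ∧
      ∀ b, bar n b = b → (g : G) * D.z b * (g : G)⁻¹ = D.z (N n c * chi g b)
  /-- 2-elements without Galois component are in `⟨t⟩ P` -/
  chi_one : ∀ g : Subgroup.centralizer ({D.t} : Set G), (g : G) ∈ Sg → chi g = 1 →
    (g : G) ∈ D.P ∨ (g : G) * D.t ∈ D.P
  /-- the kernel of `chi` modulo `A O ⟨t⟩` has exponent 3 -/
  chi_ker : ∀ g : Subgroup.centralizer ({D.t} : Set G), chi g = 1 →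
    ∃ a ∈ A, ∃ k ∈ O, (g : G) ^ 3 = a * k ∨ (g : G) ^ 3 = a * k * D.t
  /-- torus elements inside `A` -/
  tor : ∀ l : Kˣ, ∃ a ∈ A, Odd (orderOf a) ∧
    ∀ x ∈ D.P, a * x * a⁻¹ ∈ D.P ∧ D.ca (a * x * a⁻¹) = w n l * D.ca x
  h_dec : ∀ l : Kˣ, ∃ k ∈ O, ∃ a ∈ A, D.h l = k * a

end Cfsg.Agent.StdU3.FldDef
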