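import Mathlib
import Cfsg.Agent.StdU3.Base
import Cfsg.Agent.StdSz.Reduce
import Cfsg.Agent.StdSz.FromStd

/-!
# Standard subgroups of type `PSU₃(q)`: the context

`Ctx A t σ n`: `A` is a standard subgroup in the situation `Reduce.Simple A`, `A / Z(A) ≅ PSU₃(q)`,
`|Z(A)|` odd, `t` an involution of `C_G(A)`, which has cyclic Sylow 2-subgroups; `q : Heis σ →* A`
parametrizes a Sylow 2-subgroup of `A`.
-/

set_option autoImplicit false
set_option linter.unusedSectionVars false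
set_option linter.dupNamespace false

namespace Cfsg.Agent.StdU3.Ctx

open Subgroup Cfsg.Agent.LieRecognition.HermHeis Cfsg.Agent.StdU3.URel Cfsg.Agent.StdU3.Semi
  Cfsg.Agent.StdU3.Field Cfsg.Agent.StdU3.FieldAut Cfsg.Agent.StdSz
open Cfsg.Agent.StdSz.Base (eq_one_of_two_odd)
open Cfsg.Agent.StdSz.FromStd.Ctx (IsR)
open Cfsg.Agent.StdSz.FromStd (isCyclic_of_le involution_unique)

variable {G : Type*} [Group G] [Finite G] {F : Type*} [Field F] [Fintype F] [CharP F 2]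
  {σ : F →+* F} [hσ : Fact (∀ x, σ (σ x) = x)] {n : ℕ}

structure Ctx (A : Subgroup G) (t : G) (σ : F →+* F) [hσ : Fact (∀ x, σ (σ x) = x)] (n : ℕ) where
  S : Reduce.Simple A
  ht : orderOf t = 2
  htA : t ∈ centralizer (A : Set G)
  hS : Sg σ n
  R : URel.URel (A ⧸ center A) σ
  hZ : Odd (Nat.card (center A))
  cyc : ∀ P : Sylow 2 ↥(centralizer (A : Set G)), IsCyclic ↥(P : Subgroup ↥(centralizer (A : Set G)))
  P1 : Sylow 2 A
  q : Heis σ →* A
  q_mem : ∀ x, x ∈ (P1 : Subgroup A) ↔ ∃ y, q y = x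
  q_mk : ∀ y, (QuotientGroup.mk (q y) : A ⧸ center A) = R.u y
  q_uniq : ∀ w : A, (∃ k : ℕ, w ^ 2 ^ k = 1) → ∀ y,
    (QuotientGroup.mk w : A ⧸ center A) = R.u y → w = q y

/-- existence of the context. -/
theorem exists_ctx {A : Subgroup G} {t : G} (S : Reduce.Simple A) (ht : orderOf t = 2)
    (htA : t ∈ centralizer (A : Set G)) (hS : Sg σ n)
    (hX : Nonempty (↥A ⧸ Subgroup.center ↥A ≃* Cfsg.PSU 3 F (2 ^ n)))
    (hZ : Odd (Nat.card (center A)))
    (hcyc : ∀ P : Sylow 2 ↥(centralizer (A : Set G)),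
      IsCyclic ↥(P : Subgroup ↥(centralizer (A : Set G)))) :
    Nonempty (Ctx A t σ n) := by
  obtain ⟨f⟩ := hX
  obtain ⟨R0⟩ := URelModel.nonempty_urel (σ := σ) (n := n) (by have := hS.hq.hn; omega) hS.eq
    (by rw [Nat.card_eq_fintype_card, hS.hq.hK])
  obtain ⟨P1, q, h2, h3, h4⟩ := Base.exists_lift (R0.map f.symm) hS hZ
  exact ⟨{ S := S, ht := ht, htA := htA, hS := hS, R := R0.map f.symm, hZ := hZ, cyc := hcyc,
           P1 := P1, q := q, q_mem := h2, q_mk := h3, q_uniq := h4 }⟩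

namespace Ctx

variable {A : Subgroup G} {t : G} (C : Ctx A t σ n)

include C in
theorem tt : t * t = 1 := by
  have := pow_orderOf_eq_one t
  rwa [C.ht, pow_two] at this

include C in
theorem t_ne : t ≠ 1 := by
  intro h
  have := C.ht
  rw [h, orderOf_one] at this
  exact absurd this (by norm_num)

include C in
theorem t_inv : t⁻¹ = t := inv_eq_of_mul_eq_one_right C.tt

include C in
theorem comm_K {k a : G} (hk : k ∈ centralizer (A : Set G)) (ha : a ∈ A) : k * a = a * k :=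
  (mem_centralizer_iff.mp hk a ha).symm

/-- the parametrization of the Sylow 2-subgroup, as elements of `G` -/
def p : Heis σ →* G := A.subtype.comp C.q

theorem p_mem (x : Heis σ) : C.p x ∈ A := (C.q x).2

theorem p_def (x : Heis σ) : C.p x = (C.q x : G) := rfl

theorem q_inj : Function.Injective C.q := by
  intro x y h
  apply C.R.u_inj
  rw [← C.q_mk, ← C.q_mk, h]

theorem p_inj : Function.Injective C.p := fun x y h => C.q_inj (Subtype.ext h)

theorem t_p (x : Heis σ) : t * C.p x = C.p x * t := C.comm_K C.htA (C.p_mem x)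

include C in
theorem norm_t {g : G} (hg : g * t = t * g) : g ∈ normalizer (A : Set G) := by
  apply C.S.centralizer_involution_le C.ht C.htA
  rw [mem_centralizer_singleton_iff]; exact hg

include C in
/-- 2-elements of `Z(A)` are trivial. -/
theorem eq_one_of_center {z : A} (hz : z ∈ center A) {k : ℕ} (hk : z ^ 2 ^ k = 1) : z = 1 :=
  eq_one_of_two_odd hk C.hZ (Subgroup.orderOf_dvd_natCard _ hz)

include C in
theorem mem_center_of {x : G} (hxA : x ∈ A) (hxK : x ∈ centralizer (A : Set G)) :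
    (⟨x, hxA⟩ : A) ∈ center A := by
  rw [Subgroup.mem_center_iff]
  intro g
  exact Subtype.ext (C.comm_K hxK g.2).symm

include C in
theorem eq_one_of_mem {x : G} (hxA : x ∈ A) (hxK : x ∈ centralizer (A : Set G)) {k : ℕ}
    (hk : x ^ 2 ^ k = 1) : x = 1 :=
  congrArg Subtype.val (C.eq_one_of_center (C.mem_center_of hxA hxK) (k := k) (Subtype.ext hk))

theorem p_pow_four (x : Heis σ) : C.p x ^ 2 ^ 2 = 1 := by
  have h : (2 : ℕ) ^ 2 = 4 := by norm_num
  rw [h, ← map_pow, Base.heis_pow_four, map_one]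

/-- `P ∩ C(A) = 1` -/
theorem p_disj {x : Heis σ} (h : C.p x ∈ centralizer (A : Set G)) : x = 1 := by
  apply C.p_inj
  rw [map_one]
  exact C.eq_one_of_mem (C.p_mem x) h (C.p_pow_four x)

theorem cancel {r r' : G} (hr : r ∈ centralizer (A : Set G)) (hr' : r' ∈ centralizer (A : Set G))
    {y y' : Heis σ} (h : r * C.p y = r' * C.p y') : r = r' ∧ y = y' := by
  have h1 : r'⁻¹ * r = C.p (y' * y⁻¹) := by
    rw [map_mul, map_inv, eq_mul_inv_iff_mul_eq, mul_assoc, h, inv_mul_cancel_left]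
  have h2 : y' * y⁻¹ = 1 := C.p_disj (by rw [← h1]; exact mul_mem (inv_mem hr') hr)
  have h3 : y' = y := mul_inv_eq_one.mp h2
  subst h3
  exact ⟨mul_right_cancel h, rfl⟩

theorem t_not (x : Heis σ) : C.p x ≠ t := by
  intro h
  apply C.t_ne
  have h1 : x = 1 := C.p_disj (by rw [h]; exact C.htA)
  rw [← h, h1, map_one]

theorem pw_bot : PW C.p (⊥ : Subgroup G) where
  inj := C.p_inj
  comm := by
    intro r hr x
    rw [mem_bot] at hr
    rw [hr, one_mul, mul_one]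
  sq := by
    intro r hr
    rw [mem_bot] at hr
    rw [hr, one_mul]
  disj := by
    intro x hx
    rw [mem_bot] at hx
    exact C.p_inj (by rw [hx, map_one])

/-- the group `⟨t⟩` -/
theorem pw_t : PW C.p (zpowers t) where
  inj := C.p_inj
  comm := by
    intro r hr x
    obtain ⟨i, rfl⟩ := mem_zpowers_iff.mp hr
    exact (Commute.zpow_left (show Commute t (C.p x) from C.t_p x) i).eq
  sq := by
    intro r hr
    obtain ⟨i, rfl⟩ := mem_zpowers_iff.mp hr
    rw [← (Commute.refl t).mul_zpow, C.tt, one_zpow]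
  disj := by
    intro x hx
    apply C.p_disj
    obtain ⟨i, hi⟩ := mem_zpowers_iff.mp hx
    rw [← hi]
    exact zpow_mem C.htA i

include C in
theorem mem_zpowers_t {r : G} (hr : r ∈ zpowers t) : r = 1 ∨ r = t := by
  obtain ⟨i, rfl⟩ := mem_zpowers_iff.mp hr
  rcases Int.even_or_odd' i with ⟨j, rfl | rfl⟩
  · left; rw [zpow_mul, zpow_two, C.tt, one_zpow]
  · right; rw [zpow_add, zpow_mul, zpow_two, C.tt, one_zpow, one_mul, zpow_one]

/-- an element of `N(A)` acting trivially on `P / Z(P)` lies in `P C(A)` -/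
theorem exists_of_triv {s : G} (hs : s ∈ normalizer (A : Set G))
    (h : SL C.p (⊥ : Subgroup G) s 1 1) : ∃ x, (C.p x)⁻¹ * s ∈ centralizer (A : Set G) := by
  refine Base.exists_of_triv C.R C.hS C.S.std.1.1 hs C.q C.q_mk ?_
  intro x
  obtain ⟨y, r, hr, h1, h2⟩ := h x
  rw [mem_bot] at hr
  refine ⟨y, ?_, ?_⟩
  · rw [hr, one_mul] at h1; exact h1
  · rw [one_mul] at h2; exact h2

/-- a 2-subgroup of `A` containing `P` is `P` -/
theorem mem_P_of {X : Subgroup G} (hX : IsPGroup 2 X) (hPX : ∀ x, C.p x ∈ X) {s : G} (hs : s ∈ X)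
    (hsA : s ∈ A) : ∃ x, s = C.p x := by
  have h1 : IsPGroup 2 (X.subgroupOf A) := hX.comap_subtype
  have h2 : (C.P1 : Subgroup A) ≤ X.subgroupOf A := by
    intro x hx
    obtain ⟨y, rfl⟩ := (C.q_mem x).mp hx
    exact mem_subgroupOf.mpr (hPX y)
  have h3 := C.P1.is_maximal' h1 h2
  have h4 : (⟨s, hsA⟩ : A) ∈ X.subgroupOf A := mem_subgroupOf.mpr hs
  rw [h3] at h4
  obtain ⟨y, hy⟩ := (C.q_mem _).mp h4
  exact ⟨y, (congrArg Subtype.val hy).symm⟩

/-- 2-subgroups of `N(A)` containing `P` normalise `P` -/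
theorem nm_of {X : Subgroup G} (hX : IsPGroup 2 X) (hPX : ∀ x, C.p x ∈ X) {s : G} (hs : s ∈ X)
    (hsN : s ∈ normalizer (A : Set G)) : Nm C.p (⊥ : Subgroup G) s := by
  intro x
  obtain ⟨y, hy⟩ := C.mem_P_of hX hPX (s := s * C.p x * s⁻¹)
    (mul_mem (mul_mem hs (hPX x)) (inv_mem hs))
    ((mem_normalizer_iff.mp hsN _).mp (C.p_mem x))
  exact ⟨y, 1, one_mem _, by rw [one_mul]; exact hy⟩

include C in
theorem exists_R : ∃ R0 : Subgroup G, IsR A t R0 := by
  have hzp : IsPGroup 2 (zpowers t) := by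
    intro x
    obtain ⟨x, hx⟩ := x
    obtain ⟨i, rfl⟩ := mem_zpowers_iff.mp hx
    refine ⟨1, Subtype.ext ?_⟩
    show (t ^ i) ^ 2 ^ 1 = 1
    rw [← zpow_natCast, ← zpow_mul, mul_comm, zpow_mul, zpow_natCast, pow_one, pow_two, C.tt,
      one_zpow]
  have htK : zpowers t ≤ centralizer (A : Set G) := by rw [zpowers_le]; exact C.htA
  have hz1 : IsPGroup 2 ((zpowers t).subgroupOf (centralizer (A : Set G))) := hzp.comap_subtype
  obtain ⟨P, hP⟩ := hz1.exists_le_sylow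
  refine ⟨(P : Subgroup (centralizer (A : Set G))).map (centralizer (A : Set G)).subtype,
    IsPGroup.map P.isPGroup' _, ?_, ?_, ?_⟩
  · rintro _ ⟨x, -, rfl⟩
    exact x.2
  · exact ⟨⟨t, C.htA⟩, hP (mem_subgroupOf.mpr (mem_zpowers t)), rfl⟩
  · intro X hX hXK hle
    have h1 : IsPGroup 2 (X.subgroupOf (centralizer (A : Set G))) := hX.comap_subtype
    have h2 : (P : Subgroup (centralizer (A : Set G))) ≤ X.subgroupOf (centralizer (A : Set G)) := by
      intro x hx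
      exact mem_subgroupOf.mpr (hle ⟨x, hx, rfl⟩)
    have h3 := P.is_maximal' h1 h2
    apply le_antisymm
    · intro x hx
      have h4 : (⟨x, hXK hx⟩ : centralizer (A : Set G)) ∈ X.subgroupOf (centralizer (A : Set G)) :=
        mem_subgroupOf.mpr hx
      rw [h3] at h4
      exact ⟨_, h4, rfl⟩
    · exact hle

variable {R0 : Subgroup G} (hR : IsR A t R0)

/-- The group `R0 × P`. -/
def T0 (hR : IsR A t R0) : Subgroup G where
  carrier := {g | ∃ r ∈ R0, ∃ x, g = r * C.p x}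
  mul_mem' := by
    rintro g h ⟨r, hr, x, rfl⟩ ⟨s, hs, y, rfl⟩
    refine ⟨r * s, mul_mem hr hs, x * y, ?_⟩
    rw [map_mul]
    calc r * C.p x * (s * C.p y) = r * (C.p x * s) * C.p y := by group
      _ = r * (s * C.p x) * C.p y := by rw [C.comm_K (hR.le hs) (C.p_mem x)]
      _ = r * s * (C.p x * C.p y) := by group
  one_mem' := ⟨1, one_mem _, 1, by rw [map_one, one_mul]⟩
  inv_mem' := by
    rintro g ⟨r, hr, x, rfl⟩
    refine ⟨r⁻¹, inv_mem hr, x⁻¹, ?_⟩
    rw [_root_.mul_inv_rev, map_inv]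
    exact (C.comm_K (inv_mem (hR.le hr)) (inv_mem (C.p_mem x))).symm

include C hR in
theorem R0_comm {r s : G} (hr : r ∈ R0) (hs : s ∈ R0) : r * s = s * r := by
  have h1 := isCyclic_of_le C.cyc hR.two hR.le
  have h2 := (@IsCyclic.commGroup R0 _ h1).mul_comm ⟨r, hr⟩ ⟨s, hs⟩
  exact congrArg Subtype.val h2

theorem mem_T0 {g : G} : g ∈ C.T0 hR ↔ ∃ r ∈ R0, ∃ x, g = r * C.p x := Iff.rfl

theorem R0_le_T0 : R0 ≤ C.T0 hR := fun r hr => ⟨r, hr, 1, by rw [map_one, mul_one]⟩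

theorem p_mem_T0 (x : Heis σ) : C.p x ∈ C.T0 hR := ⟨1, one_mem _, x, by rw [one_mul]⟩

theorem t_mem_T0 : t ∈ C.T0 hR := C.R0_le_T0 hR hR.mem

theorem T0_two : IsPGroup 2 (C.T0 hR) := by
  rintro ⟨g, r, hr, x, rfl⟩
  obtain ⟨k, hk⟩ := hR.two ⟨r, hr⟩
  have hk : r ^ 2 ^ k = 1 := congrArg Subtype.val hk
  have hl := C.p_pow_four x
  refine ⟨k + 2, Subtype.ext ?_⟩
  show (r * C.p x) ^ 2 ^ (k + 2) = 1
  have hc : Commute r (C.p x) := C.comm_K (hR.le hr) (C.p_mem x)
  rw [hc.mul_pow]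
  have e1 : r ^ 2 ^ (k + 2) = 1 := by rw [pow_add, pow_mul, hk, one_pow]
  have e2 : (C.p x) ^ 2 ^ (k + 2) = 1 := by rw [pow_add, mul_comm (2 ^ k), pow_mul, hl, one_pow]
  rw [e1, e2, mul_one]

include hR in
theorem T0_comm_t {g : G} (hg : g ∈ C.T0 hR) : g * t = t * g := by
  obtain ⟨r, hr, x, rfl⟩ := hg
  rw [mul_assoc, ← C.t_p, ← mul_assoc, C.R0_comm hR hr hR.mem, mul_assoc]

/-- involutions of `T0` are `r * p z` with `z` central in `P`, `r * r = 1`. -/
theorem eq_of_sq {g : G} (hg : g ∈ C.T0 hR) (h : g * g = 1) :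
    ∃ r, (r = 1 ∨ r = t) ∧ ∃ z, z.a = 0 ∧ g = r * C.p z := by
  obtain ⟨r, hr, x, rfl⟩ := hg
  have hrx : r * C.p x = C.p x * r := C.comm_K (hR.le hr) (C.p_mem x)
  have h1 : (r * r) * C.p (x * x) = 1 * C.p 1 := by
    rw [map_mul, map_one, mul_one, ← h]
    calc r * r * (C.p x * C.p x) = r * (r * C.p x) * C.p x := by group
      _ = r * (C.p x * r) * C.p x := by rw [hrx]
      _ = r * C.p x * (r * C.p x) := by group
  obtain ⟨h2, h3⟩ := C.cancel (mul_mem (hR.le hr) (hR.le hr)) (one_mem _) h1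
  refine ⟨r, ?_, x, (Cfsg.Agent.LieRecognition.HermHeis.mul_self_eq_one_iff x).mp h3, rfl⟩
  by_cases hr1 : r = 1
  · exact Or.inl hr1
  · exact Or.inr (involution_unique (isCyclic_of_le C.cyc hR.two hR.le) hr hR.mem h2 C.tt hr1 C.t_ne)

/-- involutions of `T0` are central in `T0`. -/
theorem central_of_sq {g : G} (hg : g ∈ C.T0 hR) (h : g * g = 1) :
    ∀ y ∈ C.T0 hR, g * y = y * g := by
  obtain ⟨r, hr, z, hz, rfl⟩ := C.eq_of_sq hR hg h
  have hrR : r ∈ R0 := by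
    rcases hr with rfl | rfl
    · exact one_mem _
    · exact hR.mem
  rintro y ⟨s, hs, x, rfl⟩
  have e1 : C.p z * s = s * C.p z := (C.comm_K (hR.le hs) (C.p_mem z)).symm
  have e2 : r * s = s * r := C.R0_comm hR hrR hs
  have e3 : C.p z * C.p x = C.p x * C.p z := by
    rw [← map_mul, ← map_mul, comm_of_a_eq_zero hz]
  have e4 : r * C.p x = C.p x * r := C.comm_K (hR.le hrR) (C.p_mem x)
  calc r * C.p z * (s * C.p x) = r * (C.p z * s) * C.p x := by group
    _ = (r * s) * (C.p z * C.p x) := by rw [e1]; group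
    _ = s * (r * C.p x) * C.p z := by rw [e2, e3]; group
    _ = s * C.p x * (r * C.p z) := by rw [e4]; group

/-! ### 2-subgroups of `N(A)` containing `T0` -/

variable {X : Subgroup G}

/-- the semilinear action of the elements of a 2-subgroup of `N(A)` containing `T0` -/
theorem exists_sl (hX : IsPGroup 2 X) (hle : C.T0 hR ≤ X) {s : G} (hs : s ∈ X)
    (hsN : s ∈ normalizer (A : Set G)) :
    ∃ c : F, c ≠ 0 ∧ ∃ τ : F ≃+* F, SL C.p (⊥ : Subgroup G) s c τ ∧
      ∀ z : Heis σ, z.a = 0 → ∃ z' : Heis σ, z'.a = 0 ∧ z'.b = (c * σ c) * τ z.b ∧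
        s * C.p z * s⁻¹ = C.p z' :=
  Nm.exists_SL C.hS C.pw_bot (C.nm_of hX (fun x => hle (C.p_mem_T0 hR x)) hs hsN)

theorem sl_mul {s s' : G} {c c' : F} {τ τ' : F ≃+* F}
    (h : SL C.p (⊥ : Subgroup G) s c τ) (h' : SL C.p (⊥ : Subgroup G) s' c' τ') :
    SL C.p (⊥ : Subgroup G) (s * s') (c * τ c') (τ * τ') := by
  refine SL.mul C.pw_bot ?_ h h'
  intro r hr
  rw [mem_bot] at hr
  refine ⟨1, 1, one_mem _, ?_, rfl⟩
  rw [hr, map_one]; group

/-- elements acting trivially on `P / Z(P)` lie in `T0` -/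
theorem mem_T0_of_triv (hX : IsPGroup 2 X) (hle : C.T0 hR ≤ X) {s : G} (hs : s ∈ X)
    (hsN : s ∈ normalizer (A : Set G)) (h : SL C.p (⊥ : Subgroup G) s 1 1) : s ∈ C.T0 hR := by
  obtain ⟨x, hx⟩ := C.exists_of_triv hsN h
  have h2 : X ⊓ centralizer (A : Set G) = R0 :=
    hR.max _ (hX.to_le inf_le_left) inf_le_right
      (le_inf ((C.R0_le_T0 hR).trans hle) hR.le)
  have h3 : (C.p x)⁻¹ * s ∈ R0 := by
    rw [← h2]
    exact mem_inf.mpr ⟨mul_mem (inv_mem (hle (C.p_mem_T0 hR x))) hs, hx⟩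
  have h4 : s = C.p x * ((C.p x)⁻¹ * s) := by group
  rw [h4]
  exact mul_mem (C.p_mem_T0 hR x) (C.R0_le_T0 hR h3)

/-- elements of a 2-subgroup acting without field automorphism lie in `T0` -/
theorem mem_T0_of_one (hX : IsPGroup 2 X) (hle : C.T0 hR ≤ X) {s : G} (hs : s ∈ X)
    (hsN : s ∈ normalizer (A : Set G)) {c : F} (h : SL C.p (⊥ : Subgroup G) s c 1) :
    s ∈ C.T0 hR := by
  obtain ⟨k, hk⟩ := hX ⟨s, hs⟩
  have hk : s ^ 2 ^ k = 1 := congrArg Subtype.val hk
  have hpow : ∀ j : ℕ, SL C.p (⊥ : Subgroup G) (s ^ j) (c ^ j) 1 := by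
    intro j
    induction j with
    | zero => rw [pow_zero, pow_zero]; exact SL.one
    | succ j ih =>
      have h1 := C.sl_mul ih h
      rw [← pow_succ, mul_one] at h1
      have e : c ^ j * (1 : F ≃+* F) c = c ^ (j + 1) := by
        rw [pow_succ]; rfl
      rwa [e] at h1
  have h1 := hpow (2 ^ k)
  rw [hk] at h1
  have h2 := (SL.unique C.hS C.pw_bot h1 SL.one).1
  have h3 : c = 1 := by
    have hinj : ∀ (j : ℕ) (x : F), x ^ 2 ^ j = 1 → x = 1 := by
      intro j x hx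
      have h4 : (x - 1) ^ 2 ^ j = 0 := by
        rw [sub_pow_char_pow, hx, one_pow, sub_self]
      exact sub_eq_zero.mp ((pow_eq_zero_iff (by positivity)).mp h4)
    exact hinj k c h2
  rw [h3] at h
  exact C.mem_T0_of_triv hR hX hle hs hsN h

/-- elements of `T0` act trivially on `P / Z(P)` -/
theorem sl_of_mem_T0 {s : G} (hs : s ∈ C.T0 hR) : SL C.p (⊥ : Subgroup G) s 1 1 := by
  obtain ⟨r, hr, x, rfl⟩ := hs
  intro y
  refine ⟨x * y * x⁻¹, 1, one_mem _, ?_, ?_⟩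
  · have h1 : r * C.p (x * y * x⁻¹) = C.p (x * y * x⁻¹) * r := C.comm_K (hR.le hr) (C.p_mem _)
    calc r * C.p x * C.p y * (r * C.p x)⁻¹ = r * C.p (x * y * x⁻¹) * r⁻¹ := by
          rw [map_mul, map_mul, map_inv]; group
      _ = 1 * C.p (x * y * x⁻¹) := by rw [h1]; group
  · rw [mul_a, mul_a, inv_a, one_mul]
    show x.a + y.a + x.a = y.a
    have := CharTwo.add_self_eq_zero x.a
    linear_combination this

end Ctx

end Cfsg.Agent.StdU3.Ctx
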