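import Mathlib
import Cfsg.Agent.StdU3.Ctx

/-!
# Fusion of `t` into `Z(T0)` is controlled by `N(T0)`
-/

set_option autoImplicit false
set_option linter.unusedSectionVars false
set_option linter.dupNamespace false

namespace Cfsg.Agent.StdU3.Fuse

open Subgroup Cfsg.Agent.LieRecognition.HermHeis Cfsg.Agent.StdU3.URel Cfsg.Agent.StdU3.Semi
  Cfsg.Agent.StdU3.Field Cfsg.Agent.StdU3.FieldAut Cfsg.Agent.StdSz Cfsg.Agent.StdU3.Ctx
open Cfsg.Agent.StdSz.FromStd.Ctx (IsR)

section General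

variable {G : Type*} [Group G] [Finite G]

/-- `X` is a maximal 2-subgroup of `C` -/
structure Mx (C X : Subgroup G) : Prop where
  two : IsPGroup 2 X
  le : X ≤ C
  max : ∀ Y : Subgroup G, IsPGroup 2 Y → Y ≤ C → X ≤ Y → Y = X

theorem exists_mx {C Y : Subgroup G} (hY : IsPGroup 2 Y) (hYC : Y ≤ C) : ∃ X, Mx C X ∧ Y ≤ X := by
  have h1 : IsPGroup 2 (Y.subgroupOf C) := hY.comap_subtype
  obtain ⟨P, hP⟩ := h1.exists_le_sylow
  refine ⟨(P : Subgroup C).map C.subtype, ⟨P.isPGroup'.map _, ?_, ?_⟩, ?_⟩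
  · rintro _ ⟨x, -, rfl⟩
    exact x.2
  · intro Z hZ hZC hle
    have h2 : IsPGroup 2 (Z.subgroupOf C) := hZ.comap_subtype
    have h3 : (P : Subgroup C) ≤ Z.subgroupOf C := by
      intro x hx
      exact mem_subgroupOf.mpr (hle ⟨x, hx, rfl⟩)
    have h4 := P.is_maximal' h2 h3
    apply le_antisymm
    · intro x hx
      have h5 : (⟨x, hZC hx⟩ : C) ∈ Z.subgroupOf C := mem_subgroupOf.mpr hx
      rw [h4] at h5
      exact ⟨_, h5, rfl⟩
    · exact hle
  · intro x hx
    exact ⟨⟨x, hYC hx⟩, hP (mem_subgroupOf.mpr hx), rfl⟩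

/-- 2-subgroups of `C` are conjugate into a maximal one. -/
theorem Mx.exists_conj {C X : Subgroup G} (hX : Mx C X) {Y : Subgroup G} (hY : IsPGroup 2 Y)
    (hYC : Y ≤ C) : ∃ c ∈ C, ∀ y ∈ Y, c⁻¹ * y * c ∈ X := by
  have : Fact (Nat.Prime 2) := ⟨Nat.prime_two⟩
  have h1 : IsPGroup 2 (Y.subgroupOf C) := hY.comap_subtype
  obtain ⟨P, hP⟩ := h1.exists_le_sylow
  let S : Sylow 2 C :=
    { toSubgroup := X.subgroupOf C
      isPGroup' := hX.two.comap_subtype
      is_maximal' := by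
        intro R hR hle
        have h1 : IsPGroup 2 (R.map C.subtype) := hR.map _
        have h2 : X ≤ R.map C.subtype := by
          intro x hx
          exact ⟨⟨x, hX.le hx⟩, hle (mem_subgroupOf.mpr hx), rfl⟩
        have h3 : R.map C.subtype ≤ C := by
          rintro _ ⟨x, -, rfl⟩
          exact x.2
        have h4 := hX.max _ h1 h3 h2
        apply le_antisymm
        · intro x hx
          rw [mem_subgroupOf, ← h4]
          exact ⟨x, hx, rfl⟩
        · exact hle }
  obtain ⟨g, hg⟩ := MulAction.exists_smul_eq C S P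
  refine ⟨g, g.2, ?_⟩
  intro y hy
  have h2 : (⟨y, hYC hy⟩ : C) ∈ (P : Subgroup C) := hP (mem_subgroupOf.mpr hy)
  rw [← hg, Sylow.smul_def, Sylow.pointwise_smul_def,
    Subgroup.mem_pointwise_smul_iff_inv_smul_mem] at h2
  have h3 : (MulAut.conj g)⁻¹ • (⟨y, hYC hy⟩ : C) = g⁻¹ * ⟨y, hYC hy⟩ * g := by
    show (MulAut.conj g)⁻¹ (⟨y, hYC hy⟩ : C) = _
    rw [← map_inv, MulAut.conj_apply, inv_inv]
  rw [h3] at h2
  exact mem_subgroupOf.mp h2

theorem Mx.map {C X : Subgroup G} (hX : Mx C X) (g : G) :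
    Mx (C.map (MulAut.conj g).toMonoidHom) (X.map (MulAut.conj g).toMonoidHom) := by
  refine ⟨hX.two.map _, Subgroup.map_mono hX.le, ?_⟩
  intro Y hY hYC hle
  have hiff : ∀ (Z : Subgroup G) (x : G), x ∈ Z.map (MulAut.conj g).toMonoidHom ↔ g⁻¹ * x * g ∈ Z := by
    intro Z x
    constructor
    · rintro ⟨w, hw, rfl⟩
      have : g⁻¹ * (MulAut.conj g).toMonoidHom w * g = w := by
        show g⁻¹ * (g * w * g⁻¹) * g = w
        group
      rw [this]; exact hw
    · intro h
      refine ⟨_, h, ?_⟩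
      show g * (g⁻¹ * x * g) * g⁻¹ = x
      group
  have h1 : IsPGroup 2 (Y.map (MulAut.conj g⁻¹).toMonoidHom) := hY.map _
  have h2 := hX.max _ h1 (by
    rintro _ ⟨y, hy, rfl⟩
    have := (hiff C y).mp (hYC hy)
    show g⁻¹ * y * g⁻¹⁻¹ ∈ C
    rwa [inv_inv]) (by
    intro x hx
    refine ⟨g * x * g⁻¹, hle ((hiff X _).mpr ?_), ?_⟩
    · have : g⁻¹ * (g * x * g⁻¹) * g = x := by group
      rwa [this]
    · show g⁻¹ * (g * x * g⁻¹) * g⁻¹⁻¹ = x
      group)
  apply le_antisymm _ hle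
  intro y hy
  rw [hiff, ← h2]
  refine ⟨y, hy, ?_⟩
  show g⁻¹ * y * g⁻¹⁻¹ = g⁻¹ * y * g
  rw [inv_inv]

theorem mem_map_conj {Z : Subgroup G} {g x : G} :
    x ∈ Z.map (MulAut.conj g).toMonoidHom ↔ g⁻¹ * x * g ∈ Z := by
  constructor
  · rintro ⟨w, hw, rfl⟩
    have : g⁻¹ * (MulAut.conj g).toMonoidHom w * g = w := by
      show g⁻¹ * (g * w * g⁻¹) * g = w
      group
    rw [this]; exact hw
  · intro h
    refine ⟨_, h, ?_⟩
    show g * (g⁻¹ * x * g) * g⁻¹ = x
    group

/-- for a maximal 2-subgroup `T` of `C(t)` and a 2-group `Y` centralising `g t g⁻¹`, we may change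
`g` such that `g⁻¹ Y g ≤ T`. -/
theorem exists_conj_into {T : Subgroup G} {t : G} (hT : Mx (centralizer ({t} : Set G)) T) (g : G)
    {Y : Subgroup G} (hY : IsPGroup 2 Y) (hYt : ∀ y ∈ Y, (g * t * g⁻¹) * y = y * (g * t * g⁻¹)) :
    ∃ g', g' * t * g'⁻¹ = g * t * g⁻¹ ∧ ∀ y ∈ Y, g'⁻¹ * y * g' ∈ T := by
  have h1 := hT.map g
  obtain ⟨c, hc, h2⟩ := h1.exists_conj hY (by
    intro y hy
    rw [mem_map_conj, mem_centralizer_singleton_iff]
    have h3 := hYt y hy
    calc g⁻¹ * y * g * t = g⁻¹ * (y * (g * t * g⁻¹)) * g := by group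
      _ = g⁻¹ * ((g * t * g⁻¹) * y) * g := by rw [h3]
      _ = t * (g⁻¹ * y * g) := by group)
  refine ⟨c * g, ?_, ?_⟩
  · rw [mem_map_conj, mem_centralizer_singleton_iff] at hc
    have h3 : c * (g * t * g⁻¹) = (g * t * g⁻¹) * c := by
      calc c * (g * t * g⁻¹) = g * ((g⁻¹ * c * g) * t) * g⁻¹ := by group
        _ = g * (t * (g⁻¹ * c * g)) * g⁻¹ := by rw [hc]
        _ = (g * t * g⁻¹) * c := by group
    calc c * g * t * (c * g)⁻¹ = (c * (g * t * g⁻¹)) * c⁻¹ := by group
      _ = (g * t * g⁻¹) * c * c⁻¹ := by rw [h3]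
      _ = g * t * g⁻¹ := by group
  · intro y hy
    have h3 := h2 y hy
    rw [mem_map_conj] at h3
    have e : g⁻¹ * (c⁻¹ * y * c) * g = (c * g)⁻¹ * y * (c * g) := by group
    rwa [e] at h3

end General

variable {G : Type*} [Group G] [Finite G] {F : Type*} [Field F] [Fintype F] [CharP F 2]
  {σ : F →+* F} [hσ : Fact (∀ x, σ (σ x) = x)] {n : ℕ}
variable {A : Subgroup G} {t : G} (C : Ctx A t σ n) {R0 : Subgroup G} (hR : IsR A t R0)

/-- each central element of `Heis σ` is a commutator -/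
theorem exists_commutator (hS : Sg σ n) {z : Heis σ} (hz : z.a = 0) :
    ∃ x y : Heis σ, z = x * y * x⁻¹ * y⁻¹ := by
  obtain ⟨e, he⟩ := sg_tr hS z.b (b_fixed_of_a_eq_zero hz)
  obtain ⟨x, hx⟩ := exists_a hS (1 : F)
  obtain ⟨y, hy⟩ := exists_a hS e
  refine ⟨x, y, ?_⟩
  rw [eq_mul_inv_iff_mul_eq, eq_mul_inv_iff_mul_eq]
  ext
  · simp only [mul_a, hz, hx, hy]; ring
  · simp only [mul_b, hz, hx, hy, map_one, mul_a]
    have := CharTwo.two_eq_zero (R := F)
    linear_combination (-1 : F) * he + e * this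

theorem T_comm {T : Subgroup G} (hT : Mx (centralizer ({t} : Set G)) T) {x : G} (hx : x ∈ T) :
    x * t = t * x := mem_centralizer_singleton_iff.mp (hT.le hx)

include C hR in
/-- a maximal 2-subgroup of `C(t)` containing `T0` -/
theorem exists_T : ∃ T, Mx (centralizer ({t} : Set G)) T ∧ C.T0 hR ≤ T :=
  exists_mx (C.T0_two hR) (fun _ hx => mem_centralizer_singleton_iff.mpr (C.T0_comm_t hR hx))

/-- The semilinear action of `T`, as functions. -/
theorem exists_tau {T : Subgroup G} (hT : Mx (centralizer ({t} : Set G)) T) (hle : C.T0 hR ≤ T) :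
    ∃ (c : T → F) (τ : T → (F ≃+* F)), (∀ s : T, SL C.p (⊥ : Subgroup G) (s : G) (c s) (τ s)) ∧
      (∀ s s', τ (s * s') = τ s * τ s') ∧ (∀ s, c s ≠ 0) ∧ ∀ s, τ s = 1 ↔ (s : G) ∈ C.T0 hR := by
  have h : ∀ s : T, ∃ c : F, c ≠ 0 ∧ ∃ τ : F ≃+* F, SL C.p (⊥ : Subgroup G) (s : G) c τ := by
    intro s
    obtain ⟨c, hc, τ, h1, -⟩ := C.exists_sl hR hT.two hle s.2 (C.norm_t (T_comm hT s.2))
    exact ⟨c, hc, τ, h1⟩
  choose c hc τ hsl using h
  refine ⟨c, τ, hsl, ?_, hc, ?_⟩
  · intro s s'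
    exact (SL.unique C.hS C.pw_bot (hsl (s * s')) (C.sl_mul (hsl s) (hsl s'))).2
  · intro s
    constructor
    · intro h1
      have h2 := hsl s
      rw [h1] at h2
      exact C.mem_T0_of_one hR hT.two hle s.2 (C.norm_t (T_comm hT s.2)) h2
    · intro h1
      exact (SL.unique C.hS C.pw_bot (hsl s) (C.sl_of_mem_T0 hR h1)).2

/-- **Fusion.** If `g t g⁻¹` centralises `T0` there is `g' ∈ N(T0)` with `g' t g'⁻¹ = g t g⁻¹`. -/
theorem fusion {g : G} (hg : ∀ y ∈ C.T0 hR, (g * t * g⁻¹) * y = y * (g * t * g⁻¹)) :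
    ∃ g' ∈ normalizer (C.T0 hR : Set G), g' * t * g'⁻¹ = g * t * g⁻¹ := by
  classical
  obtain ⟨T, hT, hle⟩ := exists_T C hR
  obtain ⟨g', hg', hin⟩ := exists_conj_into hT g (C.T0_two hR) hg
  refine ⟨g', ?_, hg'⟩
  obtain ⟨c, τ, hsl, hmul, hc0, hone⟩ := exists_tau C hR hT hle
  have hq := C.hS.hq
  -- the homomorphism `y ↦ y* = g'⁻¹ y g'`
  let st : C.T0 hR →* T :=
    { toFun := fun y => ⟨g'⁻¹ * y * g', hin y y.2⟩
      map_one' := Subtype.ext (by simp)
      map_mul' := fun x y => Subtype.ext (by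
        show g'⁻¹ * ((x : G) * y) * g' = g'⁻¹ * x * g' * (g'⁻¹ * y * g')
        group) }
  let χ : C.T0 hR →* (F ≃+* F) :=
    { toFun := fun y => τ (st y)
      map_one' := by
        rw [hone, map_one]
        exact one_mem _
      map_mul' := fun x y => by rw [map_mul, hmul] }
  let P : Heis σ →* C.T0 hR :=
    { toFun := fun x => ⟨C.p x, C.p_mem_T0 hR x⟩
      map_one' := Subtype.ext (map_one _)
      map_mul' := fun x y => Subtype.ext (map_mul _ _ _) }
  have hPv : ∀ x, ((P x : C.T0 hR) : G) = C.p x := fun x => rfl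
  -- on central elements `χ` is trivial
  have hχz : ∀ z : Heis σ, z.a = 0 → χ (P z) = 1 := by
    intro z hz
    obtain ⟨x, y, rfl⟩ := exists_commutator C.hS hz
    rw [map_mul, map_mul, map_mul, map_mul, map_mul, map_mul, map_inv, map_inv, map_inv, map_inv,
      mul_assoc, mul_assoc, FieldAut.comm (χ (P x))⁻¹, ← mul_assoc (χ (P y)), mul_inv_cancel,
      one_mul, mul_inv_cancel]
  have hχ2 : ∀ x : Heis σ, χ (P x) * χ (P x) = 1 := by
    intro x
    rw [← map_mul, ← map_mul]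
    exact hχz _ (sq_a x)
  have hχ : ∀ x : Heis σ, χ (P x) = 1 ∨ χ (P x) = barE hq := by
    intro x
    by_cases h : χ (P x) = 1
    · exact Or.inl h
    · exact Or.inr (eq_bar hq (hχ2 x) h)
  let H : Subgroup (Heis σ) := (χ.comp P).ker
  have hH : ∀ x, x ∈ H ↔ χ (P x) = 1 := fun x => MonoidHom.mem_ker
  have hHz : ∀ z : Heis σ, z.a = 0 → z ∈ H := fun z hz => (hH z).mpr (hχz z hz)
  -- the first coordinates of `H`
  have hcount : 2 ^ n < Set.ncard ((fun x : Heis σ => x.a) '' (H : Set (Heis σ))) := by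
    have h4 := four_le hq
    set a1 := (fun x : Heis σ => x.a) '' (H : Set (Heis σ)) with ha1
    have hcov : ∃ f0 : F, (Set.univ : Set F) ⊆ a1 ∪ (fun x => x + f0) '' a1 := by
      by_cases hall : ∀ x : Heis σ, x ∈ H
      · refine ⟨0, ?_⟩
        intro a _
        obtain ⟨x, hx⟩ := exists_a C.hS a
        exact Or.inl ⟨x, hall x, hx⟩
      · push Not at hall
        obtain ⟨x0, hx0⟩ := hall
        refine ⟨x0.a, ?_⟩
        intro a _
        obtain ⟨x, hx⟩ := exists_a C.hS a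
        by_cases hxH : x ∈ H
        · exact Or.inl ⟨x, hxH, hx⟩
        · right
          refine ⟨(x * x0).a, ⟨x * x0, ?_, rfl⟩, ?_⟩
          · rw [SetLike.mem_coe, hH, map_mul, map_mul, (hχ x).resolve_left (fun h => hxH ((hH x).mpr h)),
              (hχ x0).resolve_left (fun h => hx0 ((hH x0).mpr h))]
            ext y
            show bar n (bar n y) = y
            exact bar_bar hq y
          · show (x * x0).a + x0.a = a
            rw [mul_a, hx, add_assoc, CharTwo.add_self_eq_zero, add_zero]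
    obtain ⟨f0, hcov⟩ := hcov
    have h1 := Set.ncard_le_ncard hcov (Set.toFinite _)
    rw [Set.ncard_univ, Nat.card_eq_fintype_card, hq.hK] at h1
    have h2 := Set.ncard_union_le a1 ((fun x => x + f0) '' a1)
    have h3 := Set.ncard_image_le (f := fun x => x + f0) (Set.toFinite a1)
    nlinarith
  -- decomposition of the starred elements of `H`
  have hdec : ∀ x : H, ∃ r ∈ R0, ∃ v : Heis σ, g'⁻¹ * C.p x * g' = r * C.p v := by
    intro x
    have h1 : ((st (P x) : T) : G) ∈ C.T0 hR := (hone _).mp ((hH x).mp x.2)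
    exact h1
  choose r hr v hv using hdec
  have hcen : ∀ x, r x ∈ centralizer (A : Set G) := fun x => hR.le (hr x)
  have hvmul : ∀ x y : H, v (x * y) = v x * v y := by
    intro x y
    have h1 : r (x * y) * C.p (v (x * y)) = (r x * r y) * C.p (v x * v y) := by
      rw [← hv]
      have e : g'⁻¹ * C.p ((x * y : H) : Heis σ) * g' = (g'⁻¹ * C.p x * g') * (g'⁻¹ * C.p y * g') := by
        rw [Subgroup.coe_mul, map_mul]; group
      rw [e, hv, hv, map_mul]
      calc r x * C.p (v x) * (r y * C.p (v y)) = r x * (C.p (v x) * r y) * C.p (v y) := by group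
        _ = r x * (r y * C.p (v x)) * C.p (v y) := by rw [C.comm_K (hcen y) (C.p_mem (v x))]
        _ = r x * r y * (C.p (v x) * C.p (v y)) := by group
    exact (C.cancel (hcen _) (mul_mem (hcen x) (hcen y)) h1).2
  have hcomm : ∀ x y : H, v x * v y = v y * v x ↔ (x : Heis σ) * y = y * x := by
    intro x y
    constructor
    · intro h
      apply C.p_inj
      have e1 : ∀ x y : H, C.p ((x : Heis σ) * y) = g' * ((r x * r y) * C.p (v x * v y)) * g'⁻¹ := by
        intro x y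
        have h2 := hv x
        have h3 := hv y
        have h4 : r y * C.p (v x) = C.p (v x) * r y := C.comm_K (hcen y) (C.p_mem (v x))
        calc C.p ((x : Heis σ) * y) = g' * ((g'⁻¹ * C.p x * g') * (g'⁻¹ * C.p y * g')) * g'⁻¹ := by
              rw [map_mul]; group
          _ = g' * (r x * (C.p (v x) * r y) * C.p (v y)) * g'⁻¹ := by rw [h2, h3]; group
          _ = g' * ((r x * r y) * C.p (v x * v y)) * g'⁻¹ := by rw [← h4, map_mul]; group
      rw [e1, e1, h, C.R0_comm hR (hr x) (hr y)]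
    · intro h
      rw [← hvmul, ← hvmul]
      congr 1
      exact Subtype.ext h
  -- the centraliser of a noncentral element is small
  have hsmall : ∀ e : F, e ≠ 0 → ∀ S : Set F, (∀ s ∈ S, e * σ s = s * σ e) → S.ncard ≤ 2 ^ n := by
    intro e he S hSS
    have h1 : (fun x => x / e) '' S ⊆ {x : F | barE hq x = x} := by
      rintro _ ⟨s, hs, rfl⟩
      show bar n (s / e) = s / e
      rw [← C.hS.eq]
      have h2 := hSS s hs
      have hse : σ e ≠ 0 := fun h0 => he ((map_eq_zero σ).mp h0)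
      rw [map_div₀, div_eq_div_iff hse he]
      linear_combination h2
    have h2 := Set.ncard_le_ncard h1 (Set.toFinite _)
    rw [Set.ncard_image_of_injective _ (fun x y hxy => by
      have hxy : x / e = y / e := hxy
      field_simp at hxy
      exact hxy)] at h2
    have h3 : Set.ncard {x : F | barE hq x = x} = Nat.card {x : F // barE hq x = x} :=
      (Nat.card_coe_set_eq _).symm
    have h4 := card_fix_le hq (barE_ne_one hq)
    omega
  -- `v x` central implies `x` central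
  have hker : ∀ x : H, (v x).a = 0 → (x : Heis σ).a = 0 := by
    intro x hx
    by_contra h0
    have h1 : ∀ y : H, (x : Heis σ) * y = y * x := by
      intro y
      rw [← hcomm, comm_of_a_eq_zero hx]
    have h2 := hsmall _ h0 ((fun x : Heis σ => x.a) '' (H : Set (Heis σ))) (by
      rintro _ ⟨y, hy, rfl⟩
      exact (commute_iff _ _).mp (h1 ⟨y, hy⟩))
    omega
  -- the number of first coordinates of the `v x`
  have hcount2 : 2 ^ n < Set.ncard (Set.range (fun x : H => (v x).a)) := by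
    refine lt_of_lt_of_le hcount ?_
    -- `(v x).a` determines `x.a`
    have hdet : ∀ x y : H, (v x).a = (v y).a → (x : Heis σ).a = (y : Heis σ).a := by
      intro x y h
      have h1 := hker (x * y) (by rw [hvmul, mul_a, h]; exact CharTwo.add_self_eq_zero _)
      rw [Subgroup.coe_mul, mul_a] at h1
      exact CharTwo.add_eq_zero.mp h1
    have h1 : ∀ e : Set.range (fun x : H => (v x).a), ∃ x : H, (v x).a = e := fun e => e.2
    choose w hw using h1
    let f : F → F := fun e => if h : e ∈ Set.range (fun x : H => (v x).a) then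
      ((w ⟨e, h⟩ : H) : Heis σ).a else 0
    have h2 : (fun x : Heis σ => x.a) '' (H : Set (Heis σ)) ⊆
        f '' (Set.range (fun x : H => (v x).a)) := by
      rintro _ ⟨x, hx, rfl⟩
      refine ⟨(v ⟨x, hx⟩).a, ⟨⟨x, hx⟩, rfl⟩, ?_⟩
      have h3 : (v ⟨x, hx⟩).a ∈ Set.range (fun x : H => (v x).a) := ⟨⟨x, hx⟩, rfl⟩
      show (if h : (v ⟨x, hx⟩).a ∈ Set.range (fun x : H => (v x).a) then
        ((w ⟨_, h⟩ : H) : Heis σ).a else 0) = x.a
      rw [dif_pos h3]
      exact hdet _ ⟨x, hx⟩ (hw ⟨_, h3⟩)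
    exact (Set.ncard_le_ncard h2 (Set.toFinite _)).trans (Set.ncard_image_le (Set.toFinite _))
  -- central elements go to central elements
  have hvz : ∀ (z : Heis σ) (hz : z.a = 0), (v ⟨z, hHz z hz⟩).a = 0 := by
    intro z hz
    by_contra h0
    have h2 := hsmall _ h0 (Set.range (fun x : H => (v x).a)) (by
      rintro _ ⟨y, rfl⟩
      have h3 : (z : Heis σ) * y = y * z := comm_of_a_eq_zero hz _
      exact (commute_iff _ _).mp ((hcomm ⟨z, hHz z hz⟩ y).mpr h3))
    omega
  -- elements of `T0` are mapped into `T0`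
  have hfin : ∀ y ∈ C.T0 hR, g'⁻¹ * y * g' ∈ C.T0 hR := by
    intro y hy
    have hyT := hin y hy
    have hyN : g'⁻¹ * y * g' ∈ normalizer (A : Set G) := C.norm_t (T_comm hT hyT)
    set s : T := ⟨g'⁻¹ * y * g', hyT⟩ with hs
    have hfix : ∀ e ∈ Set.range (fun x : H => (v x).a), c s * τ s e = e := by
      rintro _ ⟨x, rfl⟩
      show c s * τ s (v x).a = (v x).a
      obtain ⟨r0, hr0, u, rfl⟩ := hy
      -- `y p(x) y⁻¹ = p(x) p(z)`
      have hz : ((x : Heis σ)⁻¹ * (u * x * u⁻¹)).a = 0 := by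
        simp only [mul_a, inv_a]
        have := CharTwo.two_eq_zero (R := F)
        linear_combination ((x : Heis σ).a + u.a) * this
      set z : Heis σ := (x : Heis σ)⁻¹ * (u * x * u⁻¹) with hzdef
      have h1 : (r0 * C.p u) * C.p x * (r0 * C.p u)⁻¹ = C.p x * C.p z := by
        have h2 : r0 * C.p (u * x * u⁻¹) = C.p (u * x * u⁻¹) * r0 := C.comm_K (hR.le hr0) (C.p_mem _)
        calc (r0 * C.p u) * C.p x * (r0 * C.p u)⁻¹ = r0 * C.p (u * x * u⁻¹) * r0⁻¹ := by
              rw [map_mul, map_mul, map_inv]; group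
          _ = C.p (u * x * u⁻¹) := by rw [h2]; group
          _ = C.p x * C.p z := by rw [← map_mul, hzdef, mul_inv_cancel_left]
      -- star it
      have h2 : (s : G) * (r x * C.p (v x)) * (s : G)⁻¹ =
          (r x * C.p (v x)) * (r ⟨z, hHz z hz⟩ * C.p (v ⟨z, hHz z hz⟩)) := by
        rw [← hv, ← hv]
        show g'⁻¹ * (r0 * C.p u) * g' * (g'⁻¹ * C.p x * g') * (g'⁻¹ * (r0 * C.p u) * g')⁻¹ =
          g'⁻¹ * C.p x * g' * (g'⁻¹ * C.p z * g')
        calc g'⁻¹ * (r0 * C.p u) * g' * (g'⁻¹ * C.p x * g') * (g'⁻¹ * (r0 * C.p u) * g')⁻¹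
            = g'⁻¹ * ((r0 * C.p u) * C.p x * (r0 * C.p u)⁻¹) * g' := by group
          _ = g'⁻¹ * (C.p x * C.p z) * g' := by rw [h1]
          _ = g'⁻¹ * C.p x * g' * (g'⁻¹ * C.p z * g') := by group
      obtain ⟨w, r1, hr1, h3, h4⟩ := hsl s (v x)
      rw [mem_bot] at hr1
      subst hr1
      rw [one_mul] at h3
      have h5 : (s : G) * r x * (s : G)⁻¹ ∈ centralizer (A : Set G) := by
        rw [mem_centralizer_iff]
        intro b hb
        have h6 : (s : G)⁻¹ * b * s ∈ A := by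
          have := (mem_normalizer_iff.mp (inv_mem hyN) b).mp hb
          rwa [inv_inv] at this
        have h7 := C.comm_K (hcen x) h6
        calc b * (s * r x * (s : G)⁻¹) = s * (((s : G)⁻¹ * b * s) * r x) * (s : G)⁻¹ := by group
          _ = s * (r x * ((s : G)⁻¹ * b * s)) * (s : G)⁻¹ := by rw [h7]
          _ = s * r x * (s : G)⁻¹ * b := by group
      have h6 : ((s : G) * r x * (s : G)⁻¹) * C.p w =
          (r x * r ⟨z, hHz z hz⟩) * C.p (v x * v ⟨z, hHz z hz⟩) := by
        have h8 : r ⟨z, hHz z hz⟩ * C.p (v x) = C.p (v x) * r ⟨z, hHz z hz⟩ :=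
          C.comm_K (hcen _) (C.p_mem _)
        calc ((s : G) * r x * (s : G)⁻¹) * C.p w = s * (r x * C.p (v x)) * (s : G)⁻¹ := by
              rw [← h3]; group
          _ = (r x * C.p (v x)) * (r ⟨z, hHz z hz⟩ * C.p (v ⟨z, hHz z hz⟩)) := h2
          _ = r x * (C.p (v x) * r ⟨z, hHz z hz⟩) * C.p (v ⟨z, hHz z hz⟩) := by group
          _ = (r x * r ⟨z, hHz z hz⟩) * C.p (v x * v ⟨z, hHz z hz⟩) := by
              rw [← h8, map_mul]; group
      have h7 := (C.cancel h5 (mul_mem (hcen _) (hcen _)) h6).2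
      rw [← h4, h7, mul_a, hvz z hz, add_zero]
    obtain ⟨h1, -⟩ := eq_one_of_fixed hq hcount2 hfix
    exact (hone s).mp h1
  -- conclusion
  have h1 : C.T0 hR ≤ (C.T0 hR).map (MulAut.conj g').toMonoidHom := by
    intro y hy
    rw [mem_map_conj]
    exact hfin y hy
  have h2 : (C.T0 hR).map (MulAut.conj g').toMonoidHom = C.T0 hR := by
    symm
    apply Subgroup.eq_of_le_of_card_ge h1
    exact (Nat.card_congr ((C.T0 hR).equivMapOfInjective _ (MulAut.conj g').injective).toEquiv).symm.le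
  rw [mem_normalizer_iff]
  intro x
  constructor
  · intro hx
    rw [← h2, mem_map_conj]
    have e : g'⁻¹ * (g' * x * g'⁻¹) * g' = x := by group
    rwa [e]
  · intro hx
    have := hfin _ hx
    have e : g'⁻¹ * (g' * x * g'⁻¹) * g' = x := by group
    rwa [e] at this

end Cfsg.Agent.StdU3.Fuse
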