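import Mathlib
import Cfsg.Agent.StdU3.Fuse

/-!
# `N(T0)` does not centralise `t`, and `|R0| = 2`
-/

set_option autoImplicit false
set_option linter.unusedSectionVars false
set_option linter.dupNamespace false

namespace Cfsg.Agent.StdU3.Move

open Subgroup Cfsg.Agent.LieRecognition.HermHeis Cfsg.Agent.StdU3.URel Cfsg.Agent.StdU3.Semi
  Cfsg.Agent.StdU3.Field Cfsg.Agent.StdU3.FieldAut Cfsg.Agent.StdSz Cfsg.Agent.StdU3.Ctx
  Cfsg.Agent.StdU3.Fuse
open Cfsg.Agent.StdSz.FromStd.Ctx (IsR)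
open Cfsg.Agent.StdSz.FromStd (isCyclic_of_le involution_unique)

variable {G : Type*} [Group G] [Finite G] {F : Type*} [Field F] [Fintype F] [CharP F 2]
  {σ : F →+* F} [hσ : Fact (∀ x, σ (σ x) = x)] {n : ℕ}

section Heis

theorem exists_sqrt (hS : Sg σ n) {b : F} (hb : σ b = b) : ∃ l : F, σ l = l ∧ l ^ 2 = b := by
  have hinj : Function.Injective (fun x : F => x ^ 2) := by
    intro x y h
    have h1 : (x - y) ^ 2 = 0 := by
      have := CharTwo.two_eq_zero (R := F)
      have h : x ^ 2 = y ^ 2 := h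
      linear_combination h + (y ^ 2 - x * y) * this
    exact sub_eq_zero.mp ((pow_eq_zero_iff two_ne_zero).mp h1)
  obtain ⟨l, hl⟩ := Finite.surjective_of_injective hinj b
  have hl : l ^ 2 = b := hl
  refine ⟨l, ?_, hl⟩
  apply hinj
  show σ l ^ 2 = l ^ 2
  rw [← map_pow, hl, hb]

/-- for `c * σ c = 1` and `b` fixed there is `d` with `c σ(a) = a` and `a σ a = b`, for
`a = d + c σ d`. -/
theorem exists_d (hS : Sg σ n) {c : F} (hc : c * σ c = 1) {b : F} (hb : σ b = b) :
    ∃ d : F, σ c * d ^ 2 + c * (σ d) ^ 2 = b := by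
  -- a nonzero vector
  obtain ⟨f, hf⟩ : ∃ f : F, f + c * σ f ≠ 0 := by
    by_contra hcon
    push Not at hcon
    have h1 := hcon 1
    rw [map_one, mul_one] at h1
    have hc1 : c = 1 := (CharTwo.add_eq_zero.mp h1).symm
    apply barE_ne_one hS.hq
    ext x
    have h2 := hcon x
    rw [hc1, one_mul] at h2
    show bar n x = x
    rw [← hS.eq]
    exact (CharTwo.add_eq_zero.mp h2).symm
  set e := f + c * σ f with he
  have hce : c * σ e = e := by
    rw [he, map_add, map_mul, sig]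
    linear_combination f * hc
  have hN : e * σ e ≠ 0 := mul_ne_zero hf (fun h => hf ((map_eq_zero σ).mp h))
  have hfixN : σ (e * σ e) = e * σ e := by rw [map_mul, sig, mul_comm]
  obtain ⟨l, hl1, hl2⟩ := exists_sqrt hS (b := b / (e * σ e)) (by rw [map_div₀, hb, hfixN])
  refine ⟨l * f, ?_⟩
  rw [map_mul, hl1]
  have h3 : σ c * f ^ 2 + c * (σ f) ^ 2 = e * σ e := by
    rw [he, map_add, map_mul, sig]
    have := CharTwo.two_eq_zero (R := F)
    linear_combination (- f * σ f) * hc - (f * σ f) * this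
  have h4 : σ c * (l * f) ^ 2 + c * (l * σ f) ^ 2 = l ^ 2 * (σ c * f ^ 2 + c * (σ f) ^ 2) := by ring
  rw [h4, h3, hl2, div_mul_cancel₀ _ hN]

end Heis

variable {A : Subgroup G} {t : G} (C : Ctx A t σ n) {R0 : Subgroup G} (hR : IsR A t R0)

/-- An outer involution `y` of a 2-group normalising `P` is conjugate under `P` to all `y * p z`,
`z` central. -/
theorem outer_conj {y : G} (hy : y * y = 1) {c : F}
    (hsl : SL C.p (⊥ : Subgroup G) y c (barE C.hS.hq)) {z : Heis σ} (hz : z.a = 0) :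
    ∃ v, C.p v * y * (C.p v)⁻¹ = y * C.p z := by
  have hq := C.hS.hq
  have hyi : y⁻¹ = y := inv_eq_of_mul_eq_one_right hy
  -- `c σ c = 1`
  have hc : c * σ c = 1 := by
    have h1 := C.sl_mul hsl hsl
    rw [hy] at h1
    have h2 := (SL.unique C.hS C.pw_bot h1 SL.one).1
    have e : barE hq c = σ c := (C.hS.eq c).symm
    rw [← e]; exact h2
  obtain ⟨d, hd⟩ := exists_d C.hS hc (b_fixed_of_a_eq_zero hz)
  obtain ⟨x, hx⟩ := exists_a C.hS d
  obtain ⟨x', r, hr, h1, h2⟩ := hsl x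
  rw [mem_bot] at hr
  subst hr
  rw [one_mul] at h1
  have h2' : x'.a = c * σ d := by
    rw [h2, hx, C.hS.eq]; rfl
  refine ⟨x * x', ?_⟩
  have h3 : y * C.p x' * y⁻¹ = C.p x := by
    rw [← h1, hyi]
    calc y * (y * C.p x * y) * y = (y * y) * C.p x * (y * y) := by group
      _ = C.p x := by rw [hy, one_mul, mul_one]
  have h4 : x' * x = z * (x * x') := by
    ext
    · simp only [mul_a, hz]; ring
    · simp only [mul_b, mul_a, hz, hx, h2', map_mul, sig, map_add, zero_mul, add_zero]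
      have := CharTwo.two_eq_zero (R := F)
      linear_combination hd - (d ^ 2 * σ c) * this
  have h5 : y⁻¹ * C.p (x * x') * y = C.p (x' * x) := by
    have e1 : y⁻¹ * C.p x * y = C.p x' := by
      rw [← h1, hyi]
    have e2 : y⁻¹ * C.p x' * y = C.p x := by
      rw [← h3, hyi]
    calc y⁻¹ * C.p (x * x') * y = (y⁻¹ * C.p x * y) * (y⁻¹ * C.p x' * y) := by
          rw [map_mul]; group
      _ = C.p (x' * x) := by rw [e1, e2, map_mul]
  calc C.p (x * x') * y * (C.p (x * x'))⁻¹ = y * (y⁻¹ * C.p (x * x') * y) * (C.p (x * x'))⁻¹ := by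
        group
    _ = y * C.p (z * (x * x')) * (C.p (x * x'))⁻¹ := by rw [h5, h4]
    _ = y * C.p z := by rw [map_mul]; group

include C hR in
/-- `N(T0)` does not centralize `t`. -/
theorem exists_not_comm : ∃ g ∈ normalizer (C.T0 hR : Set G), g * t ≠ t * g := by
  classical
  have : Fact (Nat.Prime 2) := ⟨Nat.prime_two⟩
  by_contra hcon
  push Not at hcon
  have hq := C.hS.hq
  have hti := C.t_inv
  -- conjugates of `t` centralising `T0` are equal to `t`
  have hfus : ∀ g : G, (∀ y ∈ C.T0 hR, (g * t * g⁻¹) * y = y * (g * t * g⁻¹)) → g * t * g⁻¹ = t := by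
    intro g hg
    obtain ⟨g', hg', h⟩ := fusion C hR hg
    rw [← h, hcon g' hg', mul_inv_cancel_right]
  have hfus' : ∀ g : G, g * t * g⁻¹ ∈ C.T0 hR → g * t * g⁻¹ = t := by
    intro g hg
    apply hfus
    apply C.central_of_sq hR hg
    calc (g * t * g⁻¹) * (g * t * g⁻¹) = g * (t * t) * g⁻¹ := by group
      _ = 1 := by rw [C.tt, mul_one, mul_inv_cancel]
  obtain ⟨T, hT, hle⟩ := exists_T C hR
  obtain ⟨c, τ, hsl, hmul, hc0, hone⟩ := exists_tau C hR hT hle
  have hone1 : τ 1 = 1 := by rw [hone]; exact one_mem _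
  -- `T` is a Sylow 2-subgroup of `G`
  obtain ⟨P2, hP2⟩ := hT.two.exists_le_sylow
  have hP2e : (P2 : Subgroup G) = T := by
    by_contra hne
    have hlt : T < P2 := lt_of_le_of_ne hP2 (fun h => hne h.symm)
    have h1 := Cfsg.Agent.SignalizersComponents.StandardTrichotomy.lt_inf_normalizer P2.isPGroup' hlt
    have h2 := hT.max ((P2 : Subgroup G) ⊓ normalizer (T : Set G))
      (P2.isPGroup'.to_le inf_le_left) (by
        intro s hs
        rw [mem_centralizer_singleton_iff]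
        have hsn := hs.2
        have h3 : s * t * s⁻¹ = t := by
          apply hfus
          intro y hy
          have hyT : s⁻¹ * y * s ∈ T := by
            have := (mem_normalizer_iff.mp (inv_mem hsn) y).mp (hle hy)
            rwa [inv_inv] at this
          have h4 := T_comm hT hyT
          calc s * t * s⁻¹ * y = s * (t * (s⁻¹ * y * s)) * s⁻¹ := by group
            _ = s * ((s⁻¹ * y * s) * t) * s⁻¹ := by rw [h4]
            _ = y * (s * t * s⁻¹) := by group
        rwa [mul_inv_eq_iff_eq_mul] at h3) h1.le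
    exact absurd h1 (by rw [h2]; exact lt_irrefl _)
  -- Glauberman's theorem
  obtain ⟨h, hhT, hht⟩ : ∃ h : G, h * t * h⁻¹ ∈ T ∧ h * t * h⁻¹ ≠ t := by
    by_contra hno
    push Not at hno
    obtain ⟨N, hN, hNo, hNc⟩ := Cfsg.Agent.S0215.result P2 t C.ht
      (by
        show t ∈ (P2 : Subgroup G)
        rw [hP2e]; exact hle (C.t_mem_T0 hR)) (by
        intro g hg
        have hg : g * t * g⁻¹ ∈ (P2 : Subgroup G) := hg
        rw [hP2e] at hg
        exact hno g hg)
    have hNbot : N = ⊥ := by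
      have h1 := Cfsg.Agent.SignalizersComponents.CompBasic.subnormal_coprime_le_pPrimeCore (p := 2)
        hN.isSubnormal (Nat.coprime_two_right.mpr hNo)
      have h2 : Cfsg.pPrimeCore 2 G = ⊥ := C.S.oddCore
      rw [h2] at h1
      exact le_bot_iff.mp h1
    apply C.S.not_normal
    rw [← Subgroup.normalizer_eq_top_iff, eq_top_iff]
    intro g _
    apply C.norm_t
    have := hNc g
    rw [hNbot, mem_bot, mul_inv_eq_one, mul_inv_eq_iff_eq_mul] at this
    exact this.symm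
  set t' := h * t * h⁻¹ with ht'
  have ht't' : t' * t' = 1 := by
    calc (h * t * h⁻¹) * (h * t * h⁻¹) = h * (t * t) * h⁻¹ := by group
      _ = 1 := by rw [C.tt, mul_one, mul_inv_cancel]
  have ht'n : t' ∉ C.T0 hR := fun h0 => hht (hfus' h h0)
  -- `t'` centralises `Z`
  have houter : ∀ s : T, (s : G) * s = 1 → (s : G) ∉ C.T0 hR → τ s = barE hq := by
    intro s hs hsn
    apply eq_bar hq
    · rw [← hmul]
      have : s * s = 1 := Subtype.ext hs
      rw [this, hone1]
    · intro h0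
      exact hsn ((hone s).mp h0)
  have hcz : ∀ z : Heis σ, z.a = 0 → t' * C.p z = C.p z * t' := by
    intro z hz
    have h1 := houter ⟨t', hhT⟩ ht't' ht'n
    have h2 := hsl ⟨t', hhT⟩
    rw [h1] at h2
    obtain ⟨cc, -, ττ, h3, h4⟩ := C.exists_sl hR hT.two hle hhT (C.norm_t (T_comm hT hhT))
    obtain ⟨e1, e2⟩ := SL.unique C.hS C.pw_bot h3 h2
    obtain ⟨z', hz'a, hz'b, hz'⟩ := h4 z hz
    -- `c σ c = 1`
    have h5 := C.sl_mul h2 h2
    have h5' : SL C.p (⊥ : Subgroup G) 1 (c ⟨t', hhT⟩ * barE hq (c ⟨t', hhT⟩)) (barE hq * barE hq) := by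
      have : ((⟨t', hhT⟩ : T) : G) * ((⟨t', hhT⟩ : T) : G) = 1 := ht't'
      rwa [this] at h5
    have h6 := (SL.unique C.hS C.pw_bot h5' SL.one).1
    have h7 : c ⟨t', hhT⟩ * σ (c ⟨t', hhT⟩) = 1 := by
      rw [C.hS.eq]; exact h6
    rw [e1, e2, h7, one_mul] at hz'b
    have h8 : z' = z := by
      apply ext_z hz'a hz
      rw [hz'b]
      show bar n z.b = z.b
      rw [← C.hS.eq]; exact b_fixed_of_a_eq_zero hz
    rw [h8, mul_inv_eq_iff_eq_mul] at hz'
    exact hz'
  -- the group `⟨t⟩ Z`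
  let Y : Subgroup G :=
    { carrier := {g | ∃ z : Heis σ, z.a = 0 ∧ (g = C.p z ∨ g = C.p z * t)}
      mul_mem' := by
        rintro g g' ⟨z, hz, h⟩ ⟨z', hz', h'⟩
        refine ⟨z * z', by rw [mul_a, hz, hz', add_zero], ?_⟩
        rcases h with rfl | rfl <;> rcases h' with rfl | rfl
        · left; rw [map_mul]
        · right; rw [map_mul, mul_assoc]
        · right; rw [map_mul, mul_assoc, C.t_p, ← mul_assoc]
        · left
          rw [map_mul]
          calc C.p z * t * (C.p z' * t) = C.p z * (t * C.p z') * t := by group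
            _ = C.p z * C.p z' * (t * t) := by rw [C.t_p]; group
            _ = C.p z * C.p z' := by rw [C.tt, mul_one]
      one_mem' := ⟨1, rfl, Or.inl (map_one _).symm⟩
      inv_mem' := by
        rintro g ⟨z, hz, rfl | rfl⟩
        · exact ⟨z⁻¹, by rw [inv_a, hz], Or.inl (by rw [map_inv])⟩
        · refine ⟨z⁻¹, by rw [inv_a, hz], Or.inr ?_⟩
          rw [_root_.mul_inv_rev, hti, ← map_inv, C.t_p] }
  have hYmem : ∀ g, g ∈ Y ↔ ∃ z : Heis σ, z.a = 0 ∧ (g = C.p z ∨ g = C.p z * t) := fun g => Iff.rfl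
  have hYsq : ∀ g ∈ Y, g * g = 1 := by
    rintro g ⟨z, hz, h⟩
    have hzz : C.p z * C.p z = 1 := by
      rw [← map_mul, (Cfsg.Agent.LieRecognition.HermHeis.mul_self_eq_one_iff z).mpr hz, map_one]
    rcases h with rfl | rfl
    · exact hzz
    · calc C.p z * t * (C.p z * t) = C.p z * (t * C.p z) * t := by group
        _ = (C.p z * C.p z) * (t * t) := by rw [C.t_p]; group
        _ = 1 := by rw [hzz, C.tt, one_mul]
  have hY2 : IsPGroup 2 Y := by
    rintro ⟨g, hg⟩
    refine ⟨1, Subtype.ext ?_⟩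
    show g ^ 2 ^ 1 = 1
    rw [pow_one, pow_two]
    exact hYsq g hg
  have hYT0 : ∀ g ∈ Y, g ∈ C.T0 hR := by
    rintro g ⟨z, hz, rfl | rfl⟩
    · exact C.p_mem_T0 hR z
    · exact mul_mem (C.p_mem_T0 hR z) (C.t_mem_T0 hR)
  have hYt' : ∀ y ∈ Y, t' * y = y * t' := by
    rintro g ⟨z, hz, rfl | rfl⟩
    · exact hcz z hz
    · have h1 : t' * t = t * t' := T_comm hT hhT
      rw [← mul_assoc, hcz z hz, mul_assoc, h1, mul_assoc]
  obtain ⟨h1, hh1, hin⟩ := exists_conj_into hT h hY2 hYt'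
  have htY : t ∈ Y := ⟨1, rfl, Or.inr (by rw [map_one, one_mul])⟩
  -- `t* = h1⁻¹ t h1` is outer
  have hts : h1⁻¹ * t * h1 ∉ C.T0 hR := by
    intro h0
    have h2 := hfus' h1⁻¹ (by rwa [inv_inv])
    rw [inv_inv] at h2
    apply hht
    show h * t * h⁻¹ = t
    rw [← hh1]
    calc h1 * t * h1⁻¹ = h1 * (h1⁻¹ * t * h1) * h1⁻¹ := by rw [h2]
      _ = t := by group
  let st : Y →* T :=
    { toFun := fun y => ⟨h1⁻¹ * y * h1, hin y y.2⟩
      map_one' := Subtype.ext (by simp)
      map_mul' := fun x y => Subtype.ext (by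
        show h1⁻¹ * ((x : G) * y) * h1 = h1⁻¹ * x * h1 * (h1⁻¹ * y * h1)
        group) }
  have hstv : ∀ y : Y, ((st y : T) : G) = h1⁻¹ * y * h1 := fun y => rfl
  have hstsq : ∀ y : Y, ((st y : T) : G) * (st y : T) = 1 := by
    intro y
    rw [hstv]
    calc h1⁻¹ * y * h1 * (h1⁻¹ * y * h1) = h1⁻¹ * (y * y) * h1 := by group
      _ = 1 := by rw [hYsq y y.2, mul_one, inv_mul_cancel]
  have htst := houter (st ⟨t, htY⟩) (hstsq _) hts
  -- elements of `Y` whose star is in `T0`
  have hsel : ∀ b : F, σ b = b → b ≠ 0 → ∃ z : Heis σ, z.a = 0 ∧ z.b = b ∧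
      ∃ y : Y, ((y : G) = C.p z ∨ (y : G) = C.p z * t) ∧ h1⁻¹ * y * h1 ∈ C.T0 hR := by
    intro b hb hb0
    refine ⟨zet b hb, rfl, rfl, ?_⟩
    let y : Y := ⟨C.p (zet b hb), ⟨zet b hb, rfl, Or.inl rfl⟩⟩
    by_cases h2 : ((st y : T) : G) ∈ C.T0 hR
    · exact ⟨y, Or.inl rfl, h2⟩
    · refine ⟨y * ⟨t, htY⟩, Or.inr rfl, ?_⟩
      have h3 : τ (st (y * ⟨t, htY⟩)) = 1 := by
        rw [map_mul, hmul, houter _ (hstsq y) h2, htst]
        ext x
        show bar n (bar n x) = x
        exact bar_bar hq x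
      exact (hone _).mp h3
  -- the star of an element of `Y` lying in `T0` is `p z` or `t p z`
  have hform : ∀ y : Y, h1⁻¹ * (y : G) * h1 ∈ C.T0 hR →
      ∃ z : Heis σ, z.a = 0 ∧ (h1⁻¹ * (y : G) * h1 = C.p z ∨ h1⁻¹ * (y : G) * h1 = t * C.p z) := by
    intro y hy
    obtain ⟨r, hr, z, hz, h2⟩ := C.eq_of_sq hR hy (hstsq y)
    refine ⟨z, hz, ?_⟩
    rcases hr with rfl | rfl
    · left; rw [h2, one_mul]
    · right; exact h2
  -- key: an element `y ≠ 1` of `Y` with star `p z`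
  obtain ⟨y, hy1, z, hz, hyz⟩ : ∃ y : Y, (y : G) ≠ 1 ∧ ∃ z : Heis σ, z.a = 0 ∧
      h1⁻¹ * (y : G) * h1 = C.p z := by
    obtain ⟨l, hl, hl1⟩ := exists_fixed_ne hq
    obtain ⟨z1, hz1, hb1, y1, hy1, hs1⟩ := hsel 1 (map_one σ) one_ne_zero
    obtain ⟨z2, hz2, hb2, y2, hy2, hs2⟩ := hsel l (by rw [C.hS.eq, hl]) l.ne_zero
    obtain ⟨v1, hv1, hf1⟩ := hform y1 hs1
    obtain ⟨v2, hv2, hf2⟩ := hform y2 hs2
    have hne : ∀ (z : Heis σ) (y : Y), z.b ≠ 0 → ((y : G) = C.p z ∨ (y : G) = C.p z * t) →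
        (y : G) ≠ 1 := by
      intro z y hz h0 h2
      have h3 : C.p z = 1 ∨ C.p z = t := by
        rcases h0 with h0 | h0
        · left; rw [← h0, h2]
        · right
          rw [h2] at h0
          exact (eq_inv_of_mul_eq_one_left h0.symm).trans hti
      rcases h3 with h3 | h3
      · apply hz
        have : z = 1 := C.p_inj (by rw [h3, map_one])
        rw [this]; rfl
      · exact C.t_not z h3
    rcases hf1 with hf1 | hf1
    · exact ⟨y1, hne z1 y1 (by rw [hb1]; exact one_ne_zero) hy1, v1, hv1, hf1⟩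
    · rcases hf2 with hf2 | hf2
      · exact ⟨y2, hne z2 y2 (by rw [hb2]; exact l.ne_zero) hy2, v2, hv2, hf2⟩
      · refine ⟨y1 * y2, ?_, v1 * v2, by rw [mul_a, hv1, hv2, add_zero], ?_⟩
        · apply hne (z1 * z2)
          · rw [mul_b, hz1, zero_mul, add_zero, hb1, hb2]
            intro h0
            exact hl1 (CharTwo.add_eq_zero.mp h0).symm
          · have e : ((y1 * y2 : Y) : G) = (y1 : G) * y2 := rfl
            rw [e]
            rcases hy1 with hy1 | hy1 <;> rcases hy2 with hy2 | hy2 <;> rw [hy1, hy2]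
            · left; rw [map_mul]
            · right; rw [map_mul, mul_assoc]
            · right; rw [map_mul, mul_assoc, C.t_p, ← mul_assoc]
            · left
              rw [map_mul]
              calc C.p z1 * t * (C.p z2 * t) = C.p z1 * (t * C.p z2) * t := by group
                _ = C.p z1 * C.p z2 * (t * t) := by rw [C.t_p]; group
                _ = C.p z1 * C.p z2 := by rw [C.tt, mul_one]
        · have e : ((y1 * y2 : Y) : G) = (y1 : G) * y2 := rfl
          calc h1⁻¹ * ((y1 * y2 : Y) : G) * h1 = (h1⁻¹ * y1 * h1) * (h1⁻¹ * y2 * h1) := by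
                rw [e]; group
            _ = (t * C.p v1) * (t * C.p v2) := by rw [hf1, hf2]
            _ = (C.p v1 * t) * (t * C.p v2) := by rw [C.t_p]
            _ = C.p v1 * (t * t) * C.p v2 := by group
            _ = C.p (v1 * v2) := by rw [C.tt, mul_one, map_mul]
  -- the outer involution `t*` is conjugate to `t* p z`
  obtain ⟨v, hv⟩ := outer_conj C (y := h1⁻¹ * t * h1) (hstsq ⟨t, htY⟩) (by
    have h2 := hsl (st ⟨t, htY⟩)
    rw [htst] at h2
    exact h2) hz
  have hfinal : (h1 * C.p v * h1⁻¹) * t * (h1 * C.p v * h1⁻¹)⁻¹ = t * y := by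
    have h2 : h1 * (C.p v * (h1⁻¹ * t * h1) * (C.p v)⁻¹) * h1⁻¹ =
        h1 * ((h1⁻¹ * t * h1) * C.p z) * h1⁻¹ := by rw [hv]
    rw [← hyz] at h2
    calc (h1 * C.p v * h1⁻¹) * t * (h1 * C.p v * h1⁻¹)⁻¹
        = h1 * (C.p v * (h1⁻¹ * t * h1) * (C.p v)⁻¹) * h1⁻¹ := by group
      _ = h1 * ((h1⁻¹ * t * h1) * (h1⁻¹ * y * h1)) * h1⁻¹ := h2
      _ = t * y := by group
  have htyY : t * (y : G) ∈ Y := mul_mem htY y.2
  have h2 := hfus' (h1 * C.p v * h1⁻¹) (by rw [hfinal]; exact hYT0 _ htyY)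
  rw [hfinal, mul_eq_left] at h2
  exact hy1 h2

include C hR in
/-- `R0 = {1, t}`. -/
theorem R0_eq {r : G} (hr : r ∈ R0) : r = 1 ∨ r = t := by
  have : Fact (Nat.Prime 2) := ⟨Nat.prime_two⟩
  by_contra hcon
  push Not at hcon
  obtain ⟨hr1, hrt⟩ := hcon
  have hcyc := isCyclic_of_le C.cyc hR.two hR.le
  -- an element of order four with square `t`
  obtain ⟨s, hs, hst⟩ : ∃ s ∈ R0, s * s = t := by
    obtain ⟨⟨g, hg⟩, hgen⟩ := hcyc.exists_generator
    have hpow : ∀ x ∈ R0, ∃ i : ℤ, x = g ^ i := by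
      intro x hx
      obtain ⟨i, hi⟩ := mem_zpowers_iff.mp (hgen ⟨x, hx⟩)
      exact ⟨i, (congrArg Subtype.val hi).symm⟩
    obtain ⟨k, hk⟩ := hR.two ⟨g, hg⟩
    have hk : g ^ 2 ^ k = 1 := congrArg Subtype.val hk
    obtain ⟨k, hk⟩ := (Nat.dvd_prime_pow Nat.prime_two).mp (orderOf_dvd_of_pow_eq_one hk)
    obtain ⟨hkle, hk⟩ := hk
    match k, hk with
    | 0, hk =>
      exfalso
      rw [pow_zero, orderOf_eq_one_iff] at hk
      obtain ⟨i, hi⟩ := hpow r hr
      rw [hk, one_zpow] at hi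
      exact hr1 hi
    | 1, hk =>
      exfalso
      have hgg : g * g = 1 := by
        rw [← pow_two, ← pow_one 2, ← hk, pow_orderOf_eq_one]
      have hgi : ∀ i : ℤ, g ^ i = 1 ∨ g ^ i = g := by
        intro i
        rcases Int.even_or_odd' i with ⟨j, rfl | rfl⟩
        · left; rw [zpow_mul, zpow_two, hgg, one_zpow]
        · right; rw [zpow_add, zpow_mul, zpow_two, hgg, one_zpow, one_mul, zpow_one]
      obtain ⟨i, hi⟩ := hpow r hr
      obtain ⟨j, hj⟩ := hpow t hR.mem
      rcases hgi i with h | h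
      · exact hr1 (hi.trans h)
      · rcases hgi j with h' | h'
        · exact C.t_ne (hj.trans h')
        · exact hrt ((hi.trans h).trans (hj.trans h').symm)
    | k + 2, hk =>
      refine ⟨g ^ 2 ^ k, pow_mem hg _, ?_⟩
      apply involution_unique hcyc (mul_mem (pow_mem hg _) (pow_mem hg _)) hR.mem _ C.tt _ C.t_ne
      · have : g ^ 2 ^ k * g ^ 2 ^ k * (g ^ 2 ^ k * g ^ 2 ^ k) = g ^ 2 ^ (k + 2) := by
          rw [← pow_add, ← pow_add]; congr 1; ring
        rw [this, ← hk, pow_orderOf_eq_one]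
      · intro h
        have h1 : g ^ 2 ^ (k + 1) = 1 := by
          rw [← h, ← pow_add]; congr 1; ring
        have h2 := orderOf_dvd_of_pow_eq_one h1
        rw [hk] at h2
        have := (Nat.pow_dvd_pow_iff_le_right (x := 2) (by norm_num)).mp h2
        omega
  obtain ⟨g, hg, hne⟩ := exists_not_comm C hR
  apply hne
  -- `g s g⁻¹` is central in `T0`
  have hsT : s ∈ C.T0 hR := C.R0_le_T0 hR hs
  have hsc : ∀ y ∈ C.T0 hR, s * y = y * s := by
    rintro y ⟨r', hr', x, rfl⟩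
    have e1 : s * r' = r' * s := C.R0_comm hR hs hr'
    have e2 : s * C.p x = C.p x * s := C.comm_K (hR.le hs) (C.p_mem x)
    calc s * (r' * C.p x) = (s * r') * C.p x := by group
      _ = r' * (s * C.p x) := by rw [e1]; group
      _ = r' * C.p x * s := by rw [e2]; group
  have h1 : g * s * g⁻¹ ∈ C.T0 hR := (mem_normalizer_iff.mp hg s).mp hsT
  have h2 : ∀ y ∈ C.T0 hR, (g * s * g⁻¹) * y = y * (g * s * g⁻¹) := by
    intro y hy
    have h3 : g⁻¹ * y * g ∈ C.T0 hR := by
      have := (mem_normalizer_iff.mp (inv_mem hg) y).mp hy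
      rwa [inv_inv] at this
    have h4 := hsc _ h3
    calc g * s * g⁻¹ * y = g * (s * (g⁻¹ * y * g)) * g⁻¹ := by group
      _ = g * ((g⁻¹ * y * g) * s) * g⁻¹ := by rw [h4]
      _ = y * (g * s * g⁻¹) := by group
  obtain ⟨r', hr', x, hgs⟩ := h1
  have hx2 : ∀ y, x * y = y * x := by
    intro y
    apply C.p_inj
    have h3 := h2 (C.p y) (C.p_mem_T0 hR y)
    rw [hgs] at h3
    have e1 : r' * C.p y = C.p y * r' := C.comm_K (hR.le hr') (C.p_mem y)
    have e2 : r' * (C.p x * C.p y) = r' * (C.p y * C.p x) := by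
      calc r' * (C.p x * C.p y) = r' * C.p x * C.p y := by group
        _ = C.p y * (r' * C.p x) := h3
        _ = (r' * C.p y) * C.p x := by rw [e1]; group
        _ = r' * (C.p y * C.p x) := by group
    rw [map_mul, map_mul]
    exact mul_left_cancel e2
  have hxa : x.a = 0 := by
    by_contra h0
    obtain ⟨e, he⟩ := exists_Tr_one C.hS.hq
    obtain ⟨y, hy⟩ := exists_a C.hS (x.a * e)
    have h3 := (commute_iff x y).mp (hx2 y)
    rw [hy, map_mul] at h3
    have h4 : x.a * σ x.a * (σ e + e) = 0 := by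
      have := CharTwo.two_eq_zero (R := F)
      linear_combination h3 + (x.a * e * σ x.a) * this
    rw [C.hS.eq e, add_comm, ← Tr_def, he, mul_one] at h4
    rcases mul_eq_zero.mp h4 with h5 | h5
    · exact h0 h5
    · exact h0 ((map_eq_zero σ).mp h5)
  have hzz : C.p x * C.p x = 1 := by
    rw [← map_mul, (Cfsg.Agent.LieRecognition.HermHeis.mul_self_eq_one_iff x).mpr hxa, map_one]
  have e1 : r' * C.p x = C.p x * r' := C.comm_K (hR.le hr') (C.p_mem x)
  have h3 : g * t * g⁻¹ = r' * r' := by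
    calc g * t * g⁻¹ = (g * s * g⁻¹) * (g * s * g⁻¹) := by rw [← hst]; group
      _ = (r' * C.p x) * (r' * C.p x) := by rw [hgs]
      _ = r' * (C.p x * r') * C.p x := by group
      _ = r' * (r' * C.p x) * C.p x := by rw [e1]
      _ = r' * r' * (C.p x * C.p x) := by group
      _ = r' * r' := by rw [hzz, mul_one]
  have h4 : g * t * g⁻¹ = t := by
    apply involution_unique hcyc _ hR.mem _ C.tt _ C.t_ne
    · rw [h3]; exact mul_mem hr' hr'
    · have : (g * t * g⁻¹) * (g * t * g⁻¹) = g * (t * t) * g⁻¹ := by group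
      rw [this, C.tt, mul_one, mul_inv_cancel]
    · intro h
      apply C.t_ne
      have : t = g⁻¹ * (g * t * g⁻¹) * g := by group
      rw [this, h]; group
  rwa [mul_inv_eq_iff_eq_mul] at h4

end Cfsg.Agent.StdU3.Move
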