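import Mathlib
import Cfsg.Agent.StdU3.Move

/-!
# The group of odd order `Y × (preimage of the torus)`
-/

set_option autoImplicit false
set_option linter.unusedSectionVars false
set_option linter.dupNamespace false

namespace Cfsg.Agent.StdU3.Torus

open Subgroup Cfsg.Agent.LieRecognition.HermHeis Cfsg.Agent.StdU3.URel Cfsg.Agent.StdU3.Semi
  Cfsg.Agent.StdU3.Field Cfsg.Agent.StdU3.FieldAut Cfsg.Agent.StdSz Cfsg.Agent.StdU3.Ctx
  Cfsg.Agent.StdU3.Fuse Cfsg.Agent.StdU3.Move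
open Cfsg.Agent.StdSz.FromStd.Ctx (IsR)
open Cfsg.Agent.StdSz.Base (eq_one_of_two_odd)

variable {G : Type*} [Group G] [Finite G] {F : Type*} [Field F] [Fintype F] [CharP F 2]
  {σ : F →+* F} [hσ : Fact (∀ x, σ (σ x) = x)] {n : ℕ}
variable {A : Subgroup G} {t : G} (C : Ctx A t σ n) {R0 : Subgroup G} (hR : IsR A t R0)

include C hR in
/-- 2-elements of `C(A)` commuting with `t` are `1` or `t`. -/
theorem eq_of_two {r : G} (hr : r ∈ centralizer (A : Set G)) {k : ℕ} (hk : r ^ 2 ^ k = 1)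
    (hrt : r * t = t * r) : r = 1 ∨ r = t := by
  have hz : ∀ {x : G} {n : ℕ}, x ^ 2 ^ n = 1 → IsPGroup 2 (zpowers x) := by
    intro x n hx y
    obtain ⟨y, hy⟩ := y
    obtain ⟨i, rfl⟩ := mem_zpowers_iff.mp hy
    refine ⟨n, Subtype.ext ?_⟩
    show (x ^ i) ^ 2 ^ n = 1
    rw [← zpow_natCast, ← zpow_mul, mul_comm, zpow_mul, zpow_natCast, hx, one_zpow]
  have hsup : IsPGroup 2 ↥(R0 ⊔ zpowers r) := by
    apply IsPGroup.to_sup_of_normal_left' hR.two (hz hk)
    rw [zpowers_le]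
    have key : ∀ x ∈ R0, r * x * r⁻¹ = x := by
      intro x hx
      rcases R0_eq C hR hx with rfl | rfl
      · group
      · rw [hrt, mul_inv_cancel_right]
    have key' : ∀ x ∈ R0, r⁻¹ * x * r = x := by
      intro x hx
      have := key x hx
      rw [mul_inv_eq_iff_eq_mul] at this
      rw [mul_assoc, ← this]; group
    rw [mem_normalizer_iff]
    intro x
    constructor
    · intro hx; rw [key x hx]; exact hx
    · intro hx
      have := key' _ hx
      have e : r⁻¹ * (r * x * r⁻¹) * r = x := by group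
      rw [e] at this
      rw [this]; exact hx
  have hle : R0 ⊔ zpowers r ≤ centralizer (A : Set G) := by
    rw [sup_le_iff, zpowers_le]; exact ⟨hR.le, hr⟩
  have h := hR.max _ hsup hle le_sup_left
  apply R0_eq C hR
  rw [← h]
  exact (le_sup_right : zpowers r ≤ _) (mem_zpowers r)

/-- the group of elements of odd order of `C(A) ∩ C(t)`. -/
structure IsY (A : Subgroup G) (t : G) (Y : Subgroup G) : Prop where
  odd : Odd (Nat.card Y)
  le : Y ≤ centralizer (A : Set G)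
  comm : ∀ y ∈ Y, y * t = t * y
  mem : ∀ y ∈ centralizer (A : Set G), y * t = t * y → Odd (orderOf y) → y ∈ Y

include C in
/-- The group of elements of odd order of `C(A) ∩ C(t)`. -/
theorem exists_Y : ∃ Y : Subgroup G, IsY A t Y := by
  classical
  have : Fact (Nat.Prime 2) := ⟨Nat.prime_two⟩
  obtain ⟨R0, hR⟩ := C.exists_R
  let H : Subgroup G := centralizer (A : Set G) ⊓ centralizer ({t} : Set G)
  have hHt : ∀ x ∈ H, x * t = t * x := fun x hx => mem_centralizer_singleton_iff.mp hx.2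
  let P : Sylow 2 H := Classical.arbitrary _
  have hPt : ∀ x ∈ (P : Subgroup H), (x : G) = 1 ∨ (x : G) = t := by
    intro x hx
    obtain ⟨k, hk⟩ := P.isPGroup' ⟨x, hx⟩
    have hk : x ^ 2 ^ k = 1 := congrArg Subtype.val hk
    exact eq_of_two C hR x.2.1 (congrArg Subtype.val hk) (hHt x x.2)
  have hPN : normalizer ((P : Subgroup H) : Set H) ≤ centralizer ((P : Subgroup H) : Set H) := by
    intro g _
    rw [mem_centralizer_iff]
    intro x hx
    apply Subtype.ext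
    rw [coe_mul, coe_mul]
    rcases hPt x hx with h | h
    · rw [h, one_mul, mul_one]
    · rw [h]; exact (hHt g g.2).symm
  refine ⟨(MonoidHom.transferSylow P hPN).ker.map H.subtype, ⟨?_, ?_, ?_, ?_⟩⟩
  · rw [← Nat.card_congr ((MonoidHom.transferSylow P hPN).ker.equivMapOfInjective _
      H.subtype_injective).toEquiv]
    have := MonoidHom.not_dvd_card_ker_transferSylow P hPN
    rwa [← even_iff_two_dvd, Nat.not_even_iff_odd] at this
  · rintro _ ⟨x, -, rfl⟩
    exact x.2.1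
  · rintro _ ⟨x, -, rfl⟩
    exact hHt x x.2
  · intro y hyK hyt ho
    have hyH : y ∈ H := ⟨hyK, mem_centralizer_singleton_iff.mpr hyt⟩
    refine ⟨⟨y, hyH⟩, ?_, rfl⟩
    rw [SetLike.mem_coe, MonoidHom.mem_ker]
    obtain ⟨k, hk⟩ := P.isPGroup' (MonoidHom.transferSylow P hPN ⟨y, hyH⟩)
    apply eq_one_of_two_odd hk ho
    refine (orderOf_map_dvd _ _).trans ?_
    rw [Subgroup.orderOf_mk]

/-- the group generated by `Y` and the preimage of the torus. -/
def DD {Y : Subgroup G} (hY : IsY A t Y) : Subgroup G where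
  carrier := {g | ∃ y ∈ Y, ∃ a : A, (∃ l : Fˣ, QuotientGroup.mk a = C.R.d l) ∧ g = y * a}
  mul_mem' := by
    rintro _ _ ⟨y, hy, a, ⟨l, hl⟩, rfl⟩ ⟨y', hy', a', ⟨l', hl'⟩, rfl⟩
    refine ⟨y * y', mul_mem hy hy', a * a', ⟨l * l', ?_⟩, ?_⟩
    · rw [QuotientGroup.mk_mul, hl, hl', map_mul]
    · rw [coe_mul]
      calc y * a * (y' * a') = y * (a * y') * a' := by group
        _ = y * (y' * a) * a' := by rw [C.comm_K (hY.le hy') a.2]
        _ = y * y' * (a * a') := by group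
  one_mem' := ⟨1, one_mem _, 1, ⟨1, by rw [QuotientGroup.mk_one, map_one]⟩, by simp⟩
  inv_mem' := by
    rintro _ ⟨y, hy, a, ⟨l, hl⟩, rfl⟩
    refine ⟨y⁻¹, inv_mem hy, a⁻¹, ⟨l⁻¹, ?_⟩, ?_⟩
    · rw [QuotientGroup.mk_inv, hl, map_inv]
    · rw [_root_.mul_inv_rev, coe_inv]
      exact (C.comm_K (hY.le (inv_mem hy)) (inv_mem a.2)).symm

variable {Y : Subgroup G} (hY : IsY A t Y)

theorem mem_DD {g : G} : g ∈ DD C hY ↔
    ∃ y ∈ Y, ∃ a : A, (∃ l : Fˣ, QuotientGroup.mk a = C.R.d l) ∧ g = y * a := Iff.rfl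

theorem Y_le_DD {y : G} (hy : y ∈ Y) : y ∈ DD C hY :=
  ⟨y, hy, 1, ⟨1, by rw [QuotientGroup.mk_one, map_one]⟩, by simp⟩

/-- the action of the preimages of torus elements. -/
theorem conj_q {a : A} {l : Fˣ} (ha : (QuotientGroup.mk a : A ⧸ center A) = C.R.d l) (x : Heis σ) :
    a * C.q x * a⁻¹ = C.q (act l x) := by
  apply C.q_uniq _ ⟨2, ?_⟩
  · rw [QuotientGroup.mk_mul, QuotientGroup.mk_mul, QuotientGroup.mk_inv, ha, C.q_mk, C.R.u_act]
  · have h : (2 : ℕ) ^ 2 = 4 := by norm_num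
    rw [conj_pow, h, ← map_pow, Base.heis_pow_four, map_one, mul_one, mul_inv_cancel]

/-- `g` induces the torus element `l` on `P` -/
def Acts (g : G) (l : Fˣ) : Prop := ∀ x, g * C.p x * g⁻¹ = C.p (act l x)

variable {C}

include hY in
theorem acts_of_mem {y : G} (hy : y ∈ Y) {a : A}
    {l : Fˣ} (ha : (QuotientGroup.mk a : A ⧸ center A) = C.R.d l) : Acts C (y * a) l := by
  intro x
  have h1 := congrArg (Subtype.val : A → G) (conj_q C ha x)
  rw [coe_mul, coe_mul, coe_inv] at h1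
  have h2 : (y * a) * C.p x * (y * a)⁻¹ = y * (a * C.p x * (a : G)⁻¹) * y⁻¹ := by group
  rw [h2]
  have h3 : (a : G) * C.p x * (a : G)⁻¹ = C.p (act l x) := h1
  rw [h3, C.comm_K (hY.le hy) (C.p_mem _), mul_inv_cancel_right]

theorem DD_act {g : G} (hg : g ∈ DD C hY) : ∃ l, Acts C g l := by
  obtain ⟨y, hy, a, ⟨l, hl⟩, rfl⟩ := hg
  exact ⟨l, acts_of_mem hY hy hl⟩

theorem DD_surj (l : Fˣ) : ∃ g ∈ DD C hY, Acts C g l := by
  obtain ⟨a, ha⟩ := QuotientGroup.mk_surjective (C.R.d l)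
  exact ⟨1 * a, ⟨1, one_mem _, a, ⟨l, ha⟩, rfl⟩, acts_of_mem hY (one_mem Y) ha⟩

theorem DD_t {g : G} (hg : g ∈ DD C hY) : g * t = t * g := by
  obtain ⟨y, hy, a, -, rfl⟩ := hg
  rw [mul_assoc, ← C.comm_K C.htA a.2, ← mul_assoc, hY.comm y hy, mul_assoc]

theorem odd_DD : Odd (Nat.card (DD C hY)) := by
  rw [← Nat.not_even_iff_odd, even_iff_two_dvd]
  intro h2
  have : Fact (Nat.Prime 2) := ⟨Nat.prime_two⟩
  obtain ⟨⟨x, hx⟩, hx2⟩ := exists_prime_orderOf_dvd_card' 2 h2
  rw [Subgroup.orderOf_mk] at hx2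
  have hxx : x * x = 1 := by
    have := pow_orderOf_eq_one x
    rwa [hx2, pow_two] at this
  obtain ⟨y, hy, a, ⟨k, hk⟩, rfl⟩ := hx
  have hya : y * a = a * y := C.comm_K (hY.le hy) a.2
  have h3 : (y * y) * ((a * a : A) : G) = 1 := by
    rw [coe_mul, ← hxx]
    calc y * y * (a * a) = y * (y * a) * a := by group
      _ = y * (a * y) * a := by rw [hya]
      _ = y * a * (y * a) := by group
  have h4 : (a * a : A) ∈ center A := by
    have h5 : ((a * a : A) : G) ∈ centralizer (A : Set G) := by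
      have : ((a * a : A) : G) = (y * y)⁻¹ := (inv_eq_of_mul_eq_one_right h3).symm
      rw [this]; exact hY.le (inv_mem (mul_mem hy hy))
    exact C.mem_center_of (a * a).2 h5
  have h5 : C.R.d k * C.R.d k = 1 := by
    rw [← hk, ← QuotientGroup.mk_mul, QuotientGroup.eq_one_iff]; exact h4
  have h6 : C.R.d k = 1 :=
    eq_one_of_two_odd (k := 1) (by rw [pow_one, pow_two]; exact h5) (Base.odd_d C.R C.hS k) dvd_rfl
  have h7 : a ∈ center A := by
    rw [← QuotientGroup.eq_one_iff, hk, h6]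
  have h8 : (a : G) ∈ Y := by
    apply hY.mem
    · rw [mem_centralizer_iff]
      intro g hg
      exact congrArg Subtype.val (Subgroup.mem_center_iff.mp h7 ⟨g, hg⟩)
    · exact (C.comm_K C.htA a.2).symm
    · apply Odd.of_dvd_nat C.hZ
      rw [Subgroup.orderOf_coe]
      exact Subgroup.orderOf_dvd_natCard _ h7
  have h9 : orderOf (y * (a : G)) ∣ Nat.card Y := Subgroup.orderOf_dvd_natCard _ (mul_mem hy h8)
  rw [hx2] at h9
  have := Odd.of_dvd_nat hY.odd h9
  exact absurd this (by decide)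

theorem odd_of_mem_DD {g : G} (hg : g ∈ DD C hY) : Odd (orderOf g) :=
  Odd.of_dvd_nat (odd_DD hY) (Subgroup.orderOf_dvd_natCard _ hg)

theorem Acts.mul {g g' : G} {l l' : Fˣ} (h : Acts C g l) (h' : Acts C g' l') :
    Acts C (g * g') (l * l') := by
  intro x
  have : g * g' * C.p x * (g * g')⁻¹ = g * (g' * C.p x * g'⁻¹) * g⁻¹ := by group
  rw [this, h', h, act_act]

theorem Acts.inv {g : G} {l : Fˣ} (h : Acts C g l) : Acts C g⁻¹ l⁻¹ := by
  intro x
  have h1 := h (act l⁻¹ x)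
  rw [act_act, mul_inv_cancel, act_one] at h1
  rw [← h1]
  group

theorem Acts.comm_of_one {g : G} (h : Acts C g 1) (x : Heis σ) : g * C.p x = C.p x * g := by
  have := h x
  rw [act_one, mul_inv_eq_iff_eq_mul] at this
  exact this

theorem Acts.sl {g : G} {l : Fˣ} (h : Acts C g l) (W : Subgroup G) : SL C.p W g (wt σ l) 1 :=
  fun x => ⟨act l x, 1, one_mem _, by rw [one_mul]; exact h x, rfl⟩

include hY in
/-- an element commuting with `t` and acting trivially on `P / Z(P)` is in `Y ⟨t⟩ P` -/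
theorem exists_decomp_of_triv (hR : IsR A t R0) {g : G} (hgt : g * t = t * g)
    (h : SL C.p (⊥ : Subgroup G) g 1 1) : ∃ y ∈ Y, ∃ x ∈ C.T0 hR, g = y * x := by
  obtain ⟨x, hx⟩ := C.exists_of_triv (C.norm_t hgt) h
  set k := (C.p x)⁻¹ * g with hk
  have hkt : k * t = t * k := by
    rw [hk, mul_assoc, hgt, ← mul_assoc, ← mul_assoc]
    congr 1
    rw [inv_mul_eq_iff_eq_mul, ← mul_assoc, ← C.t_p, mul_inv_cancel_right]
  obtain ⟨i, j, h1, ho, m, hm⟩ := Cfsg.Agent.StdSz.Env.exists_decomp k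
  have hpow : ∀ e : ℕ, k ^ e * t = t * k ^ e := fun e =>
    (Commute.pow_left (show Commute k t from hkt) e).eq
  have hy : k ^ i ∈ Y := hY.mem _ (pow_mem hx i) (hpow i) ho
  have hr := eq_of_two C hR (pow_mem hx j) hm (hpow j)
  have hrT : k ^ j ∈ C.T0 hR := by
    rcases hr with h2 | h2
    · rw [h2]; exact one_mem _
    · rw [h2]; exact C.t_mem_T0 hR
  refine ⟨k ^ i, hy, C.p x * k ^ j, mul_mem (C.p_mem_T0 hR x) hrT, ?_⟩
  have e : k ^ i * C.p x = C.p x * k ^ i := C.comm_K (hY.le hy) (C.p_mem x)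
  calc g = C.p x * k := by rw [hk]; group
    _ = C.p x * (k ^ i * k ^ j) := by rw [← h1]
    _ = (C.p x * k ^ i) * k ^ j := by group
    _ = k ^ i * (C.p x * k ^ j) := by rw [← e]; group

end Cfsg.Agent.StdU3.Torus
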