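import Mathlib
import Cfsg.Agent.StdU3.Torus

/-!
# The normalizer of `T0 = ⟨t⟩ × P` and the kernel `N2` of its action on `P / Z(P)`
-/

set_option autoImplicit false
set_option linter.unusedSectionVars false
set_option linter.dupNamespace false

namespace Cfsg.Agent.StdU3.LZeroN

open Subgroup Cfsg.Agent.LieRecognition.HermHeis Cfsg.Agent.StdU3.URel Cfsg.Agent.StdU3.Semi
  Cfsg.Agent.StdU3.Field Cfsg.Agent.StdU3.FieldAut Cfsg.Agent.StdSz Cfsg.Agent.StdU3.Ctx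
  Cfsg.Agent.StdU3.Fuse Cfsg.Agent.StdU3.Move Cfsg.Agent.StdU3.Torus
open Cfsg.Agent.StdSz.FromStd.Ctx (IsR)
open Cfsg.Agent.StdSz.Base (eq_one_of_two_odd)

variable {G : Type*} [Group G] [Finite G] {F : Type*} [Field F] [Fintype F] [CharP F 2]
  {σ : F →+* F} [hσ : Fact (∀ x, σ (σ x) = x)] {n : ℕ}
variable {A : Subgroup G} {t : G} (C : Ctx A t σ n) {R0 : Subgroup G} (hR : IsR A t R0)

theorem T0_iff {g : G} : g ∈ C.T0 hR ↔ ∃ x, g = C.p x ∨ g = C.p x * t := by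
  constructor
  · rintro ⟨r, hr, x, rfl⟩
    rcases R0_eq C hR hr with rfl | rfl
    · exact ⟨x, Or.inl (one_mul _)⟩
    · exact ⟨x, Or.inr (C.t_p x)⟩
  · rintro ⟨x, rfl | rfl⟩
    · exact C.p_mem_T0 hR x
    · exact mul_mem (C.p_mem_T0 hR x) (C.t_mem_T0 hR)

theorem nm_of_norm {s : G} (hs : s ∈ normalizer (C.T0 hR : Set G)) :
    Nm C.p (zpowers t) s := by
  intro x
  obtain ⟨y, hy | hy⟩ := (T0_iff C hR).mp ((mem_normalizer_iff.mp hs _).mp (C.p_mem_T0 hR x))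
  · exact ⟨y, 1, one_mem _, by rw [one_mul]; exact hy⟩
  · exact ⟨y, t, mem_zpowers t, by rw [C.t_p]; exact hy⟩

theorem exists_slt {s : G} (hs : s ∈ normalizer (C.T0 hR : Set G)) :
    ∃ c : F, c ≠ 0 ∧ ∃ τ : F ≃+* F, SL C.p (zpowers t) s c τ ∧
      ∀ z : Heis σ, z.a = 0 → ∃ z' : Heis σ, z'.a = 0 ∧ z'.b = (c * σ c) * τ z.b ∧
        s * C.p z * s⁻¹ = C.p z' :=
  Nm.exists_SL C.hS C.pw_t (nm_of_norm C hR hs)

/-- `s ∈ N(T0)` maps `t` into `Z t`. -/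
theorem conj_t {s : G} (hs : s ∈ normalizer (C.T0 hR : Set G)) :
    ∃ z : Heis σ, z.a = 0 ∧ s * t * s⁻¹ = C.p z * t := by
  have h1 : s * t * s⁻¹ ∈ C.T0 hR := (mem_normalizer_iff.mp hs _).mp (C.t_mem_T0 hR)
  have h2 : (s * t * s⁻¹) * (s * t * s⁻¹) = 1 := by
    calc (s * t * s⁻¹) * (s * t * s⁻¹) = s * (t * t) * s⁻¹ := by group
      _ = 1 := by rw [C.tt, mul_one, mul_inv_cancel]
  obtain ⟨r, hr, z, hz, h3⟩ := C.eq_of_sq hR h1 h2
  rcases hr with rfl | rfl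
  · exfalso
    rw [one_mul] at h3
    obtain ⟨z', -, hz'⟩ := Nm.z C.hS C.pw_t (nm_of_norm C hR (inv_mem hs)) hz
    apply C.t_not z'
    rw [← hz', ← h3]; group
  · exact ⟨z, hz, by rw [h3, C.t_p]⟩

/-- the condition of `SL.mul` -/
theorem hW {s : G} (hs : s ∈ normalizer (C.T0 hR : Set G)) :
    ∀ r ∈ zpowers t, ∃ y, ∃ r' ∈ zpowers t, s * r * s⁻¹ = r' * C.p y ∧ y.a = 0 := by
  intro r hr
  rcases C.mem_zpowers_t hr with h | h
  · refine ⟨1, 1, one_mem _, ?_, rfl⟩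
    rw [h, map_one]; group
  · obtain ⟨z, hz, h1⟩ := conj_t C hR hs
    refine ⟨z, t, mem_zpowers t, ?_, hz⟩
    rw [h, h1, C.t_p]

theorem slt_mul {s s' : G} (hs : s ∈ normalizer (C.T0 hR : Set G)) {c c' : F} {τ τ' : F ≃+* F}
    (h : SL C.p (zpowers t) s c τ) (h' : SL C.p (zpowers t) s' c' τ') :
    SL C.p (zpowers t) (s * s') (c * τ c') (τ * τ') :=
  SL.mul C.pw_t (hW C hR hs) h h'

theorem slt_inv {s : G} (hs : s ∈ normalizer (C.T0 hR : Set G)) {c : F} {τ : F ≃+* F}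
    (h : SL C.p (zpowers t) s c τ) : ∃ c', c' * τ⁻¹ c = 1 ∧ c * τ c' = 1 ∧
      SL C.p (zpowers t) s⁻¹ c' τ⁻¹ := by
  obtain ⟨c', -, τ', h', -⟩ := exists_slt C hR (inv_mem hs)
  have h1 := slt_mul C hR (inv_mem hs) h' h
  rw [inv_mul_cancel] at h1
  obtain ⟨e1, e2⟩ := SL.unique C.hS C.pw_t h1 SL.one
  have h2 := slt_mul C hR hs h h'
  rw [mul_inv_cancel] at h2
  obtain ⟨e3, -⟩ := SL.unique C.hS C.pw_t h2 SL.one
  have e4 : τ' = τ⁻¹ := eq_inv_of_mul_eq_one_left e2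
  subst e4
  exact ⟨c', e1, e3, h'⟩

variable {C} in
theorem slt_of_sl {W : Subgroup G} {s : G} {c : F} {τ : F ≃+* F}
    (h : SL C.p (⊥ : Subgroup G) s c τ) : SL C.p W s c τ := by
  intro x
  obtain ⟨y, r, hr, h1, h2⟩ := h x
  rw [mem_bot] at hr
  subst hr
  exact ⟨y, 1, one_mem _, h1, h2⟩

variable {Y : Subgroup G} (hY : IsY A t Y)

variable {C} in
/-- elements inducing torus elements and commuting with `t` normalise `T0` -/
theorem acts_norm {g : G} {l : Fˣ} (h : Acts C g l) (ht : g * t = t * g) :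
    g ∈ normalizer (C.T0 hR : Set G) := by
  have key : ∀ {g : G} {l : Fˣ}, Acts C g l → g * t = t * g → ∀ x ∈ C.T0 hR,
      g * x * g⁻¹ ∈ C.T0 hR := by
    intro g l h ht x hx
    obtain ⟨y, rfl | rfl⟩ := (T0_iff C hR).mp hx
    · rw [h]; exact C.p_mem_T0 hR _
    · have e : g * (C.p y * t) * g⁻¹ = (g * C.p y * g⁻¹) * (g * t * g⁻¹) := by group
      rw [e, h, ht, mul_inv_cancel_right]
      exact mul_mem (C.p_mem_T0 hR _) (C.t_mem_T0 hR)
  rw [mem_normalizer_iff]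
  intro x
  refine ⟨key h ht x, fun hx => ?_⟩
  have ht' : g⁻¹ * t = t * g⁻¹ := by
    rw [inv_mul_eq_iff_eq_mul, ← mul_assoc, ht, mul_inv_cancel_right]
  have h1 := key h.inv ht' _ hx
  have e : g⁻¹ * (g * x * g⁻¹) * g⁻¹⁻¹ = x := by group
  rwa [e] at h1

theorem DD_le {g : G} (hg : g ∈ DD C hY) : g ∈ normalizer (C.T0 hR : Set G) := by
  obtain ⟨l, hl⟩ := DD_act hY hg
  exact acts_norm hR hl (DD_t hY hg)

/-- the commutator with a torus element still moves `t`. -/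
theorem moves {s d : G} (hs : s ∈ normalizer (C.T0 hR : Set G)) (hst : s * t ≠ t * s)
    {l : Fˣ} (hd : Acts C d l) (hdt : d * t = t * d) (hl : nm σ l ≠ 1) :
    (s * d * s⁻¹ * d⁻¹) * t ≠ t * (s * d * s⁻¹ * d⁻¹) := by
  intro hcon
  have hsi := inv_mem hs
  obtain ⟨z, hz, h1⟩ := conj_t C hR hsi
  rw [inv_inv] at h1
  have hdt' : d⁻¹ * t = t * d⁻¹ := by
    rw [inv_mul_eq_iff_eq_mul, ← mul_assoc, hdt, mul_inv_cancel_right]
  -- `t = (s p z s⁻¹) (s t s⁻¹)`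
  have h2 : t = (s * C.p z * s⁻¹) * (s * t * s⁻¹) := by
    calc t = s * (s⁻¹ * t * s) * s⁻¹ := by group
      _ = s * (C.p z * t) * s⁻¹ := by rw [h1]
      _ = (s * C.p z * s⁻¹) * (s * t * s⁻¹) := by group
  have h3 : (s * d * s⁻¹ * d⁻¹) * t * (s * d * s⁻¹ * d⁻¹)⁻¹ =
      (s * C.p (act l z) * s⁻¹) * (s * t * s⁻¹) := by
    calc (s * d * s⁻¹ * d⁻¹) * t * (s * d * s⁻¹ * d⁻¹)⁻¹
        = s * d * s⁻¹ * (d⁻¹ * t) * d * s * d⁻¹ * s⁻¹ := by group
      _ = s * d * s⁻¹ * (t * d⁻¹) * d * s * d⁻¹ * s⁻¹ := by rw [hdt']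
      _ = s * d * (s⁻¹ * t * s) * d⁻¹ * s⁻¹ := by group
      _ = s * (d * C.p z * d⁻¹) * (d * t * d⁻¹) * s⁻¹ := by rw [h1]; group
      _ = s * C.p (act l z) * t * s⁻¹ := by rw [hd, hdt, mul_inv_cancel_right]
      _ = _ := by group
  have h4 : (s * d * s⁻¹ * d⁻¹) * t * (s * d * s⁻¹ * d⁻¹)⁻¹ = t := by
    rw [hcon, mul_inv_cancel_right]
  rw [h4] at h3
  have h5 : s * C.p z * s⁻¹ = s * C.p (act l z) * s⁻¹ := by
    have h6 : (s * C.p z * s⁻¹) * (s * t * s⁻¹) = (s * C.p (act l z) * s⁻¹) * (s * t * s⁻¹) :=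
      h2.symm.trans h3
    exact mul_right_cancel h6
  have h6 : z = act l z := C.p_inj (mul_left_cancel (mul_right_cancel h5))
  have h7 : nm σ l * z.b = z.b := by
    have := congrArg Heis.b h6
    rw [act_b] at this
    exact this.symm
  have h8 : z.b = 0 := by
    by_contra h0
    exact hl (mul_right_cancel₀ h0 (by rw [h7, one_mul]))
  have h9 : z = 1 := ext_z hz rfl h8
  rw [h9, map_one, one_mul] at h1
  apply hst
  calc s * t = s * (s⁻¹ * t * s) := by rw [h1]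
    _ = t * s := by group

/-- the kernel of the action on `P / Z(P)` -/
def N2 : Subgroup G where
  carrier := {s | s ∈ normalizer (C.T0 hR : Set G) ∧ SL C.p (zpowers t) s 1 1}
  mul_mem' := by
    rintro s s' ⟨h1, h2⟩ ⟨h3, h4⟩
    refine ⟨mul_mem h1 h3, ?_⟩
    have h5 := slt_mul C hR h1 h2 h4
    have e : (1 : F) * (1 : F ≃+* F) 1 = 1 := by rw [one_mul]; rfl
    rwa [e, mul_one] at h5
  one_mem' := ⟨one_mem _, SL.one⟩
  inv_mem' := by
    rintro s ⟨h1, h2⟩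
    refine ⟨inv_mem h1, ?_⟩
    obtain ⟨c', h3, -, h4⟩ := slt_inv C hR h1 h2
    have e : c' = 1 := by
      have : (1 : F ≃+* F)⁻¹ (1 : F) = 1 := by rw [inv_one]; rfl
      rwa [this, mul_one] at h3
    rwa [e, inv_one] at h4

theorem mem_N2 {s : G} : s ∈ N2 C hR ↔
    s ∈ normalizer (C.T0 hR : Set G) ∧ SL C.p (zpowers t) s 1 1 := Iff.rfl

theorem T0_le_N2 : C.T0 hR ≤ N2 C hR :=
  fun _ hs => ⟨le_normalizer hs, slt_of_sl (C.sl_of_mem_T0 hR hs)⟩

/-- `N2` is normal in `N(T0)` -/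
theorem N2_conj {s g : G} (hs : s ∈ normalizer (C.T0 hR : Set G)) (hg : g ∈ N2 C hR) :
    s * g * s⁻¹ ∈ N2 C hR := by
  refine ⟨mul_mem (mul_mem hs hg.1) (inv_mem hs), ?_⟩
  obtain ⟨c, -, τ, h1, -⟩ := exists_slt C hR hs
  obtain ⟨c', -, h2, h3⟩ := slt_inv C hR hs h1
  have h4 := slt_mul C hR (mul_mem hs hg.1) (slt_mul C hR hs h1 hg.2) h3
  have e1 : c * τ 1 * (τ * 1) c' = 1 := by
    rw [map_one, mul_one, mul_one]; exact h2
  have e2 : τ * 1 * τ⁻¹ = 1 := by rw [mul_one, mul_inv_cancel]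
  rwa [e1, e2] at h4

include hY in
/-- some element of `N2` moves `t` -/
theorem exists_moving : ∃ s ∈ N2 C hR, s * t ≠ t * s := by
  obtain ⟨s, hs, hst⟩ := exists_not_comm C hR
  obtain ⟨l, hl, hl1⟩ := (fieldOK C.hS).fixed
  have hl1' : (l : F) ≠ 1 := fun h => hl1 (Units.ext h)
  have hn : nm σ l ≠ 1 := by
    rw [nm_of_fixed σ hl]
    intro h
    apply hl1'
    have h1 : ((l : F) - 1) ^ 2 = 0 := by
      have := CharTwo.two_eq_zero (R := F)
      linear_combination h - ((l : F) - 1) * this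
    exact sub_eq_zero.mp ((pow_eq_zero_iff (two_ne_zero)).mp h1)
  obtain ⟨d, hd, hdl⟩ := DD_surj hY (C := C) l
  have hdt := DD_t hY hd
  have hdN := DD_le C hR hY hd
  have hw0 := wt_ne_zero σ l
  -- general commutator computation
  have key : ∀ s ∈ normalizer (C.T0 hR : Set G), ∀ (c : F) (τ : F ≃+* F),
      SL C.p (zpowers t) s c τ → SL C.p (zpowers t) (s * d * s⁻¹ * d⁻¹)
        (τ (wt σ l) * (wt σ l)⁻¹) 1 := by
    intro s hs c τ h
    obtain ⟨c', -, h2, h3⟩ := slt_inv C hR hs h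
    have h4 := slt_mul C hR hs h (hdl.sl (zpowers t))
    have h5 := slt_mul C hR (mul_mem hs hdN) h4 h3
    have h6 := slt_mul C hR (mul_mem (mul_mem hs hdN) (inv_mem hs)) h5
      (hdl.inv.sl (zpowers t))
    have e1 : τ * 1 * τ⁻¹ * 1 = (1 : F ≃+* F) := by rw [mul_one, mul_one, mul_inv_cancel]
    have e2 : c * τ (wt σ l) * (τ * 1) c' * (τ * 1 * τ⁻¹) (wt σ l⁻¹) =
        τ (wt σ l) * (wt σ l)⁻¹ := by
      rw [mul_one, mul_inv_cancel, wt_inv]
      show c * τ (wt σ l) * τ c' * (wt σ l)⁻¹ = _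
      linear_combination (τ (wt σ l) * (wt σ l)⁻¹) * h2
    rwa [e1, e2] at h6
  obtain ⟨c, -, τ, h1, -⟩ := exists_slt C hR hs
  have hm1 := moves C hR hs hst hdl hdt hn
  have h2 := key s hs c τ h1
  have hN1 : s * d * s⁻¹ * d⁻¹ ∈ normalizer (C.T0 hR : Set G) :=
    mul_mem (mul_mem (mul_mem hs hdN) (inv_mem hs)) (inv_mem hdN)
  have hm2 := moves C hR hN1 hm1 hdl hdt hn
  have h3 := key _ hN1 _ _ h2
  refine ⟨_, ⟨mul_mem (mul_mem (mul_mem hN1 hdN) (inv_mem hN1)) (inv_mem hdN), ?_⟩, hm2⟩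
  have e : (1 : F ≃+* F) (wt σ l) * (wt σ l)⁻¹ = 1 := mul_inv_cancel₀ hw0
  rwa [e] at h3

include hY in
/-- `N2` is transitive on `Z t` -/
theorem trans (z : Heis σ) (hz : z.a = 0) : ∃ g ∈ N2 C hR, g * t * g⁻¹ = C.p z * t := by
  obtain ⟨s, hs, hst⟩ := exists_moving C hR hY
  obtain ⟨v, hv, h1⟩ := conj_t C hR hs.1
  have hv0 : v.b ≠ 0 := by
    intro h0
    apply hst
    have : v = 1 := ext_z hv rfl h0
    rw [this, map_one, one_mul, mul_inv_eq_iff_eq_mul] at h1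
    exact h1
  by_cases hz0 : z.b = 0
  · refine ⟨1, one_mem _, ?_⟩
    have : z = 1 := ext_z hz rfl hz0
    rw [this, map_one]; group
  · obtain ⟨a, ha⟩ := (fieldOK C.hS).surj (z.b / v.b) (by
      rw [map_div₀, b_fixed_of_a_eq_zero hz, b_fixed_of_a_eq_zero hv])
    have ha0 : a ≠ 0 := by
      rintro rfl
      rw [zero_mul] at ha
      rcases div_eq_zero_iff.mp ha.symm with h | h
      · exact hz0 h
      · exact hv0 h
    obtain ⟨d, hd, hdl⟩ := DD_surj hY (C := C) (Units.mk0 a ha0)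
    refine ⟨d * s * d⁻¹, N2_conj C hR (DD_le C hR hY hd) hs, ?_⟩
    have hdt := DD_t hY hd
    have hdt' : d⁻¹ * t * d = t := by
      rw [mul_assoc, ← hdt]; group
    calc d * s * d⁻¹ * t * (d * s * d⁻¹)⁻¹ = d * (s * (d⁻¹ * t * d) * s⁻¹) * d⁻¹ := by group
      _ = d * (C.p v * t) * d⁻¹ := by rw [hdt', h1]
      _ = (d * C.p v * d⁻¹) * (d * t * d⁻¹) := by group
      _ = C.p (act (Units.mk0 a ha0) v) * t := by rw [hdl, hdt, mul_inv_cancel_right]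
      _ = C.p z * t := by
          congr 2
          apply ext_z _ hz
          · rw [act_b]
            show (a * σ a) * v.b = z.b
            rw [ha, div_mul_cancel₀ _ hv0]
          · rw [act_a, hv, mul_zero]

/-- elements of `N2` centralise `Z(P)` -/
theorem N2_z {g : G} (hg : g ∈ N2 C hR) {z : Heis σ} (hz : z.a = 0) : g * C.p z = C.p z * g := by
  obtain ⟨c, -, τ, h1, h2⟩ := exists_slt C hR hg.1
  obtain ⟨e1, e2⟩ := SL.unique C.hS C.pw_t h1 hg.2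
  obtain ⟨z', h3, h4, h5⟩ := h2 z hz
  rw [e1, e2, map_one, one_mul, one_mul] at h4
  have h6 : z' = z := ext_z h3 hz h4
  rw [h6, mul_inv_eq_iff_eq_mul] at h5
  exact h5

/-- an element of `C(t)` acting trivially on `P / Z(P)` modulo `⟨t⟩` does so on the nose -/
theorem sl_of_slt {g : G} (hgt : g * t = t * g) {c : F} {τ : F ≃+* F}
    (h : SL C.p (zpowers t) g c τ) : SL C.p (⊥ : Subgroup G) g c τ := by
  intro x
  obtain ⟨y, r, hr, h1, h2⟩ := h x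
  refine ⟨y, 1, one_mem _, ?_, h2⟩
  have h3 : g * C.p x * g⁻¹ ∈ A := (mem_normalizer_iff.mp (C.norm_t hgt) _).mp (C.p_mem x)
  rcases C.mem_zpowers_t hr with h4 | h4
  · rw [h1, h4]
  · exfalso
    apply C.t_ne
    rw [h1, h4] at h3
    have h5 : t ∈ A := by
      have := mul_mem h3 (inv_mem (C.p_mem y))
      rwa [mul_inv_cancel_right] at this
    exact C.eq_one_of_mem h5 C.htA (k := 1) (by rw [pow_one, pow_two, C.tt])

include hY in
/-- the centraliser of `t` in `N2` -/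
theorem N2_comm {g : G} (hg : g ∈ N2 C hR) (hgt : g * t = t * g) :
    ∃ y ∈ Y, ∃ x ∈ C.T0 hR, g = y * x :=
  exists_decomp_of_triv hY hR hgt (sl_of_slt C hgt hg.2)

include hY in
theorem Y_le_N2 {y : G} (hy : y ∈ Y) : y ∈ N2 C hR := by
  have h1 : Acts C y 1 := by
    intro x
    rw [act_one, C.comm_K (hY.le hy) (C.p_mem x), mul_inv_cancel_right]
  refine ⟨acts_norm hR h1 (hY.comm y hy), ?_⟩
  have h2 := h1.sl (zpowers t)
  rwa [wt_one] at h2

end Cfsg.Agent.StdU3.LZeroN
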