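import Cfsg.Agent.StdU3.Kernel
import Cfsg.Agent.Lib.SylowNormalInf

/-!
# The next level: a Sylow 2-subgroup `S` of `N2`

`O` is the odd part of the centralizer of `A` in `C(t)`; elements of `C(t)` acting trivially on
`P / Z` are products of an element of `Q` and an element of `O`.
-/

set_option autoImplicit false
set_option linter.unusedSectionVars false
set_option linter.dupNamespace false
set_option linter.style.haveILetI false

namespace Cfsg.Agent.StdU3.Next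

open Cfsg.Agent.StdU3.Field Cfsg.Agent.StdU3.PreDef Cfsg.Agent.StdU3.LevelOne
open Cfsg.Agent.StdU3.LevelOneW Cfsg.Agent.StdU3.NormQ Cfsg.Agent.StdU3.Kernel

variable {G : Type*} [Group G] {K : Type*} [Field K] [Fintype K] [CharP K 2] {n : ℕ}
variable (D : Pre G K n)

/-- what is used about `C_G(t)`. -/
structure Amb (O : Subgroup G) : Prop where
  odd : Odd (Nat.card O)
  O_P : ∀ k ∈ O, ∀ x ∈ D.P, k * x = x * k
  O_t : ∀ k ∈ O, k * D.t = D.t * k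
  dec : ∀ g, g * D.t = D.t * g →
    (∀ x ∈ D.P, g * x * g⁻¹ ∈ D.P ∧ D.ca (g * x * g⁻¹) = D.ca x) →
    ∃ x ∈ D.Q, ∃ k ∈ O, g = x * k

variable {O : Subgroup G}

theorem pow_card_O {k : G} (hk : k ∈ O) : k ^ Nat.card O = 1 := by
  have : (⟨k, hk⟩ : O) ^ Nat.card O = 1 := pow_card_eq_one'
  exact congrArg Subtype.val this

/-- elements of odd order and 2-power order are trivial. -/
theorem eq_one_of_O (hO : Amb D O) {d : G} (hd : d ∈ O) {k : ℕ} (h : d ^ (2 ^ k) = 1) : d = 1 := by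
  have h2 := pow_card_O hd
  have hcop : Nat.Coprime (Nat.card O) (2 ^ k) :=
    (Nat.coprime_two_right.mpr hO.odd).pow_right k
  have h6 : orderOf d ∣ Nat.gcd (Nat.card O) (2 ^ k) :=
    Nat.dvd_gcd (orderOf_dvd_of_pow_eq_one h2) (orderOf_dvd_of_pow_eq_one h)
  rw [Nat.Coprime.gcd_eq_one hcop, Nat.dvd_one, orderOf_eq_one_iff] at h6
  exact h6

/-- elements of `O` normalising `Q` centralise `Q`. -/
theorem comm_of_O (hO : Amb D O) {k : G} (hk : k ∈ O) (hn : Norm D k) {g : G} (hg : g ∈ D.Q) :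
    k * g = g * k := by
  have hkx : ∀ x ∈ D.P, k * x * k⁻¹ = x := by
    intro x hx
    rw [hO.O_P k hk x hx]; group
  have hkt : k * D.t * k⁻¹ = D.t := by rw [hO.O_t k hk]; group
  have hA : ∀ b, A D k b = b := by
    intro b
    obtain ⟨x, hx, rfl⟩ := D.ca_surj b
    rw [← A_P D hn hx, hkx x hx, a_P D hx]
  have hkN : k ∈ N2 D := ⟨hn, hA⟩
  have hpsi : ∀ b, psi D k b = 0 := by
    intro b
    obtain ⟨x, hx, rfl⟩ := D.ca_surj b
    rw [← psi_spec D hn hx, hkx x hx, u_P D hx]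
  obtain ⟨b, hb, h⟩ := exists_z_mul D (hn.fwd g hg) hg
    (by rw [a_conj D hn hg, hkt, hA, a_t, mul_zero, add_zero])
    (by rw [u_conj' D hn hg, hkt, hpsi, u_t, mul_zero, add_zero, add_zero,
      th_N2 D hkN (u_fixed D hg)])
    (by rw [e_conj D hn])
  have hpow : ∀ m : ℕ, k ^ m * g * (k ^ m)⁻¹ = (D.z b) ^ m * g := by
    intro m
    induction m with
    | zero => simp
    | succ m ih =>
      have e1 : k ^ (m + 1) * g * (k ^ (m + 1))⁻¹ = k * (k ^ m * g * (k ^ m)⁻¹) * k⁻¹ := by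
        rw [pow_succ']; group
      have e2 : Commute k (D.z b) := hO.O_P k hk _ (D.z_mem b)
      have e3 : k * ((D.z b) ^ m * g) * k⁻¹ = (D.z b) ^ m * (k * g * k⁻¹) := by
        rw [← mul_assoc, (e2.pow_right m).eq]; group
      rw [e1, ih, e3, h, pow_succ]; group
  obtain ⟨j, hj⟩ := hO.odd
  have h1 := hpow (Nat.card O)
  rw [pow_card_O hk, one_mul, inv_one, mul_one, hj, pow_succ, pow_mul, pow_two, z_self, one_pow,
    one_mul] at h1
  have h2 : D.z b = 1 := (mul_eq_right.mp h1.symm)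
  rw [h2, one_mul] at h
  exact mul_inv_eq_iff_eq_mul.mp h

/-- the part of `O` centralizing `Q`. -/
def D1 (O : Subgroup G) : Subgroup G := O ⊓ Subgroup.centralizer (D.Q : Set G)

theorem mem_D1 {k : G} : k ∈ D1 D O ↔ k ∈ O ∧ ∀ g ∈ D.Q, g * k = k * g := by
  unfold D1
  rw [Subgroup.mem_inf, Subgroup.mem_centralizer_iff]
  rfl

theorem norm_of_comm {c : G} (hc : ∀ g ∈ D.Q, g * c = c * g) : Norm D c := by
  refine ⟨fun g hg => ?_, fun g hg => ?_⟩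
  · rw [← hc g hg, mul_assoc, mul_inv_cancel, mul_one]; exact hg
  · rw [mul_assoc, hc g hg, inv_mul_cancel_left]; exact hg

theorem N2_of_comm {c : G} (hc : ∀ g ∈ D.Q, g * c = c * g) : c ∈ N2 D := by
  refine ⟨norm_of_comm D hc, fun b => ?_⟩
  obtain ⟨x, hx, rfl⟩ := D.ca_surj b
  rw [← A_P D (norm_of_comm D hc) hx, ← hc x (D.P_le hx), mul_assoc, mul_inv_cancel, mul_one,
    a_P D hx]

theorem D1_le : D1 D O ≤ N2 D := fun _ hd => N2_of_comm D ((mem_D1 D).mp hd).2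

/-- elements of `C(t) ∩ N2`. -/
theorem dec_of_comm (hO : Amb D O) {c : G} (hc : c ∈ N2 D) (hct : c * D.t = D.t * c) :
    ∃ x ∈ D.Q, ∃ k ∈ D1 D O, c = x * k := by
  obtain ⟨x, hx, k, hk, he⟩ := hO.dec c hct (by
    intro x hx
    have hxQ := hc.1.fwd x (D.P_le hx)
    have hu : u D (c * x * c⁻¹) = 0 := by
      apply u_eq D hxQ (bar_zero n)
      have e1 : c⁻¹ * D.t * c = D.t := by rw [mul_assoc, ← hct]; group
      have e2 : c * x * c⁻¹ * D.t * (c * x * c⁻¹)⁻¹ = c * (x * (c⁻¹ * D.t * c) * x⁻¹) * c⁻¹ := by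
        group
      rw [e2, e1, ← D.t_P x hx, z_zero, one_mul]
      have e3 : c * (D.t * x * x⁻¹) * c⁻¹ = c * D.t * c⁻¹ := by group
      rw [e3, hct]; group
    have hxP : c * x * c⁻¹ ∈ D.P := by
      rcases mem_T_of_u D hxQ hu with h1 | h1
      · exact h1
      · exfalso
        have h2 := e_P D h1
        rw [e_mul D hxQ D.Q_t, e_conj D hc.1, e_P D hx, e_t, zero_add] at h2
        exact one_ne_zero h2
    refine ⟨hxP, ?_⟩
    rw [← a_P D hxP, A_P D hc.1 hx, hc.2])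
  have hkn : Norm D k := by
    have : k = x⁻¹ * c := by rw [he]; group
    rw [this]
    exact Norm.mul D (Norm.of_mem D (inv_mem hx)) hc.1
  exact ⟨x, hx, k, (mem_D1 D).mpr ⟨hk, fun g hg => (comm_of_O D hO hk hkn hg).symm⟩, he⟩

/-- the stabiliser of `t Z` in `N2` is `Q D1`. -/
theorem stab_dec (hO : Amb D O) {s : G} (hs : s ∈ N2 D) (h1 : Fx D s) :
    ∃ g ∈ D.Q, ∃ d ∈ D1 D O, s = g * d := by
  obtain ⟨g, hg, hc⟩ := (Fx_iff' D hs.1).mp h1
  obtain ⟨x, hx, k, hk, he⟩ := dec_of_comm D hO (mul_mem (inv_mem (Q_le_N2 D hg)) hs) hc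
  exact ⟨g * x, mul_mem hg hx, k, hk, by rw [mul_assoc, ← he, mul_inv_cancel_left]⟩

/-- decomposition of the centralizer of `Q`. -/
theorem cent_Q (hO : Amb D O) {c : G} (hc : ∀ g ∈ D.Q, g * c = c * g) :
    ∃ b, bar n b = b ∧ ∃ k ∈ D1 D O, c = D.z b * k := by
  have hcN := N2_of_comm D hc
  obtain ⟨x, hx, k, hk, he⟩ := dec_of_comm D hO hcN (hc _ D.Q_t).symm
  have hk' := (mem_D1 D).mp hk
  have hxz : ∃ b, bar n b = b ∧ x = D.z b := by
    apply (mem_Z_iff D hx).mp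
    intro g hg
    have h1 := hc g hg
    rw [he, ← mul_assoc] at h1
    have h2 : x * k * g = x * g * k := by rw [mul_assoc, ← hk'.2 g hg, ← mul_assoc]
    rw [h2] at h1
    exact (mul_right_cancel h1).symm
  obtain ⟨b, hb, rfl⟩ := hxz
  exact ⟨b, hb, k, hk, he⟩

/-- `D1` is normalised by `N(Q)`. -/
theorem D1_normal (hO : Amb D O) {s : G} (hs : Norm D s) {d : G}
    (hd : d ∈ D1 D O) : s * d * s⁻¹ ∈ D1 D O := by
  have hd' := (mem_D1 D).mp hd
  have hc : ∀ g ∈ D.Q, g * (s * d * s⁻¹) = (s * d * s⁻¹) * g := by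
    intro g hg
    have h1 := hd'.2 _ (hs.bwd g hg)
    calc g * (s * d * s⁻¹) = s * ((s⁻¹ * g * s) * d) * s⁻¹ := by group
      _ = s * (d * (s⁻¹ * g * s)) * s⁻¹ := by rw [h1]
      _ = (s * d * s⁻¹) * g := by group
  obtain ⟨b, hb, k, hk, he⟩ := cent_Q D hO hc
  have hk' := (mem_D1 D).mp hk
  have h1 : (s * d * s⁻¹) ^ Nat.card O = 1 := by
    rw [conj_pow, pow_card_O hd'.1, mul_one, mul_inv_cancel]
  have h2 : k ^ Nat.card O = 1 := pow_card_O hk'.1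
  have hcomm : Commute (D.z b) k := hk'.2 _ (z_mem_Q D b)
  rw [he, hcomm.mul_pow, h2, mul_one] at h1
  obtain ⟨j, hj⟩ := hO.odd
  have h3 : D.z b = 1 := by
    rw [hj, pow_succ, pow_mul, pow_two, z_self, one_pow, one_mul] at h1
    exact h1
  rw [he, h3, one_mul]
  exact hk

/-- squares of elements of `N2` normalize `t Z`. -/
theorem Fx_sq {s : G} (hs : s ∈ N2 D) : Fx D (s * s) := by
  have ha : a D (s * s * D.t * (s * s)⁻¹) = 0 := by rw [a_t_mul D hs hs.1, add_self]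
  refine ⟨ha, ?_⟩
  by_cases hg : gam D = 0
  · rw [u_t_zero D (mul_mem hs hs : s * s ∈ N2 D).1 hg, ha, N_zero]
  · rw [u_t_mul D hs hs.1 (a_t_of_gam D hs.1 hg), add_self]

theorem pow_mem_D1 (hO : Amb D O) {s : G} (hs : s ∈ N2 D) : ∃ k, s ^ (2 ^ k) ∈ D1 D O := by
  obtain ⟨g, hg, d, hd, h⟩ := stab_dec D hO (mul_mem hs hs) (Fx_sq D hs)
  obtain ⟨j, hj⟩ := D.Q_two ⟨g, hg⟩
  have hj' : g ^ (2 ^ j) = 1 := congrArg Subtype.val hj
  have hcomm : Commute g d := ((mem_D1 D).mp hd).2 g hg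
  refine ⟨j + 1, ?_⟩
  have : s ^ (2 ^ (j + 1)) = d ^ (2 ^ j) := by
    rw [pow_succ' 2 j, pow_mul, pow_two, h, hcomm.mul_pow, hj', one_mul]
  rw [this]
  exact pow_mem hd _

/-- the data of the next level. -/
structure Next (O : Subgroup G) where
  S : Subgroup G
  S_two : IsPGroup 2 S
  Q_le : D.Q ≤ S
  S_N2 : S ≤ N2 D
  N2_dec : ∀ s ∈ N2 D, ∃ x ∈ S, ∃ k ∈ D1 D O, s = x * k
  h' : Kˣ → G
  h'_t : ∀ l, h' l * D.t = D.t * h' l
  h'_Q : ∀ l, ∀ g ∈ D.Q, h' l * g * (h' l)⁻¹ = D.h l * g * (D.h l)⁻¹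
  h'_S : ∀ l, ∀ s ∈ S, h' l * s * (h' l)⁻¹ ∈ S
  h'_mul : ∀ l l', ∀ s ∈ S,
    h' (l * l') * s * (h' (l * l'))⁻¹ = h' l * (h' l' * s * (h' l')⁻¹) * (h' l)⁻¹
  frat : ∀ x, Norm D x → ∃ d ∈ D1 D O, ∀ s ∈ S, (d * x) * s * (d * x)⁻¹ ∈ S

theorem exists_next [Finite G] (hO : Amb D O) (R : Subgroup G) (hR : IsPGroup 2 R)
    (hRN : R ≤ NQ D) : ∃ X : Next D O, ∀ r ∈ R, ∀ s ∈ X.S, r * s * r⁻¹ ∈ X.S := by
  classical
  haveI : Fact (Nat.Prime 2) := ⟨Nat.prime_two⟩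
  let N2' : Subgroup (NQ D) := (N2 D).subgroupOf (NQ D)
  let D1' : Subgroup (NQ D) := (D1 D O).subgroupOf (NQ D)
  let Q' : Subgroup (NQ D) := D.Q.subgroupOf (NQ D)
  haveI hN2n : N2'.Normal := ⟨by
    intro s hs g
    rw [Subgroup.mem_subgroupOf] at hs ⊢
    exact N2_conj D g.2 hs⟩
  haveI hD1n : D1'.Normal := ⟨by
    intro s hs g
    rw [Subgroup.mem_subgroupOf] at hs ⊢
    exact D1_normal D hO g.2 hs⟩
  haveI hQn : Q'.Normal := ⟨by
    intro s hs g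
    rw [Subgroup.mem_subgroupOf] at hs ⊢
    exact (g.2 : Norm D (g : G)).fwd _ hs⟩
  have hQ2 : IsPGroup 2 Q' := D.Q_two.comap_subtype
  have hR2 : IsPGroup 2 (R.subgroupOf (NQ D)) := hR.comap_subtype
  obtain ⟨T, hT⟩ := hR2.exists_le_sylow
  have hQT : Q' ≤ (T : Subgroup (NQ D)) := by
    have h1 : IsPGroup 2 ((T : Subgroup (NQ D)) ⊔ Q' : Subgroup (NQ D)) :=
      IsPGroup.to_sup_of_normal_right T.isPGroup' hQ2
    have h2 := T.is_maximal' h1 le_sup_left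
    rw [← h2]; exact le_sup_right
  let S0 : Subgroup (NQ D) := (T : Subgroup (NQ D)) ⊓ N2'
  have hS0 : IsPGroup 2 S0 := T.isPGroup'.to_le inf_le_left
  have hdec : N2' ≤ D1' ⊔ S0 := by
    apply Cfsg.Agent.Lib.SylowNormalInf.le_sup_inf
    intro x hx
    obtain ⟨k, hk⟩ := pow_mem_D1 D hO hx
    exact ⟨k, hk⟩
  let S : Subgroup G := S0.map (NQ D).subtype
  have hS2 : IsPGroup 2 S := hS0.map _
  have hmemS : ∀ x : NQ D, (x : G) ∈ S ↔ x ∈ S0 := by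
    intro x
    constructor
    · rintro ⟨y, hy, he⟩
      have : y = x := Subtype.ext he
      rw [← this]; exact hy
    · intro hx
      exact ⟨x, hx, rfl⟩
  have hSN2 : S ≤ N2 D := by
    rintro _ ⟨x, hx, rfl⟩
    exact hx.2
  have hQS : D.Q ≤ S := by
    intro g hg
    have : (⟨g, Q_le_NQ D hg⟩ : NQ D) ∈ S0 := ⟨hQT hg, Q_le_N2 D hg⟩
    exact (hmemS _).mpr this
  have hN2dec : ∀ s ∈ N2 D, ∃ x ∈ S, ∃ k ∈ D1 D O, s = x * k := by
    intro s hs
    have h1 : (⟨s, hs.1⟩ : NQ D) ∈ D1' ⊔ S0 := hdec hs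
    rw [sup_comm] at h1
    obtain ⟨x, hx, k, hk, he⟩ := Subgroup.mem_sup_of_normal_right.mp h1
    exact ⟨x, (hmemS x).mpr hx, k, hk, (congrArg Subtype.val he).symm⟩
  have hfrat : ∀ x, Norm D x → ∃ d ∈ D1 D O, ∀ s ∈ S, (d * x) * s * (d * x)⁻¹ ∈ S := by
    intro x hx
    have h1 : (⟨x, hx⟩ : NQ D) ∈ Subgroup.normalizer (S0 : Set (NQ D)) ⊔ N2' := by
      rw [Cfsg.Agent.Lib.SylowNormalInf.normalizer_inf_sup_eq_top T N2']
      trivial
    rw [sup_comm] at h1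
    obtain ⟨m, hm, y, hy, he⟩ := Subgroup.mem_sup_of_normal_left.mp h1
    obtain ⟨s0, hs0, k, hk, hmk⟩ := hN2dec m hm
    have he' : x = s0 * k * y := by
      have := congrArg Subtype.val he
      rw [← hmk]; exact this.symm
    refine ⟨s0 * k⁻¹ * s0⁻¹, D1_normal D hO (hSN2 hs0).1 (inv_mem hk), fun s hs => ?_⟩
    have e1 : s0 * k⁻¹ * s0⁻¹ * x = s0 * y := by rw [he']; group
    rw [e1]
    have hys : (y : G) * s * (y : G)⁻¹ ∈ S := by
      have hsN : s ∈ NQ D := N2_le D (hSN2 hs)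
      have h2 := (Subgroup.mem_normalizer_iff.mp hy ⟨s, hsN⟩).mp ((hmemS ⟨s, hsN⟩).mp hs)
      exact (hmemS _).mpr h2
    have e2 : s0 * y * s * (s0 * y : G)⁻¹ = s0 * (y * s * (y : G)⁻¹) * s0⁻¹ := by group
    rw [e2]
    exact mul_mem (mul_mem hs0 hys) (inv_mem hs0)
  choose dl hdl hdlS using fun l : Kˣ => hfrat (D.h l) (norm_h D l)
  have hdQ : ∀ l, ∀ g ∈ D.Q, (dl l * D.h l) * g * (dl l * D.h l)⁻¹ = D.h l * g * (D.h l)⁻¹ := by
    intro l g hg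
    have h2 := ((mem_D1 D).mp (hdl l)).2 _ (D.Q_h l g hg)
    have h3 : (dl l * D.h l) * g * (dl l * D.h l)⁻¹ = dl l * (D.h l * g * (D.h l)⁻¹) * (dl l)⁻¹ := by
      group
    rw [h3, ← h2]; group
  refine ⟨⟨S, hS2, hQS, hSN2, hN2dec, fun l => dl l * D.h l, ?_, hdQ, hdlS, ?_, hfrat⟩, ?_⟩
  · intro l
    rw [mul_assoc, ← D.t_h, ← mul_assoc, hO.O_t _ ((mem_D1 D).mp (hdl l)).1, mul_assoc]
  · intro l l' s hs
    set c := (dl (l * l') * D.h (l * l'))⁻¹ * ((dl l * D.h l) * (dl l' * D.h l')) with hc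
    have hcQ : ∀ g ∈ D.Q, g * c = c * g := by
      intro g hg
      have e1 := D.h_mul l l' g hg
      rw [← hdQ _ g hg, ← hdQ l' g hg, ← hdQ l _ (by rw [hdQ l' g hg]; exact D.Q_h _ _ hg)] at e1
      have e2 : c * g * c⁻¹ = g := by
        rw [hc]
        have : (dl (l * l') * D.h (l * l'))⁻¹ * (dl l * D.h l * (dl l' * D.h l')) * g *
            ((dl (l * l') * D.h (l * l'))⁻¹ * (dl l * D.h l * (dl l' * D.h l')))⁻¹ =
            (dl (l * l') * D.h (l * l'))⁻¹ * (dl l * D.h l * (dl l' * D.h l' * g *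
              (dl l' * D.h l')⁻¹) * (dl l * D.h l)⁻¹) * (dl (l * l') * D.h (l * l')) := by group
        rw [this, ← e1]; group
      exact (mul_inv_eq_iff_eq_mul.mp e2).symm
    obtain ⟨b, hb, d, hd, hcd⟩ := cent_Q D hO hcQ
    have hbij : ∀ l, ∀ x ∈ S, (dl l * D.h l)⁻¹ * x * (dl l * D.h l) ∈ S := by
      intro l x hx
      have h2 : S.map (MulAut.conj (dl l * D.h l)).toMonoidHom ≤ S := by
        rintro _ ⟨g, hg, rfl⟩
        exact hdlS l g hg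
      have h3 : S.map (MulAut.conj (dl l * D.h l)).toMonoidHom = S := by
        have h4 : Nat.card (S.map (MulAut.conj (dl l * D.h l)).toMonoidHom) = Nat.card S :=
          Nat.card_congr (S.equivMapOfInjective (MulAut.conj (dl l * D.h l)).toMonoidHom
            (MulAut.conj (dl l * D.h l)).injective).symm.toEquiv
        exact Subgroup.eq_of_le_of_card_ge h2 h4.ge
      rw [← h3] at hx
      obtain ⟨y, hy, rfl⟩ := hx
      have : (dl l * D.h l)⁻¹ * (MulAut.conj (dl l * D.h l)).toMonoidHom y * (dl l * D.h l) = y := by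
        show (dl l * D.h l)⁻¹ * ((dl l * D.h l) * y * (dl l * D.h l)⁻¹) * (dl l * D.h l) = y
        group
      rw [this]; exact hy
    have hcS : c * s * c⁻¹ ∈ S := by
      have e1 : c * s * c⁻¹ = (dl (l * l') * D.h (l * l'))⁻¹ * ((dl l * D.h l) * ((dl l' * D.h l') *
          s * (dl l' * D.h l')⁻¹) * (dl l * D.h l)⁻¹) * (dl (l * l') * D.h (l * l')) := by
        rw [hc]; group
      rw [e1]
      exact hbij _ _ (hdlS l _ (hdlS l' _ hs))
    have hdS : d * s * d⁻¹ ∈ S := by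
      have e1 : d = (D.z b)⁻¹ * c := by rw [hcd]; group
      have e2 : d * s * d⁻¹ = (D.z b)⁻¹ * (c * s * c⁻¹) * D.z b := by rw [e1]; group
      rw [e2]
      exact mul_mem (mul_mem (inv_mem (hQS (z_mem_Q D b))) hcS) (hQS (z_mem_Q D b))
    have hds : d * s * d⁻¹ = s := by
      have e1 : d * s * d⁻¹ * s⁻¹ ∈ S := mul_mem hdS (inv_mem hs)
      have e2 : d * s * d⁻¹ * s⁻¹ ∈ D1 D O := by
        have : d * s * d⁻¹ * s⁻¹ = d * (s * d⁻¹ * s⁻¹) := by group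
        rw [this]
        exact mul_mem hd (D1_normal D hO (hSN2 hs).1 (inv_mem hd))
      obtain ⟨k, hk⟩ := hS2 ⟨_, e1⟩
      have e3 := eq_one_of_O D hO ((mem_D1 D).mp e2).1 (congrArg Subtype.val hk)
      exact mul_inv_eq_one.mp e3
    have hcs : c * s * c⁻¹ = s := by
      have : c * s * c⁻¹ = D.z b * (d * s * d⁻¹) * (D.z b)⁻¹ := by rw [hcd]; group
      rw [this, hds, ← N2_z D (hSN2 hs) b]; group
    have e4 : (dl l * D.h l) * ((dl l' * D.h l') * s * (dl l' * D.h l')⁻¹) * (dl l * D.h l)⁻¹ =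
        (dl (l * l') * D.h (l * l')) * (c * s * c⁻¹) * (dl (l * l') * D.h (l * l'))⁻¹ := by
      rw [hc]; group
    rw [e4, hcs]
  · intro r hr s hs
    have hrT : (⟨r, hRN hr⟩ : NQ D) ∈ (T : Subgroup (NQ D)) := hT hr
    have hsN : s ∈ NQ D := N2_le D (hSN2 hs)
    have hs0 := (hmemS ⟨s, hsN⟩).mp hs
    have hs0T : (⟨s, hsN⟩ : NQ D) ∈ (T : Subgroup (NQ D)) := hs0.1
    have h1 : (⟨r, hRN hr⟩ : NQ D) * ⟨s, hsN⟩ * (⟨r, hRN hr⟩ : NQ D)⁻¹ ∈ S0 :=
      Subgroup.mem_inf.mpr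
        ⟨mul_mem (mul_mem hrT hs0T) (inv_mem hrT), hN2n.conj_mem _ hs0.2 _⟩
    exact (hmemS _).mpr h1

/-! ### Consequences -/

variable {D} (X : Next D O)

include X in
theorem Next.stab (hO : Amb D O) {s : G} (hs : s ∈ X.S) (h : Fx D s) : s ∈ D.Q := by
  obtain ⟨g, hg, d, hd, he⟩ := stab_dec D hO (X.S_N2 hs) h
  have hdS : d ∈ X.S := by
    have : d = g⁻¹ * s := by rw [he]; group
    rw [this]
    exact mul_mem (inv_mem (X.Q_le hg)) hs
  obtain ⟨k, hk⟩ := X.S_two ⟨d, hdS⟩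
  have h1 := eq_one_of_O D hO ((mem_D1 D).mp hd).1 (congrArg Subtype.val hk)
  rw [he, h1, mul_one]; exact hg

include X in
theorem Next.conj_of_N2 {s : G} (hs : s ∈ N2 D) :
    ∃ x ∈ X.S, x * D.t * x⁻¹ = s * D.t * s⁻¹ := by
  obtain ⟨x, hx, k, hk, he⟩ := X.N2_dec s hs
  refine ⟨x, hx, ?_⟩
  have h1 : D.t * k = k * D.t := ((mem_D1 D).mp hk).2 _ D.Q_t
  have h2 : s * D.t * s⁻¹ = x * (k * D.t * k⁻¹) * x⁻¹ := by rw [he]; group
  rw [h2, ← h1]; group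

theorem Next.surj_zero [Finite G] {r : G} (hr : r ∈ N2 D) (h : a D (r * D.t * r⁻¹) ≠ 0) (c : K) :
    ∃ s ∈ X.S, a D (s * D.t * s⁻¹) = c := by
  obtain ⟨s, hs, h1⟩ := trans_zero D hr h c
  obtain ⟨x, hx, h2⟩ := X.conj_of_N2 hs
  exact ⟨x, hx, by rw [h2, h1]⟩

theorem Next.surj_one [Finite G] (hg : gam D ≠ 0) {r : G} (hr : r ∈ N2 D)
    (h : u D (r * D.t * r⁻¹) ≠ 0) {c : K} (hc : bar n c = c) :
    ∃ s ∈ X.S, u D (s * D.t * s⁻¹) = c := by
  obtain ⟨s, hs, h1⟩ := trans_one D hg hr h hc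
  obtain ⟨x, hx, h2⟩ := X.conj_of_N2 hs
  exact ⟨x, hx, by rw [h2, h1]⟩

/-- the alternative: everything in `N(Q)` fixes the class of `t`, or `gam = 0`, or `gam = 1`, and the
next level is really bigger. -/
theorem cases_of [Finite G] (D : Pre G K n) (O : Subgroup G) :
    (∀ s, Norm D s → ∃ g ∈ D.Q, (g⁻¹ * s) * D.t = D.t * (g⁻¹ * s)) ∨
    (gam D = 0 ∧ ∀ X : Next D O, ∀ c, ∃ s ∈ X.S, a D (s * D.t * s⁻¹) = c) ∨
    (gam D = 1 ∧ ∀ X : Next D O, ∀ c, bar n c = c → ∃ s ∈ X.S, u D (s * D.t * s⁻¹) = c) := by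
  by_cases H : ∀ r ∈ N2 D, Fx D r
  · left
    intro s hs
    exact (Fx_iff' D hs).mp (all_fix D H hs)
  · right
    push Not at H
    obtain ⟨r, hr, hfx⟩ := H
    by_cases hg : gam D = 0
    · left
      refine ⟨hg, fun X c => X.surj_zero hr ?_ c⟩
      intro h
      exact hfx ⟨h, by rw [u_t_zero D hr.1 hg, h, N_zero]⟩
    · right
      have ha := a_t_of_gam D hr.1 hg
      have hg1 : gam D = 1 := by
        by_contra hg1
        exact hfx ⟨ha, u_t_of_gam D hr.1 hg hg1⟩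
      refine ⟨hg1, fun X c hc => X.surj_one hg hr ?_ hc⟩
      intro h
      exact hfx ⟨ha, h⟩

end Cfsg.Agent.StdU3.Next
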