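import Cfsg.Agent.StdU3.Field

/-!
# Standard subgroups of type `U₃(q)`: the first level, data

`P` is a Sylow 2-subgroup of `A`, with coordinate `ca : P → K = F_{q²}` (kernel `Z = z '' F_q`),
`t` the involution centralizing `A`, `h` the torus, `Q = S₁` the first step of the growth.
The function `z` is additive on the whole of `K` (compose the embedding of `F_q` with
`b ↦ Tr (ε b)`, `Tr ε = 1`), only its values on `F_q` matter.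
-/

set_option autoImplicit false

namespace Cfsg.Agent.StdU3.PreDef

open Cfsg.Agent.StdU3.Field

/-- the weight of the torus on `P / Z` -/
def w {K : Type*} [Field K] (n : ℕ) (l : Kˣ) : K := (l : K) ^ 2 * (bar n (l : K))⁻¹

/-- the data of the first level. -/
structure Pre (G : Type*) [Group G] (K : Type*) [Field K] [Fintype K] [CharP K 2] (n : ℕ) where
  hq : Qd K n
  P : Subgroup G
  ca : G → K
  ca_mul : ∀ x ∈ P, ∀ y ∈ P, ca (x * y) = ca x + ca y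
  ca_surj : ∀ a, ∃ x ∈ P, ca x = a
  z : K → G
  z_mem : ∀ b, z b ∈ P
  z_add : ∀ b c, z (b + c) = z b * z c
  z_inj : ∀ b, bar n b = b → z b = 1 → b = 0
  ca_z : ∀ b, ca (z b) = 0
  exists_z : ∀ x ∈ P, ca x = 0 → ∃ b, bar n b = b ∧ x = z b
  P_sq : ∀ x ∈ P, x * x = z (N n (ca x))
  P_comm : ∀ x ∈ P, ∀ y ∈ P, x * y = z (Tr n (ca x * bar n (ca y))) * (y * x)
  h : Kˣ → G
  h_P : ∀ l, ∀ x ∈ P, h l * x * (h l)⁻¹ ∈ P
  h_ca : ∀ l, ∀ x ∈ P, ca (h l * x * (h l)⁻¹) = w n l * ca x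
  t : G
  t_sq : t * t = 1
  t_P : ∀ x ∈ P, t * x = x * t
  t_h : ∀ l, t * h l = h l * t
  t_not : t ∉ P
  Q : Subgroup G
  Q_two : IsPGroup 2 Q
  P_le : P ≤ Q
  Q_t : t ∈ Q
  Q_h : ∀ l, ∀ g ∈ Q, h l * g * (h l)⁻¹ ∈ Q
  h_mul : ∀ l l', ∀ g ∈ Q,
    h (l * l') * g * (h (l * l'))⁻¹ = h l * (h l' * g * (h l')⁻¹) * (h l)⁻¹
  Q_conj : ∀ g ∈ Q, ∃ u, bar n u = u ∧ g * t * g⁻¹ = z u * t
  Q_surj : ∀ u, bar n u = u → ∃ g ∈ Q, g * t * g⁻¹ = z u * t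
  Q_Z : ∀ g ∈ Q, ∀ b, g * z b = z b * g
  Q_T : ∀ g ∈ Q, g * t = t * g → g ∈ P ∨ g * t ∈ P
  Q_P : ∀ g ∈ Q, ∀ x ∈ P, ∃ y ∈ P, ca y = ca x ∧ (g * x * g⁻¹ = y ∨ g * x * g⁻¹ = y * t)

end Cfsg.Agent.StdU3.PreDef
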