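import Mathlib
import Cfsg.Agent.StdU3.LZeroN
import Cfsg.Agent.StdU3.PreDef
import Cfsg.Agent.StdU3.Next

/-!
# The data `Pre` of the first level
-/

set_option autoImplicit false
set_option linter.unusedSectionVars false
set_option linter.dupNamespace false

namespace Cfsg.Agent.StdU3.LZero

open Subgroup Cfsg.Agent.LieRecognition.HermHeis Cfsg.Agent.StdU3.URel Cfsg.Agent.StdU3.Semi
  Cfsg.Agent.StdU3.Field Cfsg.Agent.StdU3.FieldAut Cfsg.Agent.StdSz Cfsg.Agent.StdU3.Ctx
  Cfsg.Agent.StdU3.Fuse Cfsg.Agent.StdU3.Move Cfsg.Agent.StdU3.Torus Cfsg.Agent.StdU3.LZeroN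
open Cfsg.Agent.StdSz.FromStd.Ctx (IsR)
open Cfsg.Agent.StdSz.Base (eq_one_of_two_odd)

variable {G : Type*} [Group G] [Finite G] {F : Type*} [Field F] [Fintype F] [CharP F 2]
  {σ : F →+* F} [hσ : Fact (∀ x, σ (σ x) = x)] {n : ℕ}
variable {A : Subgroup G} {t : G} (C : Ctx A t σ n) {R0 : Subgroup G} (hR : IsR A t R0)
variable {Y : Subgroup G} (hY : IsY A t Y)

/-- the coordinate -/
noncomputable def ca (g : G) : F := by
  classical
  exact if h : ∃ x, C.p x = g then (Classical.choose h).a else 0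

theorem ca_p (x : Heis σ) : ca C (C.p x) = x.a := by
  classical
  have h : ∃ y, C.p y = C.p x := ⟨x, rfl⟩
  have h1 : ca C (C.p x) = if h : ∃ y, C.p y = C.p x then (Classical.choose h).a else 0 := rfl
  rw [h1, dif_pos h, C.p_inj (Classical.choose_spec h)]

/-- the element of the centre with second coordinate `Tr (e b)` -/
def zz (σ : F →+* F) [hσ : Fact (∀ x, σ (σ x) = x)] (e b : F) : Heis σ :=
  zet (e * b + σ (e * b)) (by rw [map_add, sig, add_comm])

theorem zz_a (e b : F) : (zz σ e b).a = 0 := rfl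

theorem zz_add (e b c : F) : zz σ e (b + c) = zz σ e b * zz σ e c := by
  apply ext_z
  · rfl
  · rw [mul_a, zz_a, zz_a, add_zero]
  · rw [mul_b, zz_a, zero_mul, add_zero]
    show e * (b + c) + σ (e * (b + c)) = (e * b + σ (e * b)) + (e * c + σ (e * c))
    rw [mul_add, map_add]; ring

theorem zz_b {e : F} (he : e + σ e = 1) {b : F} (hb : σ b = b) : (zz σ e b).b = b := by
  show e * b + σ (e * b) = b
  rw [map_mul, hb, ← add_mul, he, one_mul]

theorem eq_zz {e : F} (he : e + σ e = 1) {z : Heis σ} (hz : z.a = 0) : z = zz σ e z.b :=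
  ext_z hz rfl (zz_b he (b_fixed_of_a_eq_zero hz)).symm

include C hR hY in
/-- elements of odd order commuting with `P` and `t` and normalising a 2-group `X` with
`C_X(t) = T0` centralise `X` -/
theorem centralizes {X : Subgroup G} (hX : IsPGroup 2 X) (htX : t ∈ X)
    (hXt : ∀ x ∈ X, x * t = t * x → x ∈ C.T0 hR) {y : G}
    (ho : Odd (orderOf y)) (hyt : y * t = t * y) (hy : ∀ x, y * C.p x = C.p x * y)
    (hn : y ∈ normalizer (X : Set G)) : ∀ x ∈ X, y * x = x * y := by
  have : Fact (Nat.Prime 2) := ⟨Nat.prime_two⟩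
  have h := Cfsg.Agent.S0028.result 2 (zpowers t) (zpowers y) X
    (by
      intro x
      obtain ⟨x, hx⟩ := x
      obtain ⟨i, rfl⟩ := mem_zpowers_iff.mp hx
      refine ⟨1, Subtype.ext ?_⟩
      show (t ^ i) ^ 2 ^ 1 = 1
      rw [← zpow_natCast, ← zpow_mul, mul_comm, zpow_mul, zpow_natCast, pow_one, pow_two, C.tt,
        one_zpow])
    (by rw [Nat.card_zpowers]; exact Nat.coprime_two_right.mpr ho) hX
    (by
      rw [zpowers_le, mem_centralizer_iff]
      intro x hx
      obtain ⟨i, rfl⟩ := mem_zpowers_iff.mp hx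
      exact (Commute.zpow_left (show Commute y t from hyt) i).eq)
    (by rw [zpowers_le]; exact le_normalizer htX)
    (by rw [zpowers_le]; exact hn)
    (by
      intro x hx
      have hxT : x ∈ C.T0 hR := hXt x hx.1
        ((mem_centralizer_iff.mp hx.2 t (mem_zpowers t)).symm)
      rw [mem_centralizer_iff]
      intro w hw
      obtain ⟨i, rfl⟩ := mem_zpowers_iff.mp hw
      have hyx : Commute y x := by
        obtain ⟨a, rfl | rfl⟩ := (T0_iff C hR).mp hxT
        · exact hy a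
        · exact (show Commute y (C.p a) from hy a).mul_right hyt
      exact (hyx.zpow_left i).eq)
  intro x hx
  have h1 := h (mem_zpowers y)
  rw [mem_centralizer_iff] at h1
  exact (h1 x hx).symm

/-- **Level one**: the data `Pre`, for a given Sylow 2-subgroup `Q` of `N2`. -/
theorem exists_pre_of {Q : Subgroup G} (hQ : Mx (N2 C hR) Q) (hTQ : C.T0 hR ≤ Q) :
    ∃ D : PreDef.Pre G F n, D.t = t ∧ D.P = C.p.range ∧ D.ca = ca C ∧
    (∀ l, D.h l ∈ DD C hY) ∧ D.Q = Q ∧
    (∃ e, e + σ e = 1 ∧ ∀ b, D.z b = C.p (zz σ e b)) ∧ Next.Amb D Y := by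
  classical
  have : Fact (Nat.Prime 2) := ⟨Nat.prime_two⟩
  have hq := C.hS.hq
  obtain ⟨e, he⟩ := sg_tr C.hS (1 : F) (map_one σ)
  have hQN2 : ∀ {g}, g ∈ Q → g ∈ N2 C hR := fun hg => hQ.le hg
  have hpQ : ∀ x, C.p x ∈ Q := fun x => hTQ (C.p_mem_T0 hR x)
  have htQ : t ∈ Q := hTQ (C.t_mem_T0 hR)
  have hQ2 : ∀ x ∈ Q, ∃ k : ℕ, x ^ 2 ^ k = 1 := by
    intro x hx
    obtain ⟨k, hk⟩ := hQ.two ⟨x, hx⟩
    exact ⟨k, congrArg Subtype.val hk⟩
  -- `C_Q(t) = T0`
  have hQT : ∀ x ∈ Q, x * t = t * x → x ∈ C.T0 hR := by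
    intro x hx hxt
    obtain ⟨y, hy, v, hv, h⟩ := N2_comm C hR hY (hQN2 hx) hxt
    have hyQ : y ∈ Q := by
      have : y = x * v⁻¹ := by rw [h, mul_inv_cancel_right]
      rw [this]; exact mul_mem hx (inv_mem (hTQ hv))
    obtain ⟨k, hk⟩ := hQ2 y hyQ
    have : y = 1 := eq_one_of_two_odd hk hY.odd (Subgroup.orderOf_dvd_natCard _ hy)
    rw [h, this, one_mul]; exact hv
  -- factorization
  have hfac : ∀ g ∈ N2 C hR, ∃ y ∈ Y, ∃ x ∈ Q, g = y * x := by
    have hex : ∀ g : N2 C hR, ∃ b : {b : F // σ b = b}, (g : G) * t * (g : G)⁻¹ =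
        C.p (zz σ e b) * t := by
      intro g
      obtain ⟨z, hz, h⟩ := conj_t C hR g.2.1
      exact ⟨⟨z.b, b_fixed_of_a_eq_zero hz⟩, by rw [h, ← eq_zz he hz]⟩
    choose f hf using hex
    have hinj : ∀ b b' : {b : F // σ b = b}, C.p (zz σ e b) * t = C.p (zz σ e b') * t → b = b' := by
      intro b b' h
      have h1 := C.p_inj (mul_right_cancel h)
      have h2 := congrArg Heis.b h1
      rw [zz_b he b.2, zz_b he b'.2] at h2
      exact Subtype.ext h2
    have hcard : Nat.card {b : F // σ b = b} = 2 ^ n :=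
      (card_fixed (σ := σ) (by have := four_le hq; omega) C.hS.eq
        (by rw [Nat.card_eq_fintype_card, hq.hK])).1
    have h1 := Cfsg.Agent.StdSz.Env.exists_fac (N := N2 C hR) (S := Q) (t := t) hQ.le hQ.two hQ.max
      f (by
        intro a b
        rw [hf, hf]
        constructor
        · intro h; rw [h]
        · intro h; exact hinj _ _ h) (by
        intro b
        obtain ⟨g, hg, h⟩ := trans C hR hY (zz σ e b) rfl
        refine ⟨⟨g, hg⟩, ?_⟩
        have := hf ⟨g, hg⟩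
        rw [h] at this
        exact (hinj _ _ this).symm) hcard
    intro g hg
    obtain ⟨c, hc, x, hx, h⟩ := h1 g hg
    have hcN : c ∈ N2 C hR := by
      have : c = g * x⁻¹ := by rw [h, mul_inv_cancel_right]
      rw [this]; exact mul_mem hg (inv_mem (hQN2 hx))
    obtain ⟨y, hy, v, hv, h2⟩ := N2_comm C hR hY hcN hc
    exact ⟨y, hy, v * x, mul_mem (hTQ hv) hx, by rw [h, h2, mul_assoc]⟩
  -- the torus elements
  have htor : ∀ l : Fˣ, ∃ g ∈ DD C hY, Acts C g l ∧ g ∈ normalizer (Q : Set G) := by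
    intro l
    obtain ⟨g, hg, hgl⟩ := DD_surj hY (C := C) l
    have hgN := DD_le C hR hY hg
    have h1 : IsPGroup 2 (Q.map (MulAut.conj g).toMonoidHom) := hQ.two.map _
    obtain ⟨c, hc, h2⟩ := hQ.exists_conj h1 (by
      rintro _ ⟨x, hx, rfl⟩
      exact N2_conj C hR hgN (hQN2 hx))
    obtain ⟨y, hy, x, hx, rfl⟩ := hfac c hc
    have hyi : y⁻¹ ∈ Y := inv_mem hy
    refine ⟨y⁻¹ * g, mul_mem (Y_le_DD C hY hyi) hg, ?_, ?_⟩
    · intro v
      have e1 : y⁻¹ * g * C.p v * (y⁻¹ * g)⁻¹ = y⁻¹ * (g * C.p v * g⁻¹) * y⁻¹⁻¹ := by group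
      rw [e1, hgl, C.comm_K (hY.le hyi) (C.p_mem _), mul_inv_cancel_right]
    · -- `y⁻¹ g Q g⁻¹ y ≤ Q`
      have key : ∀ v ∈ Q, (y⁻¹ * g) * v * (y⁻¹ * g)⁻¹ ∈ Q := by
        intro v hv
        have h3 := h2 (g * v * g⁻¹) ⟨v, hv, rfl⟩
        have h4 := mul_mem (mul_mem hx h3) (inv_mem hx)
        have e1 : x * ((y * x)⁻¹ * (g * v * g⁻¹) * (y * x)) * x⁻¹ =
            (y⁻¹ * g) * v * (y⁻¹ * g)⁻¹ := by group
        rwa [e1] at h4
      have h5 : Q.map (MulAut.conj (y⁻¹ * g)).toMonoidHom = Q := by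
        apply Subgroup.eq_of_le_of_card_ge
        · rintro _ ⟨v, hv, rfl⟩
          exact key v hv
        · exact (Nat.card_congr (Q.equivMapOfInjective _
            (MulAut.conj (y⁻¹ * g)).injective).toEquiv).le
      rw [mem_normalizer_iff]
      intro v
      constructor
      · exact key v
      · intro hv
        have h6 : (y⁻¹ * g) * v * (y⁻¹ * g)⁻¹ ∈ Q.map (MulAut.conj (y⁻¹ * g)).toMonoidHom := by
          rw [h5]; exact hv
        obtain ⟨v', hv', hvv⟩ := h6
        have : v' = v := (MulAut.conj (y⁻¹ * g)).injective hvv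
        rwa [← this]
  choose h hhD hha hhQ using htor
  have hcan : ∀ x, ca C (C.p x) = x.a := ca_p C
  let D : PreDef.Pre G F n :=
    { hq := hq
      P := C.p.range
      ca := ca C
      ca_mul := by
        rintro _ ⟨x, rfl⟩ _ ⟨y, rfl⟩
        rw [← map_mul, hcan, hcan, hcan, mul_a]
      ca_surj := by
        intro a
        obtain ⟨x, hx⟩ := exists_a C.hS a
        exact ⟨_, ⟨x, rfl⟩, by rw [hcan, hx]⟩
      z := fun b => C.p (zz σ e b)
      z_mem := fun b => ⟨_, rfl⟩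
      z_add := fun b c => by rw [zz_add, map_mul]
      z_inj := by
        intro b hb h
        have h1 : zz σ e b = 1 := C.p_inj (by rw [h, map_one])
        have h2 := congrArg Heis.b h1
        rw [zz_b he (by rw [C.hS.eq, hb])] at h2
        exact h2
      ca_z := fun b => by rw [hcan]; rfl
      exists_z := by
        rintro _ ⟨x, rfl⟩ hx
        rw [hcan] at hx
        exact ⟨x.b, by rw [← C.hS.eq]; exact b_fixed_of_a_eq_zero hx, by rw [← eq_zz he hx]⟩
      P_sq := by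
        rintro _ ⟨x, rfl⟩
        rw [← map_mul, hcan, eq_zz he (sq_a x), sq_b, C.hS.eq]
        rfl
      P_comm := by
        rintro _ ⟨x, rfl⟩ _ ⟨y, rfl⟩
        rw [hcan, hcan, ← map_mul, ← map_mul, ← map_mul]
        congr 1
        have hb : σ (Tr n (x.a * bar n y.a)) = Tr n (x.a * bar n y.a) := by
          rw [C.hS.eq, fixed_Tr hq]
        ext
        · simp only [mul_a, zz_a]; ring
        · simp only [mul_b, zz_a, zero_mul, add_zero, zz_b he hb, C.hS.eq]
          rw [Tr_def, bar_mul, bar_bar hq]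
          have := CharTwo.two_eq_zero (R := F)
          linear_combination (-(y.a * bar n x.a)) * this
      h := h
      h_P := by
        rintro l _ ⟨x, rfl⟩
        exact ⟨_, (hha l x).symm⟩
      h_ca := by
        rintro l _ ⟨x, rfl⟩
        rw [hha l x, hcan, hcan, act_a]
        show wt σ l * x.a = _
        unfold wt PreDef.w
        rw [C.hS.eq]
      t := t
      t_sq := C.tt
      t_P := by
        rintro _ ⟨x, rfl⟩
        exact C.t_p x
      t_h := fun l => (DD_t hY (hhD l)).symm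
      t_not := by
        rintro ⟨x, hx⟩
        exact C.t_not x hx
      Q := Q
      Q_two := hQ.two
      P_le := by
        rintro _ ⟨x, rfl⟩
        exact hpQ x
      Q_t := htQ
      Q_h := fun l g hg => (mem_normalizer_iff.mp (hhQ l) g).mp hg
      h_mul := by
        intro l l' x hx
        set y := (h (l * l'))⁻¹ * (h l * h l') with hy
        have hyD : y ∈ DD C hY := mul_mem (inv_mem (hhD _)) (mul_mem (hhD _) (hhD _))
        have hy1 : Acts C y 1 := by
          have := (hha (l * l')).inv.mul ((hha l).mul (hha l'))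
          rwa [inv_mul_cancel] at this
        have hyN : y ∈ normalizer (Q : Set G) :=
          mul_mem (inv_mem (hhQ _)) (mul_mem (hhQ _) (hhQ _))
        have hyc := centralizes C hR hY hQ.two htQ hQT (odd_of_mem_DD hY hyD) (DD_t hY hyD)
          hy1.comm_of_one hyN x hx
        have h2 : h l * h l' = h (l * l') * y := by rw [hy]; group
        calc h (l * l') * x * (h (l * l'))⁻¹ = h (l * l') * (x * y) * y⁻¹ * (h (l * l'))⁻¹ := by group
          _ = h (l * l') * (y * x) * y⁻¹ * (h (l * l'))⁻¹ := by rw [hyc]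
          _ = (h (l * l') * y) * x * (h (l * l') * y)⁻¹ := by group
          _ = (h l * h l') * x * (h l * h l')⁻¹ := by rw [← h2]
          _ = h l * (h l' * x * (h l')⁻¹) * (h l)⁻¹ := by group
      Q_conj := by
        intro g hg
        obtain ⟨z, hz, h⟩ := conj_t C hR (hQN2 hg).1
        exact ⟨z.b, by rw [← C.hS.eq]; exact b_fixed_of_a_eq_zero hz, by rw [h, ← eq_zz he hz]⟩
      Q_surj := by
        intro u hu
        obtain ⟨g, hg, h⟩ := trans C hR hY (zz σ e u) rfl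
        obtain ⟨y, hy, x, hx, hyx⟩ := hfac g⁻¹ (inv_mem hg)
        refine ⟨x⁻¹, inv_mem hx, ?_⟩
        have hg' : g = x⁻¹ * y⁻¹ := by rw [← _root_.mul_inv_rev, ← hyx, inv_inv]
        have hyt : y⁻¹ * t * y = t := by
          rw [mul_assoc, ← hY.comm y hy]; group
        rw [← h, hg']
        calc x⁻¹ * t * x⁻¹⁻¹ = x⁻¹ * (y⁻¹ * t * y) * x⁻¹⁻¹ := by rw [hyt]
          _ = x⁻¹ * y⁻¹ * t * (x⁻¹ * y⁻¹)⁻¹ := by group
      Q_Z := fun g hg b => N2_z C hR (hQN2 hg) rfl
      Q_T := by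
        intro g hg hgt
        obtain ⟨x, h | h⟩ := (T0_iff C hR).mp (hQT g hg hgt)
        · exact Or.inl ⟨x, h.symm⟩
        · right
          refine ⟨x, ?_⟩
          rw [h, mul_assoc, C.tt, mul_one]
      Q_P := by
        rintro g hg _ ⟨x, rfl⟩
        obtain ⟨y, r, hr, h1, h2⟩ := (hQN2 hg).2 x
        refine ⟨C.p y, ⟨y, rfl⟩, ?_, ?_⟩
        · rw [hcan, hcan, h2, one_mul]; rfl
        · rcases C.mem_zpowers_t hr with h3 | h3
          · left; rw [h1, h3, one_mul]
          · right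
            have e2 : r * C.p y = C.p y * r := C.pw_t.comm r hr y
            rw [h1, e2, h3] }
  refine ⟨D, rfl, rfl, rfl, hhD, rfl, ⟨e, he, fun b => rfl⟩, ?_⟩
  refine ⟨hY.odd, ?_, hY.comm, ?_⟩
  · rintro k hk _ ⟨x, rfl⟩
    exact C.comm_K (hY.le hk) (C.p_mem x)
  · intro g hgt hgP
    have hsl : SL C.p (⊥ : Subgroup G) g 1 1 := by
      intro x
      obtain ⟨⟨y, hy⟩, h2⟩ := hgP (C.p x) ⟨x, rfl⟩
      refine ⟨y, 1, one_mem _, by rw [one_mul]; exact hy.symm, ?_⟩
      have h3 : ca C (g * C.p x * g⁻¹) = ca C (C.p x) := h2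
      have h4 : ca C (C.p y) = ca C (C.p x) := by
        have : C.p y = g * C.p x * g⁻¹ := hy
        rw [this]; exact h3
      rw [hcan, hcan] at h4
      rw [h4, one_mul]; rfl
    obtain ⟨y, hy, x, hx, h⟩ := exists_decomp_of_triv hY hR hgt hsl
    refine ⟨x, hTQ hx, y, hy, ?_⟩
    rw [h]
    obtain ⟨v, rfl | rfl⟩ := (T0_iff C hR).mp hx
    · exact C.comm_K (hY.le hy) (C.p_mem v)
    · rw [← mul_assoc, C.comm_K (hY.le hy) (C.p_mem v), mul_assoc, hY.comm y hy, mul_assoc]

/-- **Level one**: the data `Pre`. -/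
theorem exists_pre : ∃ D : PreDef.Pre G F n, D.t = t ∧ D.P = C.p.range ∧ D.ca = ca C ∧
    (∀ l, D.h l ∈ DD C hY) ∧ Mx (N2 C hR) D.Q ∧ C.T0 hR ≤ D.Q ∧
    (∃ e, e + σ e = 1 ∧ ∀ b, D.z b = C.p (zz σ e b)) ∧ Next.Amb D Y := by
  obtain ⟨Q, hQ, hTQ⟩ := exists_mx (C.T0_two hR) (T0_le_N2 C hR)
  obtain ⟨D, h1, h2, h3, h4, h5, h6, h7⟩ := exists_pre_of C hR hY hQ hTQ
  exact ⟨D, h1, h2, h3, h4, by rw [h5]; exact hQ, by rw [h5]; exact hTQ, h6, h7⟩

end Cfsg.Agent.StdU3.LZero
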