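import Mathlib
import Cfsg.Agent.StdU3.LZero
import Cfsg.Agent.StdU3.FldDef

/-!
# The structure of `C_G(t)`: existence of `Fld`
-/

set_option autoImplicit false
set_option linter.unusedSectionVars false
set_option linter.dupNamespace false

namespace Cfsg.Agent.StdU3.LZeroFld

open Subgroup Cfsg.Agent.LieRecognition.HermHeis Cfsg.Agent.StdU3.URel Cfsg.Agent.StdU3.Semi
  Cfsg.Agent.StdU3.Field Cfsg.Agent.StdU3.FieldAut Cfsg.Agent.StdSz Cfsg.Agent.StdU3.Ctx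
  Cfsg.Agent.StdU3.Fuse Cfsg.Agent.StdU3.Move Cfsg.Agent.StdU3.Torus Cfsg.Agent.StdU3.LZeroN
  Cfsg.Agent.StdU3.LZero
open Cfsg.Agent.StdSz.FromStd.Ctx (IsR)
open Cfsg.Agent.StdSz.Base (eq_one_of_two_odd)

variable {G : Type*} [Group G] [Finite G] {F : Type*} [Field F] [Fintype F] [CharP F 2]
  {σ : F →+* F} [hσ : Fact (∀ x, σ (σ x) = x)] {n : ℕ}
variable {A : Subgroup G} {t : G} (C : Ctx A t σ n) {R0 : Subgroup G} (hR : IsR A t R0)
variable {Y : Subgroup G} (hY : IsY A t Y)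

include C hR in
/-- A Sylow 2-subgroup `Q` of `N2` normalised by a Sylow 2-subgroup of `C(t)`. -/
theorem exists_Q : ∃ T Q : Subgroup G, Mx (centralizer ({t} : Set G)) T ∧ C.T0 hR ≤ T ∧
    Mx (N2 C hR) Q ∧ C.T0 hR ≤ Q ∧ ∀ s ∈ T, ∀ g ∈ Q, s * g * s⁻¹ ∈ Q := by
  obtain ⟨T, hT, hTT⟩ := exists_T C hR
  obtain ⟨c, τ, hsl, hmul, hc0, hone⟩ := exists_tau C hR hT hTT
  have hTN : T ≤ normalizer (C.T0 hR : Set G) := by
    have key : ∀ s ∈ T, ∀ x ∈ C.T0 hR, s * x * s⁻¹ ∈ C.T0 hR := by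
      intro s hs x hx
      have h1 : τ (⟨s, hs⟩ * ⟨x, hTT hx⟩ * (⟨s, hs⟩ : T)⁻¹) = 1 := by
        have h2 : τ ((⟨s, hs⟩ : T)⁻¹) = (τ ⟨s, hs⟩)⁻¹ := by
          apply eq_inv_of_mul_eq_one_left
          rw [← hmul, inv_mul_cancel, hone]
          exact one_mem _
        have h3 : τ ⟨x, hTT hx⟩ = 1 := (hone _).mpr hx
        rw [hmul, hmul, h2, h3, mul_one, mul_inv_cancel]
      exact (hone _).mp h1
    intro s hs
    rw [mem_normalizer_iff]
    intro x
    refine ⟨key s hs x, fun hx => ?_⟩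
    have h1 := key _ (inv_mem hs) _ hx
    have e : s⁻¹ * (s * x * s⁻¹) * s⁻¹⁻¹ = x := by group
    rwa [e] at h1
  obtain ⟨S, hS, hTS⟩ := exists_mx hT.two hTN
  refine ⟨T, S ⊓ N2 C hR, hT, hTT, ⟨hS.two.to_le inf_le_left, inf_le_right, ?_⟩,
    le_inf (hTT.trans hTS) (T0_le_N2 C hR), ?_⟩
  · intro X hX hXN hle
    obtain ⟨c, hc, h1⟩ := hS.exists_conj hX (hXN.trans (fun _ h => h.1))
    symm
    apply Subgroup.eq_of_le_of_card_ge hle
    have h2 : X.map (MulAut.conj c⁻¹).toMonoidHom ≤ S ⊓ N2 C hR := by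
      rintro _ ⟨x, hx, rfl⟩
      have e : (MulAut.conj c⁻¹).toMonoidHom x = c⁻¹ * x * c := by
        show c⁻¹ * x * c⁻¹⁻¹ = _
        rw [inv_inv]
      rw [e]
      refine ⟨h1 x hx, ?_⟩
      have := N2_conj C hR (inv_mem hc) (hXN hx)
      rwa [inv_inv] at this
    calc Nat.card X = Nat.card (X.map (MulAut.conj c⁻¹).toMonoidHom) :=
          (Subgroup.card_map_of_injective (MulAut.conj c⁻¹).injective).symm
      _ ≤ Nat.card ↥(S ⊓ N2 C hR) := Subgroup.card_le_of_le h2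
  · intro s hs g hg
    have h1 : s * g * s⁻¹ ∈ S := mul_mem (mul_mem (hTS hs) hg.1) (inv_mem (hTS hs))
    exact ⟨h1, N2_conj C hR (hTN hs) hg.2⟩

/-- `P` is a maximal 2-subgroup of `A` -/
theorem mx_P : Mx A C.p.range := by
  refine ⟨?_, ?_, ?_⟩
  · rintro ⟨_, x, rfl⟩
    exact ⟨2, Subtype.ext (C.p_pow_four x)⟩
  · rintro _ ⟨x, rfl⟩
    exact C.p_mem x
  · intro X hX hXA hle
    apply le_antisymm _ hle
    intro s hs
    obtain ⟨x, hx⟩ := C.mem_P_of hX (fun x => hle ⟨x, rfl⟩) hs (hXA hs)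
    exact ⟨x, hx.symm⟩

/-- an element of `A` mapping a nontrivial element of `P` into `P` normalises `P`. -/
theorem mem_B_of {a : A} {x y : Heis σ} (hx : x ≠ 1) (h : (a : G) * C.p x * (a : G)⁻¹ = C.p y) :
    (QuotientGroup.mk a : A ⧸ center A) ∈ C.R.B := by
  have hu1 : C.R.u x ≠ 1 := fun h => hx (C.R.u_inj (by rw [h, map_one]))
  refine C.R.mem_B_of (C.R.u_mem x) hu1 ?_
  have h1 : a * C.q x * a⁻¹ = C.q y := Subtype.ext h
  refine ⟨y, ?_⟩
  rw [← C.q_mk, ← h1, QuotientGroup.mk_mul, QuotientGroup.mk_mul, QuotientGroup.mk_inv, C.q_mk]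

theorem conj_of_mem_B {a : A} (ha : (QuotientGroup.mk a : A ⧸ center A) ∈ C.R.B) :
    ∃ l : Fˣ, SL C.p (⊥ : Subgroup G) (a : G) (wt σ l) 1 := by
  obtain ⟨x, l, h⟩ := ha
  refine ⟨l, fun y => ⟨x * act l y * x⁻¹, 1, one_mem _, ?_, ?_⟩⟩
  · rw [one_mul]
    have h1 : a * C.q y * a⁻¹ = C.q (x * act l y * x⁻¹) := by
      apply C.q_uniq _ ⟨2, ?_⟩
      · rw [QuotientGroup.mk_mul, QuotientGroup.mk_mul, QuotientGroup.mk_inv, h, C.q_mk,
          C.R.conj_a_of_B]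
      · have h : (2 : ℕ) ^ 2 = 4 := by norm_num
        rw [conj_pow, h, ← map_pow, Base.heis_pow_four, map_one, mul_one, mul_inv_cancel]
    exact congrArg Subtype.val h1
  · rw [mul_a, mul_a, inv_a]
    show x.a + wt σ l * y.a + x.a = wt σ l * y.a
    have := CharTwo.add_self_eq_zero x.a
    linear_combination this

theorem exists_heis_ne : ∃ x : Heis σ, x ≠ 1 := by
  obtain ⟨z, -, hz⟩ := Base.exists_z_ne (σ := σ)
  exact ⟨z, hz⟩

/-- `g` is in `A m` with `m` normalising `P` with field automorphism `τ`. -/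
def Ga (g : G) (τ : F ≃+* F) : Prop :=
  ∃ a ∈ A, ∃ m c, g = a * m ∧ m * t = t * m ∧ SL C.p (⊥ : Subgroup G) m c τ

theorem frat {g : G} (hg : g * t = t * g) :
    ∃ a ∈ A, ∃ m, g = a * m ∧ m * t = t * m ∧ Nm C.p (⊥ : Subgroup G) m := by
  have h1 : IsPGroup 2 (C.p.range.map (MulAut.conj g).toMonoidHom) := (mx_P C).two.map _
  obtain ⟨a, ha, h2⟩ := (mx_P C).exists_conj h1 (by
    rintro _ ⟨_, ⟨x, rfl⟩, rfl⟩
    exact (mem_normalizer_iff.mp (C.norm_t hg) _).mp (C.p_mem x))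
  have hat : a * t = t * a := (C.comm_K C.htA ha).symm
  have hat' : a⁻¹ * t = t * a⁻¹ := (C.comm_K C.htA (inv_mem ha)).symm
  refine ⟨a, ha, a⁻¹ * g, by group, ?_, ?_⟩
  · rw [mul_assoc, hg, ← mul_assoc, hat', mul_assoc]
  · intro x
    obtain ⟨y, hy⟩ := h2 (g * C.p x * g⁻¹) ⟨C.p x, ⟨x, rfl⟩, rfl⟩
    refine ⟨y, 1, one_mem _, ?_⟩
    rw [one_mul, hy]
    group

theorem exists_Ga {g : G} (hg : g * t = t * g) : ∃ τ, Ga C g τ := by
  obtain ⟨a, ha, m, h1, h2, h3⟩ := frat C hg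
  obtain ⟨c, -, τ, h4, -⟩ := Nm.exists_SL C.hS C.pw_bot h3
  exact ⟨τ, a, ha, m, c, h1, h2, h4⟩

theorem Ga.unique {g : G} {τ τ' : F ≃+* F} (h : Ga C g τ) (h' : Ga C g τ') : τ = τ' := by
  obtain ⟨a, ha, m, c, h1, hm, h2⟩ := h
  obtain ⟨a', ha', m', c', h1', hm', h2'⟩ := h'
  -- `m = b m'` with `b ∈ A`
  set b : A := ⟨a⁻¹ * a', mul_mem (inv_mem ha) ha'⟩ with hb
  have h3 : m = b * m' := by
    rw [hb]
    show m = a⁻¹ * a' * m'
    rw [mul_assoc, ← h1', h1]; group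
  obtain ⟨x0, hx0⟩ := exists_heis_ne (σ := σ)
  -- `b` normalises `P`
  have h4 : (QuotientGroup.mk b : A ⧸ center A) ∈ C.R.B := by
    obtain ⟨y, r, hr, h5, -⟩ := h2' x0
    rw [mem_bot] at hr
    rw [hr, one_mul] at h5
    obtain ⟨z, r', hr', h6, -⟩ := h2 x0
    rw [mem_bot] at hr'
    rw [hr', one_mul] at h6
    refine mem_B_of C (x := y) (y := z) ?_ ?_
    · rintro rfl
      rw [map_one, mul_inv_eq_one, mul_eq_left] at h5
      exact hx0 (C.p_inj (by rw [h5, map_one]))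
    · rw [← h5, ← h6, h3]; group
  obtain ⟨l, h5⟩ := conj_of_mem_B C h4
  have h6 := C.sl_mul h5 h2'
  rw [← h3, one_mul] at h6
  exact (SL.unique C.hS C.pw_bot h2 h6).2

theorem Ga.mul {g g' : G} {τ τ' : F ≃+* F} (h : Ga C g τ) (h' : Ga C g' τ') :
    Ga C (g * g') (τ * τ') := by
  obtain ⟨a, ha, m, c, h1, hm, h2⟩ := h
  obtain ⟨a', ha', m', c', h1', hm', h2'⟩ := h'
  refine ⟨a * (m * a' * m⁻¹), mul_mem ha ((mem_normalizer_iff.mp (C.norm_t hm) _).mp ha'),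
    m * m', _, ?_, ?_, C.sl_mul h2 h2'⟩
  · rw [h1, h1']; group
  · rw [mul_assoc, hm', ← mul_assoc, hm, mul_assoc]

theorem Ga.of_nm {g : G} (hg : g * t = t * g) {c : F} {τ : F ≃+* F}
    (h : SL C.p (⊥ : Subgroup G) g c τ) : Ga C g τ :=
  ⟨1, one_mem _, g, c, (one_mul g).symm, hg, h⟩

theorem Ga.of_mem {g : G} (hg : g ∈ A) : Ga C g 1 :=
  ⟨g, hg, 1, 1, (mul_one g).symm, by rw [one_mul, mul_one], SL.one⟩

/-- the field automorphism -/
theorem exists_chi : ∃ chi : centralizer ({t} : Set G) →* (F ≃+* F),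
    ∀ g : centralizer ({t} : Set G), Ga C (g : G) (chi g) := by
  classical
  have h : ∀ g : centralizer ({t} : Set G), ∃ τ, Ga C (g : G) τ :=
    fun g => exists_Ga C (mem_centralizer_singleton_iff.mp g.2)
  choose f hf using h
  exact ⟨
    { toFun := f
      map_one' := Ga.unique C (hf 1) (Ga.of_mem C (one_mem A))
      map_mul' := fun g g' => Ga.unique C (hf (g * g')) (Ga.mul C (hf g) (hf g')) }, hf⟩

theorem sl_pow {m : G} {c : F} (h : SL C.p (⊥ : Subgroup G) m c 1) (j : ℕ) :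
    SL C.p (⊥ : Subgroup G) (m ^ j) (c ^ j) 1 := by
  induction j with
  | zero => rw [pow_zero, pow_zero]; exact SL.one
  | succ j ih =>
    have h1 := C.sl_mul ih h
    rw [← pow_succ, mul_one] at h1
    have e : c ^ j * (1 : F ≃+* F) c = c ^ (j + 1) := by
      rw [pow_succ]; rfl
    rwa [e] at h1

/-- `c³` is a torus weight -/
theorem wt_cube {c : F} (hc : c ≠ 0) : wt σ (Units.mk0 (c ^ 2 * σ c)
    (mul_ne_zero (pow_ne_zero _ hc) (by rwa [ne_eq, map_eq_zero]))) = c ^ 3 := by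
  have h1 : σ c ≠ 0 := by rwa [ne_eq, map_eq_zero]
  unfold wt
  rw [Units.val_mk0, map_mul, map_pow, Cfsg.Agent.LieRecognition.HermHeis.sig]
  field_simp

theorem exists_lift_d (l : Fˣ) : ∃ a : A, (QuotientGroup.mk a : A ⧸ center A) = C.R.d l ∧
    (a : G) ∈ DD C hY ∧ Acts C (a : G) l := by
  obtain ⟨a, ha⟩ := QuotientGroup.mk_surjective (C.R.d l)
  have h : (a : G) = 1 * a := (one_mul _).symm
  refine ⟨a, ha, ?_, ?_⟩
  · rw [h]; exact ⟨1, one_mem _, a, ⟨l, ha⟩, rfl⟩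
  · rw [h]; exact acts_of_mem hY (one_mem Y) ha

include hR hY in
theorem ker_cube {g : G} (h : Ga C g 1) :
    ∃ a ∈ A, ∃ k ∈ Y, g ^ 3 = a * k ∨ g ^ 3 = a * k * t := by
  obtain ⟨a, ha, m, c, h1, hm, h2⟩ := h
  have hc : c ≠ 0 := by
    rintro rfl
    obtain ⟨c', hc', τ', h3, -⟩ := Nm.exists_SL C.hS C.pw_bot h2.nm
    exact hc' (SL.unique C.hS C.pw_bot h3 h2).1
  set l : Fˣ := Units.mk0 (c ^ 2 * σ c)
    (mul_ne_zero (pow_ne_zero _ hc) (by rwa [ne_eq, map_eq_zero])) with hl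
  have hwl : wt σ l = c ^ 3 := wt_cube hc
  obtain ⟨b, -, hbD, hb⟩ := exists_lift_d C hY l
  have h3 := C.sl_mul (hb.inv.sl (⊥ : Subgroup G)) (sl_pow C h2 3)
  have e1 : wt σ l⁻¹ * (1 : F ≃+* F) (c ^ 3) = 1 := by
    rw [wt_inv, hwl]
    exact inv_mul_cancel₀ (pow_ne_zero _ hc)
  rw [e1, mul_one] at h3
  have hbt : (b : G)⁻¹ * t = t * (b : G)⁻¹ := (C.comm_K C.htA (inv_mem b.2)).symm
  have hm3 : m ^ 3 * t = t * m ^ 3 := (Commute.pow_left (show Commute m t from hm) 3).eq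
  have h4 : (b : G)⁻¹ * m ^ 3 * t = t * ((b : G)⁻¹ * m ^ 3) := by
    rw [mul_assoc, hm3, ← mul_assoc, hbt, mul_assoc]
  obtain ⟨y, hy, x, hx, h5⟩ := exists_decomp_of_triv hY hR h4 h3
  have hN := C.norm_t hm
  have h6 : g ^ 3 = (a * (m * a * m⁻¹) * (m * (m * a * m⁻¹) * m⁻¹)) * m ^ 3 := by
    have e3 : m ^ 3 = m * m * m := by rw [pow_succ, pow_two]
    have e4 : (a * m) ^ 3 = a * m * (a * m) * (a * m) := by rw [pow_succ, pow_two]
    rw [h1, e3, e4]; group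
  have h7 : m ^ 3 = b * (y * x) := by rw [← h5]; group
  have hA : a * (m * a * m⁻¹) * (m * (m * a * m⁻¹) * m⁻¹) ∈ A := by
    have h8 := (mem_normalizer_iff.mp hN _).mp ha
    exact mul_mem (mul_mem ha h8) ((mem_normalizer_iff.mp hN _).mp h8)
  obtain ⟨v, hv⟩ := (T0_iff C hR).mp hx
  have hyv : y * C.p v = C.p v * y := C.comm_K (hY.le hy) (C.p_mem v)
  refine ⟨_, mul_mem (mul_mem hA b.2) (C.p_mem v), y, hy, ?_⟩
  rcases hv with rfl | rfl
  · left
    rw [h6, h7, hyv]; group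
  · right
    rw [h6, h7, ← mul_assoc y, hyv]; group

/-- what is known on the data of level one -/
structure Data (D : PreDef.Pre G F n) (T : Subgroup G) : Prop where
  et : D.t = t
  eP : D.P = C.p.range
  eca : D.ca = LZero.ca C
  eh : ∀ l, D.h l ∈ DD C hY
  ez : ∃ e, e + σ e = 1 ∧ ∀ b, D.z b = C.p (zz σ e b)
  amb : Next.Amb D Y
  mx : Mx (centralizer ({t} : Set G)) T
  le : C.T0 hR ≤ T
  norm : ∀ s ∈ T, ∀ g ∈ D.Q, s * g * s⁻¹ ∈ D.Q

theorem exists_data : ∃ (D : PreDef.Pre G F n) (T : Subgroup G), Data C hR hY D T := by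
  obtain ⟨T, Q, h1, h2, h3, h4, h5⟩ := exists_Q C hR
  obtain ⟨D, e1, e2, e3, e4, e5, e6, e7⟩ := exists_pre_of C hR hY h3 h4
  exact ⟨D, T, ⟨e1, e2, e3, e4, e6, e7, h1, h2, by rw [e5]; exact h5⟩⟩

variable {D : PreDef.Pre G F n} {T : Subgroup G}

theorem exists_fld (X : Data C hR hY D T) : ∃ E : FldDef.Fld D, E.A = A ∧ E.O = Y := by
  classical
  obtain ⟨ht, hP, hca, hh, ⟨e, he, hz⟩, hamb, hT, hTT, hnorm⟩ := X
  obtain ⟨chi0, hchi⟩ := exists_chi C
  have hct : ∀ {g : G}, g ∈ centralizer ({D.t} : Set G) → g ∈ centralizer ({t} : Set G) := by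
    intro g hg; rwa [← ht]
  let ι : centralizer ({D.t} : Set G) →* centralizer ({t} : Set G) :=
    Subgroup.inclusion (fun g hg => hct hg)
  let chi : centralizer ({D.t} : Set G) →* (F ≃+* F) := chi0.comp ι
  have hGa : ∀ g : centralizer ({D.t} : Set G), Ga C (g : G) (chi g) := fun g => hchi (ι g)
  have hgt : ∀ g : centralizer ({D.t} : Set G), (g : G) * t = t * g := fun g =>
    mem_centralizer_singleton_iff.mp (hct g.2)
  have memP : ∀ {g : G}, g ∈ D.P ↔ ∃ x, C.p x = g := by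
    intro g; rw [hP]; exact Iff.rfl
  have hcap : ∀ x, D.ca (C.p x) = x.a := by
    intro x; rw [hca]; exact ca_p C x
  have nm_of : ∀ {g : G}, (∀ x ∈ D.P, g * x * g⁻¹ ∈ D.P) → Nm C.p (⊥ : Subgroup G) g := by
    intro g hg x
    obtain ⟨y, hy⟩ := memP.mp (hg _ (memP.mpr ⟨x, rfl⟩))
    exact ⟨y, 1, one_mem _, by rw [one_mul]; exact hy.symm⟩
  have of_nm : ∀ {g : G}, Nm C.p (⊥ : Subgroup G) g → ∀ x ∈ D.P, g * x * g⁻¹ ∈ D.P := by
    intro g hg x hx
    obtain ⟨x, rfl⟩ := memP.mp hx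
    obtain ⟨y, r, hr, h⟩ := hg x
    rw [mem_bot] at hr
    rw [h, hr, one_mul]
    exact memP.mpr ⟨y, rfl⟩
  refine ⟨
    { A := A
      P_A := ?_
      A_t := ?_
      t_A := ?_
      A_norm := ?_
      syl := ?_
      ti := ?_
      frat := ?_
      O := Y
      amb := hamb
      O_A := ?_
      O_dec := ?_
      O_conj := ?_
      Sg := T
      Sg_two := hT.two
      Sg_t := ?_
      P_Sg := ?_
      t_Sg := ?_
      Sg_P := ?_
      Sg_norm := ?_
      Sg_conj := ?_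
      chi := chi
      chi_A := ?_
      chi_C := ?_
      chi_ca := ?_
      chi_one := ?_
      chi_ker := ?_
      tor := ?_
      h_dec := ?_ }, rfl, rfl⟩
  · intro x hx
    obtain ⟨x, rfl⟩ := memP.mp hx
    exact C.p_mem x
  · intro a ha
    rw [ht]
    exact (C.comm_K C.htA ha).symm
  · rw [ht]
    intro h
    exact C.t_ne (C.eq_one_of_mem h C.htA (k := 1) (by rw [pow_one, pow_two, C.tt]))
  · intro g hg a ha
    rw [ht] at hg
    exact (mem_normalizer_iff.mp (C.norm_t hg) _).mp ha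
  · intro X hX hXA
    obtain ⟨a, ha, h⟩ := (mx_P C).exists_conj hX hXA
    exact ⟨a, ha, fun x hx => memP.mpr (h x hx)⟩
  · -- TI
    intro g hg x hx hx1 hgx
    rw [ht] at hg
    obtain ⟨a, ha, m, h1, h2, h3⟩ := frat C hg
    obtain ⟨x, rfl⟩ := memP.mp hx
    obtain ⟨y, hy⟩ := memP.mp hgx
    obtain ⟨x', r, hr, h4⟩ := h3 x
    rw [mem_bot] at hr
    rw [hr, one_mul] at h4
    have h5 : (QuotientGroup.mk (⟨a, ha⟩ : A) : A ⧸ center A) ∈ C.R.B := by
      refine mem_B_of C (x := x') (y := y) ?_ ?_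
      · rintro rfl
        rw [map_one, mul_inv_eq_one, mul_eq_left] at h4
        exact hx1 h4
      · show a * C.p x' * a⁻¹ = C.p y
        rw [← h4, hy, h1]; group
    obtain ⟨l, h6⟩ := conj_of_mem_B C h5
    have h7 := of_nm h6.nm
    intro v hv
    have h8 := h7 _ (of_nm h3 v hv)
    have e : (a : G) * (m * v * m⁻¹) * (a : G)⁻¹ = g * v * g⁻¹ := by rw [h1]; group
    rw [← e]; exact h8
  · intro g hg
    rw [ht] at hg
    obtain ⟨a, ha, m, h1, h2, h3⟩ := frat C hg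
    exact ⟨a, ha, m, h1, of_nm h3⟩
  · intro k hk a ha
    exact C.comm_K (hY.le hk) ha
  · intro g hg hgA
    rw [ht] at hg ⊢
    have hgK : g ∈ centralizer (A : Set G) := by
      rw [mem_centralizer_iff]
      intro a ha
      exact (hgA a ha).symm
    obtain ⟨i, j, h1, ho, m, hm⟩ := Cfsg.Agent.StdSz.Env.exists_decomp g
    have hpow : ∀ e : ℕ, g ^ e * t = t * g ^ e := fun e =>
      (Commute.pow_left (show Commute g t from hg) e).eq
    refine ⟨g ^ i, hY.mem _ (pow_mem hgK i) (hpow i) ho, ?_⟩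
    rcases eq_of_two C hR (pow_mem hgK j) hm (hpow j) with h2 | h2
    · left
      rw [h2, mul_one] at h1
      exact h1
    · right
      rw [h2] at h1
      exact h1
  · intro g hg k hk
    rw [ht] at hg
    have hN := C.norm_t hg
    have hNi := inv_mem hN
    apply hY.mem
    · rw [mem_centralizer_iff]
      intro a ha
      have h1 : g⁻¹ * a * g ∈ A := by
        have := (mem_normalizer_iff.mp hNi _).mp ha
        rwa [inv_inv] at this
      have h2 := C.comm_K (hY.le hk) h1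
      calc a * (g * k * g⁻¹) = g * ((g⁻¹ * a * g) * k) * g⁻¹ := by group
        _ = g * (k * (g⁻¹ * a * g)) * g⁻¹ := by rw [h2]
        _ = g * k * g⁻¹ * a := by group
    · have hgt' : g⁻¹ * t = t * g⁻¹ := by
        rw [inv_mul_eq_iff_eq_mul, ← mul_assoc, hg, mul_inv_cancel_right]
      calc g * k * g⁻¹ * t = g * k * (g⁻¹ * t) := by group
        _ = g * (k * t) * g⁻¹ := by rw [hgt']; group
        _ = (g * t) * k * g⁻¹ := by rw [hY.comm k hk]; group
        _ = t * (g * k * g⁻¹) := by rw [hg]; group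
    · have h1 : orderOf (g * k * g⁻¹) = orderOf k := by
        have := orderOf_injective (MulAut.conj g).toMonoidHom (MulAut.conj g).injective k
        exact this
      rw [h1]
      exact Odd.of_dvd_nat hY.odd (Subgroup.orderOf_dvd_natCard _ hk)
  · intro s hs
    rw [ht]
    exact T_comm hT hs
  · intro x hx
    obtain ⟨x, rfl⟩ := memP.mp hx
    exact hTT (C.p_mem_T0 hR x)
  · rw [ht]
    exact hTT (C.t_mem_T0 hR)
  · intro s hs
    exact of_nm (C.nm_of hT.two (fun x => hTT (C.p_mem_T0 hR x)) hs (C.norm_t (T_comm hT hs)))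
  · intro s hs
    exact NormQ.norm_of_fwd D (hnorm s hs)
  · intro X hX hXt
    obtain ⟨g, hg, h⟩ := hT.exists_conj hX (by
      intro x hx
      rw [mem_centralizer_singleton_iff, ← ht]
      exact hXt x hx)
    rw [mem_centralizer_singleton_iff, ← ht] at hg
    exact ⟨g, hg, h⟩
  · intro g hg
    exact Ga.unique C (hGa g) (Ga.of_mem C hg)
  · intro g hg
    refine Ga.unique C (hGa g) (Ga.of_nm C (hgt g) (c := 1) ?_)
    intro x
    refine ⟨x, 1, one_mem _, ?_, ?_⟩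
    · rw [hg _ (C.p_mem x), mul_inv_cancel_right, one_mul]
    · rw [one_mul]; rfl
  · intro g hg
    obtain ⟨c, hc, τ, h1, h2⟩ := Nm.exists_SL C.hS C.pw_bot (nm_of hg)
    have h3 : chi g = τ := Ga.unique C (hGa g) (Ga.of_nm C (hgt g) h1)
    rw [h3]
    refine ⟨c, hc, ?_, ?_⟩
    · intro x hx
      obtain ⟨x, rfl⟩ := memP.mp hx
      obtain ⟨y, r, hr, h4, h5⟩ := h1 x
      rw [mem_bot] at hr
      rw [hr, one_mul] at h4
      rw [h4, hcap, hcap, h5]
    · intro b hb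
      have hσb : σ b = b := by rw [C.hS.eq, hb]
      obtain ⟨z', h4, h5, h6⟩ := h2 (zz σ e b) rfl
      rw [zz_b he hσb] at h5
      rw [hz, hz, h6]
      congr 1
      have h7 : σ (N n c * τ b) = N n c * τ b := by
        have : N n c * τ b = z'.b := by rw [h5, N, C.hS.eq]
        rw [this]; exact b_fixed_of_a_eq_zero h4
      refine ext_z h4 rfl ?_
      rw [zz_b he h7, h5, N, C.hS.eq]
  · intro g hgT hg1
    have h1 := C.nm_of hT.two (fun x => hTT (C.p_mem_T0 hR x)) hgT (C.norm_t (T_comm hT hgT))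
    obtain ⟨c, hc, τ, h2, -⟩ := Nm.exists_SL C.hS C.pw_bot h1
    have h3 : chi g = τ := Ga.unique C (hGa g) (Ga.of_nm C (hgt g) h2)
    rw [hg1] at h3
    rw [← h3] at h2
    have h4 := C.mem_T0_of_one hR hT.two hTT hgT (C.norm_t (T_comm hT hgT)) h2
    obtain ⟨x, hx | hx⟩ := (T0_iff C hR).mp h4
    · left; exact memP.mpr ⟨x, hx.symm⟩
    · right
      have e1 : (g : G) * D.t = C.p x := by
        calc (g : G) * D.t = g * t := congrArg ((g : G) * ·) ht
          _ = C.p x := by rw [hx, mul_assoc, C.tt, mul_one]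
      rw [e1]
      exact memP.mpr ⟨x, rfl⟩
  · intro g hg
    have h1 := hGa g
    rw [hg] at h1
    obtain ⟨a, ha, k, hk, h2 | h2⟩ := ker_cube C hR hY h1
    · exact ⟨a, ha, k, hk, Or.inl h2⟩
    · refine ⟨a, ha, k, hk, Or.inr ?_⟩
      rw [h2]
      exact congrArg (a * k * ·) ht.symm
  · intro l
    obtain ⟨a, -, haD, ha⟩ := exists_lift_d C hY l
    refine ⟨a, a.2, odd_of_mem_DD hY haD, ?_⟩
    intro x hx
    obtain ⟨x, rfl⟩ := memP.mp hx
    rw [ha x, hcap, hcap]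
    refine ⟨memP.mpr ⟨_, rfl⟩, ?_⟩
    show wt σ l * x.a = _
    unfold wt PreDef.w
    rw [C.hS.eq]
  · intro l
    obtain ⟨y, hy, a, -, h1⟩ := hh l
    exact ⟨y, hy, a, a.2, h1⟩

include C in
/-- **Level zero**: the data `Pre` and `Fld`. -/
theorem exists_pre_fld : ∃ (D : PreDef.Pre G F n) (E : FldDef.Fld D), D.t = t ∧ E.A = A ∧
    IsY A t E.O := by
  obtain ⟨R0, hR⟩ := C.exists_R
  obtain ⟨Y, hY⟩ := exists_Y C
  obtain ⟨D, T, X⟩ := exists_data C hR hY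
  obtain ⟨E, h1, h2⟩ := exists_fld C hR hY X
  exact ⟨D, E, X.et, h1, by rw [h2]; exact hY⟩

end Cfsg.Agent.StdU3.LZeroFld
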