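import Mathlib
import Cfsg.Agent.StdU3.LZeroFld
import Cfsg.Agent.StdU3.Cover

/-!
# Level zero, from the literal hypotheses of S1771
-/

set_option autoImplicit false
set_option linter.unusedSectionVars false
set_option linter.dupNamespace false

namespace Cfsg.Agent.StdU3.LZeroTop

open Subgroup Cfsg.Agent.LieRecognition.HermHeis Cfsg.Agent.StdU3.Semi
  Cfsg.Agent.StdU3.Field Cfsg.Agent.StdSz

theorem charP_two {F : Type*} [Field F] [Fintype F] {a : ℕ} (hF : Fintype.card F = 4 ^ a) :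
    CharP F 2 := by
  refine EquivMaps.charP_two (n := 2 * a) ?_
  rw [hF, pow_mul]; norm_num

theorem qd {F : Type*} [Field F] [Fintype F] {a : ℕ} (ha : 2 ≤ a)
    (hF : Fintype.card F = 4 ^ a) : Qd F a where
  hn := ha
  hK := by rw [hF, ← pow_mul, mul_comm, pow_mul]; norm_num

/-- The data of the first level from the hypotheses of S1771. -/
theorem exists_fld {G : Type*} [Group G] [Finite G] {A : Subgroup G} {t : G}
    (S : Reduce.Simple A) (ht : orderOf t = 2) (htA : t ∈ centralizer (A : Set G))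
    (hR : ∀ R : Sylow 2 ↥(centralizer (A : Set G)),
      IsCyclic ↥(R : Subgroup ↥(centralizer (A : Set G))))
    {F : Type*} [Field F] [Fintype F] [CharP F 2] {a : ℕ} (ha : 2 ≤ a)
    (hF : Fintype.card F = 4 ^ a)
    (hAX : Nonempty (↥A ⧸ Subgroup.center ↥A ≃* Cfsg.PSU 3 F (2 ^ a))) :
    ∃ (D : PreDef.Pre G F a) (E : FldDef.Fld D), D.t = t ∧ E.A = A ∧ Torus.IsY A t E.O := by
  have hq := qd ha hF
  let σ : F →+* F := iterateFrobenius F 2 a
  have hσ : ∀ x, σ x = bar a x := fun x => iterateFrobenius_def 2 a x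
  haveI : Fact (∀ x, σ (σ x) = x) := ⟨fun x => by rw [hσ, hσ, bar_bar hq]⟩
  have hS : Sg σ a := ⟨hq, hσ⟩
  obtain ⟨R0⟩ := URelModel.nonempty_urel (σ := σ) (n := a) (by omega) hσ
    (by rw [Nat.card_eq_fintype_card, hq.hK])
  obtain ⟨f⟩ := hAX
  have hZ : Odd (Nat.card (center A)) :=
    Cover.odd_center hS S.std.1.1.commutator_eq_top (R0.map f.symm)
  obtain ⟨C⟩ := Ctx.exists_ctx S ht htA hS ⟨f⟩ hZ hR
  exact LZeroFld.exists_pre_fld C

end Cfsg.Agent.StdU3.LZeroTop
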