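import Cfsg.Agent.StdU3.GOneA

/-!
# Type `g1`, `n` even: `[P, P_e] = 1`, the end
-/

set_option autoImplicit false
set_option linter.unusedSectionVars false
set_option linter.dupNamespace false

namespace Cfsg.Agent.StdU3.GOneA

open Subgroup Cfsg.Agent.StdU3.Field Cfsg.Agent.StdU3.PreDef Cfsg.Agent.StdU3.FldDef
open Cfsg.Agent.StdU3.LevelOne Cfsg.Agent.StdU3.TermDef Cfsg.Agent.StdU3.GOneSyl
open Cfsg.Agent.StdU3.Tower.Cen Cfsg.Agent.StdU3.Tower.TwoCl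
open Cfsg.Agent.StdU3.Swap (Pe mem_Pe)

variable {G : Type*} [Group G] [Finite G] {K : Type*} [Field K] [Fintype K] [CharP K 2] {n : ℕ}
variable {D : Pre G K n}

namespace Ca

variable {F : Fld D} {T : Term D} {e y : G} (c : Ca F T e y)

include c

/-- the line `W^g` as a subgroup -/
def Wg (g : G) : Subgroup G := c.A.W.map (MulAut.conj g).toMonoidHom

theorem mem_Wg {g x : G} : x ∈ c.Wg g ↔ g⁻¹ * x * g ∈ c.A.W := by
  constructor
  · rintro ⟨w, hw, rfl⟩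
    have : g⁻¹ * ((MulAut.conj g).toMonoidHom w) * g = w := by
      simp only [MulEquiv.coe_toMonoidHom, MulAut.conj_apply]; group
    rw [this]; exact hw
  · intro hx
    refine ⟨_, hx, ?_⟩
    simp only [MulEquiv.coe_toMonoidHom, MulAut.conj_apply]; group

theorem card_Wg (g : G) : Nat.card (c.Wg g) = (2 ^ n) ^ 2 := by
  rw [← Tower.TwoCl.card_W c.A]
  exact (Nat.card_congr (c.A.W.equivMapOfInjective _ (MulAut.conj g).injective).toEquiv).symm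

theorem Z_Wg {g x : G} (hg : g ∈ normalizer (T.U : Set G)) (hx : x ∈ Card.Z D) : x ∈ c.Wg g :=
  c.mem_Wg.mpr (c.Z_W (c.conjZ' hg hx))

theorem W_Pc {x p g : G} (hx : g⁻¹ * x * g ∈ c.A.W) (hp : g⁻¹ * p * g ∈ D.P) : x * p = p * x := by
  have h1 := c.W_P hx hp
  calc x * p = g * ((g⁻¹ * x * g) * (g⁻¹ * p * g)) * g⁻¹ := by group
    _ = g * ((g⁻¹ * p * g) * (g⁻¹ * x * g)) * g⁻¹ := by rw [h1]
    _ = _ := by group

/-- `P ∩ P_e = Z` -/
theorem P_R {x : G} (hx : x ∈ D.P) (hx' : y⁻¹ * x * y ∈ D.P) : x ∈ Card.Z D :=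
  c.H.inf hx (mem_Pe.mpr hx')

/-- two lines of a plane intersect in `Z`. -/
theorem cap_P {g x z0 : G} (hg : g ∈ normalizer (T.U : Set G)) (hgP : ∀ x', g⁻¹ * x' * g ∈ c.A.W →
    x' ∈ D.P) (hx : g⁻¹ * x * g ∈ c.A.W) (hxP0 : y⁻¹ * x * y ∉ c.A.W) (hz : g⁻¹ * z0 * g ∈ c.A.W)
    (hz' : y⁻¹ * z0 * y ∈ c.A.W) : z0 ∈ Card.Z D := by
  by_contra hz0
  rcases c.a1' c.y_nor hg (fun x x' hx hx' => c.lin2 c.y_nor hg hz' hz0 hz hz0 rfl hx hx') with h | h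
  · exact hxP0 (h x hx)
  · exact hz0 (c.P_R (hgP z0 hz) (h z0 hz))

/-- if an element of `U` commutes with `P₀ = W^y` and with `x ∈ P - P₀`, it commutes with `P`. -/
theorem comm_P {x v : G} (hv : v ∈ T.U) (hx : x ∈ D.P) (hx0 : y⁻¹ * x * y ∉ c.A.W)
    (hv0 : ∀ w, y⁻¹ * w * y ∈ c.A.W → v * w = w * v) (hvx : v * x = x * v) :
    ∀ p ∈ D.P, v * p = p * v := by
  have hxZ : x ∉ Card.Z D := fun h => hx0 (c.Z_W (c.conjZ' c.y_nor h))
  obtain ⟨g, hg, hgx, hgP⟩ := c.plane hx hxZ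
  set DD : Subgroup G := D.P ⊓ centralizer {v} with hDD
  have h1 := GOneLem.card_le_mul (c.Wg y) (c.Wg g) (Card.Z D) DD
    (by
      intro a ha b hb
      rw [c.mem_Wg] at ha hb
      refine ⟨mul_mem (c.yW ha) (hgP b hb), mem_centralizer_singleton_iff.mpr ?_⟩
      have h2 := hv0 a ha
      have h3 := c.lin hg hv hgx hxZ hb hvx
      calc a * b * v = a * (b * v) := by group
        _ = (a * v) * b := by rw [← h3]; group
        _ = v * (a * b) := by rw [← h2]; group)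
    (by
      intro z0 hz hz'
      rw [c.mem_Wg] at hz hz'
      exact c.cap_P hg hgP hgx hx0 hz' hz)
  rw [c.card_Wg, c.card_Wg, Card.card_Z] at h1
  have h2 : Nat.card D.P ≤ Nat.card DD := by
    rw [Card.card_P]
    have h3 : (2 ^ n) ^ 3 * 2 ^ n ≤ Nat.card DD * 2 ^ n := by
      calc (2 ^ n) ^ 3 * 2 ^ n = (2 ^ n) ^ 2 * (2 ^ n) ^ 2 := by ring
        _ ≤ _ := h1
    exact Nat.le_of_mul_le_mul_right h3 (by positivity)
  have h3 : DD = D.P := Subgroup.eq_of_le_of_card_ge inf_le_left h2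
  intro p hp
  rw [← h3] at hp
  exact (mem_centralizer_singleton_iff.mp hp.2).symm

/-- `W^y` commutes with `P_e` -/
theorem P0_R {w r : G} (hw : y⁻¹ * w * y ∈ c.A.W) (hr : y⁻¹ * r * y ∈ D.P) : w * r = r * w :=
  c.W_Pc hw hr

/-- `x ∈ P - P₀`, `ψ ∈ P_e - W` do not commute if `[P, P_e] ≠ 1`. -/
theorem claimA (hne : ¬ ∀ x ∈ D.P, ∀ r, y⁻¹ * r * y ∈ D.P → x * r = r * x) {x ψ : G} (hx : x ∈ D.P)
    (hx0 : y⁻¹ * x * y ∉ c.A.W) (hψ : y⁻¹ * ψ * y ∈ D.P) (hψW : ψ ∉ c.A.W) : x * ψ ≠ ψ * x := by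
  intro hcomm
  apply hne
  have hψU : ψ ∈ T.U := c.Pg_U c.y_nor hψ
  have h1 := c.comm_P hψU hx hx0 (fun w hw => (c.P0_R hw hψ).symm) hcomm.symm
  have hψZ : ψ ∉ Card.Z D := fun h => hψW (c.Z_W h)
  obtain ⟨g, hg, hgψ, hgP⟩ := c.plane' c.y_nor hψ hψZ
  set RR : Subgroup G := Pe D y ⊓ centralizer (D.P : Set G) with hRR
  have h2 := GOneLem.card_le_mul c.A.W (c.Wg g) (Card.Z D) RR
    (by
      intro a ha b hb
      rw [c.mem_Wg] at hb
      refine ⟨mul_mem (mem_Pe.mpr (c.W_Pe ha)) (mem_Pe.mpr (hgP b hb)), mem_centralizer_iff.mpr ?_⟩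
      intro p hp
      have h3 := c.W_P ha hp
      have h4 := c.lin hg (T.P_le hp) hgψ hψZ hb (h1 p hp).symm
      calc p * (a * b) = (p * a) * b := by group
        _ = a * (p * b) := by rw [← h3]; group
        _ = a * b * p := by rw [h4]; group)
    (by
      intro z0 hz hz'
      rw [c.mem_Wg] at hz'
      by_contra hz0
      have hone : (1 : G) ∈ normalizer (T.U : Set G) := one_mem _
      have e1 : ∀ x : G, (1 : G)⁻¹ * x * 1 = x := by intro x; group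
      rcases c.a1' hone hg (fun x x' hx hx' => c.lin2 hone hg (by rw [e1]; exact hz) hz0 hz' hz0 rfl
        hx hx') with h | h
      · have := h ψ hgψ
        rw [e1] at this
        exact hψW this
      · have := h ψ hgψ
        rw [e1] at this
        exact hψZ (c.P_R this hψ))
  rw [c.card_Wg, Tower.TwoCl.card_W c.A, Card.card_Z] at h2
  have hcR : Nat.card (Pe D y) = (2 ^ n) ^ 3 := by
    rw [← Card.card_P D]
    exact (Nat.card_congr (D.P.equivMapOfInjective _ (MulAut.conj y).injective).toEquiv).symm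
  have h3 : Nat.card (Pe D y) ≤ Nat.card RR := by
    rw [hcR]
    have h4 : (2 ^ n) ^ 3 * 2 ^ n ≤ Nat.card RR * 2 ^ n := by
      calc (2 ^ n) ^ 3 * 2 ^ n = (2 ^ n) ^ 2 * (2 ^ n) ^ 2 := by ring
        _ ≤ _ := h2
    exact Nat.le_of_mul_le_mul_right h4 (by positivity)
  have h4 : RR = Pe D y := Subgroup.eq_of_le_of_card_ge inf_le_left h3
  intro p hp r hr
  have hr' : r ∈ RR := by rw [h4]; exact mem_Pe.mpr hr
  exact mem_centralizer_iff.mp hr'.2 p hp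

/-- **the span**: every element of `X Ψ` lies in a line. -/
theorem claimB (hne : ¬ ∀ x ∈ D.P, ∀ r, y⁻¹ * r * y ∈ D.P → x * r = r * x) {x ψ g1 g2 : G}
    (hx : x ∈ D.P) (hx0 : y⁻¹ * x * y ∉ c.A.W) (hg1 : g1 ∈ normalizer (T.U : Set G))
    (hgx : g1⁻¹ * x * g1 ∈ c.A.W) (hψ : y⁻¹ * ψ * y ∈ D.P) (hψW : ψ ∉ c.A.W)
    (hg2 : g2 ∈ normalizer (T.U : Set G)) (hgψ : g2⁻¹ * ψ * g2 ∈ c.A.W) {x' ψ' : G}
    (hx' : g1⁻¹ * x' * g1 ∈ c.A.W) (hψ' : g2⁻¹ * ψ' * g2 ∈ c.A.W) (hv : x' * ψ' ∉ Card.Z D) :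
    ∃ g5 ∈ normalizer (T.U : Set G), g5⁻¹ * (x' * ψ') * g5 ∈ c.A.W := by
  have hxZ : x ∉ Card.Z D := fun h => hx0 (c.Z_W (c.conjZ' c.y_nor h))
  have hψZ : ψ ∉ Card.Z D := fun h => hψW (c.Z_W h)
  have hψU : ψ ∈ T.U := c.Pg_U c.y_nor hψ
  -- the plane of `X`
  set Pi : Subgroup G := D.P.map (MulAut.conj g1).toMonoidHom with hPi
  have memPi : ∀ z, z ∈ Pi ↔ g1⁻¹ * z * g1 ∈ D.P := by
    intro z
    constructor
    · rintro ⟨w, hw, rfl⟩
      have : g1⁻¹ * ((MulAut.conj g1).toMonoidHom w) * g1 = w := by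
        simp only [MulEquiv.coe_toMonoidHom, MulAut.conj_apply]; group
      rw [this]; exact hw
    · intro hx
      refine ⟨_, hx, ?_⟩
      simp only [MulEquiv.coe_toMonoidHom, MulAut.conj_apply]; group
  have hcPi : Nat.card Pi = (2 ^ n) ^ 3 := by
    rw [← Card.card_P D]
    exact (Nat.card_congr (D.P.equivMapOfInjective _ (MulAut.conj g1).injective).toEquiv).symm
  have h1 := Card.card_le_cent Pi (Card.Z D) ψ (fun z hz =>
    c.cmtZ (c.Pg_U hg1 ((memPi z).mp hz)) hψU)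
  rw [hcPi, Card.card_Z] at h1
  obtain ⟨y0, hy0, hy0Z⟩ : ∃ y0 ∈ Pi ⊓ centralizer {ψ}, y0 ∉ Card.Z D := by
    by_contra hcon
    push Not at hcon
    have h2 : Nat.card (Pi ⊓ centralizer {ψ} : Subgroup G) ≤ 2 ^ n := by
      rw [← Card.card_Z D]
      exact Nat.card_le_card_of_injective _ (inclusion_injective hcon)
    have h3 : (2 ^ n) ^ 3 ≤ 2 ^ n * 2 ^ n := h1.trans (Nat.mul_le_mul_right _ h2)
    have h4 := four_le D.hq
    have h5 : (2 ^ n) ^ 3 = 2 ^ n * (2 ^ n * 2 ^ n) := by ring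
    rw [h5] at h3
    have h6 : 0 < 2 ^ n * 2 ^ n := by positivity
    nlinarith
  have hy0P := (memPi y0).mp hy0.1
  have hy0ψ : y0 * ψ = ψ * y0 := mem_centralizer_singleton_iff.mp hy0.2
  obtain ⟨g4, hg4, hg4y, hg4P⟩ := c.plane' hg1 hy0P hy0Z
  -- `X ≤ P^g4`
  have hX : ∀ z, g1⁻¹ * z * g1 ∈ c.A.W → g4⁻¹ * z * g4 ∈ D.P := by
    rcases c.a1' hg4 hg1 (fun z z' hz hz' => (c.W_Pc hz' (hg4P z hz)).symm) with h | h
    · exfalso
      have h2 := hg4P x (h x hgx)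
      exact hxZ (c.memZ_conj hg1 (c.W_inf_P hgx h2))
    · exact h
  -- `Ψ ≤ P^g4`
  have hPsi : ∀ z, g2⁻¹ * z * g2 ∈ c.A.W → g4⁻¹ * z * g4 ∈ D.P := by
    rcases c.a1' hg4 hg2 (fun z z' hz hz' =>
      c.lin2 hg4 hg2 hg4y hy0Z hgψ hψZ hy0ψ hz hz') with h | h
    · exfalso
      have h2 := c.W_Pc (h ψ hgψ) (hX x hgx)
      exact c.claimA hne hx hx0 hψ hψW h2.symm
    · exact h
  have hvP : g4⁻¹ * (x' * ψ') * g4 ∈ D.P := by
    have := mul_mem (hX x' hx') (hPsi ψ' hψ')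
    have e1 : g4⁻¹ * x' * g4 * (g4⁻¹ * ψ' * g4) = g4⁻¹ * (x' * ψ') * g4 := by group
    rwa [e1] at this
  obtain ⟨g5, hg5, h2, -⟩ := c.plane' hg4 hvP hv
  exact ⟨g5, hg5, h2⟩

theorem main : ∀ x ∈ D.P, ∀ r, y⁻¹ * r * y ∈ D.P → x * r = r * x := by
  by_contra hne
  obtain ⟨x, hx, ψ, hψ, hxψ⟩ : ∃ x ∈ D.P, ∃ r, y⁻¹ * r * y ∈ D.P ∧ x * r ≠ r * x := by
    by_contra hcon
    push Not at hcon
    exact hne hcon
  have hx0 : y⁻¹ * x * y ∉ c.A.W := fun h => hxψ (c.P0_R h hψ)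
  have hψW : ψ ∉ c.A.W := fun h => hxψ (c.W_P h hx).symm
  have hxZ : x ∉ Card.Z D := fun h => hx0 (c.Z_W (c.conjZ' c.y_nor h))
  have hψZ : ψ ∉ Card.Z D := fun h => hψW (c.Z_W h)
  have hψU : ψ ∈ T.U := c.Pg_U c.y_nor hψ
  obtain ⟨g1, hg1, hgx, hgP⟩ := c.plane hx hxZ
  obtain ⟨g2, hg2, hgψ, hgψP⟩ := c.plane' c.y_nor hψ hψZ
  obtain ⟨p, hp, m, hm, hpm⟩ := c.mem_U.mp hψU
  have hmP : ∀ q ∈ D.P, m * q = q * m := c.C.M_P m hm
  -- `m ∉ P`
  have hmnP : m ∉ D.P := by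
    intro h
    exact hψZ (c.P_R (by rw [hpm]; exact mul_mem hp h) hψ)
  -- `p ∈ P₀`
  have hp0 : y⁻¹ * p * y ∈ c.A.W := by
    by_contra hp0
    have h1 := c.comm_P (T.P_le hp) hp hp0 (by
      intro w hw
      have h2 := c.P0_R hw hψ
      have h3 := hmP w (c.yW hw)
      rw [hpm] at h2
      have h4 : p * w * m = w * p * m := by
        calc p * w * m = p * (w * m) := by group
          _ = p * m * w := by rw [← h3]; group
          _ = w * p * m := by rw [← h2]; group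
      exact mul_right_cancel h4) rfl
    have h2 : p ∈ Card.Z D := cent_P hp h1
    exact hp0 (c.Z_W (c.conjZ' c.y_nor h2))
  -- two elements of `X`
  obtain ⟨w1, hw1, h1⟩ := c.A.u_surj 1 (bar_one n)
  obtain ⟨ν, hν, hν1⟩ := exists_fixed_ne D.hq
  obtain ⟨w2, hw2, h2⟩ := c.A.u_surj (ν : K) hν
  have hw1Z : w1 ∉ Card.Z D := fun h => one_ne_zero (h1.symm.trans (c.u_Z h))
  have hw2Z : w2 ∉ Card.Z D := fun h => ν.ne_zero (h2.symm.trans (c.u_Z h))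
  have hw12 : w1⁻¹ * w2 ∉ Card.Z D := by
    intro h
    have h3 := c.u_Z h
    have h4 : c.A.u w2 = c.A.u w1 + c.A.u (w1⁻¹ * w2) := by
      rw [← c.A.u_mul _ hw1 _ (mul_mem (inv_mem hw1) hw2), mul_inv_cancel_left]
    rw [h3, add_zero, h1, h2] at h4
    exact hν1 h4
  -- `m x_i ∈ P^g1`
  have key : ∀ w ∈ c.A.W, w ∉ Card.Z D → g1⁻¹ * (m * (g1 * w * g1⁻¹)) * g1 ∈ D.P := by
    intro w hw hwZ
    set z := g1 * w * g1⁻¹ with hz
    have hzW : g1⁻¹ * z * g1 ∈ c.A.W := by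
      have : g1⁻¹ * z * g1 = w := by rw [hz]; group
      rw [this]; exact hw
    have hzZ : z ∉ Card.Z D := by
      intro h
      have := c.conjZ' hg1 h
      have e1 : g1⁻¹ * z * g1 = w := by rw [hz]; group
      rw [e1] at this
      exact hwZ this
    have hzP : z ∈ D.P := hgP z hzW
    have hz0 : y⁻¹ * z * y ∉ c.A.W := fun h => hzZ (c.cap_P hg1 hgP hgx hx0 hzW h)
    -- `p⁻¹ z`
    have hpz : p⁻¹ * z ∈ D.P := mul_mem (inv_mem hp) hzP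
    have hpz0 : y⁻¹ * (p⁻¹ * z) * y ∉ c.A.W := by
      intro h
      apply hz0
      have := mul_mem hp0 h
      have e1 : y⁻¹ * p * y * (y⁻¹ * (p⁻¹ * z) * y) = y⁻¹ * z * y := by group
      rwa [e1] at this
    have hpzZ : p⁻¹ * z ∉ Card.Z D := fun h => hpz0 (c.Z_W (c.conjZ' c.y_nor h))
    obtain ⟨g3, hg3, hg3z, -⟩ := c.plane hpz hpzZ
    -- `m z = (p⁻¹ z) (z⁻¹ ψ z)`
    have e1 : m * z = (p⁻¹ * z) * (z⁻¹ * ψ * z) := by rw [hpm]; group
    have hψz : g2⁻¹ * (z⁻¹ * ψ * z) * g2 ∈ c.A.W := by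
      have h3 := c.cmtZ (inv_mem (T.P_le hzP)) hψU
      rw [inv_inv] at h3
      have h4 := mul_mem (c.Z_W (c.conjZ' hg2 h3)) hgψ
      have e2 : g2⁻¹ * (z⁻¹ * ψ * z * ψ⁻¹) * g2 * (g2⁻¹ * ψ * g2) = g2⁻¹ * (z⁻¹ * ψ * z) * g2 := by
        group
      rwa [e2] at h4
    have hmzZ : m * z ∉ Card.Z D := by
      intro h
      apply hmnP
      have := mul_mem (Card.Z_le_P D h) (inv_mem hzP)
      rwa [mul_inv_cancel_right] at this
    obtain ⟨g5, hg5, h5⟩ := c.claimB hne hpz hpz0 hg3 hg3z hψ hψW hg2 hgψ hg3z hψz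
      (by rw [← e1]; exact hmzZ)
    rw [← e1] at h5
    have hcomm : z * (m * z) = (m * z) * z := by
      have := hmP z hzP
      calc z * (m * z) = (z * m) * z := by group
        _ = _ := by rw [← this]
    rcases c.a1' hg1 hg5 (fun a b ha hb => c.lin2 hg1 hg5 hzW hzZ h5 hmzZ hcomm ha hb) with h6 | h6
    · exfalso
      apply hmnP
      have := mul_mem (hgP _ (h6 _ h5)) (inv_mem hzP)
      rwa [mul_inv_cancel_right] at this
    · exact h6 _ h5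
  have h3 := key w1 hw1 hw1Z
  have h4 := key w2 hw2 hw2Z
  apply hw12
  apply c.W_inf_P (mul_mem (inv_mem hw1) hw2)
  have h5 := mul_mem (inv_mem h3) h4
  have e1 : (g1⁻¹ * (m * (g1 * w1 * g1⁻¹)) * g1)⁻¹ * (g1⁻¹ * (m * (g1 * w2 * g1⁻¹)) * g1) =
      w1⁻¹ * w2 := by group
  rwa [e1] at h5

end Ca

/-- **(A)** `[P, P_e] = 1` for `n` even. -/
theorem comm_of_even {F : Fld D} {T : Term D} {e y : G} (H : G1 F T e y) (C : Tower.Cen.Cen D F.O)
    (A : Tower.Cen.Cl C) (hT : T.U = Tower.Cen.U C) (hn : Even n) :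
    ∀ x ∈ D.P, ∀ r ∈ Pe D y, x * r = r * x := by
  obtain ⟨S, hS⟩ := H.exists_sylow
  have c : Ca F T e y := ⟨H, C, A, hT, S, hS, hn⟩
  intro x hx r hr
  exact c.main x hx r (mem_Pe.mp hr)

end Cfsg.Agent.StdU3.GOneA
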