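import Mathlib
import Cfsg.Prelude.Def_TwoFusion

/-!
# The local analysis of S1771: interfaces of the final assembly

`G = E ⟨t⟩`, `E` normal and perfect. Output: `t ∉ E` and a strongly closed subgroup in a Sylow
2-subgroup of `E`, either of class two and nonabelian (`NonAb`), or abelian (`Ab`).
-/

set_option autoImplicit false

namespace Cfsg.Agent.StdU3.MainDef

open Subgroup

variable {G : Type*} [Group G]

/-- `G = E ⟨t⟩` with `E` normal and perfect. -/
structure Glob (t : G) (E : Subgroup G) : Prop where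
  normal : E.Normal
  gen : ∀ g : G, g ∈ E ∨ t * g ∈ E
  perf : commutator E = ⊤

/-- the nonabelian output. -/
def NonAb (E : Subgroup G) : Prop := ∃ (S : Sylow 2 E) (U : Subgroup E),
  Cfsg.IsStronglyClosed U (S : Subgroup E) ∧ ¬ IsMulCommutative U ∧
  ⁅(⊤ : Subgroup U), ⊤⁆ ≤ Subgroup.center U ∧ 16 ≤ Nat.card U

/-- the abelian output (the Sylow 2-subgroups of `E` are not commutative in our situation). -/
def Ab (E : Subgroup G) : Prop := ∃ (S : Sylow 2 E) (W : Subgroup E),
  Cfsg.IsStronglyClosed W (S : Subgroup E) ∧ IsMulCommutative W ∧ W ≠ ⊥ ∧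
  16 ≤ Nat.card (S : Subgroup E)

/-- **the output of the local analysis.** -/
def Out (t : G) (E : Subgroup G) : Prop := t ∉ E ∧ (NonAb E ∨ Ab E)

end Cfsg.Agent.StdU3.MainDef
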