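import Cfsg.Agent.StdU3.GOneL
import Cfsg.Agent.StdU3.MainDef
import Cfsg.Agent.Lib.SylowNormalInf

/-!
# Type `g1` with `[P, P_e] ≠ 1`: the output
-/

set_option autoImplicit false
set_option linter.unusedSectionVars false
set_option linter.dupNamespace false

namespace Cfsg.Agent.StdU3.GOneLAb

open Subgroup Cfsg.Agent.StdU3.Field Cfsg.Agent.StdU3.PreDef Cfsg.Agent.StdU3.GOneLDef
  Cfsg.Agent.StdU3.MainDef

/-- the abelian output from elementwise data in `G`. -/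
theorem ab_of {G : Type*} [Group G] [Finite G] (S : Sylow 2 G) (E : Subgroup G) (hE : E.Normal)
    (W : Subgroup G) (hWS : W ≤ S) (hWE : W ≤ E) (hW : ∀ x ∈ W, ∀ y ∈ W, x * y = y * x)
    (hne : W ≠ ⊥) (hcl : ∀ x ∈ W, ∀ g ∈ E, g * x * g⁻¹ ∈ S → g * x * g⁻¹ ∈ W)
    (hcard : 16 ≤ Nat.card ↥((S : Subgroup G) ⊓ E)) : Ab E := by
  have : Fact (Nat.Prime 2) := ⟨Nat.prime_two⟩
  let T : Sylow 2 E := (Lib.SylowNormalInf.isPGroup_subgroupOf S E).toSylow
    (Lib.SylowNormalInf.not_dvd_relIndex S E)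
  have hT : (T : Subgroup E) = (S : Subgroup G).subgroupOf E := rfl
  refine ⟨T, W.subgroupOf E, ⟨?_, ?_⟩, ?_, ?_, ?_⟩
  · rw [hT]
    intro x hx
    exact mem_subgroupOf.mpr (hWS (mem_subgroupOf.mp hx))
  · rintro x hx g hg
    rw [hT, mem_subgroupOf] at hg
    exact mem_subgroupOf.mpr (hcl x (mem_subgroupOf.mp hx) g g.2 hg)
  · refine ⟨⟨?_⟩⟩
    rintro ⟨x, hx⟩ ⟨y, hy⟩
    apply Subtype.ext
    apply Subtype.ext
    exact hW x (mem_subgroupOf.mp hx) y (mem_subgroupOf.mp hy)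
  · intro h
    apply hne
    rw [Subgroup.eq_bot_iff_forall]
    intro x hx
    have h1 : (⟨x, hWE hx⟩ : E) ∈ W.subgroupOf E := mem_subgroupOf.mpr hx
    rw [h, mem_bot] at h1
    exact congrArg Subtype.val h1
  · have h5 : Nat.card ((S : Subgroup G).subgroupOf E) = Nat.card ↥((S : Subgroup G) ⊓ E) := by
      rw [← Subgroup.card_map_of_injective E.subtype_injective, Subgroup.subgroupOf_map_subtype]
    show 16 ≤ Nat.card ↥((S : Subgroup G).subgroupOf E)
    rw [h5]; exact hcard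

variable {G : Type*} [Group G] [Finite G] {K : Type*} [Field K] [Fintype K] [CharP K 2]
  {n : ℕ} {D : Pre G K n} {E : Subgroup G} {S : Sylow 2 G} {U R : Subgroup G} {e : G}
  {τ k : G → K}

/-- **(B)** -/
theorem ab (H : GOneL D E S U R e τ k) : Ab E := by
  have hn := H.n3
  have h8 : 8 ≤ 2 ^ n := by
    calc 8 = 2 ^ 3 := by norm_num
      _ ≤ 2 ^ n := Nat.pow_le_pow_right (by norm_num) hn
  have hZU : Card.Z D ≤ U := by
    rintro _ ⟨b, -, rfl⟩; exact GOneL.z_mem_U H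
  refine ab_of S E H.E_normal (Card.Z D) (hZU.trans H.U_le) (hZU.trans H.U_E) ?_ ?_
    (fun x hx g hg h => GOneL.closed H hx hg h) ?_
  · rintro _ ⟨b, -, rfl⟩ _ ⟨c, -, rfl⟩
    exact LevelOne.z_comm D b c
  · intro h
    have h1 := Card.card_Z D
    rw [h, Subgroup.card_bot] at h1
    omega
  · calc 16 ≤ 8 ^ 5 := by norm_num
      _ ≤ (2 ^ n) ^ 5 := Nat.pow_le_pow_left h8 5
      _ = Nat.card U := H.cardU.symm
      _ ≤ _ := Subgroup.card_le_of_le (le_inf H.U_le H.U_E)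

theorem out (H : GOneL D E S U R e τ k) : Out D.t E := ⟨H.t_E, Or.inr (ab H)⟩

end Cfsg.Agent.StdU3.GOneLAb
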