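import Cfsg.Agent.StdU3.GOneOdd
import Cfsg.Agent.StdU3.GOneLAb
import Cfsg.Agent.StdU3.Tower.OuterU

/-!
# Type `g1`, `[P, P_e] ≠ 1`, `n` odd: the structure `GOneL`
-/

set_option autoImplicit false
set_option linter.unusedSectionVars false
set_option linter.dupNamespace false
set_option linter.style.haveILetI false

namespace Cfsg.Agent.StdU3.GOneLMk

open Subgroup Cfsg.Agent.StdU3.Field Cfsg.Agent.StdU3.PreDef Cfsg.Agent.StdU3.FldDef
open Cfsg.Agent.StdU3.LevelOne Cfsg.Agent.StdU3.FieldAut Cfsg.Agent.StdU3.Rank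
open Cfsg.Agent.StdU3.OutInv Cfsg.Agent.StdU3.TermDef Cfsg.Agent.StdU3.LemC
open Cfsg.Agent.StdU3.Swap Cfsg.Agent.StdU3.EndN Cfsg.Agent.StdU3.GOneSyl
open Cfsg.Agent.StdU3.GOneSyl.G1 Cfsg.Agent.StdU3.MainDef Cfsg.Agent.StdU3.GOneOdd
open Cfsg.Agent.StdU3.GOneLDef Cfsg.Agent.StdU3.Tower.Cen Cfsg.Agent.StdU3.Tower.Two
open Cfsg.Agent.StdU3.NormQ hiding barE

variable {G : Type*} [Group G] [Finite G] {K : Type*} [Field K] [Fintype K] [CharP K 2] {n : ℕ}
variable {D : Pre G K n} {F : Fld D} {T : Term D} {e y : G} (H : G1 F T e y)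

/-! ### Squares and commutators of `U` -/

include H

theorem z_cenU {u : G} (hu : u ∈ T.U) (b : K) : u * D.z b = D.z b * u := H.z_cen hu b

theorem sq_Pe {r : G} (hr : r ∈ Pe D y) : ∃ b, bar n b = b ∧ r * r = D.z b := by
  obtain ⟨c, hc, h⟩ := H.hy.z _ (fixed_N D.hq (D.ca (y⁻¹ * r * y)))
  refine ⟨c, hc, ?_⟩
  rw [← h, ← D.P_sq _ (mem_Pe.mp hr)]; group

theorem sq_U {x : G} (hx : x ∈ T.U) : ∃ b, bar n b = b ∧ x * x = D.z b := by
  obtain ⟨p, hp, r, hr, rfl⟩ := H.PPe x hx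
  obtain ⟨c, hc, h1⟩ := H.cz (H.Pe_le hr) (T.P_le hp)
  obtain ⟨b, hb, h2⟩ := sq_Pe H hr
  refine ⟨N n (D.ca p) + b + c, fixed_add (fixed_add (fixed_N D.hq _) hb) hc, ?_⟩
  have h3 := H.z_cen (T.P_le hp) c
  calc p * r * (p * r) = p * (r * p) * r := by group
    _ = (p * D.z c) * p * (r * r) := by rw [h1]; group
    _ = D.z c * (p * p) * (r * r) := by rw [h3]; group
    _ = D.z c * D.z (N n (D.ca p)) * D.z b := by rw [D.P_sq p hp, h2]
    _ = _ := by rw [← D.z_add, ← D.z_add]; congr 1; ring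

theorem cmt_U {x x' : G} (hx : x ∈ T.U) (hx' : x' ∈ T.U) :
    ∃ b, bar n b = b ∧ x * x' * x⁻¹ * x'⁻¹ = D.z b := by
  obtain ⟨c, hc, h⟩ := H.cz hx hx'
  exact ⟨c, hc, by rw [h]; group⟩

/-- `|U| = q⁵` -/
theorem card_U : Nat.card T.U = (2 ^ n) ^ 5 := by
  -- `P × P_e → U` has fibres of size `q`
  have hP := Card.card_P D
  have hPe : Nat.card (Pe D y) = (2 ^ n) ^ 3 := by
    unfold Pe
    rw [Subgroup.card_map_of_injective (MulAut.conj y).injective, hP]
  have hZ := Card.card_Z D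
  let f : (D.P × Pe D y) → T.U := fun x => ⟨(x.1 : G) * (x.2 : G), mul_mem (T.P_le x.1.2) (H.Pe_le x.2.2)⟩
  have hf : ∀ x, ((f x : T.U) : G) = (x.1 : G) * (x.2 : G) := fun x => rfl
  choose g hg using (fun u : T.U => H.PPe u u.2)
  choose hgP r hr hgr using hg
  have hinf : ∀ x, x ∈ D.P → x ∈ Pe D y → x ∈ Card.Z D := by
    intro x hx hx'
    obtain ⟨b, hb, h⟩ := H.inf hx hx'
    exact ⟨b, hb, h⟩
  -- bijection `U × Z ≃ P × P_e`
  let φ : (T.U × Card.Z D) → (D.P × Pe D y) := fun x =>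
    (⟨g x.1 * (x.2 : G), mul_mem (hgP x.1) (Card.Z_le_P D x.2.2)⟩,
      ⟨(x.2 : G)⁻¹ * r x.1, mul_mem (inv_mem (by
        obtain ⟨b, hb, h⟩ := x.2.2
        rw [h]; exact H.z_mem_Pe hb)) (hr x.1)⟩)
  have hφ : Function.Bijective φ := by
    constructor
    · rintro ⟨u, z⟩ ⟨u', z'⟩ h
      have h1 : g u * (z : G) = g u' * (z' : G) := congrArg (fun t => ((t.1 : D.P) : G)) h
      have h2 : (z : G)⁻¹ * r u = (z' : G)⁻¹ * r u' := congrArg (fun t => ((t.2 : Pe D y) : G)) h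
      have h3 : (u : G) = u' := by
        rw [hgr u, hgr u']
        calc g u * r u = (g u * (z : G)) * ((z : G)⁻¹ * r u) := by group
          _ = (g u' * (z' : G)) * ((z' : G)⁻¹ * r u') := by rw [h1, h2]
          _ = _ := by group
      have h4 : u = u' := Subtype.ext h3
      subst h4
      have h5 : (z : G) = z' := mul_left_cancel h1
      rw [Subtype.ext h5]
    · rintro ⟨p, s⟩
      have hu : (p : G) * (s : G) ∈ T.U := mul_mem (T.P_le p.2) (H.Pe_le s.2)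
      set u : T.U := ⟨(p : G) * (s : G), hu⟩ with hu'
      have h1 : (p : G) * s = g u * r u := hgr u
      have h2 : (g u)⁻¹ * p = r u * (s : G)⁻¹ := by
        rw [eq_mul_inv_iff_mul_eq, mul_assoc, h1]; group
      have h3 : (g u)⁻¹ * (p : G) ∈ Card.Z D := by
        apply hinf _ (mul_mem (inv_mem (hgP u)) p.2)
        rw [h2]; exact mul_mem (hr u) (inv_mem s.2)
      refine ⟨(u, ⟨(g u)⁻¹ * p, h3⟩), ?_⟩
      apply Prod.ext
      · apply Subtype.ext
        show g u * ((g u)⁻¹ * (p : G)) = p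
        group
      · apply Subtype.ext
        show ((g u)⁻¹ * (p : G))⁻¹ * r u = s
        rw [h2]; group
  have h1 := Nat.card_congr (Equiv.ofBijective φ hφ)
  rw [Nat.card_prod, Nat.card_prod, hP, hPe, hZ] at h1
  have h2 : Nat.card T.U * 2 ^ n = (2 ^ n) ^ 5 * 2 ^ n := by rw [h1]; ring
  exact Nat.eq_of_mul_eq_mul_right (by positivity) h2

/-! ### Coordinates -/

variable {C : Cen D F.O} (hTU : T.U = Tower.Cen.U C)
include hTU

theorem exists_out : ∃ c, c ≠ 0 ∧ N n c = 1 ∧ Tower.OuterU.OutU C e c := by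
  obtain ⟨c, hc, hNc, h1, -⟩ := H.he.line
  refine ⟨c, hc, hNc, H.he.t, H.e_sq, H.he.P, h1, ?_⟩
  intro g hg
  rw [← hTU] at hg ⊢
  exact e_U H hg

/-- the `P`-part of the elements of `P_e` is on the line of `e`. -/
theorem al_line {c : K} (ho : Tower.OuterU.OutU C e c) {x : G} (hx : x ∈ Pe D y) :
    c * bar n (al C x) = al C x := by
  have hxU := H.Pe_le hx
  rw [hTU] at hxU
  obtain ⟨p, hp, m, hm, h1⟩ := hxU
  have h2 := H.hy.Pe_e hx
  have h3 : x = (e * p * e⁻¹) * (e * m * e⁻¹) := by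
    calc x = e * x * e⁻¹ := by rw [← h2, mul_inv_cancel_right]
      _ = _ := by rw [h1]; group
  have h4 := al_eq C (ho.P_mem p hp) (ho.M_mem hm)
  rw [← h3, ho.ca_conj p hp] at h4
  have h5 := al_eq C hp hm
  rw [← h1] at h5
  rw [h5, ← h4, h5]

omit [Finite G] in
/-- the commutators `[P, U]`. -/
theorem cmt_PU {p x : G} (hp : p ∈ D.P) (hx : x ∈ T.U) :
    p * x * p⁻¹ * x⁻¹ = D.z (Tr n (D.ca p * bar n (al C x))) := by
  rw [hTU] at hx
  obtain ⟨p', hp', m, hm, rfl⟩ := hx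
  rw [al_eq C hp' hm]
  have h1 := C.M_P m hm p hp
  have h2 : p * (p' * m) = D.z (Tr n (D.ca p * bar n (D.ca p'))) * (p' * m * p) := by
    calc p * (p' * m) = (p * p') * m := by group
      _ = D.z (Tr n (D.ca p * bar n (D.ca p'))) * (p' * (p * m)) := by
          rw [D.P_comm p hp p' hp']; group
      _ = _ := by rw [← h1]; group
  rw [h2]; group

/-- the commutator form of `U` is nondegenerate -/
theorem surj (A : Cl C) {x : G} (hx : x ∈ T.U) (hxz : ∀ b, bar n b = b → x ≠ D.z b) {b : K}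
    (hb : bar n b = b) : ∃ x' ∈ T.U, x * x' * x⁻¹ * x'⁻¹ = D.z b := by
  have hxC := hx
  rw [hTU] at hxC
  have hsw : ∀ {v w : G} {b : K}, v * w * v⁻¹ * w⁻¹ = D.z b → w * v * w⁻¹ * v⁻¹ = D.z b := by
    intro v w b h
    have e1 : w * v * w⁻¹ * v⁻¹ = (v * w * v⁻¹ * w⁻¹)⁻¹ := by group
    rw [e1, h, Swap.z_inv]
  by_cases h0 : al C x = 0
  · have hxM := al_ker C hxC h0
    by_cases hxW : x ∈ A.W
    · -- `x ∈ W ∖ Z`
      have hu0 : A.u x ≠ 0 := by
        intro h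
        obtain ⟨b', hb', h'⟩ := A.u_ker x hxW h
        exact hxz b' hb' h'
      obtain ⟨m, hm, he⟩ := A.e_surj (b * b * (A.u x)⁻¹)
        (fixed_mul (fixed_mul hb hb) (fixed_inv (A.u_fixed x hxW)))
      obtain ⟨c, hc, h1⟩ := C.cm_mem m hm x hxM
      have h2 := A.cm_eq m hm x hxW c hc h1
      rw [he, mul_assoc, inv_mul_cancel₀ hu0, mul_one] at h2
      have h3 : c = b := by
        have h4 : (c + b) * (c + b) = 0 := by
          have : (c + b) * (c + b) = c * c + b * b + (b * c + b * c) := by ring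
          rw [this, h2, Field.add_self, Field.add_self, add_zero]
        exact Field.add_eq_zero.mp (mul_self_eq_zero.mp h4)
      subst h3
      refine ⟨m, ?_, hsw h1⟩
      rw [hTU]; exact M_le C hm
    · -- `x ∈ M ∖ W`
      have he0 : A.e x ≠ 0 := fun h => hxW ((A.e_ker x hxM).mp h)
      obtain ⟨w, hw, hu⟩ := A.u_surj ((A.e x)⁻¹ * (b * b))
        (fixed_mul (fixed_inv (A.e_fixed x hxM)) (fixed_mul hb hb))
      obtain ⟨c, hc, h1⟩ := C.cm_mem x hxM w (A.W_le hw)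
      have h2 := A.cm_eq x hxM w hw c hc h1
      rw [hu, ← mul_assoc, mul_inv_cancel₀ he0, one_mul] at h2
      have h3 : c = b := by
        have h4 : (c + b) * (c + b) = 0 := by
          have : (c + b) * (c + b) = c * c + b * b + (b * c + b * c) := by ring
          rw [this, h2, Field.add_self, Field.add_self, add_zero]
        exact Field.add_eq_zero.mp (mul_self_eq_zero.mp h4)
      subst h3
      refine ⟨w, ?_, h1⟩
      rw [hTU]; exact M_le C (A.W_le hw)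
  · obtain ⟨a, ha⟩ := exists_Tr_eq D.hq h0 hb
    obtain ⟨p, hp, rfl⟩ := D.ca_surj a
    refine ⟨p, T.P_le hp, hsw ?_⟩
    rw [cmt_PU H hTU hp hx, Tr_comm D.hq, ha]

/-- `[t, r] ∈ Z` implies `[P, r] = 1` -/
theorem al_of_t (A : Cl C) {r : G} (hr : r ∈ Pe D y) {b : K} (hb : bar n b = b)
    (h : D.t * r * D.t⁻¹ * r⁻¹ = D.z b) : al C r = 0 := by
  have hrU := H.Pe_le hr
  rw [hTU] at hrU
  obtain ⟨p, hp, m, hm, hrpm⟩ := hrU
  have htp := D.t_P p hp
  have hti : D.t⁻¹ = D.t := by rw [inv_eq_iff_mul_eq_one, D.t_sq]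
  -- `[m, t] ∈ Z`
  have h1 : D.t * m * D.t⁻¹ = D.z b * m := by
    have e1 : D.t * r * D.t⁻¹ = p * (D.t * m * D.t⁻¹) := by
      rw [hrpm]
      calc D.t * (p * m) * D.t⁻¹ = (D.t * p) * m * D.t⁻¹ := by group
        _ = _ := by rw [htp]; group
    have e2 : D.t * r * D.t⁻¹ = D.z b * r := by
      rw [← h]; group
    have e3 : p * (D.t * m * D.t⁻¹) = p * (D.z b * m) := by
      rw [← e1, e2, hrpm]
      have := H.z_cen (T.P_le hp) b
      rw [← mul_assoc, ← this]; group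
    exact mul_left_cancel e3
  have h2 : m * D.t * m⁻¹ * D.t = D.z b := by
    have e1 : m * D.t * m⁻¹ * D.t = (D.t * m * D.t⁻¹ * m⁻¹)⁻¹ := by
      rw [hti]
      have e2 : (D.t * m * D.t * m⁻¹)⁻¹ = m * D.t⁻¹ * m⁻¹ * D.t⁻¹ := by group
      rw [e2, hti]
    rw [e1, h1, mul_inv_cancel_right, Swap.z_inv]
  have h3 : A.e m = 0 := by
    rw [← A.u_a m hm, h2]
    have h4 := A.W_sq _ (A.z_W b)
    rw [z_self] at h4
    exact D.z_inj _ (A.u_fixed _ (A.z_W b)) h4.symm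
  have hmW := (A.e_ker m hm).mp h3
  have h4 := A.W_inv m hmW
  -- `t r t⁻¹ = r⁻¹`
  have h5 : D.t * r * D.t⁻¹ = r⁻¹ :=
    (SwapHalf.half_Pe H.he.toInv H.hy).inv r hr (by rw [h]; exact ⟨b, hb, rfl⟩)
  have h6 : D.t * r * D.t⁻¹ = p * m⁻¹ := by
    rw [hrpm, ← h4]
    calc D.t * (p * m) * D.t⁻¹ = (D.t * p) * m * D.t⁻¹ := by group
      _ = _ := by rw [htp]; group
  have h7 : p * m⁻¹ = p⁻¹ * m⁻¹ := by
    rw [← h6, h5, hrpm, mul_inv_rev, C.M_P _ (inv_mem hm) _ (inv_mem hp)]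
  have h8 : p * p = 1 := by
    have := mul_right_cancel h7
    nth_rewrite 1 [this]; group
  rw [hrpm, al_eq C hp hm]
  exact ca_zero_of_sq hp h8

/-! ### the functions `τ` and `k` -/

omit [Finite G] H hTU in
/-- `τ` -/
noncomputable def tau (D : Pre G K n) (a0 : K) (p : G) : K := Tr n (D.ca p * bar n a0)

omit [Finite G] H hTU in
/-- `k` -/
noncomputable def kk (C : Cen D F.O) (a0 : K) (r : G) : K := al C r * a0⁻¹

omit [Finite G] H hTU in
theorem tau_fix (a0 : K) (p : G) : bar n (tau D a0 p) = tau D a0 p := fixed_Tr D.hq _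

omit [Finite G] H hTU in
theorem tau_mul (a0 : K) {p p' : G} (hp : p ∈ D.P) (hp' : p' ∈ D.P) :
    tau D a0 (p * p') = tau D a0 p + tau D a0 p' := by
  unfold tau
  rw [D.ca_mul p hp p' hp', add_mul, Tr_add]

omit [Finite G] H hTU in
theorem tau_surj {a0 : K} (h0 : a0 ≠ 0) {b : K} (hb : bar n b = b) : ∃ p ∈ D.P, tau D a0 p = b := by
  obtain ⟨a, ha⟩ := exists_Tr_eq D.hq h0 hb
  obtain ⟨p, hp, rfl⟩ := D.ca_surj a
  refine ⟨p, hp, ?_⟩
  unfold tau
  rw [Tr_comm D.hq, ha]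

theorem kk_fix {c : K} (ho : Tower.OuterU.OutU C e c) {a0 : K} (h0 : a0 ≠ 0)
    (hl : c * bar n a0 = a0) {r : G} (hr : r ∈ Pe D y) : bar n (kk C a0 r) = kk C a0 r := by
  have h1 := al_line H hTU ho hr
  have hc := ho.c_ne
  have hb0 : bar n a0 ≠ 0 := by
    intro h
    rw [h, mul_zero] at hl
    exact h0 hl.symm
  unfold kk
  rw [bar_mul, bar_inv]
  have h3 : a0⁻¹ = c⁻¹ * (bar n a0)⁻¹ := by rw [← mul_inv, hl]
  have h2 : c * (bar n (al C r) * (bar n a0)⁻¹) = c * (al C r * a0⁻¹) := by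
    rw [← mul_assoc, h1, h3]
    calc al C r * (bar n a0)⁻¹ = (c * c⁻¹) * (al C r * (bar n a0)⁻¹) := by
          rw [mul_inv_cancel₀ hc, one_mul]
      _ = _ := by ring
  exact mul_left_cancel₀ hc h2

theorem kk_mul (a0 : K) {r r' : G} (hr : r ∈ Pe D y) (hr' : r' ∈ Pe D y) :
    kk C a0 (r * r') = kk C a0 r + kk C a0 r' := by
  have h1 := H.Pe_le hr
  have h2 := H.Pe_le hr'
  rw [hTU] at h1 h2
  unfold kk
  rw [al_mul C h1 h2, add_mul]

theorem cmt_PR {c : K} (ho : Tower.OuterU.OutU C e c) {a0 : K} (h0 : a0 ≠ 0)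
    (hl : c * bar n a0 = a0) {p r : G} (hp : p ∈ D.P) (hr : r ∈ Pe D y) :
    p * r * p⁻¹ * r⁻¹ = D.z (tau D a0 p * kk C a0 r) := by
  rw [cmt_PU H hTU hp (H.Pe_le hr)]
  have h1 : al C r = kk C a0 r * a0 := by
    unfold kk
    rw [mul_assoc, inv_mul_cancel₀ h0, mul_one]
  have h2 := kk_fix H hTU ho h0 hl hr
  congr 1
  rw [h1, bar_mul, h2]
  unfold tau
  rw [mul_comm (Tr n _), ← Tr_mul_fixed h2]
  congr 1
  ring

omit hTU in
theorem S2_z (hn : Odd n) {x : G} (hx : x ∈ S2 F T H.hU) {b : K} (hb : bar n b = b) :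
    x * D.z b = D.z b * x := by
  have h1 : Commute D.t (D.z b) := D.t_P _ (D.z_mem b)
  have h2 : Commute e (D.z b) := (H.he.toInv.ze hb).symm
  have h3 : ∀ u ∈ T.U, Commute u (D.z b) := fun u hu => H.z_cen hu b
  rcases S2_cases H hn hx with h | h | h | h
  · exact h3 x h
  · have h4 : Commute ((x * D.t) * D.t⁻¹) (D.z b) := (h3 _ h).mul_left h1.inv_left
    rwa [mul_inv_cancel_right] at h4
  · have h4 : Commute ((x * e) * e⁻¹) (D.z b) := (h3 _ h).mul_left h2.inv_left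
    rwa [mul_inv_cancel_right] at h4
  · have h4 : Commute ((x * (D.t * e)) * (D.t * e)⁻¹) (D.z b) :=
      (h3 _ h).mul_left (h1.mul_left h2).inv_left
    rwa [mul_inv_cancel_right] at h4

/-- **`Z` is central in `S`** -/
theorem Zc {c : K} (ho : Tower.OuterU.OutU C e c) {a0 : K} (h0 : a0 ≠ 0)
    (hl : c * bar n a0 = a0) (hn : Odd n) (hk : ∃ r ∈ Pe D y, kk C a0 r ≠ 0) {S : Subgroup G}
    (hS : Syl H S) {x : G} (hx : x ∈ S) {b : K} (hb : bar n b = b) :
    x * D.z b = D.z b * x := by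
  by_cases hx2 : x ∈ S2 F T H.hU
  · exact S2_z H hn hx2 hb
  obtain ⟨⟨u, hu, h1⟩, v, hv, h2⟩ := swap hS hx hx2
  have hxM := hS.M0 hx
  have hxP : ∀ p ∈ D.P, x * p * x⁻¹ ∈ Pe D y := fun p hp => H.swap_P hxM hu h1 hp
  have hxPe : ∀ r ∈ Pe D y, x * r * x⁻¹ ∈ D.P := fun r hr => H.swap_Pe hxM hv h2 hr
  have hz : ∀ b : Tower.GBase.Fq K n, ∃ d : Tower.GBase.Fq K n,
      x * D.z b * x⁻¹ = D.z d := by
    intro b
    obtain ⟨d, hd, h3⟩ := H.inf (hxPe _ (H.z_mem_Pe b.2)) (hxP _ (D.z_mem b))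
    exact ⟨⟨d, hd⟩, h3⟩
  choose θ hθ using hz
  have hcard : Nat.card (Tower.GBase.Fq K n) = 2 ^ n := Card.card_Fq D.hq
  have hzeq : ∀ {a b : Tower.GBase.Fq K n}, D.z (a : K) = D.z (b : K) → a = b := by
    intro a b h
    exact Subtype.ext (z_eq D a.2 b.2 h)
  have key := AutOdd.theta_id hn hcard (X := D.P) (Y := Pe D y) θ
    (by
      intro a b
      apply hzeq
      show D.z (θ (a + b) : K) = D.z ((θ a : K) + (θ b : K))
      rw [D.z_add, ← hθ, ← hθ, ← hθ]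
      show x * D.z ((a : K) + (b : K)) * x⁻¹ = _
      rw [D.z_add]; group)
    (by
      intro a
      apply hzeq
      rw [← hθ, ← hθ]
      have e1 : x * (x * D.z (a : K) * x⁻¹) * x⁻¹ = (x * x) * D.z (a : K) * (x * x)⁻¹ := by group
      rw [e1, S2_z H hn (swap_sq hS hx hx2) a.2, mul_inv_cancel_right])
    (fun p => ⟨tau D a0 p, tau_fix a0 _⟩)
    (fun p => ⟨kk C a0 (x * p * x⁻¹), kk_fix H hTU ho h0 hl (hxP p p.2)⟩)
    (fun r => ⟨kk C a0 r, kk_fix H hTU ho h0 hl r.2⟩)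
    (fun r => ⟨tau D a0 (x * r * x⁻¹), tau_fix a0 _⟩)
    (by
      rintro ⟨b, hb⟩
      obtain ⟨p, hp, h⟩ := tau_surj (D := D) h0 hb
      exact ⟨⟨p, hp⟩, Subtype.ext h⟩)
    (by
      obtain ⟨r, hr, hr0⟩ := hk
      exact ⟨⟨r, hr⟩, fun h => hr0 (congrArg Subtype.val h)⟩)
    (fun p => ⟨⟨x * p * x⁻¹, hxP p p.2⟩, rfl⟩)
    (by
      rintro ⟨p, hp⟩ ⟨r, hr⟩
      apply hzeq
      rw [← hθ]
      show x * D.z (tau D a0 p * kk C a0 r) * x⁻¹ =
        D.z (kk C a0 (x * p * x⁻¹) * tau D a0 (x * r * x⁻¹))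
      rw [← cmt_PR H hTU ho h0 hl hp hr, mul_comm (kk C a0 _),
        ← cmt_PR H hTU ho h0 hl (hxPe r hr) (hxP p hp)]
      have h3 := cmt_PR H hTU ho h0 hl (hxPe r hr) (hxP p hp)
      have e1 : x * (p * r * p⁻¹ * r⁻¹) * x⁻¹ =
          (x * r * x⁻¹ * (x * p * x⁻¹) * (x * r * x⁻¹)⁻¹ * (x * p * x⁻¹)⁻¹)⁻¹ := by group
      rw [e1, h3, Swap.z_inv])
    ⟨b, hb⟩
  have h3 := hθ ⟨b, hb⟩
  rw [key] at h3
  exact mul_inv_eq_iff_eq_mul.mp h3

/-- **The constructor** -/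
theorem exists_goneL (A : Cl C) {E : Subgroup G} (hG : Glob D.t E) (hUE : T.U ≤ E) (hn : Odd n)
    (hne : ∃ p ∈ D.P, ∃ r ∈ Pe D y, p * r ≠ r * p) (S : Sylow 2 G) (hS : Syl H (S : Subgroup G)) :
    ∃ τ k, GOneL D E S T.U (Pe D y) e τ k := by
  have : Fact (Nat.Prime 2) := ⟨Nat.prime_two⟩
  have hodd : Odd (S : Subgroup G).index := by
    have h6 := S.not_dvd_index
    rwa [← even_iff_two_dvd, Nat.not_even_iff_odd] at h6
  have htE := t_not_E hS hG hn hodd
  obtain ⟨c, hc, hNc, ho⟩ := exists_out H hTU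
  obtain ⟨a0, hl, hN0⟩ := exists_on_line D.hq hNc (bar_one n)
  have h0 : a0 ≠ 0 := by
    rintro rfl
    rw [N_zero] at hN0
    exact zero_ne_one hN0
  have hk : ∃ r ∈ Pe D y, kk C a0 r ≠ 0 := by
    obtain ⟨p, hp, r, hr, h⟩ := hne
    refine ⟨r, hr, fun h1 => h ?_⟩
    have h2 := cmt_PR H hTU ho h0 hl hp hr
    rw [h1, mul_zero, z_zero, mul_inv_eq_one, mul_inv_eq_iff_eq_mul] at h2
    exact h2
  refine ⟨tau D a0, kk C a0, ?_⟩
  exact
    { n3 := by
        have h2 := D.hq.hn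
        obtain ⟨k, hk⟩ := hn
        omega
      E_normal := hG.normal
      t_E := htE
      U_le := US hS
      U_norm := fun x hx u hu => S_U hS hx hu
      U_E := hUE
      cardU := card_U H
      P_le := T.P_le
      R_le := H.Pe_le
      Z_R := fun b hb => H.z_mem_Pe hb
      PR := H.PPe
      inf := fun x hx hx' => H.inf hx hx'
      Zc := fun x hx b hb => Zc H hTU ho h0 hl hn hk hS hx hb
      sqU := fun x hx => sq_U H hx
      cmt := fun x hx y hy => cmt_U H hx hy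
      surj := fun x hx hxz b hb => surj H hTU A hx hxz hb
      tS := tS hS
      eS := eS hS
      ee := H.e_sq
      te := H.e_t.symm
      e_R := fun r hr => (H.hy.Pe_e hr).symm
      R_e := fun u hu h => H.mem_Pe_of_comm hu h
      P_t := T.comm_t
      e_P := H.he.P
      t_R := fun r hr => (H.hy.t_Pe H.he.toInv hr).1
      inv_P := by
        intro p hp b hb h
        have h1 : e * p * e⁻¹ = p⁻¹ := H.half.inv p hp (by rw [h]; exact ⟨b, hb, rfl⟩)
        have hline : c * bar n (D.ca p) = D.ca p := by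
          rw [← ho.ca_conj p hp, h1, ca_inv D hp]
        refine ⟨h1, ?_, ?_⟩
        · unfold tau
          exact Outer.Tr_line D.hq hNc hline hl
        · obtain ⟨v, hv, h2⟩ := H.he.toInv.conj_of_sq hp (by
            have e1 : p * e * (p * e) = p * (e * p * e⁻¹) * (e * e) := by group
            rw [e1, h1, H.e_sq, mul_inv_cancel, mul_one])
          exact ⟨v, hv, h2.symm⟩
      inv_R := by
        intro r hr b hb h
        have h1 : D.t * r * D.t⁻¹ = r⁻¹ :=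
          (SwapHalf.half_Pe H.he.toInv H.hy).inv r hr (by rw [h]; exact ⟨b, hb, rfl⟩)
        refine ⟨h1, ?_, ?_⟩
        · unfold kk
          rw [al_of_t H hTU A hr hb h, zero_mul]
        · have e0 : y⁻¹ * D.t * y = e := by rw [← H.hy.et]; group
          obtain ⟨v, hv, h2⟩ := H.he.toInv.conj_of_sq (mem_Pe.mp hr) (by
            calc y⁻¹ * r * y * e * (y⁻¹ * r * y * e) =
                y⁻¹ * r * y * (y⁻¹ * D.t * y) * (y⁻¹ * r * y * (y⁻¹ * D.t * y)) := by rw [e0]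
              _ = y⁻¹ * (r * (D.t * r * D.t⁻¹) * (D.t * D.t)) * y := by group
              _ = 1 := by rw [h1, D.t_sq, mul_inv_cancel, mul_one]; group)
          refine ⟨y * v * y⁻¹, Swap.conj_P hv, ?_⟩
          calc y * v * y⁻¹ * D.t * (y * v * y⁻¹)⁻¹ = y * (v * (y⁻¹ * D.t * y) * v⁻¹) * y⁻¹ := by group
            _ = y * (y⁻¹ * r * y * (y⁻¹ * D.t * y)) * y⁻¹ := by rw [e0, h2]
            _ = r * D.t := by group
      e_E := by
        intro he
        apply htE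
        have h1 := hG.normal.conj_mem _ he y
        rwa [H.hy.et] at h1
      fus := fun g hg => hS.fus hg
      cls := by
        intro x hx
        rcases hS.cl x (mul_mem (mul_mem hx (tS hS)) (inv_mem hx)) with ⟨u, hu, h⟩ | ⟨u, hu, h⟩
        · exact Or.inl ⟨u, hu, h.symm⟩
        · right
          obtain ⟨p, hp, r, hr, rfl⟩ := H.PPe u hu
          refine ⟨p, hp, ?_⟩
          rw [← h]
          have h1 := H.hy.Pe_e hr
          calc p * r * e * (p * r)⁻¹ = p * (r * e) * r⁻¹ * p⁻¹ := by group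
            _ = _ := by rw [h1]; group
      Xi := by
        intro x hx h
        have hti : D.t⁻¹ = D.t := by rw [inv_eq_iff_mul_eq_one, D.t_sq]
        rcases Sg_cases H hn (comm_Sg hS hx h) with h1 | h1 | h1 | h1
        · exact Or.inl h1
        · right; left
          rwa [← h]
        · right; right; left
          have h2 := H.he.P _ h1
          have e1 : e * (x * e) * e⁻¹ = e * x := by group
          rwa [e1] at h2
        · right; right; right
          have h2 := H.he.P _ h1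
          have e1 : e * (x * (D.t * e)) * e⁻¹ = D.t * e * x := by
            calc e * (x * (D.t * e)) * e⁻¹ = e * (x * D.t) := by group
              _ = (e * D.t) * x := by rw [h]; group
              _ = _ := by rw [H.e_t]
          rwa [e1] at h2
      cardS := by
        have h1 := card_S hS hn
        rwa [card_U H] at h1
      fusC := by
        intro g hg b hb h
        have h1 := ch_conj F hg (comm_mul rfl H.he.t : (D.t * e) * D.t = D.t * (D.t * e))
        rw [h, ch_P F (D.z_mem b), ch_mul F rfl H.he.t, ch_t, one_mul, H.he.ch] at h1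
        exact barE_ne_one D.hq h1.symm
      τ_fix := fun p _ => tau_fix a0 p
      τ_mul := fun p hp p' hp' => tau_mul a0 hp hp'
      τ_surj := fun b hb => tau_surj h0 hb
      k_fix := fun r hr => kk_fix H hTU ho h0 hl hr
      k_mul := fun r hr r' hr' => kk_mul H hTU a0 hr hr'
      k_ne := hk
      cmt_PR := fun p hp r hr => cmt_PR H hTU ho h0 hl hp hr }

/-- **the output**, `[P, P_e] ≠ 1`, `n` odd. -/
theorem out (A : Cl C) {E : Subgroup G} (hG : Glob D.t E) (hUE : T.U ≤ E) (hn : Odd n)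
    (hne : ∃ p ∈ D.P, ∃ r ∈ Pe D y, p * r ≠ r * p) : Out D.t E := by
  obtain ⟨S, hS⟩ := H.exists_sylow
  obtain ⟨τ, k, h⟩ := exists_goneL H hTU A hG hUE hn hne S hS
  exact GOneLAb.out h

end Cfsg.Agent.StdU3.GOneLMk
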