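import Cfsg.Agent.StdU3.PreDef

/-!
# The terminal group of the growth, interface

`U` is the part of the terminal group `S = U ∪ t U` which does not contain `t`.
-/

set_option autoImplicit false

namespace Cfsg.Agent.StdU3.TermDef

open Cfsg.Agent.StdU3.Field Cfsg.Agent.StdU3.PreDef

variable {G : Type*} [Group G] {K : Type*} [Field K] [Fintype K] [CharP K 2] {n : ℕ}

/-- the terminal group. -/
structure Term (D : Pre G K n) where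
  U : Subgroup G
  U_two : IsPGroup 2 U
  P_le : D.P ≤ U
  /-- commutators are central -/
  class_two : ∀ x ∈ U, ∀ y ∈ U, ∀ g ∈ U, (x * y * x⁻¹ * y⁻¹) * g = g * (x * y * x⁻¹ * y⁻¹)
  t_not : D.t ∉ U
  t_conj : ∀ g ∈ U, D.t * g * D.t⁻¹ ∈ U
  comm_t : ∀ g ∈ U, g * D.t = D.t * g → g ∈ D.P
  /-- the involutions of `U` outside `Z` -/
  two : ∀ v ∈ U, v * v = 1 → (∀ b, v ≠ D.z b) →
    ∃ C : Subgroup G, C ≤ U ∧ (∀ c ∈ C, c * v = v * c) ∧ (2 ^ n) ^ 3 ≤ Nat.card C ∧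
      ∃ B : Subgroup G, B ≤ C ∧ (∀ b ∈ B, b * b = 1) ∧ (∀ b ∈ B, ∀ c ∈ C, b * c = c * b) ∧
        (2 ^ n) ^ 2 ≤ Nat.card B
  /-- the involutions of `U t` -/
  three : ∀ g ∈ U, (g * D.t) * (g * D.t) = 1 →
    (∃ y ∈ U, y * D.t * y⁻¹ = g * D.t) ∨ (∀ y : G, y * D.t * y⁻¹ ≠ g * D.t)
  /-- the involutions of the outer cosets of `U` -/
  four : ∀ x, x * D.t = D.t * x → x * x = 1 →
    (∃ c, ∀ p ∈ D.P, x * p * x⁻¹ ∈ D.P ∧ D.ca (x * p * x⁻¹) = c * bar n (D.ca p)) →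
    (∀ g ∈ U, x * g * x⁻¹ ∈ U) →
    ∀ g ∈ U, (g * x) * (g * x) = 1 →
      (∃ y ∈ U, y * x * y⁻¹ = g * x) ∨
      ∃ B : Subgroup G, B ≤ U ∧ (∀ b ∈ B, b * b = 1) ∧ (∀ b ∈ B, b * (g * x) = (g * x) * b) ∧
        (∀ b ∈ B, ∀ c ∈ B, b * c = c * b) ∧ g * x ∉ B ∧ (2 ^ n) ^ 2 ≤ Nat.card B

end Cfsg.Agent.StdU3.TermDef
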