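import Cfsg.Agent.StdU3.TwistedTransfer

/-!
# Equivariant Thompson–Lyons transfer

Let `τ` be an involutory automorphism of `E`, `H` a `τ`-invariant subgroup of odd index,
`φ : H →* M` a homomorphism to a commutative group whose fibres are permuted by `τ`, and `u ∈ H` a
`τ`-fixed involution such that `φ (x⁻¹ u x) = φ u` whenever `x⁻¹ u x ∈ H` and the coset `x H` is
`τ`-fixed.  Let `R` be a `τ`-invariant 2-subgroup of the centralizer of `u` which contains `u`.  Then
either the transfer of `u` is `φ u`, or there is `x` with `x⁻¹ R x ≤ H` such that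
`φ y * φ (τ y) ≠ 1` for `y = x⁻¹ u x`.
-/

set_option autoImplicit false
set_option linter.unusedSectionVars false

namespace Cfsg.Agent.StdU3.TransferTE

open Subgroup MulAction Cfsg.Agent.StdU3.TwistedTransfer

section Inv

variable {E : Type*} [Group E] [Finite E] {H : Subgroup E} {M : Type*} [CommGroup M] (φ : H →* M)

open Classical in
/-- the value of `φ` at the conjugate of `u` given by a coset (`1` if it is not in `H`). -/
noncomputable def val (u : E) (q : E ⧸ H) : M :=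
  if h : q.out⁻¹ * u * q.out ∈ H then φ ⟨q.out⁻¹ * u * q.out, h⟩ else 1

theorem smul_eq_iff (u x : E) : u • (x : E ⧸ H) = x ↔ x⁻¹ * u * x ∈ H := by
  rw [eq_comm, show u • (x : E ⧸ H) = ((u * x : E) : E ⧸ H) from rfl, QuotientGroup.eq, mul_assoc]

theorem val_coe (u x : E) (h : x⁻¹ * u * x ∈ H) : val φ u (x : E ⧸ H) = φ ⟨x⁻¹ * u * x, h⟩ := by
  have h1 : (((x : E ⧸ H).out : E) : E ⧸ H) = x := QuotientGroup.out_eq' _
  have h2 : x⁻¹ * (x : E ⧸ H).out ∈ H := by rw [← QuotientGroup.eq, h1]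
  obtain ⟨k, hk⟩ : ∃ k : H, (x : E ⧸ H).out = x * k := ⟨⟨_, h2⟩, by simp⟩
  have h3 : (x : E ⧸ H).out⁻¹ * u * (x : E ⧸ H).out = (k : E)⁻¹ * (x⁻¹ * u * x) * k := by
    rw [hk]; group
  have h4 : (x : E ⧸ H).out⁻¹ * u * (x : E ⧸ H).out ∈ H := by
    rw [h3]; exact mul_mem (mul_mem (inv_mem k.2) h) k.2
  rw [val, dif_pos h4]
  have h5 : (⟨_, h4⟩ : H) = k⁻¹ * ⟨x⁻¹ * u * x, h⟩ * k := Subtype.ext h3
  rw [h5, map_mul, map_mul, map_inv, mul_comm, mul_inv_cancel_left]

/-- the transfer of an involution is the product over the fixed cosets. -/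
theorem transfer_involution (u : E) (hu : u * u = 1) [inst : Fintype (E ⧸ H)]
    [DecidableEq (E ⧸ H)] :
    φ.transfer u = ∏ q ∈ Finset.univ.filter (fun q : E ⧸ H => u • q = q), val φ u q := by
  classical
  let r : E ⧸ H → E := Quotient.out
  have hr : ∀ q, (r q : E ⧸ H) = q := fun q => QuotientGroup.out_eq' q
  have huinv : u⁻¹ = u := inv_eq_of_mul_eq_one_left hu
  have hmem : ∀ q, (r q)⁻¹ * (u * r (u⁻¹ • q)) ∈ H := by
    intro q
    rw [← QuotientGroup.eq, hr]
    change _ = u • ((r (u⁻¹ • q) : E) : E ⧸ H)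
    rw [hr, smul_inv_smul]
  rw [transfer_section φ r hr u hmem]
  rw [← Finset.prod_filter_mul_prod_filter_not Finset.univ (fun q : E ⧸ H => u • q = q)]
  have hnon : ∏ q ∈ Finset.univ.filter (fun q : E ⧸ H => ¬ u • q = q),
      φ ⟨(r q)⁻¹ * (u * r (u⁻¹ • q)), hmem q⟩ = 1 := by
    refine Finset.prod_involution (fun q _ => u • q) ?_ ?_ ?_ ?_
    · intro q _
      rw [← map_mul]
      have : (⟨(r q)⁻¹ * (u * r (u⁻¹ • q)), hmem q⟩ : H) *
          ⟨(r (u • q))⁻¹ * (u * r (u⁻¹ • (u • q))), hmem (u • q)⟩ = 1 := by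
        apply Subtype.ext
        change (r q)⁻¹ * (u * r (u⁻¹ • q)) * ((r (u • q))⁻¹ * (u * r (u⁻¹ • (u • q)))) = 1
        rw [inv_smul_smul, huinv]
        calc (r q)⁻¹ * (u * r (u • q)) * ((r (u • q))⁻¹ * (u * r q))
            = (r q)⁻¹ * (u * u) * r q := by group
          _ = 1 := by rw [hu]; group
      rw [this, map_one]
    · intro q hq _
      simp only [Finset.mem_filter, Finset.mem_univ, true_and] at hq
      exact hq
    · intro q hq
      simp only [Finset.mem_filter, Finset.mem_univ, true_and] at hq ⊢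
      intro h
      apply hq
      exact smul_left_cancel u h
    · intro q _
      rw [smul_smul, hu, one_smul]
  rw [hnon, mul_one]
  apply Finset.prod_congr rfl
  intro q hq
  simp only [Finset.mem_filter, Finset.mem_univ, true_and] at hq
  have h1 : u⁻¹ • q = q := by rw [huinv, hq]
  have h2 : (r q)⁻¹ * u * r q ∈ H := by
    rw [← smul_eq_iff, hr, hq]
  have h3 : val φ u q = φ ⟨(r q)⁻¹ * u * r q, h2⟩ := by
    rw [val, dif_pos h2]
  rw [h3]
  congr 1
  apply Subtype.ext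
  change (r q)⁻¹ * (u * r (u⁻¹ • q)) = (r q)⁻¹ * u * r q
  rw [h1, mul_assoc]

end Inv

section Parity

/-- the parity of an invariant set under a 2-group. -/
theorem card_modEq {G α : Type*} [Group G] [MulAction G α] [Finite α] (R : Subgroup G)
    (hR : IsPGroup 2 R) (s : Set α) (hs : ∀ r ∈ R, ∀ a ∈ s, r • a ∈ s) :
    Nat.card s ≡ Nat.card {a : α | a ∈ s ∧ ∀ r ∈ R, r • a = a} [MOD 2] := by
  classical
  let X : SubMulAction R α := ⟨s, fun r a ha => hs r r.2 a ha⟩
  have := Fact.mk Nat.prime_two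
  have h1 := hR.card_modEq_card_fixedPoints X
  have h2 : Nat.card X = Nat.card s := rfl
  have h3 : Nat.card (MulAction.fixedPoints R X) =
      Nat.card {a : α | a ∈ s ∧ ∀ r ∈ R, r • a = a} := by
    apply Nat.card_congr
    refine ⟨fun a => ⟨a.1.1, a.1.2, fun r hr => ?_⟩, fun a => ⟨⟨a.1, a.2.1⟩, fun r => ?_⟩,
      fun a => rfl, fun a => rfl⟩
    · have := a.2 ⟨r, hr⟩
      exact congrArg Subtype.val this
    · apply Subtype.ext
      exact a.2.2 r r.2
  rw [h2, h3] at h1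
  exact h1

/-- a fixed point free involution on a set. -/
theorem even_card_of_involution {α : Type*} [Finite α] (s : Set α) (f : α → α)
    (hf : ∀ a, f (f a) = a) (hs : ∀ a ∈ s, f a ∈ s) (hne : ∀ a ∈ s, f a ≠ a) :
    Even (Nat.card s) := by
  classical
  have := Fintype.ofFinite s
  let g : Function.End s := fun a => ⟨f a.1, hs a.1 a.2⟩
  have h2 := Equiv.Perm.card_fixedPoints_modEq (f := g) (p := 2) (n := 1) (by
    funext q
    rw [pow_one, pow_two]
    apply Subtype.ext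
    exact hf q.1)
  have h3 : Fintype.card (Function.fixedPoints g) = 0 := by
    rw [Fintype.card_eq_zero_iff]
    exact ⟨fun a => hne a.1.1 a.1.2 (congrArg Subtype.val a.2)⟩
  rw [h3] at h2
  rw [Nat.card_eq_fintype_card]
  exact (Nat.even_iff).mpr h2

end Parity

section Main

variable {E : Type*} [Group E] [Finite E] (τ : E ≃* E) (hτ : ∀ x, τ (τ x) = x)
variable (H : Subgroup E) (hH : ∀ x ∈ H, τ x ∈ H) {M : Type*} [CommGroup M] (φ : H →* M)

theorem val_smul (u r : E) (hr : r * u = u * r) (q : E ⧸ H) (hq : u • q = q) :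
    val φ u (r • q) = val φ u q := by
  induction q using QuotientGroup.induction_on with
  | H x =>
    have h1 := (smul_eq_iff u x).mp hq
    have h2 : (r * x)⁻¹ * u * (r * x) = x⁻¹ * u * x := by
      calc (r * x)⁻¹ * u * (r * x) = x⁻¹ * r⁻¹ * (u * r) * x := by group
        _ = x⁻¹ * u * x := by rw [← hr]; group
    have h3 : (r * x)⁻¹ * u * (r * x) ∈ H := by rw [h2]; exact h1
    change val φ u ((r * x : E) : E ⧸ H) = _
    rw [val_coe φ u x h1, val_coe φ u (r * x) h3]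
    congr 1
    exact Subtype.ext h2

theorem val_act (u : E) (hτu : τ u = u) (x : E) (hx : x⁻¹ * u * x ∈ H) :
    val φ u (act τ H hH (x : E ⧸ H)) = φ ⟨τ (x⁻¹ * u * x), hH _ hx⟩ := by
  have h2 : (τ x)⁻¹ * u * τ x = τ (x⁻¹ * u * x) := by
    rw [map_mul, map_mul, map_inv, hτu]
  have h3 : (τ x)⁻¹ * u * τ x ∈ H := by rw [h2]; exact hH _ hx
  rw [act_coe, val_coe φ u (τ x) h3]
  congr 1
  exact Subtype.ext h2

theorem val_sq (u : E) (huu : u * u = 1) (x : E) (hx : x⁻¹ * u * x ∈ H) :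
    φ ⟨x⁻¹ * u * x, hx⟩ * φ ⟨x⁻¹ * u * x, hx⟩ = 1 := by
  rw [← map_mul, ← map_one φ]
  congr 1
  apply Subtype.ext
  change x⁻¹ * u * x * (x⁻¹ * u * x) = 1
  calc x⁻¹ * u * x * (x⁻¹ * u * x) = x⁻¹ * (u * u) * x := by group
    _ = 1 := by rw [huu]; group

include hτ in
theorem even_card (u : E) (hu : u ∈ H) (huu : u * u = 1) (hτu : τ u = u)
    (R : Subgroup E) (hR : IsPGroup 2 R) (hRτ : ∀ r ∈ R, τ r ∈ R)
    (hRu : ∀ r ∈ R, r * u = u * r)
    (h1 : ∀ x (hx : x⁻¹ * u * x ∈ H), x⁻¹ * τ x ∈ H → φ ⟨x⁻¹ * u * x, hx⟩ = φ ⟨u, hu⟩)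
    (hbad : ∀ x (hx : x⁻¹ * u * x ∈ H), (∀ r ∈ R, x⁻¹ * r * x ∈ H) →
      φ ⟨x⁻¹ * u * x, hx⟩ * φ ⟨τ (x⁻¹ * u * x), hH _ hx⟩ = 1)
    (P : M → Prop) (hP : ¬ P (φ ⟨u, hu⟩)) :
    Even (Nat.card {q : E ⧸ H | u • q = q ∧ P (val φ u q)}) := by
  have h2 := card_modEq R hR {q : E ⧸ H | u • q = q ∧ P (val φ u q)} (by
    rintro r hr q ⟨hq1, hq2⟩
    refine ⟨?_, ?_⟩
    · rw [smul_smul, ← hRu r hr, mul_smul, hq1]
    · rw [val_smul H φ u r (hRu r hr) q hq1]; exact hq2)
  have h3 : Even (Nat.card {q : E ⧸ H | q ∈ {q : E ⧸ H | u • q = q ∧ P (val φ u q)} ∧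
      ∀ r ∈ R, r • q = q}) := by
    have hkey : ∀ q : E ⧸ H, u • q = q → (∀ r ∈ R, r • q = q) →
        val φ u (act τ H hH q) = val φ u q := by
      intro q
      induction q using QuotientGroup.induction_on with
      | H x =>
        intro hq hq'
        have hx := (smul_eq_iff u x).mp hq
        rw [val_act τ H hH φ u hτu x hx, val_coe φ u x hx]
        have h4 := hbad x hx (fun r hr => (smul_eq_iff r x).mp (hq' r hr))
        have h5 := val_sq H φ u huu x hx
        exact mul_left_cancel (h4.trans h5.symm)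
    apply even_card_of_involution _ (act τ H hH) (act_act τ hτ H hH)
    · rintro q ⟨⟨hq1, hq2⟩, hq3⟩
      refine ⟨⟨?_, ?_⟩, ?_⟩
      · have := act_smul τ H hH u q
        rw [hq1, hτu] at this
        exact this.symm
      · rw [hkey q hq1 hq3]; exact hq2
      · intro r hr
        have := act_smul τ H hH (τ r) q
        rw [hq3 _ (hRτ r hr), hτ] at this
        exact this.symm
    · rintro q ⟨⟨hq1, hq2⟩, -⟩ hfix
      revert hq1 hq2 hfix
      induction q using QuotientGroup.induction_on with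
      | H x =>
        intro hq1 hq2 hfix
        have hx := (smul_eq_iff u x).mp hq1
        apply hP
        rw [← h1 x hx ?_, ← val_coe φ u x hx]
        · exact hq2
        · rw [← QuotientGroup.eq]; exact hfix.symm
  rw [Nat.even_iff] at h3 ⊢
  rw [← h3]; exact h2

include hτ in
/-- **Equivariant Thompson–Lyons transfer.** -/
theorem transfer_eq (hidx : Odd H.index) (u : E) (hu : u ∈ H) (huu : u * u = 1) (hτu : τ u = u)
    (R : Subgroup E) (hR : IsPGroup 2 R) (hRτ : ∀ r ∈ R, τ r ∈ R) (huR : u ∈ R)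
    (hRu : ∀ r ∈ R, r * u = u * r)
    (h1 : ∀ x (hx : x⁻¹ * u * x ∈ H), x⁻¹ * τ x ∈ H → φ ⟨x⁻¹ * u * x, hx⟩ = φ ⟨u, hu⟩)
    (hbad : ∀ x (hx : x⁻¹ * u * x ∈ H), (∀ r ∈ R, x⁻¹ * r * x ∈ H) →
      φ ⟨x⁻¹ * u * x, hx⟩ * φ ⟨τ (x⁻¹ * u * x), hH _ hx⟩ = 1) :
    φ.transfer u = φ ⟨u, hu⟩ := by
  classical
  have := Fintype.ofFinite (E ⧸ H)
  have hev := even_card τ hτ H hH φ u hu huu hτu R hR hRτ hRu h1 hbad
  have huu' : φ ⟨u, hu⟩ * φ ⟨u, hu⟩ = 1 := by
    rw [← map_mul, ← map_one φ]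
    congr 1
    exact Subtype.ext huu
  rw [transfer_involution φ u huu]
  set F : Finset (E ⧸ H) := Finset.univ.filter (fun q : E ⧸ H => u • q = q) with hF
  have hcard : ∀ (P : M → Prop) [DecidablePred (fun q : E ⧸ H => P (val φ u q))],
      (F.filter (fun q => P (val φ u q))).card =
      Nat.card {q : E ⧸ H | u • q = q ∧ P (val φ u q)} := by
    intro P _
    rw [hF, Finset.filter_filter]
    exact (Nat.subtype_card _ (fun q => by simp)).symm
  -- the total number of fixed cosets is odd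
  have hodd : Odd F.card := by
    have h2 := card_modEq R hR (Set.univ : Set (E ⧸ H)) (fun _ _ _ _ => trivial)
    have h3 := card_modEq R hR {q : E ⧸ H | u • q = q ∧ True} (by
      rintro r hr q ⟨hq1, -⟩
      refine ⟨?_, trivial⟩
      rw [smul_smul, ← hRu r hr, mul_smul, hq1])
    have h4 : {q : E ⧸ H | q ∈ {q : E ⧸ H | u • q = q ∧ True} ∧ ∀ r ∈ R, r • q = q} =
        {q : E ⧸ H | q ∈ (Set.univ : Set (E ⧸ H)) ∧ ∀ r ∈ R, r • q = q} := by
      ext q
      constructor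
      · rintro ⟨-, h⟩; exact ⟨trivial, h⟩
      · rintro ⟨-, h⟩; exact ⟨⟨h u huR, trivial⟩, h⟩
    rw [h4] at h3
    have h5 : F.card = Nat.card {q : E ⧸ H | u • q = q ∧ True} := by
      rw [← hcard (fun _ => True), Finset.filter_true]
    have h6 : Nat.card (Set.univ : Set (E ⧸ H)) = H.index := by
      rw [Nat.card_congr (Equiv.Set.univ _)]; rfl
    rw [h6] at h2
    rw [← h5] at h3
    rw [Nat.odd_iff] at hidx ⊢
    rw [← hidx]; exact h3.trans h2.symm
  have hev1 : Even (F.filter (fun q => val φ u q ≠ φ ⟨u, hu⟩)).card := by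
    rw [hcard (fun m => m ≠ φ ⟨u, hu⟩)]
    exact hev (fun m => m ≠ φ ⟨u, hu⟩) (fun h => h rfl)
  have hodd1 : Odd (F.filter (fun q => val φ u q = φ ⟨u, hu⟩)).card := by
    have h2 := Finset.card_filter_add_card_filter_not (s := F)
      (fun q => val φ u q = φ ⟨u, hu⟩)
    rw [← h2] at hodd
    by_contra hne
    rw [Nat.not_odd_iff_even] at hne
    exact (Nat.not_odd_iff_even.mpr (hne.add hev1)) hodd
  rw [← Finset.prod_filter_mul_prod_filter_not F (fun q => val φ u q = φ ⟨u, hu⟩)]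
  have hA : ∏ q ∈ F.filter (fun q => val φ u q = φ ⟨u, hu⟩), val φ u q = φ ⟨u, hu⟩ := by
    rw [Finset.prod_congr rfl (fun q hq => (Finset.mem_filter.mp hq).2), Finset.prod_const]
    obtain ⟨n, hn⟩ := hodd1
    rw [hn, pow_succ, pow_mul, pow_two, huu', one_pow, one_mul]
  have hB : ∏ q ∈ F.filter (fun q => ¬ val φ u q = φ ⟨u, hu⟩), val φ u q = 1 := by
    rw [Finset.prod_comp (fun m : M => m) (fun q => val φ u q)]
    apply Finset.prod_eq_one
    intro b hb
    obtain ⟨q, hq, rfl⟩ := Finset.mem_image.mp hb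
    obtain ⟨hq1, hq2⟩ := Finset.mem_filter.mp hq
    have hsq : val φ u q * val φ u q = 1 := by
      rw [hF] at hq1
      have hq3 := (Finset.mem_filter.mp hq1).2
      revert hq3
      induction q using QuotientGroup.induction_on with
      | H x =>
        intro hq3
        have hx := (smul_eq_iff u x).mp hq3
        rw [val_coe φ u x hx]
        exact val_sq H φ u huu x hx
    have h2 : (F.filter (fun q => ¬ val φ u q = φ ⟨u, hu⟩)).filter
        (fun q' => val φ u q' = val φ u q) = F.filter (fun q' => val φ u q' = val φ u q) := by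
      ext q'
      simp only [Finset.mem_filter]
      constructor
      · rintro ⟨⟨h3, -⟩, h4⟩; exact ⟨h3, h4⟩
      · rintro ⟨h3, h4⟩; exact ⟨⟨h3, by rw [h4]; exact hq2⟩, h4⟩
    rw [h2, hcard (fun m => m = val φ u q)]
    obtain ⟨n, hn⟩ := hev (fun m => m = val φ u q) (fun h => hq2 h.symm)
    rw [hn, ← two_mul, pow_mul, pow_two, hsq, one_pow]
  rw [hA, hB, mul_one]

include hτ hH in
/-- the number of `R`-fixed cosets is odd, so one of them is `τ`-fixed. -/
theorem exists_fixed (hidx : Odd H.index)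
    (R : Subgroup E) (hR : IsPGroup 2 R) (hRτ : ∀ r ∈ R, τ r ∈ R) :
    ∃ x : E, (∀ r ∈ R, x⁻¹ * r * x ∈ H) ∧ x⁻¹ * τ x ∈ H := by
  by_contra hne
  have h2 := card_modEq R hR (Set.univ : Set (E ⧸ H)) (fun _ _ _ _ => trivial)
  have h3 : Even (Nat.card {q : E ⧸ H | q ∈ (Set.univ : Set (E ⧸ H)) ∧ ∀ r ∈ R, r • q = q}) := by
    apply even_card_of_involution _ (act τ H hH) (act_act τ hτ H hH)
    · rintro q ⟨-, hq3⟩
      refine ⟨trivial, ?_⟩
      intro r hr
      have := act_smul τ H hH (τ r) q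
      rw [hq3 _ (hRτ r hr), hτ] at this
      exact this.symm
    · rintro q ⟨-, hq3⟩ hfix
      revert hq3 hfix
      induction q using QuotientGroup.induction_on with
      | H x =>
        intro hq3 hfix
        exact hne ⟨x, fun r hr => (smul_eq_iff r x).mp (hq3 r hr), by
          rw [← QuotientGroup.eq]; exact hfix.symm⟩
  have h6 : Nat.card (Set.univ : Set (E ⧸ H)) = H.index := by
    rw [Nat.card_congr (Equiv.Set.univ _)]; rfl
  rw [h6] at h2
  rw [Nat.odd_iff] at hidx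
  rw [Nat.even_iff] at h3
  have h7 : H.index % 2 = _ % 2 := h2
  omega

end Main

section InGroup

variable {G : Type*} [Group G] [Finite G] (E S N : Subgroup G) [E.Normal]

/-- `S ∩ E` has odd index in the normal subgroup `E` when `S` has odd index. -/
theorem odd_index_subgroupOf (hS : Odd S.index) : Odd (S.subgroupOf E).index := by
  have h2 : S.relIndex (S ⊔ E) = S.relIndex E := by
    have h3 := Subgroup.relIndex_mul_relIndex (S ⊓ E) S (S ⊔ E) inf_le_left le_sup_left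
    have h4 := Subgroup.relIndex_mul_relIndex (S ⊓ E) E (S ⊔ E) inf_le_right le_sup_right
    rw [Subgroup.inf_relIndex_left] at h3
    rw [Subgroup.relIndex_sup_right, Subgroup.inf_relIndex_right, ← h3, mul_comm] at h4
    have h7 : 0 < E.relIndex S := Nat.pos_of_ne_zero (fun h => by
      have := Subgroup.relIndex_dvd_card E S
      rw [h, zero_dvd_iff] at this
      exact absurd this (Nat.card_pos (α := S)).ne')
    exact (Nat.eq_of_mul_eq_mul_left h7 h4).symm
  have h8 : S.relIndex (S ⊔ E) ∣ S.index := Subgroup.relIndex_dvd_index_of_le le_sup_left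
  rw [h2] at h8
  exact Odd.of_dvd_nat hS h8

/-- `N` inside `S ∩ E`, seen in `S.subgroupOf E`. -/
def sub : Subgroup (S.subgroupOf E) := N.comap (E.subtype.comp (S.subgroupOf E).subtype)

theorem mem_sub (h : S.subgroupOf E) : h ∈ sub E S N ↔ ((h : E) : G) ∈ N := Iff.rfl

variable (hcomm : ∀ x ∈ S ⊓ E, ∀ y ∈ S ⊓ E, x * y * x⁻¹ * y⁻¹ ∈ N)

include hcomm in
theorem sub_normal : (sub E S N).Normal := by
  constructor
  intro n hn g
  rw [mem_sub] at hn ⊢
  have h1 := hcomm ((g : E) : G) ⟨g.2, g.1.2⟩ ((n : E) : G) ⟨n.2, n.1.2⟩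
  have h2 := mul_mem h1 hn
  have h3 : ((g : E) : G) * ((n : E) : G) * ((g : E) : G)⁻¹ * ((n : E) : G)⁻¹ * ((n : E) : G) =
      (((g * n * g⁻¹ : S.subgroupOf E) : E) : G) := by
    push_cast; group
  rwa [h3] at h2

/-- **Equivariant Thompson–Lyons transfer, inside a group.** -/
theorem exists_bad (hS : Odd (S.subgroupOf E).index) (t : G) (htS : t ∈ S) (htt : t * t = 1)
    (u : G) (huS : u ∈ S) (huE : u ∈ E) (huu : u * u = 1) (htu : t * u = u * t)
    (R : Subgroup G) (hRE : R ≤ E) (hR : IsPGroup 2 R) (hRt : ∀ r ∈ R, t * r * t⁻¹ ∈ R)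
    (huR : u ∈ R) (hRu : ∀ r ∈ R, r * u = u * r)
    (hcomm : ∀ x ∈ S ⊓ E, ∀ y ∈ S ⊓ E, x * y * x⁻¹ * y⁻¹ ∈ N)
    (h1 : ∀ x ∈ E, x⁻¹ * u * x ∈ S → x⁻¹ * t * x ∈ S → u⁻¹ * (x⁻¹ * u * x) ∈ N)
    (huN : u ∉ N) (hperf : (⟨u, huE⟩ : E) ∈ commutator E) :
    ∃ x ∈ E, (∀ r ∈ R, x⁻¹ * r * x ∈ S) ∧
      (x⁻¹ * u * x) * (t * (x⁻¹ * u * x) * t⁻¹) ∉ N := by
  by_contra hne
  push Not at hne
  have hnorm := sub_normal E S N hcomm
  let N' := sub E S N
  let instM : CommGroup ((S.subgroupOf E) ⧸ sub E S N) :=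
    { (inferInstance : Group ((S.subgroupOf E) ⧸ sub E S N)) with
      mul_comm := by
        intro a b
        induction a using QuotientGroup.induction_on with
        | H a =>
        induction b using QuotientGroup.induction_on with
        | H b =>
        rw [← QuotientGroup.mk_mul, ← QuotientGroup.mk_mul, QuotientGroup.eq, mem_sub]
        have h2 := hcomm ((b : E) : G)⁻¹ (inv_mem ⟨b.2, b.1.2⟩) ((a : E) : G)⁻¹
          (inv_mem ⟨a.2, a.1.2⟩)
        have h3 : ((b : E) : G)⁻¹ * ((a : E) : G)⁻¹ * ((b : E) : G)⁻¹⁻¹ * ((a : E) : G)⁻¹⁻¹ =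
          ((((a * b)⁻¹ * (b * a) : S.subgroupOf E) : E) : G) := by
          push_cast; group
        rwa [h3] at h2 }
  let φ : S.subgroupOf E →* (S.subgroupOf E) ⧸ sub E S N := QuotientGroup.mk' _
  have hφ : ∀ a b : S.subgroupOf E, φ a = φ b ↔ ((a : E) : G)⁻¹ * ((b : E) : G) ∈ N := by
    intro a b
    change ((a : (S.subgroupOf E) ⧸ sub E S N)) = b ↔ _
    rw [QuotientGroup.eq, mem_sub]
    rfl
  let τ : E ≃* E := MulAut.conjNormal t
  have hτv : ∀ x : E, ((τ x : E) : G) = t * x * t⁻¹ := fun x => MulAut.conjNormal_apply t x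
  have htinv : t⁻¹ = t := inv_eq_of_mul_eq_one_left htt
  have hττ : ∀ x, τ (τ x) = x := by
    intro x
    apply Subtype.ext
    rw [hτv, hτv]
    calc t * (t * x * t⁻¹) * t⁻¹ = (t * t) * x * (t * t)⁻¹ := by group
      _ = x := by rw [htt]; group
  have hH : ∀ x ∈ S.subgroupOf E, τ x ∈ S.subgroupOf E := by
    intro x hx
    rw [Subgroup.mem_subgroupOf] at hx ⊢
    rw [hτv]
    exact mul_mem (mul_mem htS hx) (inv_mem htS)
  have hu' : (⟨u, huE⟩ : E) ∈ S.subgroupOf E := huS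
  have key := transfer_eq τ hττ (S.subgroupOf E) hH φ hS (⟨u, huE⟩ : E) hu'
    (Subtype.ext huu) (Subtype.ext (by rw [hτv]; change t * u * t⁻¹ = u; rw [htu]; group))
    (R.subgroupOf E) (hR.comap_of_injective E.subtype E.subtype_injective)
    (fun r hr => by
      rw [Subgroup.mem_subgroupOf] at hr ⊢
      rw [hτv]; exact hRt _ hr)
    huR (fun r hr => Subtype.ext (hRu _ hr))
    (fun x hx hx' => by
      symm
      rw [hφ]
      refine h1 x.1 x.2 hx ?_
      rw [Subgroup.mem_subgroupOf] at hx'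
      have h3 : (x : G)⁻¹ * t * x = ((x⁻¹ * τ x : E) : G) * t := by
        push_cast
        rw [hτv]; group
      rw [h3]; exact mul_mem hx' htS)
    (fun x hx hx' => by
      rw [← map_mul, ← map_one φ]
      symm
      rw [hφ]
      have h3 := hne x.1 x.2 (fun r hr => by
        have := hx' ⟨r, hRE hr⟩ hr
        exact this)
      have h4 : (((1 : S.subgroupOf E) : E) : G)⁻¹ * (((⟨x⁻¹ * ⟨u, huE⟩ * x, hx⟩ *
        ⟨τ (x⁻¹ * ⟨u, huE⟩ * x), hH _ hx⟩ : S.subgroupOf E) : E) : G) =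
          ((x : G)⁻¹ * u * x) * (t * ((x : G)⁻¹ * u * x) * t⁻¹) := by
        change (1 : G)⁻¹ * (((x : G)⁻¹ * u * x) * ((τ (x⁻¹ * ⟨u, huE⟩ * x) : E) : G)) = _
        rw [hτv]
        push_cast
        group
      rw [h4]; exact h3)
  have h5 : (φ.transfer ⟨u, huE⟩) = 1 := by
    have h6 : commutator E ≤ φ.transfer.ker := Abelianization.commutator_subset_ker _
    exact h6 hperf
  rw [h5, ← map_one φ, hφ] at key
  apply huN
  have h7 : (((1 : S.subgroupOf E) : E) : G)⁻¹ *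
      (((⟨⟨u, huE⟩, hu'⟩ : S.subgroupOf E) : E) : G) = u := by
    change (1 : G)⁻¹ * u = u
    group
  rwa [h7] at key

/-- the number of `R`-fixed cosets is odd, so one of them is `t`-fixed. -/
theorem exists_fixed_conj (hS : Odd (S.subgroupOf E).index) (t : G) (htS : t ∈ S)
    (htt : t * t = 1)
    (R : Subgroup G) (hRE : R ≤ E) (hR : IsPGroup 2 R) (hRt : ∀ r ∈ R, t * r * t⁻¹ ∈ R) :
    ∃ x ∈ E, (∀ r ∈ R, x⁻¹ * r * x ∈ S) ∧ x⁻¹ * t * x ∈ S := by
  let τ : E ≃* E := MulAut.conjNormal t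
  have hτv : ∀ x : E, ((τ x : E) : G) = t * x * t⁻¹ := fun x => MulAut.conjNormal_apply t x
  have hττ : ∀ x, τ (τ x) = x := by
    intro x
    apply Subtype.ext
    rw [hτv, hτv]
    calc t * (t * x * t⁻¹) * t⁻¹ = (t * t) * x * (t * t)⁻¹ := by group
      _ = x := by rw [htt]; group
  have hH : ∀ x ∈ S.subgroupOf E, τ x ∈ S.subgroupOf E := by
    intro x hx
    rw [Subgroup.mem_subgroupOf] at hx ⊢
    rw [hτv]
    exact mul_mem (mul_mem htS hx) (inv_mem htS)
  obtain ⟨x, hx1, hx2⟩ := exists_fixed τ hττ (S.subgroupOf E) hH hS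
    (R.subgroupOf E) (hR.comap_of_injective E.subtype E.subtype_injective)
    (fun r hr => by
      rw [Subgroup.mem_subgroupOf] at hr ⊢
      rw [hτv]; exact hRt _ hr)
  refine ⟨x, x.2, fun r hr => hx1 ⟨r, hRE hr⟩ hr, ?_⟩
  rw [Subgroup.mem_subgroupOf] at hx2
  have h3 : (x : G)⁻¹ * t * x = ((x⁻¹ * τ x : E) : G) * t := by
    push_cast
    rw [hτv]; group
  rw [h3]; exact mul_mem hx2 htS

end InGroup

end Cfsg.Agent.StdU3.TransferTE
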