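import Mathlib

/-!
# Twisted transfer

Let `τ` be an involutory automorphism of `E`, `H` a `τ`-invariant subgroup of odd index and
`φ : H →* M` a homomorphism to a commutative group inverted by `τ` (`φ h * φ (τ h) = 1`; this holds
for every `τ`-invariant `φ` if `M` has exponent two).  If every `τ`-fixed coset contains a
`τ`-fixed element, then the transfer of `φ`, restricted to the fixed points `C` of `τ`, is an odd
power of any homomorphism `χ : C →* M` which agrees with `φ` on `C ⊓ H`.
-/

set_option autoImplicit false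
set_option linter.unusedSectionVars false

namespace Cfsg.Agent.StdU3.TwistedTransfer

open Subgroup MulAction

section General

variable {E : Type*} [Group E]

/-- the transfer computed with an arbitrary section. -/
theorem transfer_section {H : Subgroup E} [H.FiniteIndex] {M : Type*} [CommGroup M] (φ : H →* M)
    (r : E ⧸ H → E) (hr : ∀ q, (r q : E ⧸ H) = q) (g : E) [inst : Fintype (E ⧸ H)]
    (hmem : ∀ q, (r q)⁻¹ * (g * r (g⁻¹ • q)) ∈ H) :
    φ.transfer g = ∏ q : E ⧸ H, φ ⟨(r q)⁻¹ * (g * r (g⁻¹ • q)), hmem q⟩ := by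
  have hprod : ∀ (i1 i2 : Fintype (E ⧸ H)) (f : E ⧸ H → M),
      @Finset.prod _ _ _ (@Finset.univ _ i1) f = @Finset.prod _ _ _ (@Finset.univ _ i2) f := by
    intro i1 i2 f
    rw [Subsingleton.elim i1 i2]
  have hc : IsComplement (Set.range r) (H : Set E) := isComplement_range_left hr
  let T : H.LeftTransversal := ⟨Set.range r, hc⟩
  rw [MonoidHom.transfer_def φ T g]
  unfold leftTransversals.diff
  refine (hprod _ inst _).trans (Finset.prod_congr rfl (fun q _ => ?_))
  congr 1
  apply Subtype.ext
  have h1 : ∀ q, ((T.2.leftQuotientEquiv q : T.1) : E) = r q := fun q =>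
    IsComplement.leftQuotientEquiv_apply hr q
  change ((T.2.leftQuotientEquiv q : T.1) : E)⁻¹ * (((g • T).2.leftQuotientEquiv q : (g • T).1) : E) = _
  rw [smul_apply_eq_smul_apply_inv_smul, h1, h1, smul_eq_mul]

end General

section Twisted

variable {E : Type*} [Group E] [Finite E] (τ : E ≃* E) (hτ : ∀ x, τ (τ x) = x)
variable (H : Subgroup E) (hH : ∀ x ∈ H, τ x ∈ H)

/-- the action of `τ` on cosets. -/
def act : E ⧸ H → E ⧸ H :=
  Quotient.map' τ (fun a b h => by
    rw [QuotientGroup.leftRel_apply] at h ⊢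
    have := hH _ h
    rwa [map_mul, map_inv] at this)

theorem act_coe (x : E) : act τ H hH (x : E ⧸ H) = ((τ x : E) : E ⧸ H) := rfl

include hτ in
theorem act_act (q : E ⧸ H) : act τ H hH (act τ H hH q) = q := by
  induction q using QuotientGroup.induction_on with
  | H x => rw [act_coe, act_coe, hτ]

theorem act_smul (g : E) (q : E ⧸ H) : act τ H hH (g • q) = τ g • act τ H hH q := by
  induction q using QuotientGroup.induction_on with
  | H x =>
    rw [act_coe]
    change act τ H hH ((g * x : E) : E ⧸ H) = ((τ g * τ x : E) : E ⧸ H)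
    rw [act_coe, map_mul]

include hτ in
/-- an equivariant section. -/
theorem exists_section
    (hrep : ∀ x, x⁻¹ * τ x ∈ H → ∃ h ∈ H, τ (x * h) = x * h) :
    ∃ r : E ⧸ H → E, (∀ q, (r q : E ⧸ H) = q) ∧ (∀ q, act τ H hH q = q → τ (r q) = r q) ∧
      ∀ q, act τ H hH q ≠ q → r (act τ H hH q) = τ (r q) := by
  classical
  have := Fintype.ofFinite (E ⧸ H)
  let e : E ⧸ H ≃ Fin (Fintype.card (E ⧸ H)) := Fintype.equivFin _
  have hfix : ∀ q : E ⧸ H, act τ H hH q = q → ∃ c : E, (c : E ⧸ H) = q ∧ τ c = c := by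
    intro q
    induction q using QuotientGroup.induction_on with
    | H x =>
      intro h
      rw [act_coe] at h
      have h1 : x⁻¹ * τ x ∈ H := by
        rw [← QuotientGroup.eq]; exact h.symm
      obtain ⟨k, hk, hk'⟩ := hrep x h1
      refine ⟨x * k, ?_, hk'⟩
      rw [QuotientGroup.eq]
      have : (x * k)⁻¹ * x = k⁻¹ := by group
      rw [this]; exact inv_mem hk
  choose c hc1 hc2 using hfix
  let r : E ⧸ H → E := fun q =>
    if h : act τ H hH q = q then c q h
    else if e q < e (act τ H hH q) then q.out else τ ((act τ H hH q).out)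
  refine ⟨r, ?_, ?_, ?_⟩
  · intro q
    by_cases h : act τ H hH q = q
    · simp only [r, dif_pos h]; exact hc1 q h
    · by_cases h2 : e q < e (act τ H hH q)
      · simp only [r, dif_neg h, if_pos h2]; exact QuotientGroup.out_eq' q
      · simp only [r, dif_neg h, if_neg h2]
        rw [← act_coe τ H hH, QuotientGroup.out_eq', act_act τ hτ]
  · intro q h
    simp only [r, dif_pos h]; exact hc2 q h
  · intro q h
    have h' : act τ H hH (act τ H hH q) ≠ act τ H hH q := by
      rw [act_act τ hτ]; exact fun h2 => h h2.symm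
    have hne : e q ≠ e (act τ H hH q) := fun h2 => h (e.injective h2).symm
    by_cases h2 : e q < e (act τ H hH q)
    · have h3 : ¬ e (act τ H hH q) < e (act τ H hH (act τ H hH q)) := by
        rw [act_act τ hτ]; exact not_lt.mpr h2.le
      simp only [r, dif_neg h, dif_neg h', if_pos h2, if_neg h3]
      rw [act_act τ hτ]
    · have h3 : e (act τ H hH q) < e (act τ H hH (act τ H hH q)) := by
        rw [act_act τ hτ]; exact lt_of_le_of_ne (not_lt.mp h2) hne.symm
      simp only [r, dif_neg h, dif_neg h', if_neg h2, if_pos h3]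
      rw [hτ]

include hτ in
/-- **Twisted transfer.** -/
theorem transfer_eq_pow (hidx : Odd H.index)
    (hrep : ∀ x, x⁻¹ * τ x ∈ H → ∃ h ∈ H, τ (x * h) = x * h)
    {M : Type*} [CommGroup M] (φ : H →* M)
    (hpair : ∀ x (hx : x ∈ H), φ ⟨x, hx⟩ * φ ⟨τ x, hH x hx⟩ = 1)
    (C : Subgroup E) (hC : ∀ x, x ∈ C ↔ τ x = x) (χ : C →* M)
    (hχ : ∀ x (hx : x ∈ C) (hxH : x ∈ H), χ ⟨x, hx⟩ = φ ⟨x, hxH⟩) :
    ∃ n, Odd n ∧ ∀ g (hg : g ∈ C), φ.transfer g = χ ⟨g, hg⟩ ^ n := by
  classical
  have := Fintype.ofFinite (E ⧸ H)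
  obtain ⟨r, hr, hr1, hr2⟩ := exists_section τ hτ H hH hrep
  let Fx : Finset (E ⧸ H) := Finset.univ.filter (fun q => act τ H hH q = q)
  refine ⟨Fx.card, ?_, ?_⟩
  · -- parity of the number of fixed cosets
    have h1 : Fx.card ≡ Fintype.card (E ⧸ H) [MOD 2] := by
      let f : Function.End (E ⧸ H) := act τ H hH
      have h2 := Equiv.Perm.card_fixedPoints_modEq (f := f) (p := 2)
        (n := 1) (by
          funext q
          rw [pow_one, pow_two]
          exact act_act τ hτ H hH q)
      have h3 : Fintype.card (Function.fixedPoints f) = Fx.card := by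
        rw [Fintype.card_ofFinset]
        rfl
      rw [h3] at h2
      exact h2.symm
    have h4 : Fintype.card (E ⧸ H) = H.index := by
      rw [Subgroup.index, Nat.card_eq_fintype_card]
    rw [h4] at h1
    rw [Nat.odd_iff] at hidx ⊢
    rw [← hidx]; exact h1
  · intro g hg
    have hmem : ∀ q, (r q)⁻¹ * (g * r (g⁻¹ • q)) ∈ H := by
      intro q
      rw [← QuotientGroup.eq, hr]
      change _ = g • ((r (g⁻¹ • q) : E) : E ⧸ H)
      rw [hr, smul_inv_smul]
    rw [transfer_section φ r hr g hmem]
    have hgC : τ g = g := (hC g).mp hg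
    have hfixg : ∀ q, act τ H hH (g⁻¹ • q) = g⁻¹ • q ↔ act τ H hH q = q := by
      intro q
      rw [act_smul, map_inv, hgC]
      constructor
      · intro h; exact smul_left_cancel _ h
      · intro h; rw [h]
    let Fq : E ⧸ H → M := fun q => φ ⟨(r q)⁻¹ * (g * r (g⁻¹ • q)), hmem q⟩
    change ∏ q : E ⧸ H, Fq q = _
    rw [← Finset.prod_filter_mul_prod_filter_not Finset.univ (fun q => act τ H hH q = q)]
    have hnon : ∏ q ∈ Finset.univ.filter (fun q => ¬ act τ H hH q = q), Fq q = 1 := by
      apply Finset.prod_involution (fun q _ => act τ H hH q)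
      · intro q hq
        simp only [Finset.mem_filter, Finset.mem_univ, true_and] at hq
        have h1 : (r (act τ H hH q))⁻¹ * (g * r (g⁻¹ • act τ H hH q)) =
            τ ((r q)⁻¹ * (g * r (g⁻¹ • q))) := by
          have h2 : g⁻¹ • act τ H hH q = act τ H hH (g⁻¹ • q) := by
            rw [act_smul, map_inv, hgC]
          rw [h2, hr2 q hq, hr2 (g⁻¹ • q) (fun h => hq ((hfixg q).mp h)), map_mul, map_mul,
            map_inv, hgC]
        have h3 : Fq (act τ H hH q) = φ ⟨τ ((r q)⁻¹ * (g * r (g⁻¹ • q))), hH _ (hmem q)⟩ := by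
          simp only [Fq]
          congr 1
          exact Subtype.ext h1
        rw [h3]
        exact hpair _ (hmem q)
      · intro q hq _
        simp only [Finset.mem_filter, Finset.mem_univ, true_and] at hq
        exact hq
      · intro q hq
        simp only [Finset.mem_filter, Finset.mem_univ, true_and] at hq ⊢
        rw [act_act τ hτ]
        exact fun h => hq h.symm
      · intro q hq
        exact act_act τ hτ H hH q
    rw [hnon, mul_one]
    have hrC : ∀ q, act τ H hH q = q → r q ∈ C := fun q hq => (hC _).mpr (hr1 q hq)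
    let c : E ⧸ H → M := fun q => if h : act τ H hH q = q then χ ⟨r q, hrC q h⟩ else 1
    have hval : ∀ q ∈ Fx, Fq q = (c q)⁻¹ * (χ ⟨g, hg⟩ * c (g⁻¹ • q)) := by
      intro q hq
      simp only [Fx, Finset.mem_filter, Finset.mem_univ, true_and] at hq
      have hq' := (hfixg q).mpr hq
      have h1 : (r q)⁻¹ * (g * r (g⁻¹ • q)) ∈ C :=
        mul_mem (inv_mem (hrC q hq)) (mul_mem hg (hrC _ hq'))
      have h2 := hχ _ h1 (hmem q)
      simp only [Fq, c, dif_pos hq, dif_pos hq']
      rw [← h2, ← map_inv, ← map_mul, ← map_mul]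
      rfl
    change ∏ q ∈ Fx, Fq q = _
    rw [Finset.prod_congr rfl hval, Finset.prod_mul_distrib, Finset.prod_mul_distrib,
      Finset.prod_const, Finset.prod_inv_distrib]
    have hperm : ∏ q ∈ Fx, c (g⁻¹ • q) = ∏ q ∈ Fx, c q := by
      refine Finset.prod_bij (fun q _ => g⁻¹ • q) ?_ ?_ ?_ ?_
      · intro q hq
        simp only [Fx, Finset.mem_filter, Finset.mem_univ, true_and] at hq ⊢
        exact (hfixg q).mpr hq
      · intro a _ b _ h
        exact smul_left_cancel _ h
      · intro b hb
        simp only [Fx, Finset.mem_filter, Finset.mem_univ, true_and] at hb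
        refine ⟨g • b, ?_, by rw [inv_smul_smul]⟩
        simp only [Fx, Finset.mem_filter, Finset.mem_univ, true_and]
        rw [act_smul, hgC, hb]
      · intro a _; rfl
    rw [hperm]
    rw [mul_comm, mul_assoc, mul_inv_cancel, mul_one]

end Twisted

end Cfsg.Agent.StdU3.TwistedTransfer
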