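import Cfsg.Agent.StdU3.OutInv
import Cfsg.Agent.StdU3.TermDef
import Cfsg.Agent.StdU3.TwistedTransfer
import Cfsg.Agent.StdU3.TransferTE
import Cfsg.Agent.Lib.GoldschmidtFusion
import Cfsg.Agent.S0111

/-!
# The end in the case where no outer involution of `C_G(t)` is conjugate to `t`

`S = U Sg` is a Sylow 2-subgroup of `G`, the conjugates of `t` in `S` are the `u t u⁻¹`, `u ∈ U`,
and `S ∩ E = U` for every perfect normal subgroup `E` containing `U`.
-/

set_option autoImplicit false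
set_option linter.unusedSectionVars false
set_option linter.dupNamespace false

namespace Cfsg.Agent.StdU3.EndN

open Subgroup Cfsg.Agent.StdU3.Field Cfsg.Agent.StdU3.PreDef Cfsg.Agent.StdU3.FldDef
open Cfsg.Agent.StdU3.LevelOne Cfsg.Agent.StdU3.FieldAut Cfsg.Agent.StdU3.Rank
open Cfsg.Agent.StdU3.OutInv Cfsg.Agent.StdU3.TermDef Cfsg.Agent.StdU3.LemC
open Cfsg.Agent.StdU3.NormQ hiding barE

variable {G : Type*} [Group G] [Finite G] {K : Type*} [Field K] [Fintype K] [CharP K 2] {n : ℕ}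
variable {D : Pre G K n} (F : Fld D) (T : Term D)

/-- `S = U Sg` -/
def S2 (hU : ∀ s ∈ F.Sg, ∀ g ∈ T.U, s * g * s⁻¹ ∈ T.U) : Subgroup G where
  carrier := {g | ∃ u ∈ T.U, ∃ s ∈ F.Sg, g = u * s}
  one_mem' := ⟨1, T.U.one_mem, 1, F.Sg.one_mem, by rw [one_mul]⟩
  mul_mem' := by
    rintro _ _ ⟨u, hu, s, hs, rfl⟩ ⟨u', hu', s', hs', rfl⟩
    exact ⟨u * (s * u' * s⁻¹), mul_mem hu (hU s hs u' hu'), s * s', mul_mem hs hs', by group⟩
  inv_mem' := by
    rintro _ ⟨u, hu, s, hs, rfl⟩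
    have h := hU s⁻¹ (inv_mem hs) u⁻¹ (inv_mem hu)
    exact ⟨s⁻¹ * u⁻¹ * s⁻¹⁻¹, h, s⁻¹, inv_mem hs, by group⟩

variable (hU : ∀ s ∈ F.Sg, ∀ g ∈ T.U, s * g * s⁻¹ ∈ T.U)

theorem mem_S2 {g : G} : g ∈ S2 F T hU ↔ ∃ u ∈ T.U, ∃ s ∈ F.Sg, g = u * s := Iff.rfl

theorem U_le_S2 : T.U ≤ S2 F T hU := fun u hu => ⟨u, hu, 1, F.Sg.one_mem, by rw [mul_one]⟩

theorem Sg_le_S2 : F.Sg ≤ S2 F T hU := fun s hs => ⟨1, T.U.one_mem, s, hs, by rw [one_mul]⟩

theorem t_mem_S2 : D.t ∈ S2 F T hU := Sg_le_S2 F T hU F.t_Sg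

theorem S2_two : IsPGroup 2 (S2 F T hU) := by
  have h : IsPGroup 2 (T.U ⊔ F.Sg : Subgroup G) := by
    apply IsPGroup.to_sup_of_normal_left' T.U_two F.Sg_two
    intro s hs
    rw [Subgroup.mem_normalizer_iff]
    intro g
    constructor
    · exact hU s hs g
    · intro hg
      have := hU s⁻¹ (inv_mem hs) _ hg
      have e : s⁻¹ * (s * g * s⁻¹) * s⁻¹⁻¹ = g := by group
      rwa [e] at this
  refine h.to_le ?_
  rintro _ ⟨u, hu, s, hs, rfl⟩
  exact (T.U ⊔ F.Sg).mul_mem (le_sup_left (a := T.U) hu) (le_sup_right (a := T.U) hs)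

theorem U_inf_Sg {g : G} (hg : g ∈ T.U) (hs : g ∈ F.Sg) : g ∈ D.P := T.comm_t g hg (F.Sg_t g hs)

theorem comm_S2 {g : G} (hg : g ∈ S2 F T hU) (hgt : g * D.t = D.t * g) : g ∈ F.Sg := by
  obtain ⟨u, hu, s, hs, rfl⟩ := hg
  have h1 : u * D.t = D.t * u := by
    have e : u = (u * s) * s⁻¹ := by group
    rw [e]
    exact comm_mul hgt (comm_inv (F.Sg_t s hs))
  exact mul_mem (F.P_Sg (T.comm_t u hu h1)) hs

theorem t_ne_one : D.t ≠ 1 := fun h => D.t_not (h ▸ D.P.one_mem)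

/-- an elementary abelian group `B` and a commuting involution `d ∉ B`. -/
theorem exists_double {B : Subgroup G} {d : G} (hB2 : ∀ b ∈ B, b * b = 1) (hgg : d * d = 1)
    (hBc : ∀ b ∈ B, b * d = d * b) (hnB : d ∉ B) :
    ∃ B' : Subgroup G, (∀ b ∈ B', b * b = 1) ∧ (∀ b ∈ B', b * d = d * b) ∧
      2 * Nat.card B ≤ Nat.card B' := by
  have hdi : d⁻¹ = d := by rw [inv_eq_iff_mul_eq_one, hgg]
  -- `b d ∈ B` implies that `b` commutes with `d`
  have hcc : ∀ b, b * d ∈ B → b * d = d * b := by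
    intro b hb
    have e3 := hBc _ hb
    have e4 : b = d * (b * d) := by rw [← e3, mul_assoc, hgg, mul_one]
    calc b * d = d * (b * d) * d := by rw [← e4]
      _ = d * (b * (d * d)) := by group
      _ = d * b := by rw [hgg, mul_one]
  have hmm : ∀ a b, b * d ∈ B → a * b = (a * d) * (b * d) := by
    intro a b hb
    rw [hcc b hb]
    calc a * b = a * (d * d) * b := by rw [hgg, mul_one]
      _ = a * d * (d * b) := by group
  let B' : Subgroup G :=
    { carrier := {g | g ∈ B ∨ g * d ∈ B}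
      one_mem' := Or.inl B.one_mem
      mul_mem' := by
        rintro a b (ha | ha) (hb' | hb')
        · exact Or.inl (B.mul_mem ha hb')
        · right
          rw [mul_assoc]; exact B.mul_mem ha hb'
        · right
          have e1 : a * b * d = (a * d) * b := by
            rw [mul_assoc, hBc b hb', ← mul_assoc]
          rw [e1]; exact B.mul_mem ha hb'
        · left
          rw [hmm a b hb']; exact B.mul_mem ha hb'
      inv_mem' := by
        rintro a (ha | ha)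
        · exact Or.inl (B.inv_mem ha)
        · right
          have e5 : a⁻¹ * d = (a * d)⁻¹ := by
            rw [hcc a ha, mul_inv_rev, hdi]
          rw [e5]; exact B.inv_mem ha }
  refine ⟨B', ?_, ?_, ?_⟩
  · rintro b (hb' | hb')
    · exact hB2 b hb'
    · rw [hmm b b hb', hB2 _ hb']
  · rintro b (hb' | hb')
    · exact hBc b hb'
    · exact hcc b hb'
  · have h5 : (B : Set G) ∪ (fun g => g * d) '' (B : Set G) ⊆ (B' : Set G) := by
      rintro g (hg | ⟨b, hb', rfl⟩)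
      · exact Or.inl hg
      · right
        show b * d * d ∈ B
        rw [mul_assoc, hgg, mul_one]; exact hb'
    have h6 : Disjoint (B : Set G) ((fun g => g * d) '' (B : Set G)) := by
      rw [Set.disjoint_left]
      rintro g hg ⟨b, hb', rfl⟩
      apply hnB
      have : d = b⁻¹ * (b * d) := by group
      rw [this]
      exact B.mul_mem (B.inv_mem hb') hg
    have h7 := Set.ncard_le_ncard h5 (Set.toFinite _)
    rw [Set.ncard_union_eq h6 (Set.toFinite _) (Set.toFinite _),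
      Set.ncard_image_of_injective _ (mul_left_injective d)] at h7
    have h8 : Nat.card B = (B : Set G).ncard := rfl
    have h9 : Nat.card B' = (B' : Set G).ncard := rfl
    omega

/-! ### The conjugates of `t` in `S` -/

/-- outer involutions are not conjugate to `t` -/
def NoOut : Prop := ∀ x ∈ F.Sg, x * x = 1 → ch F x = barE D.hq → ∀ y, y * D.t * y⁻¹ ≠ x

include F in
theorem U_not_conj {g : G} (hg : g ∈ T.U) (y : G) : y * D.t * y⁻¹ ≠ g := by
  intro h
  have hgg : g * g = 1 := by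
    rw [← h]
    have : y * D.t * y⁻¹ * (y * D.t * y⁻¹) = y * (D.t * D.t) * y⁻¹ := by group
    rw [this, D.t_sq]; group
  by_cases hz : ∃ b, g = D.z b
  · obtain ⟨b, rfl⟩ := hz
    exact z_not_conj F P_two b y h
  · push Not at hz
    obtain ⟨C, hCU, hC, hC3, B, hBC, hB2, hcen, hB⟩ := T.two g hg hgg hz
    refine false_of_big F (T.U_two.to_le hCU) hBC hB2 hcen hC3 hB (y := y) ?_
    intro c hc
    rw [h]; exact hC c hc

variable (hn : ∀ s ∈ F.Sg, Norm D s)

include hn in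
theorem exists_conj_of_mem (hno : NoOut F) {g y : G} (hg : g ∈ S2 F T hU)
    (h : y * D.t * y⁻¹ = g) : ∃ u ∈ T.U, u * D.t * u⁻¹ = g := by
  obtain ⟨u, hu, s, hs, rfl⟩ := hg
  have hst := F.Sg_t s hs
  have hgg : (u * s) * (u * s) = 1 := by
    rw [← h]
    have : y * D.t * y⁻¹ * (y * D.t * y⁻¹) = y * (D.t * D.t) * y⁻¹ := by group
    rw [this, D.t_sq]; group
  -- `s²` is in `P`
  have hss : s * s ∈ D.P := by
    apply U_inf_Sg F T _ (mul_mem hs hs)
    have e : s * s = (s * u * s⁻¹)⁻¹ * u⁻¹ := by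
      have e1 : u * (s * u * s⁻¹) * (s * s) = 1 := by rw [← hgg]; group
      have e2 : s * s = (u * (s * u * s⁻¹))⁻¹ := by
        rw [eq_inv_iff_mul_eq_one]
        have e3 := e1
        have e4 : s * s * (u * (s * u * s⁻¹)) = 1 := by
          have := mul_eq_one_iff_eq_inv.mp e1
          rw [this]; group
        exact e4
      rw [e2, mul_inv_rev]
    rw [e]
    exact mul_mem (inv_mem (hU s hs u hu)) (inv_mem hu)
  have hch2 : ch F s * ch F s = 1 := by rw [← ch_mul F hst hst, ch_P F hss]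
  by_cases hch : ch F s = 1
  · rcases ch_ker F hs hch with h1 | h1
    · exact absurd h (U_not_conj F T (mul_mem hu (T.P_le h1)) y)
    · have e : u * s = (u * (s * D.t)) * D.t := by
        rw [mul_assoc, mul_assoc, D.t_sq, mul_one]
      have hg' : u * (s * D.t) ∈ T.U := mul_mem hu (T.P_le h1)
      rw [e] at h hgg ⊢
      rcases T.three _ hg' hgg with h2 | h2
      · exact h2
      · exact absurd h (h2 y)
  · have hb := eq_bar D.hq hch2 hch
    exfalso
    obtain ⟨p, hp, hpx⟩ := exists_invol F hn hs hb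
    have hxs : p * s ∈ F.Sg := mul_mem (F.P_Sg hp) hs
    have hxt := F.Sg_t _ hxs
    have hxch : ch F (p * s) = barE D.hq := by
      rw [ch_mul F (P_t hp) hst, ch_P F hp, one_mul, hb]
    obtain ⟨c, hc, hNc, h1, h2⟩ := outer_ca F hxs hxch
    have e : u * s = (u * p⁻¹) * (p * s) := by group
    have hup : u * p⁻¹ ∈ T.U := mul_mem hu (inv_mem (T.P_le hp))
    rw [e] at h hgg
    rcases T.four (p * s) hxt hpx ⟨c, fun q hq => ⟨F.Sg_P _ hxs q hq, h1 q hq⟩⟩
      (fun g hg => hU _ hxs g hg) _ hup hgg with ⟨v, hv, h3⟩ | ⟨B, hBU, hB2, hBc, hBB, hnB, hB⟩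
    · refine hno (p * s) hxs hpx hxch (v⁻¹ * y) ?_
      have e1 : v⁻¹ * y * D.t * (v⁻¹ * y)⁻¹ = v⁻¹ * (y * D.t * y⁻¹) * v := by group
      rw [e1, h, ← h3]; group
    · obtain ⟨B', hB'2, hB'c, hcard2⟩ := exists_double hB2 hgg hBc hnB
      have hcard := card_elem F (y := y) hB'2 (by rw [h]; exact hB'c)
      have h4 := four_le D.hq
      have h10 : 2 * (2 ^ n * 2 ^ n) ≤ 4 * 2 ^ n := by
        rw [← sq]
        omega
      have h11 : 4 * (2 ^ n * 2) ≤ 4 * 2 ^ n := by nlinarith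
      omega

/-! ### `S` is a Sylow 2-subgroup of `G` -/

/-- 2-subgroups of `C(t)` containing `Sg` are equal to `Sg`. -/
theorem Sg_max {R : Subgroup G} (hR : IsPGroup 2 R) (hRt : ∀ r ∈ R, r * D.t = D.t * r)
    (h : F.Sg ≤ R) : R = F.Sg := by
  obtain ⟨g, _, hg⟩ := F.Sg_conj R hR hRt
  have h1 : R.map (MulAut.conj g⁻¹).toMonoidHom ≤ F.Sg := by
    rintro _ ⟨r, hr, rfl⟩
    have := hg r hr
    simpa using this
  have h2 := Subgroup.card_le_of_le h1
  rw [Subgroup.card_map_of_injective (MulAut.conj g⁻¹).injective] at h2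
  exact (Subgroup.eq_of_le_of_card_ge h h2).symm

include hn in
theorem exists_sylow (hno : NoOut F) : ∃ S : Sylow 2 G, (S : Subgroup G) = S2 F T hU := by
  obtain ⟨S, hS⟩ := (S2_two F T hU).exists_le_sylow
  refine ⟨S, ?_⟩
  by_contra hne
  have hlt : S2 F T hU < S := lt_of_le_of_ne hS (fun h => hne h.symm)
  have : Fact (Nat.Prime 2) := ⟨Nat.prime_two⟩
  have h1 := Lib.GoldschmidtFusion.lt_inf_normalizer S.isPGroup' hlt
  obtain ⟨g, hg, hgn⟩ := SetLike.exists_of_lt h1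
  have hgS : g ∈ (S : Subgroup G) := hg.1
  have hgt : g * D.t * g⁻¹ ∈ S2 F T hU := by
    have := (Subgroup.mem_normalizer_iff.mp hg.2 D.t).mp (t_mem_S2 F T hU)
    exact this
  obtain ⟨u, hu, h2⟩ := exists_conj_of_mem F T hU hn hno hgt rfl
  have huS : u ∈ (S : Subgroup G) := hS (U_le_S2 F T hU hu)
  have hc : (u⁻¹ * g) * D.t = D.t * (u⁻¹ * g) := by
    have e : u⁻¹ * g * D.t = u⁻¹ * (g * D.t * g⁻¹) * g := by group
    rw [e, ← h2]; group
  have hR : (S : Subgroup G) ⊓ centralizer ({D.t} : Set G) = F.Sg := by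
    apply Sg_max F (S.isPGroup'.to_le inf_le_left)
    · rintro r ⟨_, hr⟩
      exact mem_centralizer_singleton_iff.mp hr
    · intro s hs
      exact ⟨hS (Sg_le_S2 F T hU hs), mem_cent (F.Sg_t s hs)⟩
  have hcS : u⁻¹ * g ∈ F.Sg := by
    rw [← hR]
    exact ⟨Subgroup.mul_mem _ (Subgroup.inv_mem _ huS) hgS, mem_cent hc⟩
  apply hgn
  exact ⟨u, hu, u⁻¹ * g, hcS, by group⟩

/-! ### `t` is not in a perfect normal subgroup -/

include hn in
theorem exists_f : ∃ f ∈ F.Sg, (∀ s ∈ F.Sg, ∃ k : ℤ, s * f ^ k ∈ D.P ∨ s * f ^ k * D.t ∈ D.P) ∧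
    ∀ k : ℤ, f ^ k * D.t ∉ D.P := by
  have := isCyclic (F := K)
  let c : F.Sg →* (K ≃+* K) :=
    { toFun := fun b => ch F b
      map_one' := ch_one F
      map_mul' := fun a b => ch_mul F (F.Sg_t a a.2) (F.Sg_t b b.2) }
  obtain ⟨⟨g0, f0, hf0⟩, hgen⟩ := (inferInstance : IsCyclic c.range).exists_generator
  have hc : ∀ x : F.Sg, c x = ch F x := fun _ => rfl
  have key : ∀ s ∈ F.Sg, ∃ k : ℤ, s * (f0 : G) ^ k ∈ D.P ∨ s * (f0 : G) ^ k * D.t ∈ D.P := by
    intro s hs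
    obtain ⟨k, hk⟩ := Subgroup.mem_zpowers_iff.mp (hgen ⟨c ⟨s, hs⟩, ⟨s, hs⟩, rfl⟩)
    have hk' : g0 ^ k = c ⟨s, hs⟩ := congrArg Subtype.val hk
    rw [← hf0, ← map_zpow] at hk'
    refine ⟨-k, ?_⟩
    have h1 : c (⟨s, hs⟩ * f0 ^ (-k)) = 1 := by
      rw [map_mul, ← hk', zpow_neg, map_inv, mul_inv_cancel]
    exact ch_ker F (⟨s, hs⟩ * f0 ^ (-k) : F.Sg).2 h1
  by_cases hone : ch F f0 = 1
  · refine ⟨1, F.Sg.one_mem, fun s hs => ⟨0, ?_⟩, fun k => ?_⟩
    · rw [zpow_zero, mul_one]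
      obtain ⟨k, hk⟩ := key s hs
      have h1 : ch F s = 1 := by
        have h2 : ch F (s * (f0 : G) ^ k) = 1 := by
          rcases hk with h | h
          · exact ch_P F h
          · have e : s * (f0 : G) ^ k = s * (f0 : G) ^ k * D.t * D.t := by
              rw [mul_assoc (s * (f0 : G) ^ k), D.t_sq, mul_one]
            rw [e, ch_mul F (P_t h) rfl, ch_P F h, ch_t, one_mul]
        have h3 : c (⟨s, hs⟩ * f0 ^ k) = 1 := h2
        have h4 : c f0 = 1 := hone
        rw [map_mul, map_zpow, h4, one_zpow, mul_one] at h3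
        exact h3
      exact ch_ker F hs h1
    · rw [one_zpow, one_mul]; exact D.t_not
  · refine ⟨f0, f0.2, key, fun k hk => ?_⟩
    have h1 : c (f0 ^ k) = 1 := by
      show ch F ((f0 : G) ^ k) = 1
      have e : (f0 : G) ^ k = (f0 : G) ^ k * D.t * D.t := by
        rw [mul_assoc, D.t_sq, mul_one]
      rw [e, ch_mul F (P_t hk) rfl, ch_P F hk, ch_t, one_mul]
    rw [map_zpow] at h1
    have h2 := orderOf_dvd_iff_zpow_eq_one.mpr h1
    have h3 : 2 ∣ orderOf (c f0) := by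
      obtain ⟨m, hm⟩ := F.Sg_two f0
      have h4 : c f0 ^ 2 ^ m = 1 := by rw [← map_pow, hm, map_one]
      obtain ⟨j, hj, hj'⟩ := (Nat.dvd_prime_pow Nat.prime_two).mp (orderOf_dvd_of_pow_eq_one h4)
      rw [hj']
      apply dvd_pow_self
      rintro rfl
      rw [pow_zero, orderOf_eq_one_iff] at hj'
      exact hone hj'
    have h4 : (2 : ℤ) ∣ k := (Int.natCast_dvd_natCast.mpr h3).trans h2
    obtain ⟨j, rfl⟩ := h4
    apply sq_t_not_P F hn (x := (f0 : G) ^ j) (zpow_mem f0.2 j)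
    have e : (f0 : G) ^ j * (f0 : G) ^ j = (f0 : G) ^ (2 * j) := by
      rw [← zpow_add]; congr 1; ring
    rw [e]; exact hk

/-- the subgroup of index two of `S` avoiding the conjugates of `t` -/
def M0 (hU : ∀ s ∈ F.Sg, ∀ g ∈ T.U, s * g * s⁻¹ ∈ T.U) (f : G) (hf : f ∈ F.Sg) : Subgroup G where
  carrier := {g | ∃ u ∈ T.U, ∃ k : ℤ, g = u * f ^ k}
  one_mem' := ⟨1, T.U.one_mem, 0, by rw [one_mul, zpow_zero]⟩
  mul_mem' := by
    rintro _ _ ⟨u, hu, k, rfl⟩ ⟨u', hu', k', rfl⟩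
    exact ⟨u * (f ^ k * u' * (f ^ k)⁻¹), T.U.mul_mem hu (hU _ (F.Sg.zpow_mem hf k) u' hu'),
      k + k', by rw [zpow_add]; group⟩
  inv_mem' := by
    rintro _ ⟨u, hu, k, rfl⟩
    have h := hU (f ^ (-k)) (F.Sg.zpow_mem hf _) u⁻¹ (T.U.inv_mem hu)
    exact ⟨f ^ (-k) * u⁻¹ * (f ^ (-k))⁻¹, h, -k, by group⟩

theorem commutator_le_of_perfect {E M : Subgroup G} [M.Normal] (hE : commutator E = ⊤)
    (hM : M.index = 2) : E ≤ M := by
  have h1 : IsMulCommutative (G ⧸ M) := by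
    have h2 : Nat.card (G ⧸ M) = 2 := hM
    have : Fact (Nat.Prime 2) := ⟨Nat.prime_two⟩
    have h3 : IsCyclic (G ⧸ M) := isCyclic_of_prime_card h2
    exact ⟨⟨fun a b => (@IsCyclic.commGroup _ _ h3).mul_comm a b⟩⟩
  let φ : E →* (G ⧸ M) := (QuotientGroup.mk' M).comp E.subtype
  have h2 : commutator E ≤ φ.ker := by
    rw [commutator_def, Subgroup.commutator_le]
    intro a _ b _
    rw [MonoidHom.mem_ker, map_commutatorElement, commutatorElement_eq_one_iff_mul_comm]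
    exact h1.is_comm.comm _ _
  intro e he
  have h3 : (⟨e, he⟩ : E) ∈ φ.ker := h2 (by rw [hE]; exact Subgroup.mem_top _)
  have h4 : (QuotientGroup.mk' M) e = 1 := h3
  rwa [← MonoidHom.mem_ker, QuotientGroup.ker_mk'] at h4

include F hn hU in
theorem t_not_mem (hno : NoOut F) {E : Subgroup G} (hE : commutator E = ⊤) : D.t ∉ E := by
  obtain ⟨S, hS⟩ := exists_sylow F T hU hn hno
  obtain ⟨f, hf, hf1, hf2⟩ := exists_f F hn
  have htM : D.t ∉ M0 F T hU f hf := by
    rintro ⟨u, hu, k, h⟩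
    have h1 : u = D.t * f ^ (-k) := by rw [h]; group
    have h2 : u ∈ D.P := U_inf_Sg F T hu (by rw [h1]; exact F.Sg.mul_mem F.t_Sg (F.Sg.zpow_mem hf _))
    apply hf2 (-k)
    have h3 : f ^ (-k) * D.t = u := by
      rw [h1, F.Sg_t _ (zpow_mem hf _)]
    rw [h3]; exact h2
  have hMS : M0 F T hU f hf ≤ (S : Subgroup G) := by
    rintro _ ⟨u, hu, k, rfl⟩
    rw [hS]
    exact ⟨u, hu, _, zpow_mem hf k, rfl⟩
  have hidx : (M0 F T hU f hf).relIndex (S : Subgroup G) = 2 := by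
    rw [Subgroup.relIndex_eq_two_iff_exists_notMem_and]
    refine ⟨D.t, by rw [hS]; exact t_mem_S2 F T hU, htM, ?_⟩
    intro b hb
    rw [hS] at hb
    obtain ⟨u, hu, s, hs, rfl⟩ := hb
    obtain ⟨k, hk | hk⟩ := hf1 s hs
    · right
      have e : u * s = (u * (s * f ^ k)) * f ^ (-k) := by group
      rw [e]
      exact ⟨_, mul_mem hu (T.P_le hk), -k, rfl⟩
    · left
      have e : u * s * D.t = (u * (s * f ^ k * D.t)) * f ^ (-k) := by
        have e1 : f ^ k * D.t * f ^ (-k) = D.t := by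
          rw [F.Sg_t _ (zpow_mem hf k)]; group
        calc u * s * D.t = u * s * (f ^ k * D.t * f ^ (-k)) := by rw [e1]
          _ = _ := by group
      rw [e]
      exact ⟨_, mul_mem hu (T.P_le hk), -k, rfl⟩
  have hord : orderOf D.t = 2 := orderOf_eq_prime (by rw [sq, D.t_sq]) (t_ne_one)
  rcases Cfsg.Agent.S0111.result S (M0 F T hU f hf) hMS hidx D.t hord
    (by rw [hS]; exact t_mem_S2 F T hU) htM with ⟨M, hMn, hM2, htM'⟩ | ⟨g, hg⟩
  · intro ht
    exact htM' (commutator_le_of_perfect hE hM2 ht)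
  · exfalso
    have hg2 : g * D.t * g⁻¹ ∈ S2 F T hU := by rw [← hS]; exact hMS hg
    obtain ⟨u, hu, h1⟩ := exists_conj_of_mem F T hU hn hno hg2 rfl
    rw [← h1] at hg
    apply htM
    have h2 : u⁻¹ ∈ M0 F T hU f hf := ⟨u⁻¹, inv_mem hu, 0, by rw [zpow_zero, mul_one]⟩
    have h3 := mul_mem (mul_mem h2 hg) (inv_mem h2)
    have e : u⁻¹ * (u * D.t * u⁻¹) * u⁻¹⁻¹ = D.t := by group
    rwa [e] at h3

/-! ### Twisted transfer -/

open Classical in
/-- the Galois component on `S`. -/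
noncomputable def kap (g : G) : K ≃+* K :=
  if h : g ∈ S2 F T hU then ch F (Classical.choose (Classical.choose_spec h).2) else 1

theorem kap_eq {u s : G} (hu : u ∈ T.U) (hs : s ∈ F.Sg) : kap F T hU (u * s) = ch F s := by
  have h : u * s ∈ S2 F T hU := ⟨u, hu, s, hs, rfl⟩
  unfold kap
  rw [dif_pos h]
  set u' := Classical.choose h with hu'
  have h1 := Classical.choose_spec h
  set s' := Classical.choose h1.2 with hs'
  obtain ⟨h3, h4⟩ := Classical.choose_spec h1.2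
  change s' ∈ F.Sg at h3
  change u * s = u' * s' at h4
  have h5 : u'⁻¹ * u = s' * s⁻¹ := by
    rw [inv_mul_eq_iff_eq_mul, ← mul_assoc, ← h4]; group
  have h6 : s' * s⁻¹ ∈ D.P := by
    apply U_inf_Sg F T _ (mul_mem h3 (inv_mem hs))
    rw [← h5]
    exact mul_mem (inv_mem h1.1) hu
  have h7 : s' = (s' * s⁻¹) * s := by group
  rw [h7, ch_mul F (P_t h6) (F.Sg_t s hs), ch_P F h6, one_mul]

theorem kap_mul {g g' : G} (hg : g ∈ S2 F T hU) (hg' : g' ∈ S2 F T hU) :
    kap F T hU (g * g') = kap F T hU g * kap F T hU g' := by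
  obtain ⟨u, hu, s, hs, rfl⟩ := hg
  obtain ⟨u', hu', s', hs', rfl⟩ := hg'
  have e : u * s * (u' * s') = (u * (s * u' * s⁻¹)) * (s * s') := by group
  rw [e, kap_eq F T hU (mul_mem hu (hU s hs u' hu')) (mul_mem hs hs'), kap_eq F T hU hu hs,
    kap_eq F T hU hu' hs', ch_mul F (F.Sg_t s hs) (F.Sg_t s' hs')]

theorem kap_t {g : G} (hg : g ∈ S2 F T hU) : kap F T hU (D.t * g * D.t⁻¹) = kap F T hU g := by
  obtain ⟨u, hu, s, hs, rfl⟩ := hg
  have e : D.t * (u * s) * D.t⁻¹ = (D.t * u * D.t⁻¹) * s := by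
    have : D.t * (u * s) * D.t⁻¹ = (D.t * u * D.t⁻¹) * (D.t * s * D.t⁻¹) := by group
    rw [this, ← F.Sg_t s hs]; group
  rw [e, kap_eq F T hU (T.t_conj u hu) hs, kap_eq F T hU hu hs]

theorem kap_Sg {s : G} (hs : s ∈ F.Sg) : kap F T hU s = ch F s := by
  have h := kap_eq F T hU T.U.one_mem hs
  rwa [one_mul] at h

/-- the fixed points of `t` in `E` -/
def fix (D : Pre G K n) (E : Subgroup G) : Subgroup E where
  carrier := {x | (x : G) * D.t = D.t * x}
  one_mem' := by show (1 : G) * D.t = D.t * 1; rw [one_mul, mul_one]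
  mul_mem' := by
    intro a b ha hb
    exact comm_mul ha hb
  inv_mem' := by
    intro a ha
    exact comm_inv ha

include F hn hU in
/-- **`S ∩ E = U`** -/
theorem inf_eq (hno : NoOut F) {E : Subgroup G} [hEn : E.Normal] (hE : commutator E = ⊤)
    (hUE : T.U ≤ E) {g : G} (hg : g ∈ S2 F T hU) (hgE : g ∈ E) : g ∈ T.U := by
  classical
  obtain ⟨S, hS⟩ := exists_sylow F T hU hn hno
  have htE := t_not_mem F T hU hn hno hE
  let _ : CommGroup (K ≃+* K) :=
    { (inferInstance : Group (K ≃+* K)) with mul_comm := fun a b => FieldAut.comm a b }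
  -- the involutory automorphism
  let τ : E ≃* E := MulAut.conjNormal D.t
  have hτ' : ∀ x : E, ((τ x : E) : G) = D.t * x * D.t⁻¹ := fun x => rfl
  have hτ : ∀ x, τ (τ x) = x := by
    intro x
    apply Subtype.ext
    rw [hτ', hτ']
    have : D.t * (D.t * (x : G) * D.t⁻¹) * D.t⁻¹ = (D.t * D.t) * x * (D.t * D.t)⁻¹ := by group
    rw [this, D.t_sq]; group
  let H : Subgroup E := (S : Subgroup G).subgroupOf E
  have hHS : ∀ x : E, x ∈ H ↔ (x : G) ∈ S2 F T hU := by
    intro x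
    rw [← hS]; rfl
  have htS := t_mem_S2 F T hU
  have hH : ∀ x ∈ H, τ x ∈ H := by
    intro x hx
    rw [hHS] at hx ⊢
    rw [hτ']
    exact mul_mem (mul_mem htS hx) (inv_mem htS)
  have hidx : Odd H.index := by
    apply TransferTE.odd_index_subgroupOf
    rw [← Nat.not_even_iff_odd, even_iff_two_dvd]
    have : Fact (Nat.Prime 2) := ⟨Nat.prime_two⟩
    exact S.not_dvd_index
  have hrep : ∀ x, x⁻¹ * τ x ∈ H → ∃ h ∈ H, τ (x * h) = x * h := by
    intro x hx
    rw [hHS] at hx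
    have h1 : (x : G)⁻¹ * D.t * x ∈ S2 F T hU := by
      have h2 := mul_mem hx htS
      have e : ((x⁻¹ * τ x : E) : G) * D.t = (x : G)⁻¹ * D.t * x := by
        show (x : G)⁻¹ * (D.t * x * D.t⁻¹) * D.t = _
        group
      rwa [e] at h2
    obtain ⟨u, hu, h2⟩ := exists_conj_of_mem F T hU hn hno h1 (y := (x : G)⁻¹) (by group)
    refine ⟨⟨u, hUE hu⟩, ?_, ?_⟩
    · rw [hHS]; exact U_le_S2 F T hU hu
    · apply Subtype.ext
      rw [hτ']
      show D.t * ((x : G) * u) * D.t⁻¹ = x * u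
      have e : D.t * ((x : G) * u) * D.t⁻¹ = x * ((x : G)⁻¹ * D.t * x) * u * D.t⁻¹ := by group
      rw [e, ← h2]; group
  -- the target
  let C : Subgroup E := fix D E
  let chC : C →* (K ≃+* K) :=
    { toFun := fun x => ch F ((x : E) : G)
      map_one' := ch_one F
      map_mul' := fun a b => ch_mul F a.2 b.2 }
  let Γ2 : Subgroup (K ≃+* K) := chC.range.map (powMonoidHom 2)
  let φ : H →* (K ≃+* K) ⧸ Γ2 :=
    (QuotientGroup.mk' Γ2).comp
      { toFun := fun x => kap F T hU ((x : E) : G)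
        map_one' := by
          show kap F T hU 1 = 1
          rw [kap_Sg F T hU F.Sg.one_mem, ch_one]
        map_mul' := fun a b => kap_mul F T hU ((hHS _).mp a.2) ((hHS _).mp b.2) }
  let χ : C →* (K ≃+* K) ⧸ Γ2 := (QuotientGroup.mk' Γ2).comp chC
  have hφ : ∀ x (hx : x ∈ H), φ ⟨x, hx⟩ = QuotientGroup.mk' Γ2 (kap F T hU (x : G)) :=
    fun _ _ => rfl
  have hpair : ∀ x (hx : x ∈ H), φ ⟨x, hx⟩ * φ ⟨τ x, hH x hx⟩ = 1 := by
    intro x hx
    rw [hφ, hφ, ← map_mul]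
    have hx' := (hHS x).mp hx
    have e : kap F T hU ((τ x : E) : G) = kap F T hU (x : G) := by
      rw [hτ']; exact kap_t F T hU hx'
    rw [e, ← sq]
    obtain ⟨u, hu, s, hs, hus⟩ := hx'
    have hsE : s ∈ E := by
      have e : s = u⁻¹ * x := by rw [hus]; group
      rw [e]; exact mul_mem (inv_mem (hUE hu)) x.2
    rw [hus, kap_eq F T hU hu hs, ← MonoidHom.mem_ker, QuotientGroup.ker_mk']
    refine ⟨ch F s, ⟨⟨⟨s, hsE⟩, F.Sg_t s hs⟩, rfl⟩, rfl⟩
  have hC : ∀ x, x ∈ C ↔ τ x = x := by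
    intro x
    rw [Subtype.ext_iff, hτ']
    show (x : G) * D.t = D.t * x ↔ _
    rw [mul_inv_eq_iff_eq_mul]
    exact eq_comm
  have hχ : ∀ x (hx : x ∈ C) (hxH : x ∈ H), χ ⟨x, hx⟩ = φ ⟨x, hxH⟩ := by
    intro x hx hxH
    show QuotientGroup.mk' Γ2 (ch F (x : G)) = QuotientGroup.mk' Γ2 (kap F T hU (x : G))
    rw [kap_Sg F T hU (comm_S2 F T hU ((hHS x).mp hxH) hx)]
  obtain ⟨m, hm, hmC⟩ := TwistedTransfer.transfer_eq_pow τ hτ H hH hidx hrep φ hpair C hC χ hχ
  -- the transfer is trivial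
  have htr : ∀ x, φ.transfer x = 1 := by
    intro x
    have h1 : commutator E ≤ φ.transfer.ker := by
      rw [commutator_def, Subgroup.commutator_le]
      intro a _ b _
      rw [MonoidHom.mem_ker, map_commutatorElement, commutatorElement_eq_one_iff_mul_comm]
      exact mul_comm _ _
    rw [hE] at h1
    exact h1 (Subgroup.mem_top x)
  have hΓ : ∀ γ ∈ chC.range, γ ∈ Γ2 := by
    rintro _ ⟨x, rfl⟩
    have h1 : χ x ^ m = 1 := by
      have := hmC x x.2
      rw [htr] at this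
      exact this.symm
    have h2 : χ x ^ 2 = 1 := by
      rw [← map_pow, ← MonoidHom.mem_ker]
      show QuotientGroup.mk' Γ2 (chC (x ^ 2)) = 1
      rw [← MonoidHom.mem_ker, QuotientGroup.ker_mk', map_pow]
      exact ⟨chC x, ⟨x, rfl⟩, rfl⟩
    have h3 : χ x = 1 := by
      obtain ⟨j, rfl⟩ := hm
      rw [pow_succ, pow_mul, h2, one_pow, one_mul] at h1
      exact h1
    have h4 : QuotientGroup.mk' Γ2 (chC x) = 1 := h3
    rwa [← MonoidHom.mem_ker, QuotientGroup.ker_mk'] at h4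
  -- squaring is bijective on the range
  have := finite_aut (F := K)
  have hinj : ∀ γ ∈ chC.range, γ * γ = 1 → γ = 1 := by
    let sqf : chC.range → chC.range := fun γ => γ * γ
    have hsurj : Function.Surjective sqf := by
      rintro ⟨γ, hγ⟩
      obtain ⟨δ, hδ, h⟩ := hΓ γ hγ
      refine ⟨⟨δ, hδ⟩, Subtype.ext ?_⟩
      show δ * δ = γ
      rw [← h]
      exact (sq δ).symm
    have hinj := Finite.injective_iff_surjective.mpr hsurj
    intro γ hγ h
    have h1 : sqf ⟨γ, hγ⟩ = sqf 1 := Subtype.ext (by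
      show γ * γ = 1 * 1
      rw [h, one_mul])
    exact congrArg Subtype.val (hinj h1)
  have hpow : ∀ (k : ℕ) (γ : K ≃+* K), γ ∈ chC.range → γ ^ 2 ^ k = 1 → γ = 1 := by
    intro k
    induction k with
    | zero =>
      intro γ _ h
      rwa [pow_zero, pow_one] at h
    | succ k ih =>
      intro γ hγ h
      apply hinj γ hγ
      apply ih _ (mul_mem hγ hγ)
      rw [← sq, ← pow_mul, ← pow_succ']
      exact h
  obtain ⟨u, hu, s, hs, rfl⟩ := hg
  have hsE : s ∈ E := by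
    have e : s = u⁻¹ * (u * s) := by group
    rw [e]; exact mul_mem (inv_mem (hUE hu)) hgE
  have hs1 : ch F s = 1 := by
    obtain ⟨k, hk⟩ := F.Sg_two ⟨s, hs⟩
    have hk' : s ^ 2 ^ k = 1 := congrArg Subtype.val hk
    let x : C := ⟨⟨s, hsE⟩, F.Sg_t s hs⟩
    have hx : x ^ 2 ^ k = 1 := Subtype.ext (Subtype.ext hk')
    apply hpow k _ ⟨x, rfl⟩
    rw [← map_pow, hx, map_one]
  rcases ch_ker F hs hs1 with h | h
  · exact mul_mem hu (T.P_le h)
  · exfalso
    apply htE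
    have e : D.t = s⁻¹ * (s * D.t) := by group
    rw [e]
    exact mul_mem (inv_mem hsE) (hUE (T.P_le h))

end Cfsg.Agent.StdU3.EndN
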