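import Cfsg.Agent.StdU3.LevelTwo

/-!
# Orders of the groups of the first two levels (type `U₃(q)`)

`|F_q| = q`, `|Z| = q`, `|P| = q³`, `|W| = q²`, `|V| = q⁴`, `|Q| = 2 q⁴`, and, at the second level
(`gam = 0`), `|U| = q⁶`, where `q = 2 ^ n`.
-/

set_option autoImplicit false
set_option linter.unusedSectionVars false

namespace Cfsg.Agent.StdU3.Card

open Cfsg.Agent.StdU3.Field Cfsg.Agent.StdU3.PreDef Cfsg.Agent.StdU3.LevelOne
open Cfsg.Agent.StdU3.LevelOneW Cfsg.Agent.StdU3.NormQ Cfsg.Agent.StdU3.Kernel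
open Cfsg.Agent.StdU3.Next Cfsg.Agent.StdU3.LevelTwo

/-! ### Abstract counting -/

section abs

variable {G : Type*} [Group G] {M : Type*} [AddCommGroup M]

/-- `|H| = |ker| |im|` for a function which is additive on `H`. -/
theorem card_of_hom (H N : Subgroup G) (f : G → M) (B : AddSubgroup M)
    (hmul : ∀ x ∈ H, ∀ y ∈ H, f (x * y) = f x + f y)
    (hN : ∀ x, x ∈ N ↔ x ∈ H ∧ f x = 0) (hB : ∀ x ∈ H, f x ∈ B)
    (hs : ∀ m ∈ B, ∃ x ∈ H, f x = m) : Nat.card H = Nat.card N * Nat.card B := by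
  let φ : H →* Multiplicative B :=
    MonoidHom.mk' (fun x => Multiplicative.ofAdd ⟨f x.1, hB x.1 x.2⟩) (fun x y => by
      apply Multiplicative.toAdd.injective
      apply Subtype.ext
      exact hmul x.1 x.2 y.1 y.2)
  have hφ : ∀ x : H, φ x = Multiplicative.ofAdd ⟨f x.1, hB x.1 x.2⟩ := fun _ => rfl
  have hsur : Function.Surjective φ := by
    intro m
    obtain ⟨x, hx, h⟩ := hs (Multiplicative.toAdd m).1 (Multiplicative.toAdd m).2
    refine ⟨⟨x, hx⟩, ?_⟩
    rw [hφ]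
    apply Multiplicative.toAdd.injective
    exact Subtype.ext h
  have h1 : φ.ker.map H.subtype = N := by
    ext x
    rw [hN x, Subgroup.mem_map]
    constructor
    · rintro ⟨y, hy, rfl⟩
      refine ⟨y.2, ?_⟩
      rw [MonoidHom.mem_ker, hφ] at hy
      have := congrArg Multiplicative.toAdd hy
      exact congrArg Subtype.val this
    · rintro ⟨hx, h0⟩
      refine ⟨⟨x, hx⟩, ?_, rfl⟩
      rw [MonoidHom.mem_ker, hφ]
      apply Multiplicative.toAdd.injective
      exact Subtype.ext h0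
  have h2 : Nat.card φ.ker = Nat.card N := by
    rw [← h1]
    exact (Nat.card_congr (φ.ker.equivMapOfInjective H.subtype H.subtype_injective).toEquiv)
  have h3 : φ.ker.index = Nat.card B := by
    rw [Subgroup.index_ker, MonoidHom.range_eq_top.mpr hsur, Subgroup.card_top]
    exact Nat.card_congr Multiplicative.toAdd
  rw [← Subgroup.card_mul_index φ.ker, h2, h3]

/-- `|H| ≤ |ker| |im|` for a function which is additive on `H`. -/
theorem card_le_of_hom [Finite G] [Finite M] (H N : Subgroup G) (f : G → M) (B : AddSubgroup M)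
    (hmul : ∀ x ∈ H, ∀ y ∈ H, f (x * y) = f x + f y)
    (hN : ∀ x, x ∈ H → f x = 0 → x ∈ N) (hB : ∀ x ∈ H, f x ∈ B) :
    Nat.card H ≤ Nat.card N * Nat.card B := by
  let φ : H →* Multiplicative B :=
    MonoidHom.mk' (fun x => Multiplicative.ofAdd ⟨f x.1, hB x.1 x.2⟩) (fun x y => by
      apply Multiplicative.toAdd.injective
      apply Subtype.ext
      exact hmul x.1 x.2 y.1 y.2)
  have hφ : ∀ x : H, φ x = Multiplicative.ofAdd ⟨f x.1, hB x.1 x.2⟩ := fun _ => rfl
  have h1 : φ.ker.map H.subtype ≤ N := by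
    rw [Subgroup.map_le_iff_le_comap]
    intro x hx
    rw [Subgroup.mem_comap]
    apply hN x.1 x.2
    rw [MonoidHom.mem_ker, hφ] at hx
    have := congrArg Multiplicative.toAdd hx
    exact congrArg Subtype.val this
  have h2 : Nat.card φ.ker ≤ Nat.card N := by
    rw [Nat.card_congr (φ.ker.equivMapOfInjective H.subtype H.subtype_injective).toEquiv]
    exact Nat.card_le_card_of_injective _ (Subgroup.inclusion_injective h1)
  have h3 : φ.ker.index ≤ Nat.card B := by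
    rw [Subgroup.index_ker]
    have h4 := Nat.card_le_card_of_injective (fun x : φ.range => Multiplicative.toAdd x.1)
      (fun x y hxy => Subtype.ext (Multiplicative.toAdd.injective hxy))
    exact h4
  rw [← Subgroup.card_mul_index φ.ker]
  exact Nat.mul_le_mul h2 h3

/-- if `[H, v] ⊆ B` then `|H| ≤ |C_H(v)| |B|`. -/
theorem card_le_cent [Finite G] (H B : Subgroup G) (v : G)
    (h : ∀ x ∈ H, x * v * x⁻¹ * v⁻¹ ∈ B) :
    Nat.card H ≤ Nat.card ↥(H ⊓ Subgroup.centralizer {v}) * Nat.card B := by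
  set C := H ⊓ Subgroup.centralizer {v} with hC
  -- the fibres of `x ↦ [x, v]` are cosets of `C`
  have hfib : ∀ x ∈ H, ∀ y ∈ H, x * v * x⁻¹ * v⁻¹ = y * v * y⁻¹ * v⁻¹ → y⁻¹ * x ∈ C := by
    intro x hx y hy hxy
    rw [hC, Subgroup.mem_inf, Subgroup.mem_centralizer_iff]
    refine ⟨mul_mem (inv_mem hy) hx, ?_⟩
    intro v' hv'
    rw [Set.mem_singleton_iff.mp hv']
    have h1 := mul_right_cancel hxy
    calc v * (y⁻¹ * x) = y⁻¹ * (y * v * y⁻¹) * x := by group
      _ = y⁻¹ * (x * v * x⁻¹) * x := by rw [h1]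
      _ = y⁻¹ * x * v := by group
  classical
  let g : B → G := fun b => if hb : ∃ x ∈ H, x * v * x⁻¹ * v⁻¹ = b then Classical.choose hb else 1
  have hg : ∀ b : B, (∃ x ∈ H, x * v * x⁻¹ * v⁻¹ = b) → g b ∈ H ∧
      g b * v * (g b)⁻¹ * v⁻¹ = b := by
    intro b hb
    have : g b = Classical.choose hb := dif_pos hb
    rw [this]
    exact Classical.choose_spec hb
  let f : H → C × B := fun x =>
    ⟨⟨(g ⟨_, h x.1 x.2⟩)⁻¹ * x.1, by
      have h1 := hg ⟨_, h x.1 x.2⟩ ⟨x.1, x.2, rfl⟩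
      exact hfib x.1 x.2 _ h1.1 h1.2.symm⟩, ⟨_, h x.1 x.2⟩⟩
  have hf : Function.Injective f := by
    intro x y hxy
    have h1 : (⟨_, h x.1 x.2⟩ : B) = ⟨_, h y.1 y.2⟩ := congrArg Prod.snd hxy
    have h2 := congrArg Subtype.val (congrArg Prod.fst hxy)
    have h3 : (g ⟨_, h x.1 x.2⟩)⁻¹ * x.1 = (g ⟨_, h y.1 y.2⟩)⁻¹ * y.1 := h2
    rw [h1] at h3
    exact Subtype.ext (mul_left_cancel h3)
  have h4 := Nat.card_le_card_of_injective f hf
  rwa [Nat.card_prod] at h4

end abs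

/-! ### The field -/

variable {K : Type*} [Field K] [Fintype K] [CharP K 2] {n : ℕ}

/-- `F_q` as an additive subgroup of `K`. -/
def Fq (K : Type*) [Field K] [CharP K 2] (n : ℕ) : AddSubgroup K where
  carrier := {x | bar n x = x}
  add_mem' := fun ha hb => fixed_add ha hb
  zero_mem' := bar_zero n
  neg_mem' := fun {x} hx => by
    have : -x = x := CharTwo.neg_eq x
    rw [this]; exact hx

theorem mem_Fq {x : K} : x ∈ Fq K n ↔ bar n x = x := Iff.rfl

theorem card_top_K (h : Qd K n) : Nat.card (⊤ : AddSubgroup K) = (2 ^ n) ^ 2 := by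
  rw [AddSubgroup.card_top, Nat.card_eq_fintype_card, h.hK]

theorem card_Fq (h : Qd K n) : Nat.card (Fq K n) = 2 ^ n := by
  let φ : K →+ K := AddMonoidHom.mk' (fun x => Tr n x) (fun x y => Tr_add n x y)
  have h1 : φ.ker = Fq K n := by
    ext x
    rw [AddMonoidHom.mem_ker, mem_Fq]
    exact ⟨fun h => fixed_of_Tr h, fun h => Tr_of_fixed h⟩
  have h2 : φ.range = Fq K n := by
    ext x
    rw [AddMonoidHom.mem_range, mem_Fq]
    constructor
    · rintro ⟨y, rfl⟩; exact fixed_Tr h y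
    · intro hx
      obtain ⟨y, hy⟩ := exists_Tr_eq h one_ne_zero hx
      exact ⟨bar n y, by rw [← hy, one_mul]; rfl⟩
  have h3 := AddSubgroup.card_mul_index φ.ker
  rw [AddSubgroup.index_ker, h1, h2, Nat.card_eq_fintype_card (α := K), h.hK, ← sq] at h3
  exact Nat.pow_left_injective (n := 2) (by norm_num) h3

/-! ### The groups of the first level -/

variable {G : Type*} [Group G] (D : Pre G K n) {O : Subgroup G}

/-- `Z = z '' F_q` -/
def Z : Subgroup G where
  carrier := {x | ∃ b, bar n b = b ∧ x = D.z b}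
  one_mem' := ⟨0, bar_zero n, (z_zero D).symm⟩
  mul_mem' := by
    rintro _ _ ⟨b, hb, rfl⟩ ⟨c, hc, rfl⟩
    exact ⟨b + c, fixed_add hb hc, (D.z_add b c).symm⟩
  inv_mem' := by
    rintro _ ⟨b, hb, rfl⟩
    exact ⟨b, hb, z_inv D b⟩

theorem mem_Z {x : G} : x ∈ Z D ↔ ∃ b, bar n b = b ∧ x = D.z b := Iff.rfl

theorem z_mem_Z (b : K) : D.z b ∈ Z D := z_fixed D b

theorem Z_le_P : Z D ≤ D.P := by
  rintro _ ⟨b, -, rfl⟩; exact D.z_mem b

theorem Z_le_W : Z D ≤ W D := by
  rintro _ ⟨b, -, rfl⟩; exact z_mem_W D b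

theorem card_Z : Nat.card (Z D) = 2 ^ n := by
  rw [← card_Fq D.hq]
  symm
  apply Nat.card_congr
  refine Equiv.ofBijective (fun b : Fq K n => (⟨D.z b.1, b.1, b.2, rfl⟩ : Z D)) ⟨?_, ?_⟩
  · intro b c hbc
    exact Subtype.ext (z_eq D b.2 c.2 (congrArg Subtype.val hbc))
  · rintro ⟨_, b, hb, rfl⟩
    exact ⟨⟨b, hb⟩, rfl⟩

theorem card_P : Nat.card D.P = (2 ^ n) ^ 3 := by
  rw [card_of_hom D.P (Z D) D.ca ⊤ D.ca_mul _ (fun _ _ => AddSubgroup.mem_top _)
    (fun m _ => D.ca_surj m), card_Z, card_top_K D.hq]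
  · ring
  · intro x
    constructor
    · rintro ⟨b, -, rfl⟩
      exact ⟨D.z_mem b, D.ca_z b⟩
    · rintro ⟨hx, h0⟩
      exact D.exists_z x hx h0

theorem card_W : Nat.card (W D) = (2 ^ n) ^ 2 := by
  rw [card_of_hom (W D) (Z D) (u D) (Fq K n)
    (fun x hx y hy => u_mul D (W_le D hx) (W_le D hy)) _ (fun x hx => u_fixed D (W_le D hx))
    (fun m hm => W_surj D hm), card_Z, card_Fq D.hq]
  · ring
  · intro x
    constructor
    · rintro ⟨b, -, rfl⟩
      exact ⟨z_mem_W D b, u_z D b⟩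
    · rintro ⟨hx, h0⟩
      exact z_of_W D hx h0

theorem card_V : Nat.card (V D) = (2 ^ n) ^ 4 := by
  rw [card_of_hom (V D) (W D) (a D) ⊤
    (fun x hx y hy => a_mul D (V_le D hx) (V_le D hy)) _ (fun _ _ => AddSubgroup.mem_top _) _,
    card_W, card_top_K D.hq]
  · ring
  · intro x
    constructor
    · intro hx
      exact ⟨W_le_V D hx, a_W D hx⟩
    · rintro ⟨hx, h0⟩
      exact W_of_ae D (V_le D hx) h0 (e_zero D hx)
  · intro m _
    obtain ⟨x, hx, rfl⟩ := D.ca_surj m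
    exact ⟨x, P_le_V D hx, a_P D hx⟩

/-- `{0, 1}` as an additive subgroup of `K`. -/
def Two (K : Type*) [Field K] [CharP K 2] : AddSubgroup K where
  carrier := {x | x = 0 ∨ x = 1}
  add_mem' := by
    rintro _ _ (rfl | rfl) (rfl | rfl)
    · left; rw [add_zero]
    · right; rw [zero_add]
    · right; rw [add_zero]
    · left; exact add_self 1
  zero_mem' := Or.inl rfl
  neg_mem' := fun {x} hx => by
    have : -x = x := CharTwo.neg_eq x
    rw [this]; exact hx

theorem mem_Two {x : K} : x ∈ Two K ↔ x = 0 ∨ x = 1 := Iff.rfl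

theorem card_Two : Nat.card (Two K) = 2 := by
  classical
  have h1 : ((Two K : AddSubgroup K) : Set K) = {0, 1} := by
    ext x
    rw [SetLike.mem_coe, mem_Two, Set.mem_insert_iff, Set.mem_singleton_iff]
  have h2 : Nat.card (Two K) = Nat.card ((Two K : AddSubgroup K) : Set K) := rfl
  rw [h2, h1, Nat.card_coe_set_eq]
  exact Set.ncard_pair zero_ne_one

theorem card_Q : Nat.card D.Q = 2 * (2 ^ n) ^ 4 := by
  rw [card_of_hom D.Q (V D) (e D) (Two K) (fun x hx y hy => e_mul D hx hy) _ _ _,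
    card_V, card_Two]
  · ring
  · intro x
    constructor
    · intro hx
      exact ⟨V_le D hx, e_zero D hx⟩
    · rintro ⟨hx, h0⟩
      exact (e_eq_zero_iff D).mp h0
  · intro x _
    rcases e_cases D x with ⟨h, -⟩ | ⟨h, -⟩
    · exact Or.inl h
    · exact Or.inr h
  · rintro m (rfl | rfl)
    · exact ⟨1, D.Q.one_mem, e_one D⟩
    · exact ⟨D.t, D.Q_t, e_t D⟩

/-- `T = P ⟨t⟩` as a set: the centralizer of `t` in `Q` has order `2 q³`. -/
theorem card_CQ_t : Nat.card ↥(D.Q ⊓ Subgroup.centralizer {D.t}) = 2 * (2 ^ n) ^ 3 := by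
  have hmem : ∀ x, x ∈ D.Q ⊓ Subgroup.centralizer {D.t} ↔ x ∈ D.Q ∧ u D x = 0 := by
    intro x
    rw [Subgroup.mem_inf, Subgroup.mem_centralizer_iff]
    constructor
    · rintro ⟨hx, h⟩
      refine ⟨hx, u_eq D hx (bar_zero n) ?_⟩
      rw [z_zero, one_mul, ← h D.t rfl]; group
    · rintro ⟨hx, h⟩
      refine ⟨hx, ?_⟩
      rintro _ rfl
      have h1 := u_conj D hx
      rw [h, z_zero, one_mul] at h1
      exact (mul_inv_eq_iff_eq_mul.mp h1).symm
  have h1 := card_of_hom D.Q _ (u D) (Fq K n) (fun x hx y hy => u_mul D hx hy) hmem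
    (fun x hx => u_fixed D hx) (fun m hm => u_surj_aux D hm)
  rw [card_Q, card_Fq D.hq] at h1
  have h2 : 2 * (2 ^ n) ^ 4 = 2 * (2 ^ n) ^ 3 * 2 ^ n := by ring
  rw [h2] at h1
  exact (Nat.eq_of_mul_eq_mul_right (by positivity) h1).symm

/-- the centralizer of an element of `Q` in a subgroup `H` of `Q` has index at most `q`. -/
theorem card_le_cent_Q [Finite G] {H : Subgroup G} (hH : H ≤ D.Q) {v : G} (hv : v ∈ D.Q) :
    Nat.card H ≤ Nat.card ↥(H ⊓ Subgroup.centralizer {v}) * 2 ^ n := by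
  rw [← card_Z D]
  apply card_le_cent
  intro x hx
  rw [cmt_eq D (hH hx) hv]
  exact z_mem_Z D _

/-! ### The second level -/

variable {D}

theorem card_U (hg0 : gam D = 0) (hO : Amb D O) (X : Next D O)
    (hsurj : ∀ c, ∃ s ∈ X.S, a D (s * D.t * s⁻¹) = c) : Nat.card (U D X) = (2 ^ n) ^ 6 := by
  rw [card_of_hom (U D X) (V D) (b D) ⊤
    (fun x hx y hy => b_mul D (X.S_N2 (U_le D X hx)) (X.S_N2 (U_le D X hy))) _
    (fun _ _ => AddSubgroup.mem_top _) (fun m _ => U_surj D hg0 hO X hsurj m),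
    card_V, card_top_K D.hq]
  · ring
  · intro x
    constructor
    · intro hx
      exact ⟨V_le_U D X hx, b_Q D (V_le D hx)⟩
    · rintro ⟨hx, h0⟩
      exact U_Q D hx (mem_Q_of_b D hg0 hO X (U_le D X hx) h0)

/-- the centralizers in `U` have order at least `q⁴`. -/
theorem card_le_cent_U [Finite G] (hg0 : gam D = 0) (hO : Amb D O) (X : Next D O)
    (hsurj : ∀ c, ∃ s ∈ X.S, a D (s * D.t * s⁻¹) = c) {v : G} (hv : v ∈ U D X) :
    (2 ^ n) ^ 4 ≤ Nat.card ↥(U D X ⊓ Subgroup.centralizer {v}) := by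
  have h1 := card_le_cent (U D X) (W D) v (fun x hx => cmt_mem_W D hg0 hO X hx hv)
  rw [card_U hg0 hO X hsurj, card_W] at h1
  have h2 : (2 ^ n) ^ 6 = (2 ^ n) ^ 4 * (2 ^ n) ^ 2 := by ring
  rw [h2] at h1
  exact Nat.le_of_mul_le_mul_right h1 (by positivity)

end Cfsg.Agent.StdU3.Card
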