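import Mathlib

/-!
# The second wreath-like type (`g1`): data

`U = P R` is a central product of two groups of order `q³` with common centre `Z` of order `q`
(type: Sylow 2-subgroup of `SU₃(q)`), normal in the Sylow 2-subgroup `S` of `G`; `t` centralizes `P`
and acts on `R` as the field automorphism of order two, `e = t^g` centralizes `R` and acts on `P`
in the same way.  `E` is a perfect normal subgroup with `G = E ⟨t⟩`.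
-/

set_option autoImplicit false

namespace Cfsg.Agent.StdU3.GOneDef

open Subgroup

/-- one of the two factors: `P` of order `q³`, `Z` its subgroup of elements of order at most two
(containing squares and commutators), and an involution `e` normalizing `P`, with centralizer `Z`
in `P`, inverting `{x ∈ P | [e, x] ∈ Z}`, a set of order `q²`. -/
structure Half {G : Type*} [Group G] (P Z : Subgroup G) (e : G) (q : ℕ) : Prop where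
  Z_le : Z ≤ P
  cmt : ∀ x ∈ P, ∀ y ∈ P, x * y * x⁻¹ * y⁻¹ ∈ Z
  sq : ∀ x ∈ P, x * x ∈ Z
  sq1 : ∀ x ∈ P, x * x = 1 → x ∈ Z
  Zsq : ∀ x ∈ Z, x * x = 1
  card : Nat.card P = q ^ 3
  conj : ∀ x ∈ P, e * x * e⁻¹ ∈ P
  fix : ∀ x ∈ P, e * x = x * e → x ∈ Z
  inv : ∀ x ∈ P, e * x * e⁻¹ * x⁻¹ ∈ Z → e * x * e⁻¹ = x⁻¹
  card0 : Nat.card {x : G // x ∈ P ∧ e * x * e⁻¹ * x⁻¹ ∈ Z} = q ^ 2

/-- **Type `g1`.** -/
structure GOne {G : Type*} [Group G] [Finite G] (E : Subgroup G) (S : Sylow 2 G)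
    (U P R Z : Subgroup G) (t e : G) (q : ℕ) : Prop where
  q4 : 4 ≤ q
  E_normal : E.Normal
  E_gen : ∀ g : G, g ∈ E ∨ t * g ∈ E
  E_perf : commutator E = ⊤
  U_le : U ≤ (S : Subgroup G)
  U_norm : ∀ x ∈ S, ∀ u ∈ U, x * u * x⁻¹ ∈ U
  U_E : U ≤ E
  cardU : Nat.card U = q ^ 5
  Z_norm : ∀ x ∈ S, ∀ u ∈ Z, x * u * x⁻¹ ∈ Z
  cardZ : Nat.card Z = q
  P_le : P ≤ U
  R_le : R ≤ U
  inf : ∀ x ∈ P, x ∈ R → x ∈ Z
  PR : ∀ u ∈ U, ∃ x ∈ P, ∃ y ∈ R, u = x * y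
  PRc : ∀ x ∈ P, ∀ y ∈ R, x * y = y * x
  hP : Half P Z e q
  hR : Half R Z t q
  tS : t ∈ S
  tt : t * t = 1
  tP : ∀ x ∈ P, t * x = x * t
  tU : t ∉ U
  eS : e ∈ S
  ee : e * e = 1
  eR : ∀ x ∈ R, e * x = x * e
  te : t * e = e * t
  e_conj : ∃ g : G, g * t * g⁻¹ = e
  /-- all conjugates of `t` in `S` are `S`-conjugate to `t` -/
  fus : ∀ g : G, g * t * g⁻¹ ∈ S → ∃ x ∈ S, g * t * g⁻¹ = x * t * x⁻¹
  s_not : ∀ g : G, g * t * g⁻¹ ≠ t * e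
  /-- `C_S(t) / P` is abelian -/
  Xc : ∀ x ∈ S, ∀ y ∈ S, x * t = t * x → y * t = t * y → x * y * x⁻¹ * y⁻¹ ∈ P
  /-- the involutions of `C_S(t) / P` are `t`, `e`, `t e` -/
  Xi : ∀ x ∈ S, x * t = t * x → x * x ∈ P → x ∈ P ∨ t * x ∈ P ∨ e * x ∈ P ∨ t * e * x ∈ P
  /-- `C_S(t) / P⟨t⟩` is cyclic -/
  Xcyc : ∃ f ∈ S, f * t = t * f ∧ ∀ x ∈ S, x * t = t * x →
    ∃ i : ℤ, x * f ^ i ∈ P ∨ t * x * f ^ i ∈ P
  XZ : ∀ x ∈ S, x * t = t * x → (∀ z ∈ Z, x * z = z * x) →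
    x ∈ P ∨ t * x ∈ P ∨ e * x ∈ P ∨ t * e * x ∈ P
  Xcard : Nat.card {x : G // x ∈ S ∧ x * t = t * x} ≤ 2 * q * q ^ 3
  /-- `C_G(t)`-fusion in `C_S(t)` is trivial modulo `P` -/
  fusC : ∀ x ∈ S, x * t = t * x → ∀ c : G, c * t = t * c → c * x * c⁻¹ ∈ S →
    c * x * c⁻¹ * x⁻¹ ∈ P
  /-- twisted transfer -/
  sq : ∀ x ∈ S, x ∈ E → x * t = t * x → x ∈ U ⊔ closure {y | ∃ g ∈ S, y = g * g}

end Cfsg.Agent.StdU3.GOneDef
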