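import Cfsg.Agent.StdU3.Swap
import Cfsg.Agent.StdU3.Card
import Cfsg.Agent.StdU3.GOneDef

/-!
# The two halves of type `g1`

`Half P Z e q` and `Half P_e Z t q` for the swapping element.
-/

set_option autoImplicit false
set_option linter.unusedSectionVars false
set_option linter.dupNamespace false

namespace Cfsg.Agent.StdU3.SwapHalf

open Subgroup Cfsg.Agent.StdU3.Field Cfsg.Agent.StdU3.PreDef Cfsg.Agent.StdU3.FldDef
open Cfsg.Agent.StdU3.LevelOne Cfsg.Agent.StdU3.FieldAut Cfsg.Agent.StdU3.Rank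
open Cfsg.Agent.StdU3.Swap Cfsg.Agent.StdU3.Card Cfsg.Agent.StdU3.GOneDef

variable {G : Type*} [Group G] {K : Type*} [Field K] [Fintype K] [CharP K 2] {n : ℕ}

/-- the line -/
def Line (n : ℕ) (c : K) : AddSubgroup K where
  carrier := {a | c * bar n a = a}
  add_mem' := by
    intro a b ha hb
    show c * bar n (a + b) = a + b
    rw [bar_add, mul_add, show c * bar n a = a from ha, show c * bar n b = b from hb]
  zero_mem' := by
    show c * bar n 0 = 0
    rw [bar_zero, mul_zero]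
  neg_mem' := fun {x} hx => by
    have : -x = x := CharTwo.neg_eq x
    rw [this]; exact hx

theorem card_Line (hq : Qd K n) {c : K} (hc : N n c = 1) : Nat.card (Line n c) = 2 ^ n := by
  obtain ⟨a0, h0, hN0⟩ := exists_on_line hq hc (bar_one n)
  have ha0 : a0 ≠ 0 := by
    rintro rfl
    rw [N_zero] at hN0
    exact zero_ne_one hN0
  rw [← card_Fq hq]
  symm
  apply Nat.card_congr
  refine Equiv.ofBijective (fun b : Fq K n => (⟨a0 * b.1, ?_⟩ : Line n c)) ⟨?_, ?_⟩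
  · show c * bar n (a0 * b.1) = a0 * b.1
    rw [bar_mul, show bar n b.1 = b.1 from b.2, ← mul_assoc, h0]
  · intro b b' h
    apply Subtype.ext
    exact mul_left_cancel₀ ha0 (congrArg Subtype.val h)
  · rintro ⟨a, ha⟩
    have ha' : c * bar n a = a := ha
    refine ⟨⟨a0⁻¹ * a, ?_⟩, Subtype.ext ?_⟩
    · show bar n (a0⁻¹ * a) = a0⁻¹ * a
      have hc0 : c ≠ 0 := by
        rintro rfl
        rw [N_zero] at hc
        exact zero_ne_one hc
      have hb0 : bar n a0 ≠ 0 := fun h => ha0 (bar_eq_zero h)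
      rw [bar_mul, bar_inv]
      field_simp
      have h1 : c * (a0 * bar n a) = c * (a * bar n a0) := by
        calc c * (a0 * bar n a) = a0 * (c * bar n a) := by ring
          _ = a * (c * bar n a0) := by rw [ha', h0]; ring
          _ = _ := by ring
      have h2 := mul_left_cancel₀ hc0 h1
      rw [mul_comm (bar n a), h2, mul_comm]
    · show a0 * (a0⁻¹ * a) = a
      rw [← mul_assoc, mul_inv_cancel₀ ha0, one_mul]

variable {D : Pre G K n} {F : Fld D} {e : G}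

theorem mem_Z_iff {x : G} (hx : x ∈ D.P) : x ∈ Card.Z D ↔ D.ca x = 0 := by
  constructor
  · rintro ⟨b, -, rfl⟩; exact D.ca_z b
  · exact D.exists_z x hx

/-- **first half** -/
theorem half_P [Finite G] (he : Inv F e) : Half D.P (Card.Z D) e (2 ^ n) := by
  obtain ⟨c, hc, hNc, h1, h2⟩ := he.line
  have hiff : ∀ x, x ∈ D.P → (e * x * e⁻¹ * x⁻¹ ∈ Card.Z D ↔ c * bar n (D.ca x) = D.ca x) := by
    intro x hx
    rw [mem_Z_iff (mul_mem (he.P x hx) (inv_mem hx)), D.ca_mul _ (he.P x hx) _ (inv_mem hx),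
      ca_inv D hx, h1 x hx]
    exact Field.add_eq_zero
  refine ⟨Z_le_P D, ?_, ?_, ?_, ?_, card_P D, he.P, ?_, ?_, ?_⟩
  · intro x hx y hy
    have : x * y * x⁻¹ * y⁻¹ = D.z (Tr n (D.ca x * bar n (D.ca y))) := by
      rw [D.P_comm x hx y hy]; group
    rw [this]
    exact z_mem_Z D _
  · intro x hx
    rw [D.P_sq x hx]
    exact z_mem_Z D _
  · intro x hx h
    exact (mem_Z_iff hx).mpr (ca_zero_of_sq hx h)
  · rintro _ ⟨b, -, rfl⟩
    exact Swap.z_sq b
  · intro x hx h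
    exact (mem_Z_iff hx).mpr (ca_zero_of_outer F he.t he.P he.sq he.ch hx h)
  · intro x hx h
    rw [hiff x hx] at h
    obtain ⟨ε, hε⟩ := exists_Tr_one D.hq
    obtain ⟨y, hy, hye⟩ := D.ca_surj (D.ca x * ε)
    set r := y⁻¹ * (e * y * e⁻¹) with hr
    have hrP : r ∈ D.P := mul_mem (inv_mem hy) (he.P y hy)
    have hca : D.ca r = D.ca x := by
      rw [hr, D.ca_mul _ (inv_mem hy) _ (he.P y hy), ca_inv D hy, h1 y hy, hye, bar_mul,
        ← mul_assoc, h, ← mul_add]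
      have : ε + bar n ε = 1 := hε
      rw [this, mul_one]
    have her : e * r * e⁻¹ = r⁻¹ := by
      rw [hr, he.inv]
      have e1 : e * (y⁻¹ * (e * y * e)) * e = e * y⁻¹ * e * y * (e * e) := by group
      rw [e1, he.sq, mul_one]
      have e2 : (y⁻¹ * (e * y * e))⁻¹ = e⁻¹ * y⁻¹ * e⁻¹ * y := by group
      rw [e2, he.inv]
    obtain ⟨b, hb, hbr⟩ := eq_z_mul D hx hrP hca.symm
    have hzr : D.z b * r = r * D.z b := (D.Q_Z r (D.P_le hrP) b).symm
    have e1 : e * (D.z b * r) * e⁻¹ = (e * D.z b * e⁻¹) * (e * r * e⁻¹) := by group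
    have e3 : (r * D.z b)⁻¹ = D.z b * r⁻¹ := by
      have : (r * D.z b)⁻¹ = (D.z b)⁻¹ * r⁻¹ := by group
      rw [this, Swap.z_inv]
    rw [hbr, e1, h2 b hb, her, hzr, e3]
  · let P0 : Subgroup G :=
      { carrier := {x | x ∈ D.P ∧ c * bar n (D.ca x) = D.ca x}
        one_mem' := ⟨D.P.one_mem, by rw [ca_one, bar_zero, mul_zero]⟩
        mul_mem' := by
          rintro x y ⟨hx, hx'⟩ ⟨hy, hy'⟩
          exact ⟨mul_mem hx hy, by rw [D.ca_mul x hx y hy, bar_add, mul_add, hx', hy']⟩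
        inv_mem' := by
          rintro x ⟨hx, hx'⟩
          exact ⟨inv_mem hx, by rw [ca_inv D hx, hx']⟩ }
    have hP0 : Nat.card P0 = (2 ^ n) ^ 2 := by
      rw [card_of_hom P0 (Card.Z D) D.ca (Line n c) (fun x hx y hy => D.ca_mul x hx.1 y hy.1) _
        (fun x hx => hx.2) _, card_Z, card_Line D.hq hNc, sq]
      · intro x
        constructor
        · rintro ⟨b, -, rfl⟩
          exact ⟨⟨D.z_mem b, by rw [D.ca_z, bar_zero, mul_zero]⟩, D.ca_z b⟩
        · rintro ⟨hx, h0⟩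
          exact D.exists_z x hx.1 h0
      · intro m hm
        obtain ⟨x, hx, rfl⟩ := D.ca_surj m
        exact ⟨x, ⟨hx, hm⟩, rfl⟩
    rw [← hP0]
    apply Nat.card_congr
    apply Equiv.subtypeEquivRight
    intro x
    constructor
    · rintro ⟨hx, h⟩
      exact ⟨hx, (hiff x hx).mp h⟩
    · rintro ⟨hx, h⟩
      exact ⟨hx, (hiff x hx).mpr h⟩

/-- conjugating a half -/
theorem half_conj {P Z : Subgroup G} {e : G} {q : ℕ} (h : Half P Z e q) (y : G) :
    Half (P.map (MulAut.conj y).toMonoidHom) (Z.map (MulAut.conj y).toMonoidHom) (y * e * y⁻¹) q := by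
  have hP : ∀ H : Subgroup G, ∀ x, x ∈ H.map (MulAut.conj y).toMonoidHom ↔ y⁻¹ * x * y ∈ H := by
    intro H x
    constructor
    · rintro ⟨p, hp, rfl⟩
      have : y⁻¹ * (MulAut.conj y).toMonoidHom p * y = p := by
        show y⁻¹ * (y * p * y⁻¹) * y = p
        group
      rw [this]; exact hp
    · intro h
      refine ⟨_, h, ?_⟩
      show y * (y⁻¹ * x * y) * y⁻¹ = x
      group
  refine ⟨Subgroup.map_mono h.Z_le, ?_, ?_, ?_, ?_, ?_, ?_, ?_, ?_, ?_⟩
  · intro x hx x' hx'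
    rw [hP] at *
    have e1 : y⁻¹ * (x * x' * x⁻¹ * x'⁻¹) * y =
      (y⁻¹ * x * y) * (y⁻¹ * x' * y) * (y⁻¹ * x * y)⁻¹ * (y⁻¹ * x' * y)⁻¹ := by group
    rw [e1]; exact h.cmt _ hx _ hx'
  · intro x hx
    rw [hP] at *
    have e1 : y⁻¹ * (x * x) * y = (y⁻¹ * x * y) * (y⁻¹ * x * y) := by group
    rw [e1]; exact h.sq _ hx
  · intro x hx hxx
    rw [hP] at *
    apply h.sq1 _ hx
    have e1 : (y⁻¹ * x * y) * (y⁻¹ * x * y) = y⁻¹ * (x * x) * y := by group
    rw [e1, hxx]; group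
  · intro x hx
    rw [hP] at hx
    have h1 := h.Zsq _ hx
    have e1 : x * x = y * ((y⁻¹ * x * y) * (y⁻¹ * x * y)) * y⁻¹ := by group
    rw [e1, h1]; group
  · rw [Subgroup.card_map_of_injective (MulAut.conj y).injective, h.card]
  · intro x hx
    rw [hP] at *
    have e1 : y⁻¹ * (y * e * y⁻¹ * x * (y * e * y⁻¹)⁻¹) * y = e * (y⁻¹ * x * y) * e⁻¹ := by group
    rw [e1]; exact h.conj _ hx
  · intro x hx hxe
    rw [hP] at *
    apply h.fix _ hx
    calc e * (y⁻¹ * x * y) = y⁻¹ * (y * e * y⁻¹ * x) * y := by group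
      _ = _ := by rw [hxe]; group
  · intro x hx hxe
    rw [hP] at *
    have e1 : y⁻¹ * (y * e * y⁻¹ * x * (y * e * y⁻¹)⁻¹ * x⁻¹) * y =
      e * (y⁻¹ * x * y) * e⁻¹ * (y⁻¹ * x * y)⁻¹ := by group
    rw [e1] at hxe
    have h1 := h.inv _ hx hxe
    have e2 : y * e * y⁻¹ * x * (y * e * y⁻¹)⁻¹ = y * (e * (y⁻¹ * x * y) * e⁻¹) * y⁻¹ := by group
    rw [e2, h1]; group
  · rw [← h.card0]
    symm
    refine Nat.card_congr (Equiv.ofBijective (fun x => ⟨y * x.1 * y⁻¹, ?_, ?_⟩) ⟨?_, ?_⟩)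
    · rw [hP]
      have e1 : y⁻¹ * (y * x.1 * y⁻¹) * y = x.1 := by group
      rw [e1]; exact x.2.1
    · rw [hP]
      have e1 : y⁻¹ * (y * e * y⁻¹ * (y * x.1 * y⁻¹) * (y * e * y⁻¹)⁻¹ * (y * x.1 * y⁻¹)⁻¹) * y =
        e * x.1 * e⁻¹ * (x.1)⁻¹ := by group
      rw [e1]; exact x.2.2
    · intro x x' hxx
      have h1 : y * x.1 * y⁻¹ = y * x'.1 * y⁻¹ := congrArg Subtype.val hxx
      exact Subtype.ext (mul_left_cancel (mul_right_cancel h1))
    · rintro ⟨x, hx, hx'⟩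
      refine ⟨⟨y⁻¹ * x * y, (hP _ _).mp hx, ?_⟩, Subtype.ext ?_⟩
      · rw [hP] at hx'
        have e1 : y⁻¹ * (y * e * y⁻¹ * x * (y * e * y⁻¹)⁻¹ * x⁻¹) * y =
          e * (y⁻¹ * x * y) * e⁻¹ * (y⁻¹ * x * y)⁻¹ := by group
        rw [e1] at hx'
        exact hx'
      · show y * (y⁻¹ * x * y) * y⁻¹ = x
        group

/-- **second half** -/
theorem half_Pe [Finite G] (he : Inv F e) {y : G} (h : Swap D e y) :
    Half (Pe D y) (Card.Z D) D.t (2 ^ n) := by
  have h1 := half_conj (half_P he) y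
  rw [h.et] at h1
  have h2 : (Card.Z D).map (MulAut.conj y).toMonoidHom ≤ Card.Z D := by
    rintro _ ⟨_, ⟨b, hb, rfl⟩, rfl⟩
    exact h.z b hb
  have h3 : (Card.Z D).map (MulAut.conj y).toMonoidHom = Card.Z D := by
    apply Subgroup.eq_of_le_of_card_ge h2
    rw [Subgroup.card_map_of_injective (MulAut.conj y).injective]
  rw [h3] at h1
  exact h1

end Cfsg.Agent.StdU3.SwapHalf
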