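import Cfsg.Agent.StdU3.GOneSwapD
import Cfsg.Agent.StdU3.SwapHalf
import Cfsg.Agent.StdU3.EndN

/-!
# Type `g1`: the Sylow 2-subgroup

`U = P P_e`, `S` a Sylow 2-subgroup of `G` containing `U Sg` as a subgroup of index 2; the conjugates
of `t` in `S` are those of `t^U ∪ e^U = t^S`.
-/

set_option autoImplicit false
set_option linter.unusedSectionVars false
set_option linter.dupNamespace false

namespace Cfsg.Agent.StdU3.GOneSyl

open Subgroup Cfsg.Agent.StdU3.Field Cfsg.Agent.StdU3.PreDef Cfsg.Agent.StdU3.FldDef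
open Cfsg.Agent.StdU3.LevelOne Cfsg.Agent.StdU3.FieldAut Cfsg.Agent.StdU3.Rank
open Cfsg.Agent.StdU3.OutInv Cfsg.Agent.StdU3.TermDef Cfsg.Agent.StdU3.LemC
open Cfsg.Agent.StdU3.Swap Cfsg.Agent.StdU3.EndN
open Cfsg.Agent.StdU3.NormQ hiding barE

variable {G : Type*} [Group G] [Finite G] {K : Type*} [Field K] [Fintype K] [CharP K 2] {n : ℕ}
variable {D : Pre G K n}

/-- the configuration -/
structure G1 (F : Fld D) (T : Term D) (e y : G) : Prop where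
  he : Hyp F e
  hy : Swap D e y
  y2 : ∃ k, y ^ 2 ^ k = 1
  hU : ∀ s ∈ F.Sg, ∀ g ∈ T.U, s * g * s⁻¹ ∈ T.U
  Pe_le : Pe D y ≤ T.U
  PPe : ∀ u ∈ T.U, ∃ x ∈ D.P, ∃ r ∈ Pe D y, u = x * r
  cmt : ∀ x ∈ D.P, ∀ r ∈ Pe D y, ∃ b, bar n b = b ∧ x * r = D.z b * (r * x)

namespace G1

variable {F : Fld D} {T : Term D} {e y : G} (H : G1 F T e y)
include H

theorem e_sq : e * e = 1 := H.he.sq

theorem e_inv : e⁻¹ = e := H.he.toInv.inv

theorem e_t : e * D.t = D.t * e := H.he.t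

/-- `Z` is central in `U` -/
theorem z_cen {u : G} (hu : u ∈ T.U) (b : K) : u * D.z b = D.z b * u := by
  obtain ⟨c, hc, hz⟩ := z_fixed D b
  rw [hz]
  obtain ⟨x, hx, hx1⟩ := D.ca_surj 1
  obtain ⟨y', hy'⟩ := exists_Tr_eq D.hq (one_ne_zero) hc
  obtain ⟨x', hx', hx1'⟩ := D.ca_surj y'
  have h1 := D.P_comm x hx x' hx'
  have h2 : x * x' * x⁻¹ * x'⁻¹ = D.z c := by
    rw [h1, hx1, hx1', hy']
    group
  rw [← h2]
  exact (T.class_two x (T.P_le hx) x' (T.P_le hx') u hu).symm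

theorem half : GOneDef.Half D.P (Card.Z D) e (2 ^ n) := SwapHalf.half_P H.he.toInv

theorem z_mem_Pe {b : K} (hb : bar n b = b) : D.z b ∈ Pe D y := by
  rw [mem_Pe]
  obtain ⟨c, -, h⟩ := H.hy.Z_Pe hb
  rw [h]; exact D.z_mem c

theorem inf {x : G} (hx : x ∈ D.P) (hx' : x ∈ Pe D y) : ∃ b, bar n b = b ∧ x = D.z b :=
  H.half.fix x hx (H.hy.Pe_e hx').symm

/-- commuting modulo `Z` -/
theorem cz_mul_right {a b b' : G} (hb : b ∈ T.U) (h : ∃ c, bar n c = c ∧ a * b = D.z c * (b * a))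
    (h' : ∃ c, bar n c = c ∧ a * b' = D.z c * (b' * a)) :
    ∃ c, bar n c = c ∧ a * (b * b') = D.z c * (b * b' * a) := by
  obtain ⟨c, hc, h1⟩ := h
  obtain ⟨c', hc', h2⟩ := h'
  refine ⟨c + c', fixed_add hc hc', ?_⟩
  have h3 := H.z_cen hb c'
  calc a * (b * b') = (a * b) * b' := by group
    _ = D.z c * b * (a * b') := by rw [h1]; group
    _ = D.z c * (b * D.z c') * b' * a := by rw [h2]; group
    _ = (D.z c * D.z c') * (b * b' * a) := by rw [h3]; group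
    _ = _ := by rw [D.z_add]

omit [Finite G] H in
theorem cz_symm {a b : G} (h : ∃ c, bar n c = c ∧ a * b = D.z c * (b * a)) :
    ∃ c, bar n c = c ∧ b * a = D.z c * (a * b) := by
  obtain ⟨c, hc, h1⟩ := h
  exact ⟨c, hc, by rw [h1, ← mul_assoc (D.z c), z_self, one_mul]⟩

/-- the commutators of `U` are in `Z` -/
theorem cz {u v : G} (hu : u ∈ T.U) (hv : v ∈ T.U) :
    ∃ c, bar n c = c ∧ u * v = D.z c * (v * u) := by
  have h1 : ∀ x ∈ D.P, ∀ v ∈ T.U, ∃ c, bar n c = c ∧ x * v = D.z c * (v * x) := by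
    intro x hx v hv
    obtain ⟨x', hx', r, hr, rfl⟩ := H.PPe v hv
    apply H.cz_mul_right (T.P_le hx')
    · exact ⟨_, fixed_Tr D.hq _, D.P_comm x hx x' hx'⟩
    · exact H.cmt x hx r hr
  have h2 : ∀ r ∈ Pe D y, ∀ r' ∈ Pe D y, ∃ c, bar n c = c ∧ r * r' = D.z c * (r' * r) := by
    intro r hr r' hr'
    obtain ⟨c, hc, h3⟩ : ∃ c, bar n c = c ∧ (y⁻¹ * r * y) * (y⁻¹ * r' * y) =
        D.z c * ((y⁻¹ * r' * y) * (y⁻¹ * r * y)) :=
      ⟨_, fixed_Tr D.hq _, D.P_comm _ (mem_Pe.mp hr) _ (mem_Pe.mp hr')⟩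
    obtain ⟨c', hc', h4⟩ := H.hy.z c hc
    refine ⟨c', hc', ?_⟩
    calc r * r' = y * ((y⁻¹ * r * y) * (y⁻¹ * r' * y)) * y⁻¹ := by group
      _ = (y * D.z c * y⁻¹) * (r' * r) := by rw [h3]; group
      _ = _ := by rw [h4]
  obtain ⟨x, hx, r, hr, rfl⟩ := H.PPe u hu
  obtain ⟨x', hx', r', hr', rfl⟩ := H.PPe v hv
  apply cz_symm
  apply H.cz_mul_right (T.P_le hx)
  · exact cz_symm (h1 x hx _ (mul_mem (T.P_le hx') (H.Pe_le hr')))
  · apply cz_symm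
    apply H.cz_mul_right (T.P_le hx')
    · exact cz_symm (H.cmt x' hx' r hr)
    · exact h2 r hr r' hr'

theorem P_normal {u x : G} (hu : u ∈ T.U) (hx : x ∈ D.P) : u * x * u⁻¹ ∈ D.P := by
  obtain ⟨c, hc, h⟩ := H.cz hu (T.P_le hx)
  rw [h]
  have : D.z c * (x * u) * u⁻¹ = D.z c * x := by group
  rw [this]
  exact mul_mem (D.z_mem c) hx

theorem Pe_normal {u x : G} (hu : u ∈ T.U) (hx : x ∈ Pe D y) : u * x * u⁻¹ ∈ Pe D y := by
  obtain ⟨c, hc, h⟩ := H.cz hu (H.Pe_le hx)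
  rw [h]
  have : D.z c * (x * u) * u⁻¹ = D.z c * x := by group
  rw [this]
  exact mul_mem (H.z_mem_Pe hc) hx

/-- `C_U(e) = P_e` -/
theorem mem_Pe_of_comm {u : G} (hu : u ∈ T.U) (h : u * e = e * u) : u ∈ Pe D y := by
  obtain ⟨x, hx, r, hr, rfl⟩ := H.PPe u hu
  have h1 := H.hy.Pe_e hr
  have h2 : x * e = e * x := by
    have : x = x * r * r⁻¹ := by group
    rw [this]
    exact comm_mul h (comm_inv h1)
  obtain ⟨b, hb, rfl⟩ := H.half.fix x hx h2.symm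
  exact mul_mem (H.z_mem_Pe hb) hr

/-- `y` normalises `U` -/
theorem y_U {u : G} (hu : u ∈ T.U) : y * u * y⁻¹ ∈ T.U := by
  obtain ⟨x, hx, r, hr, rfl⟩ := H.PPe u hu
  have : y * (x * r) * y⁻¹ = (y * x * y⁻¹) * (y * r * y⁻¹) := by group
  rw [this]
  exact mul_mem (H.Pe_le (Swap.conj_P hx)) (T.P_le (H.hy.conj_Pe hr))

/-- `t` is not `U`-conjugate to `e` -/
theorem not_conj {u : G} (hu : u ∈ T.U) : u * D.t * u⁻¹ ≠ e := by
  intro h
  have h1 : e * D.t ∈ T.U := by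
    rw [← h]
    have : u * D.t * u⁻¹ * D.t = u * (D.t * u⁻¹ * D.t⁻¹) * (D.t * D.t) := by group
    rw [this, D.t_sq, mul_one]
    exact mul_mem hu (T.t_conj _ (inv_mem hu))
  have h2 := U_inf_Sg F T h1 (mul_mem H.he.mem F.t_Sg)
  have h3 := ch_P F h2
  rw [ch_mul F H.he.t rfl, ch_t, mul_one, H.he.ch] at h3
  exact barE_ne_one D.hq h3

omit H in
/-- the classes of `t` and `e` -/
def CL (T : Term D) (e d : G) : Prop :=
  (∃ u ∈ T.U, u * D.t * u⁻¹ = d) ∨ (∃ u ∈ T.U, u * e * u⁻¹ = d)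

/-- conjugates of `t` in `U Sg`. -/
theorem cl_of_mem {g y' : G} (hg : g ∈ S2 F T H.hU) (h : y' * D.t * y'⁻¹ = g) : CL T e g := by
  obtain ⟨u, hu, s, hs, rfl⟩ := hg
  have hst := F.Sg_t s hs
  have hgg : (u * s) * (u * s) = 1 := by
    rw [← h]
    have : y' * D.t * y'⁻¹ * (y' * D.t * y'⁻¹) = y' * (D.t * D.t) * y'⁻¹ := by group
    rw [this, D.t_sq]; group
  have hss : s * s ∈ D.P := by
    apply U_inf_Sg F T _ (mul_mem hs hs)
    have e2 : s * s = (u * (s * u * s⁻¹))⁻¹ := by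
      rw [eq_inv_iff_mul_eq_one]
      have e1 : u * (s * u * s⁻¹) * (s * s) = 1 := by rw [← hgg]; group
      rw [mul_eq_one_iff_eq_inv.mp e1]; group
    rw [e2]
    exact inv_mem (mul_mem hu (H.hU s hs u hu))
  have hch2 : ch F s * ch F s = 1 := by rw [← ch_mul F hst hst, ch_P F hss]
  by_cases hch : ch F s = 1
  · left
    rcases ch_ker F hs hch with h1 | h1
    · exact absurd h (U_not_conj F T (mul_mem hu (T.P_le h1)) y')
    · have ee : u * s = (u * (s * D.t)) * D.t := by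
        rw [mul_assoc, mul_assoc, D.t_sq, mul_one]
      have hg' : u * (s * D.t) ∈ T.U := mul_mem hu (T.P_le h1)
      rw [ee] at h hgg ⊢
      rcases T.three _ hg' hgg with h2 | h2
      · exact h2
      · exact absurd h (h2 y')
  · right
    have hb := eq_bar D.hq hch2 hch
    obtain ⟨p, hp, hpx⟩ := exists_invol F F.Sg_norm hs hb
    have hxs : p * s ∈ F.Sg := mul_mem (F.P_Sg hp) hs
    have hxt := F.Sg_t _ hxs
    have hxch : ch F (p * s) = barE D.hq := by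
      rw [ch_mul F (P_t hp) hst, ch_P F hp, one_mul, hb]
    obtain ⟨c, hc, hNc, h1, h2⟩ := outer_ca F hxs hxch
    have ee : u * s = (u * p⁻¹) * (p * s) := by group
    have hup : u * p⁻¹ ∈ T.U := mul_mem hu (inv_mem (T.P_le hp))
    rw [ee] at h hgg ⊢
    rcases T.four (p * s) hxt hpx ⟨c, fun q hq => ⟨F.Sg_P _ hxs q hq, h1 q hq⟩⟩
      (fun g hg => H.hU _ hxs g hg) _ hup hgg with ⟨v, hv, h3⟩ | ⟨B, hBU, hB2, hBc, hBB, hnB, hB⟩
    · have hx3 : (v⁻¹ * y') * D.t * (v⁻¹ * y')⁻¹ = p * s := by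
        have e1 : v⁻¹ * y' * D.t * (v⁻¹ * y')⁻¹ = v⁻¹ * (y' * D.t * y'⁻¹) * v := by group
        rw [e1, h, ← h3]; group
      obtain ⟨y1, hy1, h4⟩ := H.he.conj_P (x := p * s * e⁻¹)
        (ch_ker F (mul_mem hxs (inv_mem H.he.mem)) (by
          rw [ch_mul F hxt (comm_inv H.he.t), ch_inv F H.he.t, hxch, H.he.ch, mul_inv_cancel]))
        (g := v⁻¹ * y') (by rw [inv_mul_cancel_right, hx3])
      rw [inv_mul_cancel_right] at h4
      refine ⟨v * y1, mul_mem hv (T.P_le hy1), ?_⟩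
      rw [← h3, h4]; group
    · exfalso
      obtain ⟨B', hB'2, hB'c, hcard2⟩ := exists_double hB2 hgg hBc hnB
      have hcard := card_elem F (y := y') hB'2 (by rw [h]; exact hB'c)
      have h4 := four_le D.hq
      have h10 : 2 * (2 ^ n * 2 ^ n) ≤ 4 * 2 ^ n := by
        rw [← sq]
        omega
      have h11 : 4 * (2 ^ n * 2) ≤ 4 * 2 ^ n := by nlinarith
      omega

/-! ### The group `M0` -/

omit H in
theorem mem_nor {V : Subgroup G} {g : G} (h : ∀ x ∈ V, g * x * g⁻¹ ∈ V) :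
    g ∈ normalizer (V : Set G) := by
  rw [Subgroup.mem_normalizer_iff]
  intro p
  refine ⟨fun hp => h p hp, fun hp => ?_⟩
  have h2 : V.map (MulAut.conj g).toMonoidHom ≤ V := by
    rintro _ ⟨x, hx, rfl⟩
    exact h x hx
  have h3 : V.map (MulAut.conj g).toMonoidHom = V := by
    apply Subgroup.eq_of_le_of_card_ge h2
    rw [Subgroup.card_map_of_injective (MulAut.conj g).injective]
  have hp' : g * p * g⁻¹ ∈ V.map (MulAut.conj g).toMonoidHom := by rw [h3]; exact hp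
  obtain ⟨x, hx, he⟩ := hp'
  have h4 : g * x * g⁻¹ = g * p * g⁻¹ := he
  rw [← mul_left_cancel (mul_right_cancel h4)]; exact hx

omit H in
/-- `U ⟨t, e⟩` -/
def V1 (T : Term D) (e : G) : Subgroup G := T.U ⊔ closure {D.t, e}

omit H in
theorem U_le_V1 : T.U ≤ V1 T e := le_sup_left

omit H in
theorem t_mem_V1 : D.t ∈ V1 T e := le_sup_right (a := T.U) (subset_closure (by simp))

omit H in
theorem e_mem_V1 : e ∈ V1 T e := le_sup_right (a := T.U) (subset_closure (by simp))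

theorem V1_le : V1 T e ≤ S2 F T H.hU := by
  unfold V1
  rw [sup_le_iff, closure_le]
  refine ⟨U_le_S2 F T H.hU, ?_⟩
  rintro x (rfl | rfl)
  · exact t_mem_S2 F T H.hU
  · exact Sg_le_S2 F T H.hU H.he.mem

omit H in
theorem CL.mem_V1 {d : G} (h : CL T e d) : d ∈ V1 T e := by
  rcases h with ⟨u, hu, rfl⟩ | ⟨u, hu, rfl⟩
  · exact mul_mem (mul_mem (U_le_V1 hu) t_mem_V1) (inv_mem (U_le_V1 hu))
  · exact mul_mem (mul_mem (U_le_V1 hu) e_mem_V1) (inv_mem (U_le_V1 hu))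

omit H in
theorem conj_V1 {g : G} (h1 : ∀ x ∈ T.U, g * x * g⁻¹ ∈ T.U) (h2 : g * D.t * g⁻¹ ∈ V1 T e)
    (h3 : g * e * g⁻¹ ∈ V1 T e) : ∀ x ∈ V1 T e, g * x * g⁻¹ ∈ V1 T e := by
  intro x hx
  have : V1 T e ≤ (V1 T e).comap (MulAut.conj g).toMonoidHom := by
    conv_lhs => unfold V1
    rw [sup_le_iff, closure_le]
    refine ⟨fun u hu => U_le_V1 (h1 u hu), ?_⟩
    rintro x (rfl | rfl)
    · exact h2
    · exact h3
  exact this hx

omit H in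
/-- `M0` -/
def M0 (T : Term D) (e : G) : Subgroup G :=
  normalizer (T.U : Set G) ⊓ normalizer (V1 T e : Set G)

omit H in
theorem M0_U {g : G} (hg : g ∈ M0 T e) {u : G} (hu : u ∈ T.U) : g * u * g⁻¹ ∈ T.U :=
  (Subgroup.mem_normalizer_iff.mp hg.1 u).mp hu

omit H in
theorem M0_U' {g : G} (hg : g ∈ M0 T e) {u : G} (hu : u ∈ T.U) : g⁻¹ * u * g ∈ T.U := by
  have := M0_U (inv_mem hg) hu
  rwa [inv_inv] at this

theorem M0_t {g : G} (hg : g ∈ M0 T e) : CL T e (g * D.t * g⁻¹) :=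
  H.cl_of_mem (H.V1_le ((Subgroup.mem_normalizer_iff.mp hg.2 _).mp t_mem_V1)) rfl

theorem M0_e {g : G} (hg : g ∈ M0 T e) : CL T e (g * e * g⁻¹) := by
  obtain ⟨g0, h0⟩ := H.he.conj
  apply H.cl_of_mem (y' := g * g0) (H.V1_le ((Subgroup.mem_normalizer_iff.mp hg.2 _).mp e_mem_V1))
  rw [← h0]; group

theorem Sg_le_M0 : F.Sg ≤ M0 T e := by
  intro s hs
  refine ⟨mem_nor (fun u hu => H.hU s hs u hu), mem_nor (conj_V1 (fun u hu => H.hU s hs u hu) ?_ ?_)⟩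
  · rw [F.Sg_t s hs, mul_inv_cancel_right]; exact t_mem_V1
  · obtain ⟨g0, h0⟩ := H.he.conj
    apply CL.mem_V1
    apply H.cl_of_mem (y' := s * g0)
      (Sg_le_S2 F T H.hU (mul_mem (mul_mem hs H.he.mem) (inv_mem hs)))
    rw [← h0]; group

omit H in
theorem U_le_M0 : T.U ≤ M0 T e := by
  intro u hu
  refine ⟨mem_nor (fun x hx => mul_mem (mul_mem hu hx) (inv_mem hu)), mem_nor (fun x hx => ?_)⟩
  exact mul_mem (mul_mem (U_le_V1 hu) hx) (inv_mem (U_le_V1 hu))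

theorem S2_le_M0 : S2 F T H.hU ≤ M0 T e := by
  rintro _ ⟨u, hu, s, hs, rfl⟩
  exact mul_mem (U_le_M0 hu) (H.Sg_le_M0 hs)

theorem y_mem_M0 : y ∈ M0 T e := by
  refine ⟨mem_nor (fun u hu => H.y_U hu), mem_nor (conj_V1 (fun u hu => H.y_U hu) ?_ ?_)⟩
  · rw [H.hy.te]; exact e_mem_V1
  · rw [H.hy.et]; exact t_mem_V1

/-- if `g` moves `t` to a `U`-conjugate of `e`, it moves `P` to `P_e`. -/
theorem swap_P {g u : G} (hg : g ∈ M0 T e) (hu : u ∈ T.U) (h : g * D.t * g⁻¹ = u * e * u⁻¹)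
    {x : G} (hx : x ∈ D.P) : g * x * g⁻¹ ∈ Pe D y := by
  have h1 : u⁻¹ * (g * x * g⁻¹) * u ∈ Pe D y := by
    apply H.mem_Pe_of_comm
    · exact mul_mem (mul_mem (inv_mem hu) (M0_U hg (T.P_le hx))) hu
    · have h2 : e = u⁻¹ * (g * D.t * g⁻¹) * u := by rw [h]; group
      rw [h2]
      have h3 := P_t (D := D) hx
      calc u⁻¹ * (g * x * g⁻¹) * u * (u⁻¹ * (g * D.t * g⁻¹) * u) = u⁻¹ * g * (x * D.t) * g⁻¹ * u := by
            group
        _ = _ := by rw [h3]; group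
  have := H.Pe_normal hu h1
  have e1 : u * (u⁻¹ * (g * x * g⁻¹) * u) * u⁻¹ = g * x * g⁻¹ := by group
  rwa [e1] at this

theorem swap_Pe {g u : G} (hg : g ∈ M0 T e) (hu : u ∈ T.U) (h : g * e * g⁻¹ = u * D.t * u⁻¹)
    {x : G} (hx : x ∈ Pe D y) : g * x * g⁻¹ ∈ D.P := by
  have h1 : u⁻¹ * (g * x * g⁻¹) * u ∈ D.P := by
    apply T.comm_t
    · exact mul_mem (mul_mem (inv_mem hu) (M0_U hg (H.Pe_le hx))) hu
    · have h2 : D.t = u⁻¹ * (g * e * g⁻¹) * u := by rw [h]; group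
      have h3 := H.hy.Pe_e hx
      calc u⁻¹ * (g * x * g⁻¹) * u * D.t = u⁻¹ * (g * x * g⁻¹) * u * (u⁻¹ * (g * e * g⁻¹) * u) := by
            rw [← h2]
        _ = u⁻¹ * g * (x * e) * g⁻¹ * u := by group
        _ = (u⁻¹ * (g * e * g⁻¹) * u) * (u⁻¹ * (g * x * g⁻¹) * u) := by rw [h3]; group
        _ = _ := by rw [← h2]
  have := H.P_normal hu h1
  have e1 : u * (u⁻¹ * (g * x * g⁻¹) * u) * u⁻¹ = g * x * g⁻¹ := by group
  rwa [e1] at this

/-- no conjugate of `t` swaps. -/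
theorem no_swap {d w : G} (hd : d ∈ M0 T e) (hw : w * D.t * w⁻¹ = d) {u : G} (hu : u ∈ T.U)
    (h : d * D.t * d⁻¹ = u * e * u⁻¹) : False := by
  have hdd : d * d = 1 := by
    rw [← hw]
    have : w * D.t * w⁻¹ * (w * D.t * w⁻¹) = w * (D.t * D.t) * w⁻¹ := by group
    rw [this, D.t_sq]; group
  have hdi : d⁻¹ = d := by rw [inv_eq_iff_mul_eq_one, hdd]
  -- `d e d⁻¹`
  have h' : d * e * d⁻¹ = (d * u⁻¹ * d⁻¹) * D.t * (d * u⁻¹ * d⁻¹)⁻¹ := by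
    have h1 : e = u⁻¹ * (d * D.t * d⁻¹) * u := by rw [h]; group
    calc d * e * d⁻¹ = d * (u⁻¹ * (d * D.t * d⁻¹) * u) * d⁻¹ := by rw [← h1]
      _ = (d * u⁻¹ * d⁻¹) * ((d * d) * D.t * (d * d)⁻¹) * (d * u⁻¹ * d⁻¹)⁻¹ := by group
      _ = _ := by rw [hdd]; group
  have hu' : d * u⁻¹ * d⁻¹ ∈ T.U := M0_U hd (inv_mem hu)
  have hP : ∀ x ∈ D.P, d * x * d⁻¹ ∈ Pe D y := fun x hx => H.swap_P hd hu h hx
  have hPe : ∀ x ∈ Pe D y, d * x * d⁻¹ ∈ D.P := fun x hx => H.swap_Pe hd hu' h' hx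
  have hcc : ∀ x, d * (d * x * d⁻¹) * d⁻¹ = x := by
    intro x
    have : d * (d * x * d⁻¹) * d⁻¹ = (d * d) * x * (d * d)⁻¹ := by group
    rw [this, hdd]; group
  have hsw : GOneSwapD.Sw D T.U d :=
    { two := T.U_two
      P_le := T.P_le
      P_le' := fun x hx => H.Pe_le (hP x hx)
      cen := fun u hu b => H.z_cen hu b
      PP := by
        intro u hu
        obtain ⟨x, hx, r, hr, rfl⟩ := H.PPe u hu
        exact ⟨x, hx, d * r * d⁻¹, hPe r hr, by rw [hcc]⟩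
      cmt := fun x hx y' hy' => H.cmt x hx _ (hP y' hy')
      inf := by
        intro x hx y' hy' hxy
        obtain ⟨b, -, rfl⟩ := H.inf hx (hxy ▸ hP y' hy')
        exact D.ca_z b
      dd := hdd
      z := by
        intro b hb
        exact H.inf (hPe _ (H.z_mem_Pe hb)) (hP _ (D.z_mem b)) }
  exact GOneSwapD.false_of_sw F hsw hw (fun hdU => U_not_conj F T hdU w hw)

/-- elements of a 2-group containing `U Sg` which fix the class `t^U`. -/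
theorem mem_S2_of {R : Subgroup G} (hR : IsPGroup 2 R) (hSR : S2 F T H.hU ≤ R) {r u : G}
    (hr : r ∈ R) (hu : u ∈ T.U) (h : r * D.t * r⁻¹ = u * D.t * u⁻¹) : r ∈ S2 F T H.hU := by
  have hc : (u⁻¹ * r) * D.t = D.t * (u⁻¹ * r) := by
    have e1 : u⁻¹ * r * D.t = u⁻¹ * (r * D.t * r⁻¹) * r := by group
    rw [e1, h]; group
  have hR' : R ⊓ centralizer ({D.t} : Set G) = F.Sg := by
    apply Sg_max F (hR.to_le inf_le_left)
    · rintro r ⟨_, hr⟩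
      exact mem_centralizer_singleton_iff.mp hr
    · intro s hs
      exact ⟨hSR (Sg_le_S2 F T H.hU hs), mem_cent (F.Sg_t s hs)⟩
  have hcS : u⁻¹ * r ∈ F.Sg := by
    rw [← hR']
    exact mem_inf.mpr ⟨R.mul_mem (R.inv_mem (hSR (U_le_S2 F T H.hU hu))) hr, mem_cent hc⟩
  exact ⟨u, hu, u⁻¹ * r, hcS, by group⟩

/-- the output -/
structure Syl (H : G1 F T e y) (S : Subgroup G) : Prop where
  le : S2 F T H.hU ≤ S
  M0 : S ≤ M0 T e
  fix : ∀ x ∈ S, ∀ u ∈ T.U, x * D.t * x⁻¹ = u * D.t * u⁻¹ → x ∈ S2 F T H.hU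
  y1 : ∃ y1 ∈ S, y1 * D.t * y1⁻¹ = e
  cl : ∀ g, g * D.t * g⁻¹ ∈ S → CL T e (g * D.t * g⁻¹)

/-- a Sylow subgroup of `M0` -/
theorem exists_R : ∃ R : Subgroup G, IsPGroup 2 R ∧ Syl H R := by
  classical
  have : Fact (Nat.Prime 2) := ⟨Nat.prime_two⟩
  have h1 : IsPGroup 2 ((S2 F T H.hU).subgroupOf (M0 T e)) := (S2_two F T H.hU).comap_subtype
  obtain ⟨P0, hP0⟩ := h1.exists_le_sylow
  set R : Subgroup G := (P0 : Subgroup (M0 T e)).map (M0 T e).subtype with hR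
  have hR2 : IsPGroup 2 R := P0.isPGroup'.map _
  have hRM : R ≤ M0 T e := by
    rintro _ ⟨x, _, rfl⟩; exact x.2
  have hSR : S2 F T H.hU ≤ R := by
    intro x hx
    exact ⟨⟨x, H.S2_le_M0 hx⟩, hP0 hx, rfl⟩
  -- a conjugate of `y` in `R`
  have hz : IsPGroup 2 (zpowers (⟨y, H.y_mem_M0⟩ : M0 T e)) := by
    obtain ⟨k, hk⟩ := H.y2
    rintro ⟨x, hx⟩
    obtain ⟨m, rfl⟩ := Subgroup.mem_zpowers_iff.mp hx
    refine ⟨k, Subtype.ext (Subtype.ext ?_)⟩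
    show (y ^ m) ^ (2 ^ k) = 1
    rw [← zpow_natCast, ← zpow_mul, mul_comm, zpow_mul, zpow_natCast, hk, one_zpow]
  obtain ⟨P1, hP1⟩ := hz.exists_le_sylow
  have : Finite (Sylow 2 (M0 T e)) := inferInstance
  obtain ⟨m, hm⟩ := MulAction.exists_smul_eq (M0 T e) P1 P0
  have hy1 : (m : G) * y * (m : G)⁻¹ ∈ R := by
    refine ⟨m * ⟨y, H.y_mem_M0⟩ * m⁻¹, ?_, rfl⟩
    rw [← hm]
    exact ⟨⟨y, H.y_mem_M0⟩, hP1 (Subgroup.mem_zpowers _), rfl⟩
  have hne : ∀ u ∈ T.U, ((m : G) * y * (m : G)⁻¹) * D.t * ((m : G) * y * (m : G)⁻¹)⁻¹ ≠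
      u * D.t * u⁻¹ := by
    intro u hu h
    have hmi := inv_mem m.2
    have hw : (m : G)⁻¹ * u * (m : G) ∈ T.U := M0_U' m.2 hu
    have h2 : y * ((m : G)⁻¹ * D.t * m) * y⁻¹ =
        ((m : G)⁻¹ * u * (m : G)) * ((m : G)⁻¹ * D.t * m) * ((m : G)⁻¹ * u * (m : G))⁻¹ := by
      calc y * ((m : G)⁻¹ * D.t * m) * y⁻¹ =
          (m : G)⁻¹ * (((m : G) * y * (m : G)⁻¹) * D.t * ((m : G) * y * (m : G)⁻¹)⁻¹) * m := by group
        _ = _ := by rw [h]; group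
    have h3 := H.M0_t hmi
    rw [inv_inv] at h3
    rcases h3 with ⟨u', hu', h3⟩ | ⟨u', hu', h3⟩
    · rw [← h3] at h2
      have h4 : y * (u' * D.t * u'⁻¹) * y⁻¹ = (y * u' * y⁻¹) * e * (y * u' * y⁻¹)⁻¹ := by
        rw [← H.hy.te]; group
      rw [h4] at h2
      have hyu := H.y_U hu'
      apply H.not_conj (u := (y * u' * y⁻¹)⁻¹ * ((m : G)⁻¹ * u * (m : G)) * u')
        (mul_mem (mul_mem (inv_mem hyu) hw) hu')
      calc (y * u' * y⁻¹)⁻¹ * ((m : G)⁻¹ * u * (m : G)) * u' * D.t *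
          ((y * u' * y⁻¹)⁻¹ * ((m : G)⁻¹ * u * (m : G)) * u')⁻¹ =
          (y * u' * y⁻¹)⁻¹ * (((m : G)⁻¹ * u * (m : G)) * (u' * D.t * u'⁻¹) *
            ((m : G)⁻¹ * u * (m : G))⁻¹) * (y * u' * y⁻¹) := by group
        _ = e := by rw [← h2]; group
    · rw [← h3] at h2
      have h4 : y * (u' * e * u'⁻¹) * y⁻¹ = (y * u' * y⁻¹) * D.t * (y * u' * y⁻¹)⁻¹ := by
        rw [← H.hy.et]; group
      rw [h4] at h2
      have hyu := H.y_U hu'
      apply H.not_conj (u := u'⁻¹ * ((m : G)⁻¹ * u * (m : G))⁻¹ * (y * u' * y⁻¹))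
        (mul_mem (mul_mem (inv_mem hu') (inv_mem hw)) hyu)
      calc u'⁻¹ * ((m : G)⁻¹ * u * (m : G))⁻¹ * (y * u' * y⁻¹) * D.t *
          (u'⁻¹ * ((m : G)⁻¹ * u * (m : G))⁻¹ * (y * u' * y⁻¹))⁻¹ =
          u'⁻¹ * ((m : G)⁻¹ * u * (m : G))⁻¹ * ((y * u' * y⁻¹) * D.t * (y * u' * y⁻¹)⁻¹) *
            ((m : G)⁻¹ * u * (m : G)) * u' := by group
        _ = e := by rw [h2]; group
  refine ⟨R, hR2, hSR, hRM, fun x hx u hu h => H.mem_S2_of hR2 hSR hx hu h, ?_, ?_⟩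
  · rcases H.M0_t (hRM hy1) with ⟨u, hu, h⟩ | ⟨u, hu, h⟩
    · exact absurd h.symm (hne u hu)
    · refine ⟨u⁻¹ * ((m : G) * y * (m : G)⁻¹),
        mul_mem (inv_mem (hSR (U_le_S2 F T H.hU hu))) hy1, ?_⟩
      calc u⁻¹ * ((m : G) * y * (m : G)⁻¹) * D.t * (u⁻¹ * ((m : G) * y * (m : G)⁻¹))⁻¹ =
          u⁻¹ * (((m : G) * y * (m : G)⁻¹) * D.t * ((m : G) * y * (m : G)⁻¹)⁻¹) * u := by group
        _ = e := by rw [← h]; group
  · intro g hg
    rcases H.M0_t (hRM hg) with ⟨u, hu, h⟩ | ⟨u, hu, h⟩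
    · exact H.cl_of_mem (H.mem_S2_of hR2 hSR hg hu h.symm) rfl
    · exact (H.no_swap (hRM hg) rfl hu h.symm).elim

omit H in
/-- the classes are fused in `R` -/
theorem Syl.fus {H : G1 F T e y} {R : Subgroup G} (h : Syl H R) {g : G} (hg : g * D.t * g⁻¹ ∈ R) :
    ∃ x ∈ R, g * D.t * g⁻¹ = x * D.t * x⁻¹ := by
  rcases h.cl g hg with ⟨u, hu, h1⟩ | ⟨u, hu, h1⟩
  · exact ⟨u, h.le (U_le_S2 F T H.hU hu), h1.symm⟩
  · obtain ⟨y1, hy1, h2⟩ := h.y1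
    refine ⟨u * y1, mul_mem (h.le (U_le_S2 F T H.hU hu)) hy1, ?_⟩
    rw [← h1, ← h2]; group

/-- **the Sylow 2-subgroup** -/
theorem exists_sylow : ∃ S : Sylow 2 G, Syl H (S : Subgroup G) := by
  obtain ⟨R, hR2, hR⟩ := H.exists_R
  obtain ⟨S, hS⟩ := hR2.exists_le_sylow
  refine ⟨S, ?_⟩
  have heq : (S : Subgroup G) = R := by
    by_contra hne
    have hlt : R < S := lt_of_le_of_ne hS (fun h => hne h.symm)
    have : Fact (Nat.Prime 2) := ⟨Nat.prime_two⟩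
    have h1 := Lib.GoldschmidtFusion.lt_inf_normalizer S.isPGroup' hlt
    obtain ⟨g, hg, hgn⟩ := SetLike.exists_of_lt h1
    have hgS : g ∈ (S : Subgroup G) := hg.1
    have htR : D.t ∈ R := hR.le (t_mem_S2 F T H.hU)
    have hgt : g * D.t * g⁻¹ ∈ R := (Subgroup.mem_normalizer_iff.mp hg.2 D.t).mp htR
    obtain ⟨x, hx, h2⟩ := hR.fus hgt
    have hc : (x⁻¹ * g) * D.t = D.t * (x⁻¹ * g) := by
      have e : x⁻¹ * g * D.t = x⁻¹ * (g * D.t * g⁻¹) * g := by group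
      rw [e, h2]; group
    have hS2 : S2 F T H.hU ≤ (S : Subgroup G) := hR.le.trans hS
    have h3 : x⁻¹ * g ∈ S2 F T H.hU := by
      apply H.mem_S2_of S.isPGroup' hS2 (u := 1)
        (Subgroup.mul_mem _ (Subgroup.inv_mem _ (hS hx)) hgS) (one_mem _)
      rw [hc]; group
    apply hgn
    have : g = x * (x⁻¹ * g) := by group
    rw [this]
    exact mul_mem hx (hR.le h3)
  rw [heq]; exact hR

end G1

end Cfsg.Agent.StdU3.GOneSyl
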