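import Cfsg.Agent.StdU3.OuterC
import Cfsg.Agent.StdU3.GOneSyl

/-!
# Type `g1`: existence of the configuration `G1`
-/

set_option autoImplicit false
set_option linter.unusedSectionVars false
set_option linter.dupNamespace false

namespace Cfsg.Agent.StdU3.GOneMk

open Cfsg.Agent.StdU3.Field Cfsg.Agent.StdU3.PreDef Cfsg.Agent.StdU3.FldDef
open Cfsg.Agent.StdU3.LevelOne Cfsg.Agent.StdU3.LevelOneW Cfsg.Agent.StdU3.FieldAut
open Cfsg.Agent.StdU3.Rank Cfsg.Agent.StdU3.Swap Cfsg.Agent.StdU3.SwapTorus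
open Cfsg.Agent.StdU3.OuterA Cfsg.Agent.StdU3.OuterB Cfsg.Agent.StdU3.OuterC
open Cfsg.Agent.StdU3.Tower.Base Cfsg.Agent.StdU3.Tower.GBase Cfsg.Agent.StdU3.Tower.End
open Cfsg.Agent.StdU3.Tower.Cen Cfsg.Agent.StdU3.GOneSyl Cfsg.Agent.StdU3.GOneDef
open Cfsg.Agent.StdU3.NormQ hiding barE

variable {G : Type*} [Group G] [Finite G] {K : Type*} [Field K] [Fintype K] [CharP K 2] {n : ℕ}
variable {D : Pre G K n} {F : Fld D} {e g : G} {c r : K}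

/-- the standing hypotheses on `e`, when `e` normalises `Q`. -/
theorem exists_all (heS : e ∈ F.Sg) (hch : ch F e = barE D.hq)
    {y0 : G} (hy0 : y0 * D.t * y0⁻¹ = e) :
    Hyp F e ∧ ∃ y c r, Dat F e y c r ∧ Swap D e y ∧ ∃ k, y ^ 2 ^ k = 1 := by
  have hsq : e * e = 1 := by
    rw [← hy0]
    have : y0 * D.t * y0⁻¹ * (y0 * D.t * y0⁻¹) = y0 * (D.t * D.t) * y0⁻¹ := by group
    rw [this, D.t_sq]; group
  have hi : Inv F e := ⟨F.Sg_t e heS, F.Sg_P e heS, hsq, hch⟩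
  obtain ⟨g, c, r, h⟩ := exists_dat F.Sg_norm hi (F.Sg_norm e heS) hy0
  have hH : Hyp F e := hyp_of heS hch ⟨y0, hy0⟩ h.s_not
  obtain ⟨y1, hy1⟩ := hH.exists_swap
  obtain ⟨i, hy, hk⟩ := hy1.two
  refine ⟨hH, y1 ^ (2 * i + 1), c, r, ⟨h.hn, h.inv, ⟨hy.te, hy.z, ?_, ?_, ?_⟩, h.out, h.rf, h.act⟩,
    hy, hk⟩
  · intro b hb
    obtain ⟨d, hd, h1⟩ := hy.Z_Pe hb
    exact ⟨d, hd, h1⟩
  · have h1 : (y1 ^ (2 * i + 1))⁻¹ * D.t * y1 ^ (2 * i + 1) = e := by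
      rw [← hy.et]; group
    rw [h1]; exact heS
  · have h1 : (y1 ^ (2 * i + 1))⁻¹ * D.t * y1 ^ (2 * i + 1) = e := by
      rw [← hy.et]; group
    rw [h1]; exact hi

/-- **the configuration `G1`** -/
theorem g1 (hg : gam D = 1) (heS : e ∈ F.Sg) (hH : Hyp F e) {y : G} (h : Dat F e y c r)
    (hy : Swap D e y) (hk : ∃ k, y ^ 2 ^ k = 1) (E : TypeIII (lvl F.amb hg) F.Sg) :
    G1 F (T3 E) e y where
  he := hH
  hy := hy
  y2 := hk
  hU := fun s hs g hg' => Sg_U E hs hg'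
  Pe_le := fun x hx => Pe_U h E heS hx
  PPe := fun u hu => PPe h E heS hu
  cmt := fun x hx r' hr => ⟨_, fixed_Tr D.hq _, P_U E hx (Pe_U h E heS hr)⟩

/-- **existence of `G1`** -/
theorem exists_g1 (hg : gam D = 1) (heS : e ∈ F.Sg) (hch : ch F e = barE D.hq)
    {y0 : G} (hy0 : y0 * D.t * y0⁻¹ = e) :
    ∃ (E : TypeIII (lvl F.amb hg) F.Sg) (y : G) (c r : K), Dat F e y c r ∧ G1 F (T3 E) e y := by
  obtain ⟨hH, y, c, r, h, hy, hk⟩ := exists_all heS hch hy0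
  obtain ⟨E⟩ := exists_E h hg
  exact ⟨E, y, c, r, h, g1 hg heS hH h hy hk E⟩

end Cfsg.Agent.StdU3.GOneMk
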