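import Cfsg.Agent.StdU3.LevelTwo

/-!
# The terminal groups of levels 1 and 2 lie in the normal closure of `P`

Homomorphisms of `G` into commutative groups which are trivial on `P` are trivial on `V` and `U`.
-/

set_option autoImplicit false
set_option linter.unusedSectionVars false
set_option linter.dupNamespace false

namespace Cfsg.Agent.StdU3.Gen

open Cfsg.Agent.StdU3.Field Cfsg.Agent.StdU3.PreDef Cfsg.Agent.StdU3.LevelOne
open Cfsg.Agent.StdU3.LevelOneW Cfsg.Agent.StdU3.NormQ Cfsg.Agent.StdU3.Kernel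
open Cfsg.Agent.StdU3.Next Cfsg.Agent.StdU3.LevelTwo

variable {G : Type*} [Group G] {K : Type*} [Field K] [Fintype K] [CharP K 2] {n : ℕ}
variable (D : Pre G K n) {O : Subgroup G} {M : Type*} [CommGroup M] (f : G →* M)

theorem map_cmt (x y : G) : f (x * y * x⁻¹ * y⁻¹) = 1 := by
  rw [map_mul, map_mul, map_mul, map_inv, map_inv, mul_comm (f x), mul_inv_cancel_right,
    mul_inv_cancel]

theorem exists_l (hq : Qd K n) : ∃ l : Kˣ, bar n (l : K) = l ∧ (l : K) + 1 ≠ 0 ∧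
    N n (l : K) + 1 ≠ 0 := by
  obtain ⟨l, hl, hl1⟩ := exists_fixed_ne hq
  have h1 : (l : K) + 1 ≠ 0 := fun h => hl1 (Field.add_eq_zero.mp h)
  refine ⟨l, hl, h1, ?_⟩
  intro h
  apply h1
  rw [N_of_fixed hl] at h
  have h2 : ((l : K) + 1) * ((l : K) + 1) = 0 := by
    have : ((l : K) + 1) * ((l : K) + 1) = ((l : K) ^ 2 + 1) + ((l : K) + l) := by ring
    rw [this, h, Field.add_self, add_zero]
  exact mul_self_eq_zero.mp h2

variable (hP : ∀ p ∈ D.P, f p = 1)

include hP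

theorem gen_W {g : G} (hg : g ∈ W D) : f g = 1 := by
  obtain ⟨l, hl, h1, h2⟩ := exists_l D.hq
  have hgQ := W_le D hg
  have hfix : bar n ((N n (l : K) + 1)⁻¹ * u D g) = (N n (l : K) + 1)⁻¹ * u D g :=
    fixed_mul (fixed_inv (fixed_add (fixed_N D.hq _) (bar_one n))) (u_fixed D hgQ)
  obtain ⟨y, hy, hyu⟩ := W_surj D hfix
  have hyQ := W_le D hy
  have hhy := D.Q_h l y hyQ
  set r := D.h l * y * (D.h l)⁻¹ * y⁻¹ with hr
  have hrQ : r ∈ D.Q := mul_mem hhy (inv_mem hyQ)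
  have hru : u D r = u D g := by
    rw [hr, u_mul D hhy (inv_mem hyQ), u_inv D hyQ, u_h D l hyQ, hyu]
    have : N n (l : K) * ((N n (l : K) + 1)⁻¹ * u D g) + (N n (l : K) + 1)⁻¹ * u D g =
      ((N n (l : K) + 1) * (N n (l : K) + 1)⁻¹) * u D g := by ring
    rw [this, mul_inv_cancel₀ h2, one_mul]
  have hra : a D r = 0 := by
    rw [hr, a_mul D hhy (inv_mem hyQ), a_inv D hyQ, a_h D l hyQ, a_W D hy, mul_zero, add_zero]
  have hre : e D r = 0 := by
    rw [hr, e_mul D hhy (inv_mem hyQ), e_inv D hyQ, e_h D l hyQ, e_W D hy, add_zero]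
  obtain ⟨c, hc, h3⟩ := exists_z_mul D hgQ hrQ (by rw [hra, a_W D hg]) hru.symm
    (by rw [hre, e_W D hg])
  rw [h3, map_mul, hP _ (D.z_mem c), one_mul]
  exact map_cmt f _ _

/-- **level 1** -/
theorem gen_V {g : G} (hg : g ∈ V D) : f g = 1 := by
  obtain ⟨x, hx, hxa⟩ := D.ca_surj (a D g)
  have hgQ := V_le D hg
  have hxQ := D.P_le hx
  have h1 : x⁻¹ * g ∈ W D := by
    apply W_of_ae D (mul_mem (inv_mem hxQ) hgQ)
    · rw [a_mul D (inv_mem hxQ) hgQ, a_inv D hxQ, a_P D hx, hxa, Field.add_self]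
    · rw [e_mul D (inv_mem hxQ) hgQ, e_inv D hxQ, e_P D hx, e_zero D hg, add_zero]
  have h2 : g = x * (x⁻¹ * g) := by group
  rw [h2, map_mul, hP x hx, gen_W D f hP h1, one_mul]

/-- **level 2** -/
theorem gen_U [Finite G] (hg0 : gam D = 0) (hO : Amb D O) (X : Next D O)
    (hsurj : ∀ c, ∃ s ∈ X.S, a D (s * D.t * s⁻¹) = c) {g : G} (hg : g ∈ U D X) : f g = 1 := by
  obtain ⟨l, hl, h1, h2⟩ := exists_l D.hq
  have hw : w n l = l := by
    unfold w
    rw [hl, sq, mul_assoc, mul_inv_cancel₀ l.ne_zero, mul_one]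
  obtain ⟨s, hs, hsb⟩ := U_surj D hg0 hO X hsurj (((l : K) + 1)⁻¹ * b D g)
  have hsS := U_le D X hs
  set r := X.h' l * s * (X.h' l)⁻¹ * s⁻¹ with hr
  have hhs := X.h'_S l s hsS
  have hrS : r ∈ X.S := mul_mem hhs (inv_mem hsS)
  have hb : b D r = b D g := by
    rw [hr, b_mul D (X.S_N2 hhs) (X.S_N2 (inv_mem hsS)), b_inv D (X.S_N2 hsS), b_h D X l hsS, hw, hsb]
    have : (l : K) * (((l : K) + 1)⁻¹ * b D g) + ((l : K) + 1)⁻¹ * b D g =
      (((l : K) + 1) * ((l : K) + 1)⁻¹) * b D g := by ring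
    rw [this, mul_inv_cancel₀ h1, one_mul]
  have hgS := U_le D X hg
  have hrU : r ∈ U D X := by
    have hn : Norm D (X.h' l) := norm_of_fwd D (fun g hg => by
      rw [X.h'_Q l g hg]; exact D.Q_h l g hg)
    exact mul_mem (conj_U D X hn (X.h'_S l) hs) (inv_mem hs)
  have h3 : r⁻¹ * g ∈ V D := by
    apply U_Q D (mul_mem (inv_mem hrU) hg)
    apply mem_Q_of_b D hg0 hO X (mul_mem (inv_mem hrS) hgS)
    rw [b_mul D (X.S_N2 (inv_mem hrS)) (X.S_N2 hgS), b_inv D (X.S_N2 hrS), hb, Field.add_self]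
  have h4 : g = r * (r⁻¹ * g) := by group
  rw [h4, map_mul, gen_V D f hP h3, mul_one, hr]
  exact map_cmt f _ _

end Cfsg.Agent.StdU3.Gen

namespace Cfsg.Agent.StdU3.Gen

universe u

/-- elements in the kernel of every homomorphism into a commutative group which kills `P` are
in the normal subgroup `E ≥ P` if `G = E ∪ t⁻¹ E`. -/
theorem mem_of_gen {G : Type u} [Group G] {P E : Subgroup G} [hEn : E.Normal] {t : G}
    (hE : ∀ g : G, g ∈ E ∨ t * g ∈ E) (hPE : P ≤ E) {x : G}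
    (h : ∀ (M : Type u) [CommGroup M] (f : G →* M), (∀ p ∈ P, f p = 1) → f x = 1) : x ∈ E := by
  have h1 : ∀ a : G ⧸ E, a = 1 ∨ a = (QuotientGroup.mk t)⁻¹ := by
    intro a
    obtain ⟨g, rfl⟩ := QuotientGroup.mk_surjective a
    rcases hE g with hg | hg
    · left; exact (QuotientGroup.eq_one_iff g).mpr hg
    · right
      have h2 := (QuotientGroup.eq_one_iff (N := E) (t * g)).mpr hg
      rw [QuotientGroup.mk_mul] at h2
      exact (inv_eq_of_mul_eq_one_right h2).symm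
  let I : CommGroup (G ⧸ E) :=
    { (inferInstance : Group (G ⧸ E)) with
      mul_comm := by
        intro a b
        rcases h1 a with ha | ha <;> rcases h1 b with hb | hb
        · rw [ha, hb]
        · rw [ha]; exact (one_mul b).trans (mul_one b).symm
        · rw [hb]; exact (mul_one a).trans (one_mul a).symm
        · rw [ha, hb] }
  have h2 := h (G ⧸ E) (QuotientGroup.mk' E) (fun p hp => (QuotientGroup.eq_one_iff p).mpr (hPE hp))
  exact (QuotientGroup.eq_one_iff x).mp h2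

end Cfsg.Agent.StdU3.Gen
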