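import Cfsg.Agent.StdU3.GOneMkA
import Cfsg.Agent.StdU3.GOneMk
import Cfsg.Agent.StdU3.GOneAEnd
import Cfsg.Agent.StdU3.GOneLMk
import Cfsg.Agent.StdU3.Gen
import Cfsg.Agent.StdU3.MainDef

/-!
# Type `g1`: final glue
-/

set_option autoImplicit false
set_option linter.unusedSectionVars false
set_option linter.dupNamespace false

namespace Cfsg.Agent.StdU3.GOneMain

open Subgroup Cfsg.Agent.StdU3.Field Cfsg.Agent.StdU3.PreDef Cfsg.Agent.StdU3.FldDef
open Cfsg.Agent.StdU3.LevelOne Cfsg.Agent.StdU3.TermDef Cfsg.Agent.StdU3.LevelOneW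
open Cfsg.Agent.StdU3.MainDef Cfsg.Agent.StdU3.Swap Cfsg.Agent.StdU3.GOneSyl
open Cfsg.Agent.StdU3.Tower.GBase Cfsg.Agent.StdU3.Tower.End Cfsg.Agent.StdU3.Tower.Cen
open Cfsg.Agent.StdU3.OuterC

variable {G : Type*} [Group G] [Finite G] {K : Type*} [Field K] [Fintype K] [CharP K 2] {n : ℕ}
variable {D : Pre G K n} {F : Fld D}

/-- **type `g1`**: this is `Main.ConsOne F E`. -/
theorem consOne (F : Fld D) (E : Subgroup G) :
    ∀ (e g : G) (c r : K), e ∈ F.Sg → OuterA.Dat F e g c r → gam D = 1 → Glob D.t E → F.A ≤ E →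
    Out D.t E := by
  intro e g c r heS h hg hG hAE
  have hch : Rank.ch F e = FieldAut.barE D.hq := h.inv.ch
  obtain ⟨E3, y, c', r', h', H⟩ := GOneMk.exists_g1 hg heS hch h.cj.te
  have hUE : (T3 E3).U ≤ E := by
    haveI := hG.normal
    intro x hx
    exact Gen.mem_of_gen hG.gen (fun p hp => hAE (F.P_A hp))
      (fun M _ f hf => OuterC.gen E3 f hf (by rwa [T3_U] at hx))
  have hcard : Nat.card (T3 E3).U = (2 ^ n) ^ 5 := card_U3 E3
  have A := Tower.Inst.clIII E3.V le_rfl E3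
  by_cases hPR : ∀ x ∈ D.P, ∀ r ∈ Pe D y, x * r = r * x
  · exact (GOneMkA.false_of_comm H hG hUE hcard hPR).elim
  · rcases Nat.even_or_odd n with hn | hn
    · exact absurd (GOneA.comm_of_even H (C3 E3) A (T3_U E3) hn) hPR
    · push Not at hPR
      exact GOneLMk.out H (T3_U E3) A hG hUE hn hPR

end Cfsg.Agent.StdU3.GOneMain
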