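import Cfsg.Agent.StdU3.Outer

/-!
# A torus element commuting with an outer involution
-/

set_option autoImplicit false
set_option linter.unusedSectionVars false

namespace Cfsg.Agent.StdU3.OuterTorus

open Cfsg.Agent.StdU3.Field Cfsg.Agent.StdU3.PreDef Cfsg.Agent.StdU3.LevelOne
open Cfsg.Agent.StdU3.LevelOneW Cfsg.Agent.StdU3.NormQ Cfsg.Agent.StdU3.Kernel
open Cfsg.Agent.StdU3.Next Cfsg.Agent.StdU3.Outer

variable {G : Type*} [Group G] {K : Type*} [Field K] [Fintype K] [CharP K 2] {n : ℕ}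
variable {D : Pre G K n} {O : Subgroup G}

/-- fixed points of the torus on `P`. -/
theorem eq_one_of_h (l : Kˣ) (hl : bar n (l : K) = l) (hl1 : (l : K) ≠ 1) {p : G}
    (hp : p ∈ D.P) (hhp : D.h l * p * (D.h l)⁻¹ = p) : p = 1 := by
  have h3 := D.h_ca l p hp
  rw [hhp, w_of_fixed hl] at h3
  have h4 : D.ca p = 0 := by
    by_contra hne
    have h5 : (l : K) * D.ca p = 1 * D.ca p := by rw [← h3, one_mul]
    exact hl1 (mul_right_cancel₀ hne h5)
  obtain ⟨b, hb, rfl⟩ := D.exists_z p hp h4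
  rw [h_z D l hb, N_of_fixed hl] at hhp
  have h5 := z_eq D (fixed_mul (by rw [bar_pow, hl]) hb) hb hhp
  have h6 : b = 0 := by
    by_contra hne
    have h7 : (l : K) ^ 2 * b = 1 * b := by rw [h5, one_mul]
    have h8 := mul_right_cancel₀ hne h7
    have h9 : ((l : K) + 1) ^ 2 = 0 := by
      rw [CharTwo.add_sq, h8, one_pow, Field.add_self]
    have h10 := pow_eq_zero_iff (two_ne_zero) |>.mp h9
    exact hl1 (Field.add_eq_zero.mp h10)
  rw [h6, z_zero]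

theorem exists_h_comm [Finite G] (l : Kˣ) (hl : bar n (l : K) = l) (hl1 : (l : K) ≠ 1) {p1 : G}
    (hp1 : p1 ∈ D.P) : ∃ p ∈ D.P, (D.h l * p * (D.h l)⁻¹)⁻¹ * p = p1 := by
  have hhP := D.h_P l
  set d := D.h l with hd
  let f : D.P → D.P := fun p => ⟨(d * p * d⁻¹)⁻¹ * p, mul_mem (inv_mem (hhP p p.2)) p.2⟩
  have hinj : Function.Injective f := by
    intro p p' hpp
    have h3 : (d * (p : G) * d⁻¹)⁻¹ * p = (d * (p' : G) * d⁻¹)⁻¹ * p' := congrArg Subtype.val hpp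
    have h4 : d * ((p' : G) * (p : G)⁻¹) * d⁻¹ = (p' : G) * (p : G)⁻¹ := by
      have h5 : (d * (p' : G) * d⁻¹) * ((d * (p : G) * d⁻¹)⁻¹ * p) = p' := by
        rw [h3]; group
      have h6 : d * ((p' : G) * (p : G)⁻¹) * d⁻¹ =
          ((d * (p' : G) * d⁻¹) * ((d * (p : G) * d⁻¹)⁻¹ * p)) * (p : G)⁻¹ := by group
      rw [h6, h5]
    have h5 := eq_one_of_h l hl hl1 (mul_mem p'.2 (inv_mem p.2)) h4
    apply Subtype.ext
    exact (mul_inv_eq_one.mp h5).symm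
  obtain ⟨p, hp⟩ := (Finite.injective_iff_surjective.mp hinj) ⟨p1, hp1⟩
  exact ⟨p, p.2, congrArg Subtype.val hp⟩

theorem pow_ne_one_of {l : K} (hl1 : l ≠ 1) (i : ℕ) : l ^ (2 ^ i) ≠ 1 := by
  intro h
  apply hl1
  have h1 : (l + 1) ^ (2 ^ i) = 0 := by
    rw [add_pow_char_pow, h, one_pow, Field.add_self]
  have h2 := pow_eq_zero_iff (by positivity) |>.mp h1
  exact Field.add_eq_zero.mp h2

/-- odd order: square roots in cyclic groups. -/
theorem exists_sqrt_odd {k : G} {m : ℕ} (hm : Odd m) (hk : k ^ m = 1) :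
    ∃ j : ℕ, k ^ j * k ^ j = k⁻¹ := by
  obtain ⟨j, hj⟩ := hm
  refine ⟨j, ?_⟩
  rw [← pow_add, eq_inv_iff_mul_eq_one, ← pow_succ]
  have : j + j + 1 = m := by omega
  rw [this, hk]

theorem exists_torus [Finite G] (hO : Amb D O) {x : G} {c : K} (h : Out D x c) :
    ∃ o, Norm D o ∧ Commute o x ∧ Commute o D.t ∧ Odd (orderOf o) ∧
      ∃ l : K, bar n l = l ∧ l ≠ 0 ∧ l ≠ 1 ∧ ∀ b, A D o b = l * b := by
  set l := l1 D with hldef
  have hl := l1_fixed D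
  have hl1 := l1_ne D
  rw [← hldef] at hl hl1
  have hd := norm_h D l
  have hdP := D.h_P l
  have hA := fun b => A_h D l b
  have hexh := fun {p1 : G} (hp1 : p1 ∈ D.P) => exists_h_comm (D := D) l hl hl1 hp1
  have hfix := fun {p : G} (hp : p ∈ D.P) => eq_one_of_h (D := D) l hl hl1 hp
  have hdt : Commute (D.h l) D.t := (D.t_h l).symm
  set d := D.h l with hdd
  have hxt : Commute x D.t := h.comm
  -- the commutator
  have hyN : x * d * x⁻¹ * d⁻¹ ∈ N2 D := by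
    refine ⟨Norm.mul D (Norm.mul D (Norm.mul D h.norm hd) (Norm.inv D h.norm)) (Norm.inv D hd),
      fun b => ?_⟩
    rw [A_mul D (Norm.mul D (Norm.mul D h.norm hd) (Norm.inv D h.norm)) (Norm.inv D hd),
      A_mul D (Norm.mul D h.norm hd) (Norm.inv D h.norm), A_mul D h.norm hd]
    have e1 : ∀ b, A D x (A D d b) = A D d (A D x b) := by
      intro b
      rw [hA, h.act, h.act, hA, bar_mul, w_of_fixed hl, hl]; ring
    rw [e1, A_inv_right D h.norm, A_inv_right D hd]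
  have hyt : (x * d * x⁻¹ * d⁻¹) * D.t = D.t * (x * d * x⁻¹ * d⁻¹) :=
    (((hxt.mul_left hdt).mul_left hxt.inv_left).mul_left hdt.inv_left)
  obtain ⟨q, hq, k, hk, hqk⟩ := dec_of_comm D hO hyN hyt
  have hk' := ((mem_D1 D).mp hk).2
  have hkO := ((mem_D1 D).mp hk).1
  have hkt : Commute k D.t := (hk' _ D.Q_t).symm
  have hqt : Commute q D.t := by
    have e : q = (x * d * x⁻¹ * d⁻¹) * k⁻¹ := by rw [hqk]; group
    rw [e]
    exact Commute.mul_left hyt hkt.inv_left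
  -- `q⁻¹ = τ * p1`
  obtain ⟨τ, hτ, p1, hp1, hqp⟩ : ∃ τ, (τ = 1 ∨ τ = D.t) ∧ ∃ p1 ∈ D.P, q⁻¹ = τ * p1 := by
    rcases D.Q_T q hq hqt with h3 | h3
    · exact ⟨1, Or.inl rfl, q⁻¹, inv_mem h3, by rw [one_mul]⟩
    · refine ⟨D.t, Or.inr rfl, (q * D.t)⁻¹, inv_mem h3, ?_⟩
      rw [mul_inv_rev]
      have : D.t * (D.t⁻¹ * q⁻¹) = q⁻¹ := by group
      rw [this]
  have hττ : τ * τ = 1 := by
    rcases hτ with rfl | rfl
    · rw [one_mul]
    · exact D.t_sq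
  have hτc : ∀ g, Commute g D.t → Commute g τ := by
    intro g hg
    rcases hτ with rfl | rfl
    · exact Commute.one_right g
    · exact hg
  have hPt : ∀ p ∈ D.P, Commute p D.t := fun p hp => (D.t_P p hp).symm
  obtain ⟨p, hp, hpp⟩ := hexh hp1
  set y := p * x with hy
  have hyt : Commute y D.t := (hPt p hp).mul_left hxt
  have hkP : ∀ g ∈ D.P, Commute k g := fun g hg => (hk' g (D.P_le hg)).symm
  -- `d y d⁻¹ = k⁻¹ τ y`
  have hdy : d * y * d⁻¹ = k⁻¹ * τ * y := by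
    have e1 : d * x * d⁻¹ = (q * k)⁻¹ * x := by rw [← hqk]; group
    have e2 : d * y * d⁻¹ = (d * p * d⁻¹) * (d * x * d⁻¹) := by rw [hy]; group
    have e3 : d * p * d⁻¹ * p1 = p := by rw [← hpp]; group
    calc d * y * d⁻¹ = (d * p * d⁻¹) * (k⁻¹ * q⁻¹ * x) := by rw [e2, e1, mul_inv_rev]
      _ = ((d * p * d⁻¹) * k⁻¹) * (τ * p1) * x := by rw [hqp]; group
      _ = (k⁻¹ * (d * p * d⁻¹)) * (τ * p1) * x := by
          rw [((hkP _ (hdP p hp)).inv_left).eq]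
      _ = k⁻¹ * ((d * p * d⁻¹) * τ) * p1 * x := by group
      _ = k⁻¹ * (τ * (d * p * d⁻¹)) * p1 * x := by rw [(hτc _ (hPt _ (hdP p hp))).eq]
      _ = k⁻¹ * τ * ((d * p * d⁻¹) * p1) * x := by group
      _ = k⁻¹ * τ * y := by rw [e3, hy]; group
  -- the square
  have hyy : y * y = p * (x * p * x⁻¹) := by
    have : y * y = p * (x * p * x⁻¹) * (x * x) := by rw [hy]; group
    rw [this, h.sq, mul_one]
  have hyyP : y * y ∈ D.P := by rw [hyy]; exact mul_mem hp (h.P_mem hp)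
  have hyN' : Norm D y := Norm.mul D (Norm.of_mem D (D.P_le hp)) h.norm
  have hκ : k⁻¹ * (y * k⁻¹ * y⁻¹) ∈ D1 D O :=
    (D1 D O).mul_mem ((D1 D O).inv_mem hk) (D1_normal D hO hyN' ((D1 D O).inv_mem hk))
  have hsq : d * (y * y) * d⁻¹ = (k⁻¹ * (y * k⁻¹ * y⁻¹)) * (y * y) := by
    have e1 : d * (y * y) * d⁻¹ = (d * y * d⁻¹) * (d * y * d⁻¹) := by group
    rw [e1, hdy]
    calc k⁻¹ * τ * y * (k⁻¹ * τ * y) = k⁻¹ * (τ * (y * k⁻¹)) * τ * y := by group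
      _ = k⁻¹ * ((y * k⁻¹) * τ) * τ * y := by
          rw [(hτc _ (hyt.mul_left hkt.inv_left)).eq]
      _ = k⁻¹ * (y * k⁻¹) * (τ * τ) * y := by group
      _ = (k⁻¹ * (y * k⁻¹ * y⁻¹)) * (y * y) := by rw [hττ]; group
  have hκ1 : k⁻¹ * (y * k⁻¹ * y⁻¹) = 1 := by
    have hP : k⁻¹ * (y * k⁻¹ * y⁻¹) ∈ D.P := by
      have e : k⁻¹ * (y * k⁻¹ * y⁻¹) = (d * (y * y) * d⁻¹) * (y * y)⁻¹ := by rw [hsq]; group
      rw [e]
      exact mul_mem (hdP _ hyyP) (inv_mem hyyP)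
    obtain ⟨m, hm⟩ := D.Q_two ⟨_, D.P_le hP⟩
    exact eq_one_of_O D hO ((mem_D1 D).mp hκ).1 (congrArg Subtype.val hm)
  have hyy1 : y * y = 1 := by
    apply hfix hyyP
    rw [hsq, hκ1, one_mul]
  have hyk : y * k⁻¹ * y⁻¹ = k := by
    rw [inv_mul_eq_one] at hκ1
    exact hκ1.symm
  -- the element `m`
  obtain ⟨j, hj⟩ := exists_sqrt_odd hO.odd (pow_card_O hkO)
  set m := k ^ j with hm
  have hym : y * m * y⁻¹ = m⁻¹ := by
    have e : y * k * y⁻¹ = k⁻¹ := by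
      have e1 : (y * k⁻¹ * y⁻¹)⁻¹ = k⁻¹ := by rw [hyk]
      rw [← e1]; group
    rw [hm, ← conj_pow, e, inv_pow]
  have hmt : Commute m D.t := hkt.pow_left j
  have hmD1 : m ∈ D1 D O := pow_mem hk j
  -- `d' = m⁻¹ d`
  have hd' : (m⁻¹ * d) * y * (m⁻¹ * d)⁻¹ = τ * y := by
    have e1 : m * y * m⁻¹ = k⁻¹ * y := by
      have e2 : y * m⁻¹ * y⁻¹ = m := by
        have e1 : (y * m * y⁻¹)⁻¹ = m := by rw [hym, inv_inv]
        calc y * m⁻¹ * y⁻¹ = (y * m * y⁻¹)⁻¹ := by group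
          _ = m := e1
      calc m * y * m⁻¹ = m * (y * m⁻¹ * y⁻¹) * y := by group
        _ = m * m * y := by rw [e2]
        _ = _ := by rw [hj]
    have e3 : (m⁻¹ * d) * y * (m⁻¹ * d)⁻¹ = m⁻¹ * (d * y * d⁻¹) * m := by group
    rw [e3, hdy]
    have e4 : k⁻¹ * τ = τ * k⁻¹ := (hτc _ hkt.inv_left).eq
    have e5 : m⁻¹ * τ = τ * m⁻¹ := (hτc _ hmt.inv_left).eq
    calc m⁻¹ * (k⁻¹ * τ * y) * m = m⁻¹ * ((k⁻¹ * τ) * y) * m := by group
      _ = (m⁻¹ * τ) * (k⁻¹ * y) * m := by rw [e4]; group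
      _ = τ * y := by rw [e5, ← e1]; group
  set d1 := m⁻¹ * d with hd1
  have hd1N : Norm D d1 := Norm.mul D (Norm.inv D (D1_le D hmD1).1) hd
  have hd1A : ∀ b, A D d1 b = l * b := by
    intro b
    rw [hd1, A_mul D (Norm.inv D (D1_le D hmD1).1) hd, ((N2 D).inv_mem (D1_le D hmD1)).2, hA,
      w_of_fixed hl]
  have hd1t : Commute d1 D.t := hmt.inv_left.mul_left hdt
  have hd2y : Commute (d1 * d1) y := by
    have e : (d1 * d1) * y * (d1 * d1)⁻¹ = y := by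
      have e1 : (d1 * d1) * y * (d1 * d1)⁻¹ = d1 * (d1 * y * d1⁻¹) * d1⁻¹ := by group
      rw [e1, hd']
      calc d1 * (τ * y) * d1⁻¹ = (d1 * τ) * y * d1⁻¹ := by group
        _ = (τ * d1) * y * d1⁻¹ := by rw [(hτc _ hd1t).eq]
        _ = τ * (d1 * y * d1⁻¹) := by group
        _ = τ * τ * y := by rw [hd']; group
        _ = y := by rw [hττ, one_mul]
    exact mul_inv_eq_iff_eq_mul.mp e
  -- `y` is conjugate to `x`
  have hline : c * bar n (D.ca p) = D.ca p := by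
    have e1 : D.ca (p * (x * p * x⁻¹)) = 0 := by rw [← hyy, hyy1, ca_one]
    rw [D.ca_mul p hp _ (h.P_mem hp), h.ca_conj hp] at e1
    exact (Field.add_eq_zero.mp e1).symm
  obtain ⟨y', hy', hyx⟩ := h.conj_P hp hline
  have hy'N : Norm D y' := Norm.of_mem D (D.P_le hy')
  set o1 := y'⁻¹ * (d1 * d1) * y' with ho1
  have ho1x : Commute o1 x := by
    have e1 : x = y'⁻¹ * y * y' := by rw [hy, ← hyx]; group
    show o1 * x = x * o1
    calc o1 * x = y'⁻¹ * ((d1 * d1) * y) * y' := by rw [ho1, e1]; group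
      _ = y'⁻¹ * (y * (d1 * d1)) * y' := by rw [hd2y.eq]
      _ = x * o1 := by rw [ho1, e1]; group
  have ho1t : Commute o1 D.t :=
    ((hPt _ hy').inv_left.mul_left (hd1t.mul_left hd1t)).mul_left (hPt _ hy')
  have ho1N : Norm D o1 :=
    Norm.mul D (Norm.mul D (Norm.inv D hy'N) (Norm.mul D hd1N hd1N)) hy'N
  have hy'A := A_of_mem D (D.P_le hy')
  have hy'A' := A_of_mem D (D.P_le (inv_mem hy'))
  have ho1A : ∀ b, A D o1 b = (l : K) ^ 2 * b := by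
    intro b
    rw [ho1, A_mul D (Norm.mul D (Norm.inv D hy'N) (Norm.mul D hd1N hd1N)) hy'N,
      A_mul D (Norm.inv D hy'N) (Norm.mul D hd1N hd1N), hy'A, hy'A', A_mul D hd1N hd1N, hd1A, hd1A]
    ring
  -- odd part
  obtain ⟨i, r, hr, hir⟩ := Nat.exists_eq_two_pow_mul_odd (orderOf_pos o1).ne'
  have hpowN : ∀ i : ℕ, Norm D (o1 ^ i) ∧ ∀ b, A D (o1 ^ i) b = ((l : K) ^ 2) ^ i * b := by
    intro i
    induction i with
    | zero =>
      rw [pow_zero]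
      exact ⟨Norm.one D, fun b => by rw [A_one D b, pow_zero, one_mul]⟩
    | succ i ih =>
      rw [pow_succ]
      refine ⟨Norm.mul D ih.1 ho1N, fun b => ?_⟩
      rw [A_mul D ih.1 ho1N, ho1A, ih.2, pow_succ]; ring
  refine ⟨o1 ^ (2 ^ i), (hpowN _).1, ho1x.pow_left _, ho1t.pow_left _, ?_,
    ((l : K) ^ 2) ^ (2 ^ i), ?_, ?_, ?_, (hpowN _).2⟩
  · rw [orderOf_pow, hir, Nat.gcd_eq_right (dvd_mul_right _ _),
      Nat.mul_div_cancel_left _ (by positivity)]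
    exact hr
  · rw [bar_pow, bar_pow, hl]
  · exact pow_ne_zero _ (pow_ne_zero _ l.ne_zero)
  · have : ((l : K) ^ 2) ^ (2 ^ i) = (l : K) ^ (2 ^ (i + 1)) := by
      rw [← pow_mul, ← pow_succ']
    rw [this]
    exact pow_ne_one_of hl1 _

end Cfsg.Agent.StdU3.OuterTorus
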