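import Cfsg.Agent.StdU3.Next
import Cfsg.Agent.StdU3.FieldAut
import Cfsg.Agent.StdU3.Card

/-!
# Conjugates of `t` in `t V` are conjugate to `t` under `N(Q)`
-/

set_option autoImplicit false
set_option linter.unusedSectionVars false
set_option linter.style.haveILetI false

namespace Cfsg.Agent.StdU3.LevelOneD

open Cfsg.Agent.StdU3.Field Cfsg.Agent.StdU3.PreDef Cfsg.Agent.StdU3.LevelOne
open Cfsg.Agent.StdU3.LevelOneW Cfsg.Agent.StdU3.NormQ Cfsg.Agent.StdU3.Kernel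
open Cfsg.Agent.StdU3.Next

variable {G : Type*} [Group G] {K : Type*} [Field K] [Fintype K] [CharP K 2] {n : ℕ}
variable (D : Pre G K n) {O : Subgroup G}

/-- a Sylow 2-subgroup `Sig ≥ P` of `C_G(t)`. -/
structure Fl (Sig : Subgroup G) : Prop where
  two : IsPGroup 2 Sig
  P_le : D.P ≤ Sig
  t_mem : D.t ∈ Sig
  comm : ∀ x ∈ Sig, x * D.t = D.t * x
  norm_P : ∀ x ∈ Sig, ∀ p ∈ D.P, x * p * x⁻¹ ∈ D.P
  sl : ∀ x ∈ Sig, ∃ c : K, ∃ τ : K ≃+* K, (∀ p ∈ D.P, D.ca (x * p * x⁻¹) = c * τ (D.ca p)) ∧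
    (τ = 1 → x ∈ D.P ∨ x * D.t ∈ D.P)
  conj : ∀ Y : Subgroup G, IsPGroup 2 Y → (∀ y ∈ Y, y * D.t = D.t * y) →
    ∃ c, c * D.t = D.t * c ∧ ∀ y ∈ Y, c * y * c⁻¹ ∈ Sig

variable {D} {Sig : Subgroup G} (F : Fl D Sig)

open Classical in
/-- the Galois component. -/
noncomputable def tau (D : Pre G K n) (x : G) : K ≃+* K :=
  if h : ∃ c : K, ∃ τ : K ≃+* K, (∀ p ∈ D.P, D.ca (x * p * x⁻¹) = c * τ (D.ca p)) ∧
    (τ = 1 → x ∈ D.P ∨ x * D.t ∈ D.P) then h.choose_spec.choose else 1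

open Classical in
/-- the scalar. -/
noncomputable def sc (D : Pre G K n) (x : G) : K :=
  if h : ∃ c : K, ∃ τ : K ≃+* K, (∀ p ∈ D.P, D.ca (x * p * x⁻¹) = c * τ (D.ca p)) ∧
    (τ = 1 → x ∈ D.P ∨ x * D.t ∈ D.P) then h.choose else 1

include F in
theorem ca_conj {x : G} (hx : x ∈ Sig) {p : G} (hp : p ∈ D.P) :
    D.ca (x * p * x⁻¹) = sc D x * tau D x (D.ca p) := by
  have h := F.sl x hx
  unfold sc tau
  rw [dif_pos h, dif_pos h]
  exact h.choose_spec.choose_spec.1 p hp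

include F in
theorem mem_of_tau {x : G} (hx : x ∈ Sig) (h1 : tau D x = 1) : x ∈ D.P ∨ x * D.t ∈ D.P := by
  have h := F.sl x hx
  unfold tau at h1
  rw [dif_pos h] at h1
  exact h.choose_spec.choose_spec.2 h1

theorem eq_of_sl {c c' : K} {τ τ' : K ≃+* K} (h : ∀ b, c * τ b = c' * τ' b) (hc : c ≠ 0) :
    c = c' ∧ τ = τ' := by
  have h1 := h 1
  rw [map_one, map_one, mul_one, mul_one] at h1
  refine ⟨h1, ?_⟩
  ext b
  have h2 := h b
  rw [← h1] at h2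
  exact mul_left_cancel₀ hc h2

include F in
theorem sc_ne {x : G} (hx : x ∈ Sig) : sc D x ≠ 0 := by
  intro h0
  obtain ⟨p, hp, hp1⟩ := D.ca_surj 1
  have h1 : x⁻¹ * p * x ∈ D.P := by
    have := F.norm_P _ (inv_mem hx) p hp
    rwa [inv_inv] at this
  have h2 := ca_conj F hx h1
  have h3 : x * (x⁻¹ * p * x) * x⁻¹ = p := by group
  rw [h3, hp1, h0, zero_mul] at h2
  exact one_ne_zero h2

include F in
theorem tau_mul {x y : G} (hx : x ∈ Sig) (hy : y ∈ Sig) : tau D (x * y) = tau D x * tau D y := by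
  have h : ∀ b, sc D (x * y) * tau D (x * y) b = (sc D x * tau D x (sc D y)) *
      (tau D x * tau D y) b := by
    intro b
    obtain ⟨p, hp, rfl⟩ := D.ca_surj b
    rw [← ca_conj F (mul_mem hx hy) hp]
    have e1 : x * y * p * (x * y)⁻¹ = x * (y * p * y⁻¹) * x⁻¹ := by group
    rw [e1, ca_conj F hx (F.norm_P y hy p hp), ca_conj F hy hp, map_mul, mul_assoc]
    rfl
  exact (eq_of_sl h (sc_ne F (mul_mem hx hy))).2

include F in
theorem tau_one : tau D 1 = 1 := by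
  have h := tau_mul F Sig.one_mem Sig.one_mem
  rw [mul_one] at h
  exact (mul_eq_left.mp h.symm)

include F in
theorem tau_inv {x : G} (hx : x ∈ Sig) : tau D x⁻¹ = (tau D x)⁻¹ := by
  have h := tau_mul F hx (inv_mem hx)
  rw [mul_inv_cancel, tau_one F] at h
  exact (inv_eq_of_mul_eq_one_right h.symm).symm

include F in
theorem tau_P {x : G} (hx : x ∈ D.P) : tau D x = 1 := by
  have hxS := F.P_le hx
  have h : ∀ b, sc D x * tau D x b = 1 * (1 : K ≃+* K) b := by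
    intro b
    obtain ⟨p, hp, rfl⟩ := D.ca_surj b
    rw [← ca_conj F hxS hp, D.ca_mul _ (mul_mem hx hp) _ (inv_mem hx), D.ca_mul x hx p hp,
      ca_inv D hx]
    show D.ca x + D.ca p + D.ca x = 1 * D.ca p
    rw [one_mul, add_comm (D.ca x), add_assoc, Field.add_self, add_zero]
  exact (eq_of_sl h (sc_ne F hxS)).2

include F in
theorem tau_t : tau D D.t = 1 := by
  have h : ∀ b, sc D D.t * tau D D.t b = 1 * (1 : K ≃+* K) b := by
    intro b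
    obtain ⟨p, hp, rfl⟩ := D.ca_surj b
    rw [← ca_conj F F.t_mem hp, D.t_P p hp]
    have : p * D.t * D.t⁻¹ = p := by group
    rw [this]
    show D.ca p = 1 * D.ca p
    rw [one_mul]
  exact (eq_of_sl h (sc_ne F F.t_mem)).2

/-! ### Centralizers of involutions of `t V` -/

/-- `C_Q(d)`. -/
def T (D : Pre G K n) (d : G) : Subgroup G := D.Q ⊓ Subgroup.centralizer {d}

theorem mem_T {d k : G} : k ∈ T D d ↔ k ∈ D.Q ∧ k * d = d * k := by
  unfold T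
  rw [Subgroup.mem_inf, Subgroup.mem_centralizer_singleton_iff]

theorem z_mem_T {d : G} (hd : d ∈ D.Q) (b : K) : D.z b ∈ T D d :=
  mem_T.mpr ⟨z_mem_Q D b, (D.Q_Z d hd b).symm⟩

theorem mem_Tt {k : G} : k ∈ T D D.t ↔ k ∈ D.P ∨ k * D.t ∈ D.P := by
  rw [mem_T]
  constructor
  · rintro ⟨h1, h2⟩
    exact D.Q_T k h1 h2
  · rintro (h | h)
    · exact ⟨D.P_le h, (D.t_P k h).symm⟩
    · have h1 := D.t_P _ h
      refine ⟨?_, ?_⟩
      · have := mul_mem (D.P_le h) D.Q_t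
        rwa [mul_assoc, D.t_sq, mul_one] at this
      · rw [← mul_assoc, ] at h1
        exact (mul_right_cancel h1).symm


/-- `|T d| ≥ 2 q ^ 3`. -/
theorem le_card_T [Finite G] {d : G} (hd : d ∈ D.Q) : 2 * (2 ^ n) ^ 3 ≤ Nat.card (T D d) := by
  have h1 := Card.card_le_cent_Q D (le_refl D.Q) hd
  rw [Card.card_Q] at h1
  have h2 : 2 * (2 ^ n) ^ 4 = 2 * (2 ^ n) ^ 3 * 2 ^ n := by ring
  rw [h2] at h1
  exact Nat.le_of_mul_le_mul_right h1 (by positivity)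

theorem card_Tt : Nat.card (T D D.t) = 2 * (2 ^ n) ^ 3 := Card.card_CQ_t D

/-- the elements of `T t` with `a = 0`. -/
def Zt (D : Pre G K n) : Subgroup G where
  carrier := {k | k ∈ T D D.t ∧ a D k = 0}
  mul_mem' := by
    rintro x y ⟨hx, hx0⟩ ⟨hy, hy0⟩
    exact ⟨mul_mem hx hy, by rw [a_mul D (mem_T.mp hx).1 (mem_T.mp hy).1, hx0, hy0, add_zero]⟩
  one_mem' := ⟨one_mem _, a_one D⟩
  inv_mem' := by
    rintro x ⟨hx, hx0⟩
    exact ⟨inv_mem hx, by rw [a_inv D (mem_T.mp hx).1, hx0]⟩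

theorem card_Zt : Nat.card (Zt D) = 2 * 2 ^ n := by
  have h1 := Card.card_of_hom (T D D.t) (Zt D) (a D) ⊤
    (fun x hx y hy => a_mul D (mem_T.mp hx).1 (mem_T.mp hy).1) (fun x => Iff.rfl)
    (fun _ _ => AddSubgroup.mem_top _) (fun m _ => by
      obtain ⟨p, hp, rfl⟩ := D.ca_surj m
      exact ⟨p, mem_Tt.mpr (Or.inl hp), a_P D hp⟩)
  rw [card_Tt, Card.card_top_K D.hq] at h1
  have h2 : 2 * (2 ^ n) ^ 3 = (2 * 2 ^ n) * (2 ^ n) ^ 2 := by ring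
  rw [h2] at h1
  exact (Nat.eq_of_mul_eq_mul_right (by positivity) h1).symm

theorem u_Tt {k : G} (hk : k ∈ T D D.t) : u D k = 0 := by
  rcases mem_Tt.mp hk with h | h
  · exact u_P D h
  · have h1 := u_P D h
    rw [u_mul D (mem_T.mp hk).1 D.Q_t, u_t, add_zero] at h1
    exact h1

/-- the commutator of elements of `T t`. -/
theorem cmt_Tt {k l : G} (hk : k ∈ T D D.t) (hl : l ∈ T D D.t) :
    k * l * k⁻¹ * l⁻¹ = D.z (Tr n (a D k * bar n (a D l))) := by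
  rw [cmt_eq D (mem_T.mp hk).1 (mem_T.mp hl).1, u_Tt hk, u_Tt hl, mul_zero, mul_zero, add_zero,
    add_zero]

theorem cmt_mem_Z {k l : G} (hk : k ∈ D.Q) (hl : l ∈ D.Q) :
    ∃ b, bar n b = b ∧ k * l * k⁻¹ * l⁻¹ = D.z b :=
  ⟨_, fixed_add (fixed_Tr D.hq _) (fixed_add (fixed_mul (e_fixed D k) (u_fixed D hl))
    (fixed_mul (e_fixed D l) (u_fixed D hk))), cmt_eq D hk hl⟩

/-- elements of `T d ∩ V`. -/
theorem exists_T {d : G} (hd : d ∈ D.Q) (he : e D d = 1) (c : K) :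
    ∃ k ∈ T D d, k ∈ V D ∧ a D k = c := by
  obtain ⟨k, hk, ha, hu, hek⟩ := surj D (a0 := c) (u0 := Tr n (a D d * bar n c)) (e0 := 0)
    (fixed_Tr D.hq _) (Or.inl rfl)
  refine ⟨k, mem_T.mpr ⟨hk, ?_⟩, (e_eq_zero_iff D).mp hek, ha⟩
  rw [comm_eq D hk hd, ha, hu, hek, he, zero_mul, one_mul, zero_add, Tr_comm D.hq c,
    Field.add_self, z_zero, one_mul]

theorem z_eq_cmt {d : G} (hd : d ∈ D.Q) (he : e D d = 1) {b : K} (hb : bar n b = b) :
    ∃ k ∈ T D d, ∃ l ∈ T D d, D.z b = k * l * k⁻¹ * l⁻¹ := by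
  obtain ⟨y, hy⟩ := exists_Tr_eq D.hq (one_ne_zero : (1 : K) ≠ 0) hb
  obtain ⟨k, hk, hkV, hka⟩ := exists_T hd he 1
  obtain ⟨l, hl, hlV, hla⟩ := exists_T hd he y
  refine ⟨k, hk, l, hl, ?_⟩
  rw [cmt_eq D (mem_T.mp hk).1 (mem_T.mp hl).1, hka, hla, e_zero D hkV, e_zero D hlV, zero_mul,
    zero_mul, add_zero, add_zero, hy]

section conj
variable {d m : G} (hd : d ∈ D.Q) (he : e D d = 1)
  (hm : ∀ k ∈ T D d, m * k * m⁻¹ ∈ Sig)

include F hd he hm in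
theorem tau_z (b : K) : tau D (m * D.z b * m⁻¹) = 1 := by
  obtain ⟨b', hb', hbb⟩ := z_fixed D b
  obtain ⟨k, hk, l, hl, h⟩ := z_eq_cmt hd he hb'
  rw [hbb, h]
  have e1 : m * (k * l * k⁻¹ * l⁻¹) * m⁻¹ =
      (m * k * m⁻¹) * (m * l * m⁻¹) * (m * k * m⁻¹)⁻¹ * (m * l * m⁻¹)⁻¹ := by group
  have h1 := hm k hk
  have h2 := hm l hl
  rw [e1, tau_mul F (mul_mem (mul_mem h1 h2) (inv_mem h1)) (inv_mem h2),
    tau_mul F (mul_mem h1 h2) (inv_mem h1), tau_mul F h1 h2, tau_inv F h1, tau_inv F h2,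
    FieldAut.comm (tau D (m * k * m⁻¹))]
  group

include F hd he hm in
theorem tau_sq {k : G} (hk : k ∈ T D d) :
    tau D (m * k * m⁻¹) * tau D (m * k * m⁻¹) = 1 := by
  rw [← tau_mul F (hm k hk) (hm k hk), ← NormQ.conj_mul, sq_eq D (mem_T.mp hk).1,
    tau_z F hd he hm]

include F hd he hm in
/-- the Galois component is trivial on `m (T d) m⁻¹`. -/
theorem tau_eq_one [Finite G] {k1 : G} (hk1 : k1 ∈ T D d) : tau D (m * k1 * m⁻¹) = 1 := by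
  classical
  by_contra hne
  have hbar : ∀ k ∈ T D d, tau D (m * k * m⁻¹) ≠ 1 →
      tau D (m * k * m⁻¹) = tau D (m * k1 * m⁻¹) := by
    intro k hk h
    rw [FieldAut.eq_bar D.hq (tau_sq F hd he hm hk) h,
      FieldAut.eq_bar D.hq (tau_sq F hd he hm hk1) hne]
  -- the kernel
  let H : Subgroup G :=
    { carrier := {k | k ∈ T D d ∧ tau D (m * k * m⁻¹) = 1}
      mul_mem' := by
        rintro x y ⟨hx, hx1⟩ ⟨hy, hy1⟩
        refine ⟨mul_mem hx hy, ?_⟩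
        rw [NormQ.conj_mul, tau_mul F (hm x hx) (hm y hy), hx1, hy1, mul_one]
      one_mem' := ⟨one_mem _, by
        have : m * 1 * m⁻¹ = 1 := by group
        rw [this, tau_one F]⟩
      inv_mem' := by
        rintro x ⟨hx, hx1⟩
        refine ⟨inv_mem hx, ?_⟩
        have : m * x⁻¹ * m⁻¹ = (m * x * m⁻¹)⁻¹ := by group
        rw [this, tau_inv F (hm x hx), hx1, inv_one] }
  have hHT : H ≤ T D d := fun x hx => hx.1
  have hHmem : ∀ k ∈ H, m * k * m⁻¹ ∈ T D D.t := fun k hk =>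
    mem_Tt.mpr (mem_of_tau F (hm k hk.1) hk.2)
  -- index at most two
  have hidx : Nat.card (T D d) ≤ 2 * Nat.card H := by
    have h1 : ((T D d : Subgroup G) : Set G) ⊆ (H : Set G) ∪ (fun x => k1 * x) '' (H : Set G) := by
      intro k hk
      by_cases h : tau D (m * k * m⁻¹) = 1
      · left; exact ⟨hk, h⟩
      · right
        refine ⟨k1⁻¹ * k, ⟨mul_mem (inv_mem hk1) hk, ?_⟩, by group⟩
        have e1 : m * (k1⁻¹ * k) * m⁻¹ = (m * k1 * m⁻¹)⁻¹ * (m * k * m⁻¹) := by group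
        rw [e1, tau_mul F (inv_mem (hm k1 hk1)) (hm k hk), tau_inv F (hm k1 hk1), hbar k hk h]
        group
    have h2 := Set.ncard_le_ncard h1 (Set.toFinite _)
    have h3 := Set.ncard_union_le (H : Set G) ((fun x => k1 * x) '' (H : Set G))
    have h4 := Set.ncard_image_le (f := fun x => k1 * x) (Set.toFinite (H : Set G))
    have h5 : ((T D d : Subgroup G) : Set G).ncard = Nat.card (T D d) := rfl
    have h6 : (H : Set G).ncard = Nat.card H := rfl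
    omega
  have hT := le_card_T (D := D) hd
  have hH : (2 ^ n) ^ 3 ≤ Nat.card H := by omega
  -- the image of `H` in `K`
  let B : AddSubgroup K :=
    { carrier := {c | ∃ k ∈ H, a D (m * k * m⁻¹) = c}
      add_mem' := by
        rintro x y ⟨k, hk, rfl⟩ ⟨l, hl, rfl⟩
        refine ⟨k * l, mul_mem hk hl, ?_⟩
        rw [NormQ.conj_mul, a_mul D (mem_T.mp (hHmem k hk)).1 (mem_T.mp (hHmem l hl)).1]
      zero_mem' := ⟨1, one_mem _, by
        have : m * 1 * m⁻¹ = 1 := by group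
        rw [this, a_one]⟩
      neg_mem' := by
        rintro x ⟨k, hk, rfl⟩
        exact ⟨k, hk, (CharTwo.neg_eq _).symm⟩ }
  let H' : Subgroup G := H.map (MulAut.conj m).toMonoidHom
  have hH'card : Nat.card H' = Nat.card H := Subgroup.card_map_of_injective (MulAut.conj m).injective
  have hH' : ∀ x ∈ H', ∃ k ∈ H, m * k * m⁻¹ = x := by
    rintro _ ⟨k, hk, rfl⟩
    exact ⟨k, hk, rfl⟩
  have hBcard : (2 ^ n) ^ 3 ≤ 2 * 2 ^ n * Nat.card B := by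
    refine hH.trans ?_
    rw [← hH'card, ← card_Zt (D := D)]
    apply Card.card_le_of_hom H' (Zt D) (a D) B
    · intro x hx y hy
      obtain ⟨k, hk, rfl⟩ := hH' x hx
      obtain ⟨l, hl, rfl⟩ := hH' y hy
      exact a_mul D (mem_T.mp (hHmem k hk)).1 (mem_T.mp (hHmem l hl)).1
    · intro x hx h0
      obtain ⟨k, hk, rfl⟩ := hH' x hx
      exact ⟨hHmem k hk, h0⟩
    · intro x hx
      obtain ⟨k, hk, rfl⟩ := hH' x hx
      exact ⟨k, hk, rfl⟩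
  have hq := four_le D.hq
  have hBgt : 2 ^ n < (B : Set K).ncard := by
    have h1 : (B : Set K).ncard = Nat.card B := rfl
    rw [h1]
    have h2 : (2 ^ n) ^ 3 = 2 * 2 ^ n * (2 ^ n * 2 ^ n / 2) := by
      have h4 : 2 ∣ 2 ^ n * 2 ^ n := by
        have : 2 ∣ 2 ^ n := dvd_pow_self 2 (by have := D.hq.hn; omega)
        exact Dvd.dvd.mul_left this _
      have h5 := Nat.mul_div_cancel' h4
      calc (2 ^ n) ^ 3 = 2 ^ n * (2 ^ n * 2 ^ n) := by ring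
        _ = 2 ^ n * (2 * (2 ^ n * 2 ^ n / 2)) := by rw [h5]
        _ = _ := by ring
    rw [h2] at hBcard
    have h3 := Nat.le_of_mul_le_mul_left hBcard (by positivity)
    have h6 : 2 ^ n < 2 ^ n * 2 ^ n / 2 := by
      have : 2 ^ n * 4 ≤ 2 ^ n * 2 ^ n := Nat.mul_le_mul_left _ hq
      omega
    omega
  -- the conjugates of `Z`
  have hz : ∀ b, m * D.z b * m⁻¹ ∈ T D D.t ∧ a D (m * D.z b * m⁻¹) = 0 := by
    intro b
    have h1 : m * D.z b * m⁻¹ ∈ T D D.t :=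
      mem_Tt.mpr (mem_of_tau F (hm _ (z_mem_T hd b)) (tau_z F hd he hm b))
    refine ⟨h1, ?_⟩
    by_contra h0
    -- `B` is contained in a line
    have h2 : ∀ c ∈ B, bar n (c / a D (m * D.z b * m⁻¹)) = c / a D (m * D.z b * m⁻¹) := by
      rintro c ⟨k, hk, rfl⟩
      have h3 := cmt_Tt h1 (hHmem k hk)
      have h4 : m * D.z b * m⁻¹ * (m * k * m⁻¹) * (m * D.z b * m⁻¹)⁻¹ * (m * k * m⁻¹)⁻¹ = 1 := by
        have h5 := D.Q_Z k (mem_T.mp hk.1).1 b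
        have e1 : m * D.z b * m⁻¹ * (m * k * m⁻¹) * (m * D.z b * m⁻¹)⁻¹ * (m * k * m⁻¹)⁻¹ =
          m * (D.z b * k * (k * D.z b)⁻¹) * m⁻¹ := by group
        rw [e1, h5]; group
      rw [h4] at h3
      have h5 := D.z_inj _ (fixed_Tr D.hq _) h3.symm
      exact fixed_div_of_Tr D.hq h5 h0
    have h3 : (fun c => c / a D (m * D.z b * m⁻¹)) '' (B : Set K) ⊆
        ((Card.Fq K n : AddSubgroup K) : Set K) := by
      rintro _ ⟨c, hc, rfl⟩
      exact h2 c hc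
    have h4 := Set.ncard_le_ncard h3 (Set.toFinite _)
    rw [Set.ncard_image_of_injective _ (fun x y hxy => by
      have hxy' : x / a D (m * D.z b * m⁻¹) = y / a D (m * D.z b * m⁻¹) := hxy
      exact (div_left_inj' h0).mp hxy')] at h4
    have h5 : ((Card.Fq K n : AddSubgroup K) : Set K).ncard = 2 ^ n := Card.card_Fq D.hq
    omega
  -- `k1` acts trivially on `B`
  have hfix : ∀ c ∈ (B : Set K), sc D (m * k1 * m⁻¹) * tau D (m * k1 * m⁻¹) c = c := by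
    rintro c ⟨k, hk, rfl⟩
    have hk1S := hm k1 hk1
    have hkT := hHmem k hk
    have hkQ := (mem_T.mp hkT).1
    -- the conjugate
    have h1 : a D ((m * k1 * m⁻¹) * (m * k * m⁻¹) * (m * k1 * m⁻¹)⁻¹) = a D (m * k * m⁻¹) := by
      obtain ⟨b, hb, h2⟩ := cmt_mem_Z (mem_T.mp hk1).1 (mem_T.mp hk.1).1
      have e1 : (m * k1 * m⁻¹) * (m * k * m⁻¹) * (m * k1 * m⁻¹)⁻¹ =
        (m * (k1 * k * k1⁻¹ * k⁻¹) * m⁻¹) * (m * k * m⁻¹) := by group
      rw [e1, h2, a_mul D (mem_T.mp (hz b).1).1 hkQ, (hz b).2, zero_add]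
    rcases mem_Tt.mp hkT with h2 | h2
    · rw [a_P D h2, ← ca_conj F hk1S h2, ← a_P D (F.norm_P _ hk1S _ h2), h1, a_P D h2]
    · have h3 : a D (m * k * m⁻¹) = D.ca (m * k * m⁻¹ * D.t) := by
        rw [← a_P D h2, a_mul D hkQ D.Q_t, a_t, add_zero]
      rw [h3, ← ca_conj F hk1S h2, ← a_P D (F.norm_P _ hk1S _ h2)]
      have h4 : (m * k1 * m⁻¹) * (m * k * m⁻¹ * D.t) * (m * k1 * m⁻¹)⁻¹ =
          (m * k1 * m⁻¹) * (m * k * m⁻¹) * (m * k1 * m⁻¹)⁻¹ * D.t := by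
        have h5 : D.t * (m * k1 * m⁻¹)⁻¹ = (m * k1 * m⁻¹)⁻¹ * D.t :=
          (F.comm _ (inv_mem hk1S)).symm
        have e1 : (m * k1 * m⁻¹) * (m * k * m⁻¹ * D.t) * (m * k1 * m⁻¹)⁻¹ =
          (m * k1 * m⁻¹) * (m * k * m⁻¹) * (D.t * (m * k1 * m⁻¹)⁻¹) := by group
        rw [e1, h5]; group
      have h6 : (m * k1 * m⁻¹) * (m * k * m⁻¹) * (m * k1 * m⁻¹)⁻¹ ∈ D.Q := by
        obtain ⟨b, hb, h2⟩ := cmt_mem_Z (mem_T.mp hk1).1 (mem_T.mp hk.1).1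
        have e1 : (m * k1 * m⁻¹) * (m * k * m⁻¹) * (m * k1 * m⁻¹)⁻¹ =
          (m * (k1 * k * k1⁻¹ * k⁻¹) * m⁻¹) * (m * k * m⁻¹) := by group
        rw [e1, h2]
        exact mul_mem (mem_T.mp (hz b).1).1 hkQ
      rw [h4, a_mul D h6 D.Q_t, a_t, add_zero, h1, h3]
  exact hne (FieldAut.eq_one_of_fixed D.hq hBgt hfix).1

include F hd he hm in
theorem conj_mem_Tt [Finite G] {k : G} (hk : k ∈ T D d) : m * k * m⁻¹ ∈ T D D.t :=
  mem_Tt.mpr (mem_of_tau F (hm k hk) (tau_eq_one F hd he hm hk))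

include F hd he hm in
theorem exists_conj_Tt [Finite G] {k' : G} (hk' : k' ∈ T D D.t) :
    ∃ k ∈ T D d, m * k * m⁻¹ = k' := by
  have h1 : (T D d).map (MulAut.conj m).toMonoidHom ≤ T D D.t := by
    rintro _ ⟨k, hk, rfl⟩
    exact conj_mem_Tt F hd he hm hk
  have h2 : (T D d).map (MulAut.conj m).toMonoidHom = T D D.t := by
    apply Subgroup.eq_of_le_of_card_ge h1
    rw [Subgroup.card_map_of_injective (MulAut.conj m).injective, card_Tt]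
    exact le_card_T hd
  rw [← h2] at hk'
  obtain ⟨k, hk, h⟩ := hk'
  exact ⟨k, hk, h⟩

include F hd he hm in
theorem conj_z_mem [Finite G] (b : K) : ∃ c, bar n c = c ∧ m * D.z b * m⁻¹ = D.z c := by
  obtain ⟨b', hb', hbb⟩ := z_fixed D b
  obtain ⟨k, hk, l, hl, h⟩ := z_eq_cmt hd he hb'
  refine ⟨Tr n (a D (m * k * m⁻¹) * bar n (a D (m * l * m⁻¹))), fixed_Tr D.hq _, ?_⟩
  rw [hbb, h, ← cmt_Tt (conj_mem_Tt F hd he hm hk) (conj_mem_Tt F hd he hm hl)]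
  group

end conj

/-! ### The group `M` -/

/-- elements acting trivially on `T t` modulo `Z`. -/
def M (D : Pre G K n) : Subgroup G where
  carrier := {x | (∃ b, x * D.t * x⁻¹ = D.z b * D.t) ∧ ∀ p ∈ D.P, ∃ b, x * p * x⁻¹ = D.z b * p}
  one_mem' := ⟨⟨0, by rw [z_zero]; group⟩, fun p _ => ⟨0, by rw [z_zero]; group⟩⟩
  mul_mem' := by
    rintro x y ⟨⟨b, hb⟩, hx⟩ ⟨⟨c, hc⟩, hy⟩
    have hz : ∀ c, x * D.z c * x⁻¹ = D.z c := by
      intro c
      obtain ⟨c', hc', hcc⟩ := z_fixed D c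
      obtain ⟨y, hy⟩ := exists_norm D.hq hc'
      obtain ⟨p, hp, rfl⟩ := D.ca_surj y
      obtain ⟨d, hd⟩ := hx p hp
      rw [hcc, ← hy, ← D.P_sq p hp, NormQ.conj_mul, hd]
      have : D.z d * p * (D.z d * p) = D.z d * (p * D.z d) * p := by group
      rw [this, D.Q_Z p (D.P_le hp), ← mul_assoc, z_self, one_mul]
    refine ⟨⟨c + b, ?_⟩, fun p hp => ?_⟩
    · rw [conj_sub, hc, NormQ.conj_mul, hz, hb, D.z_add, mul_assoc]
    · obtain ⟨d, hd⟩ := hy p hp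
      obtain ⟨d', hd'⟩ := hx p hp
      exact ⟨d + d', by rw [conj_sub, hd, NormQ.conj_mul, hz, hd', D.z_add, mul_assoc]⟩
  inv_mem' := by
    rintro x ⟨⟨b, hb⟩, hx⟩
    have hz : ∀ c, x * D.z c = D.z c * x := by
      intro c
      obtain ⟨c', hc', hcc⟩ := z_fixed D c
      obtain ⟨y, hy⟩ := exists_norm D.hq hc'
      obtain ⟨p, hp, rfl⟩ := D.ca_surj y
      obtain ⟨d, hd⟩ := hx p hp
      have h1 : x * D.z c' * x⁻¹ = D.z c' := by
        rw [← hy, ← D.P_sq p hp, NormQ.conj_mul, hd]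
        have : D.z d * p * (D.z d * p) = D.z d * (p * D.z d) * p := by group
        rw [this, D.Q_Z p (D.P_le hp), ← mul_assoc, z_self, one_mul]
      rw [hcc]
      exact mul_inv_eq_iff_eq_mul.mp h1
    refine ⟨⟨b, ?_⟩, fun p hp => ?_⟩
    · have h1 : D.t = D.z b * (x⁻¹ * D.t * x) := by
        calc D.t = x⁻¹ * (x * D.t * x⁻¹) * x := by group
          _ = x⁻¹ * (D.z b * D.t) * x := by rw [hb]
          _ = x⁻¹ * (D.z b * x) * x⁻¹ * D.t * x := by group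
          _ = x⁻¹ * (x * D.z b) * x⁻¹ * D.t * x := by rw [hz]
          _ = _ := by group
      rw [inv_inv]
      conv_rhs => rw [h1, ← mul_assoc, z_self, one_mul]
    · obtain ⟨d, hd⟩ := hx p hp
      refine ⟨d, ?_⟩
      have h1 : p = D.z d * (x⁻¹ * p * x) := by
        calc p = x⁻¹ * (x * p * x⁻¹) * x := by group
          _ = x⁻¹ * (D.z d * p) * x := by rw [hd]
          _ = x⁻¹ * (D.z d * x) * x⁻¹ * p * x := by group
          _ = x⁻¹ * (x * D.z d) * x⁻¹ * p * x := by rw [hz]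
          _ = _ := by group
      rw [inv_inv]
      conv_rhs => rw [h1, ← mul_assoc, z_self, one_mul]

theorem mem_M {x : G} : x ∈ M D ↔ (∃ b, x * D.t * x⁻¹ = D.z b * D.t) ∧
    ∀ p ∈ D.P, ∃ b, x * p * x⁻¹ = D.z b * p := Iff.rfl

theorem Q_le_M : D.Q ≤ M D := by
  intro g hg
  refine ⟨⟨_, u_conj D hg⟩, fun p hp => ?_⟩
  obtain ⟨c, -, h⟩ := conj_P D hg hp
  exact ⟨c, h⟩

/-- `M = Q O`. -/
theorem M_dec (hO : Amb D O) {x : G} (hx : x ∈ M D) : ∃ q ∈ D.Q, ∃ k ∈ O, x = q * k := by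
  obtain ⟨b, hb⟩ := hx.1
  obtain ⟨b', hb', hbb⟩ := z_fixed D b
  rw [hbb] at hb
  obtain ⟨q, hq, hqb⟩ := D.Q_surj b' hb'
  have h1 : (q⁻¹ * x) * D.t = D.t * (q⁻¹ * x) := by
    have h3 : x * D.t = q * D.t * q⁻¹ * x := by rw [hqb, ← hb]; group
    rw [mul_assoc, h3]; group
  have hw : q⁻¹ * x ∈ M D := mul_mem (inv_mem (Q_le_M hq)) hx
  obtain ⟨y, hy, k, hk, h⟩ := hO.dec _ h1 (by
    intro p hp
    obtain ⟨c, hc⟩ := hw.2 p hp
    rw [hc]
    refine ⟨mul_mem (D.z_mem c) hp, ?_⟩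
    rw [D.ca_mul _ (D.z_mem c) p hp, D.ca_z, zero_add])
  exact ⟨q * y, mul_mem hq hy, k, hk, by rw [mul_assoc, ← h]; group⟩

/-- **Conjugates of `t` in `t V` are conjugate to `t` under `N(Q)`.** -/
theorem exists_norm_conj [Finite G] (hO : Amb D O) (F : Fl D Sig) {d y : G} (hd : d ∈ D.Q)
    (he : e D d = 1) (hy : y * D.t * y⁻¹ = d) : ∃ s, Norm D s ∧ s * D.t * s⁻¹ = d := by
  classical
  haveI : Fact (Nat.Prime 2) := ⟨Nat.prime_two⟩
  -- move `C_Q(d)` into `Sig`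
  have hT2 : IsPGroup 2 (T D d) := D.Q_two.to_le inf_le_left
  let Y : Subgroup G := (T D d).map (MulAut.conj y⁻¹).toMonoidHom
  obtain ⟨c, hct, hc⟩ := F.conj Y (hT2.map _) (by
    rintro _ ⟨k, hk, rfl⟩
    have h1 := (mem_T.mp hk).2
    show y⁻¹ * k * y⁻¹⁻¹ * D.t = D.t * (y⁻¹ * k * y⁻¹⁻¹)
    have h2 : y⁻¹ * k * y⁻¹⁻¹ * D.t = y⁻¹ * (k * (y * D.t * y⁻¹)) * y := by group
    rw [h2, hy, h1, ← hy]; group)
  set m := c * y⁻¹ with hmd
  have hm : ∀ k ∈ T D d, m * k * m⁻¹ ∈ Sig := by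
    intro k hk
    have h1 := hc _ (⟨k, hk, rfl⟩ : y⁻¹ * k * y⁻¹⁻¹ ∈ Y)
    have h2 : m * k * m⁻¹ = c * (y⁻¹ * k * y⁻¹⁻¹) * c⁻¹ := by rw [hmd]; group
    rw [h2]; exact h1
  have hmdt : m * d * m⁻¹ = D.t := by
    rw [← hy, hmd]
    have : c * y⁻¹ * (y * D.t * y⁻¹) * (c * y⁻¹)⁻¹ = c * D.t * c⁻¹ := by group
    rw [this, hct]; group
  -- `m Q m⁻¹ ≤ M`
  let Q' : Subgroup G := D.Q.map (MulAut.conj m).toMonoidHom
  have hQ'M : Q' ≤ M D := by
    rintro _ ⟨g, hg, rfl⟩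
    show m * g * m⁻¹ ∈ M D
    refine ⟨?_, fun p hp => ?_⟩
    · obtain ⟨b, hb, h1⟩ := cmt_mem_Z hg hd
      obtain ⟨b', -, h2⟩ := conj_z_mem F hd he hm b
      refine ⟨b', ?_⟩
      rw [← h2, ← h1, ← hmdt]
      group
    · obtain ⟨k, hk, rfl⟩ := exists_conj_Tt F hd he hm (mem_Tt.mpr (Or.inl hp))
      obtain ⟨b, hb, h1⟩ := cmt_mem_Z hg (mem_T.mp hk).1
      obtain ⟨b', -, h2⟩ := conj_z_mem F hd he hm b
      refine ⟨b', ?_⟩
      rw [← h2, ← h1]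
      group
  -- Sylow in `M`
  have hQn : IsPGroup 2 (D.Q.subgroupOf (M D)) := D.Q_two.comap_subtype
  obtain ⟨S1, hS1⟩ := hQn.exists_le_sylow
  have hS1le : ∀ x : M D, x ∈ (S1 : Subgroup (M D)) → (x : G) ∈ D.Q := by
    intro x hx
    obtain ⟨q, hq, k, hk, h⟩ := M_dec hO x.2
    have hqS : (⟨q, Q_le_M hq⟩ : M D) ∈ (S1 : Subgroup (M D)) := hS1 hq
    have hkS : (⟨q, Q_le_M hq⟩ : M D)⁻¹ * x ∈ (S1 : Subgroup (M D)) := mul_mem (inv_mem hqS) hx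
    obtain ⟨j, hj⟩ := S1.isPGroup' ⟨_, hkS⟩
    have hkv : (((⟨q, Q_le_M hq⟩ : M D)⁻¹ * x : M D) : G) = k := by
      show q⁻¹ * (x : G) = k
      rw [h]; group
    have h3 : k ^ (2 ^ j) = 1 := by
      have h4 : ((⟨q, Q_le_M hq⟩ : M D)⁻¹ * x) ^ (2 ^ j) = 1 := congrArg Subtype.val hj
      have h5 := congrArg (Subtype.val : M D → G) h4
      rw [← hkv]
      exact h5
    have h4 := eq_one_of_O D hO hk h3
    rw [h, h4, mul_one]; exact hq
  have hQ'n : IsPGroup 2 (Q'.subgroupOf (M D)) := (D.Q_two.map _).comap_subtype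
  obtain ⟨S2, hS2⟩ := hQ'n.exists_le_sylow
  obtain ⟨r, hr⟩ := MulAction.exists_smul_eq (M D) S2 S1
  have hrQ : ∀ g ∈ D.Q, ((r : G) * m) * g * ((r : G) * m)⁻¹ ∈ D.Q := by
    intro g hg
    have h1 : m * g * m⁻¹ ∈ Q' := ⟨g, hg, rfl⟩
    have h2 : (⟨_, hQ'M h1⟩ : M D) ∈ (S2 : Subgroup (M D)) := hS2 h1
    have h3 : r * ⟨_, hQ'M h1⟩ * r⁻¹ ∈ (S1 : Subgroup (M D)) := by
      rw [← hr, Sylow.coe_subgroup_smul]
      exact Subgroup.smul_mem_pointwise_smul _ (MulAut.conj r) _ h2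
    have h4 := hS1le _ h3
    have h5 : ((r : G) * m) * g * ((r : G) * m)⁻¹ = r * (m * g * m⁻¹) * (r : G)⁻¹ := by group
    rw [h5]
    exact h4
  have hn : Norm D ((r : G) * m) := norm_of_fwd D hrQ
  obtain ⟨b, hb⟩ := r.2.1
  obtain ⟨b', hb', hbb⟩ := z_fixed D b
  obtain ⟨g, hg, hgb⟩ := D.Q_surj b' hb'
  refine ⟨((r : G) * m)⁻¹ * g, Norm.mul D (Norm.inv D hn) (Norm.of_mem D hg), ?_⟩
  have h1 : ((r : G) * m) * d * ((r : G) * m)⁻¹ = g * D.t * g⁻¹ := by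
    rw [hgb, ← hbb, ← hb, ← hmdt]; group
  have h2 : ((r : G) * m)⁻¹ * g * D.t * (((r : G) * m)⁻¹ * g)⁻¹ =
      ((r : G) * m)⁻¹ * (g * D.t * g⁻¹) * ((r : G) * m) := by group
  rw [h2, ← h1]; group

/-- `T3` at level one: if `N(Q)` normalizes `t Z`, the conjugates of `t` in `t V` are conjugate to
`t` under `W`. -/
theorem three [Finite G] (hO : Amb D O) (F : Fl D Sig)
    (hfix : ∀ s, Norm D s → ∃ g ∈ D.Q, (g⁻¹ * s) * D.t = D.t * (g⁻¹ * s)) {g y : G}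
    (hg : g ∈ V D) (hy : y * D.t * y⁻¹ = g * D.t) : ∃ w ∈ V D, w * D.t * w⁻¹ = g * D.t := by
  have hgQ := V_le D hg
  have hgtQ := mul_mem hgQ D.Q_t
  obtain ⟨s, hs, h1⟩ := exists_norm_conj hO F hgtQ
    (by rw [e_mul D hgQ D.Q_t, e_zero D hg, e_t, zero_add]) hy
  obtain ⟨k, hk, h2⟩ := hfix s hs
  have h3 : s * D.t * s⁻¹ = k * D.t * k⁻¹ := by
    have e1 : s * D.t * s⁻¹ = k * ((k⁻¹ * s) * D.t) * s⁻¹ := by group
    rw [e1, h2]; group
  rcases V_or D hk with h4 | h4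
  · exact ⟨k, h4, by rw [← h3, h1]⟩
  · refine ⟨k * D.t, h4, ?_⟩
    have : k * D.t * D.t * (k * D.t)⁻¹ = k * D.t * k⁻¹ := by group
    rw [this, ← h3, h1]

end Cfsg.Agent.StdU3.LevelOneD
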