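import Cfsg.Agent.StdU3.TermInst
import Cfsg.Agent.StdU3.LevelOneD
import Cfsg.Agent.StdU3.FldDef

/-!
# The terminal group at levels 1 and 2
-/

set_option autoImplicit false
set_option linter.unusedSectionVars false

namespace Cfsg.Agent.StdU3.TermExists

open Cfsg.Agent.StdU3.Field Cfsg.Agent.StdU3.PreDef Cfsg.Agent.StdU3.LevelOne
open Cfsg.Agent.StdU3.LevelOneW Cfsg.Agent.StdU3.NormQ Cfsg.Agent.StdU3.Kernel
open Cfsg.Agent.StdU3.Next Cfsg.Agent.StdU3.LevelTwo Cfsg.Agent.StdU3.TermDef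
open Cfsg.Agent.StdU3.FldDef

variable {G : Type*} [Group G] {K : Type*} [Field K] [Fintype K] [CharP K 2] {n : ℕ}
variable {D : Pre G K n}

/-- the structure `Fl` of `LevelOneD` from `Fld`. -/
theorem fl_of_fld (F : Fld D) : LevelOneD.Fl D F.Sg where
  two := F.Sg_two
  P_le := F.P_Sg
  t_mem := F.t_Sg
  comm := F.Sg_t
  norm_P := F.Sg_P
  sl := by
    intro x hx
    have hxc : x ∈ Subgroup.centralizer ({D.t} : Set G) := by
      rw [Subgroup.mem_centralizer_singleton_iff]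
      exact F.Sg_t x hx
    obtain ⟨c, hc, h1, -⟩ := F.chi_ca ⟨x, hxc⟩ (F.Sg_P x hx)
    exact ⟨c, F.chi ⟨x, hxc⟩, h1, F.chi_one ⟨x, hxc⟩ hx⟩
  conj := by
    intro Y hY hYt
    obtain ⟨g, hg, h⟩ := F.Sg_conj Y hY hYt
    have hg' : Commute g D.t := hg
    exact ⟨g⁻¹, hg'.inv_left, fun y hy => by
      have := h y hy
      rwa [inv_inv]⟩

/-- the terminal group at level 1. -/
noncomputable def one [Finite G] (F : Fld D)
    (hfix : ∀ s, Norm D s → ∃ g ∈ D.Q, (g⁻¹ * s) * D.t = D.t * (g⁻¹ * s)) : Term D :=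
  TermInst.one F.amb (by
    intro g hg _
    by_cases h : ∃ y : G, y * D.t * y⁻¹ = g * D.t
    · left
      obtain ⟨y, hy⟩ := h
      exact LevelOneD.three F.amb (fl_of_fld F) hfix hg hy
    · right
      push Not at h
      exact h)

theorem one_U [Finite G] (F : Fld D)
    (hfix : ∀ s, Norm D s → ∃ g ∈ D.Q, (g⁻¹ * s) * D.t = D.t * (g⁻¹ * s)) :
    (one F hfix).U = V D := rfl

theorem two_U [Finite G] (hg0 : gam D = 0) (F : Fld D) (X : Next D F.O)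
    (hsurj : ∀ c, ∃ s ∈ X.S, a D (s * D.t * s⁻¹) = c) :
    (TermInst.two hg0 F.amb X hsurj).U = U D X := rfl

/-- the three cases. -/
theorem cases [Finite G] (F : Fld D) (hn : ∀ s ∈ F.Sg, Norm D s) :
    (∃ T : Term D, T.U = V D ∧ (∀ s, Norm D s → ∀ g ∈ T.U, s * g * s⁻¹ ∈ T.U)) ∨
    (gam D = 0 ∧ ∃ (X : Next D F.O) (T : Term D), T.U = U D X ∧
      (∀ c, ∃ s ∈ X.S, a D (s * D.t * s⁻¹) = c) ∧
      (∀ s ∈ F.Sg, ∀ g ∈ X.S, s * g * s⁻¹ ∈ X.S) ∧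
      (∀ s ∈ F.Sg, ∀ g ∈ T.U, s * g * s⁻¹ ∈ T.U)) ∨
    (gam D = 1 ∧ ∃ X : Next D F.O, (∀ c, bar n c = c → ∃ s ∈ X.S, u D (s * D.t * s⁻¹) = c) ∧
      (∀ s ∈ F.Sg, ∀ g ∈ X.S, s * g * s⁻¹ ∈ X.S)) := by
  obtain ⟨X, hX⟩ := exists_next D F.amb F.Sg F.Sg_two (fun s hs => hn s hs)
  rcases cases_of D F.O with h | ⟨hg, h⟩ | ⟨hg, h⟩
  · left
    exact ⟨one F h, rfl, fun s hs g hg => conj_V D hs hg⟩
  · right; left
    refine ⟨hg, X, TermInst.two hg F.amb X (h X), rfl, h X, hX, fun s hs g hg' => ?_⟩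
    exact conj_U D X (hn s hs) (hX s hs) hg'
  · right; right
    exact ⟨hg, X, h X, hX⟩

end Cfsg.Agent.StdU3.TermExists
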