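import Cfsg.Agent.StdU3.Outer

/-!
# The involutions of the outer cosets, levels 1 and 2
-/

set_option autoImplicit false
set_option linter.unusedSectionVars false

namespace Cfsg.Agent.StdU3.OuterEnd

open Cfsg.Agent.StdU3.Field Cfsg.Agent.StdU3.PreDef Cfsg.Agent.StdU3.LevelOne
open Cfsg.Agent.StdU3.LevelOneW Cfsg.Agent.StdU3.NormQ Cfsg.Agent.StdU3.Kernel
open Cfsg.Agent.StdU3.Next Cfsg.Agent.StdU3.LevelTwo Cfsg.Agent.StdU3.Outer

variable {G : Type*} [Group G] {K : Type*} [Field K] [Fintype K] [CharP K 2] {n : ℕ}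
variable {D : Pre G K n} {O : Subgroup G}
variable {x : G} {c : K} (h : Out D x c)

/-- the elements of `V` over the line with trivial square. -/
def B (D : Pre G K n) (c : K) (hc : N n c = 1) : Subgroup G where
  carrier := {k | k ∈ V D ∧ c * bar n (a D k) = a D k ∧ N n (a D k) = gam D * u D k}
  one_mem' := ⟨one_mem _, by rw [a_one, bar_zero, mul_zero], by
    rw [a_one, u_one, N_zero, mul_zero]⟩
  mul_mem' := by
    rintro k k' ⟨hk, h1, h2⟩ ⟨hk', h1', h2'⟩
    have hkQ := V_le D hk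
    have hkQ' := V_le D hk'
    refine ⟨mul_mem hk hk', ?_, ?_⟩
    · rw [a_mul D hkQ hkQ', bar_add, mul_add, h1, h1']
    · rw [a_mul D hkQ hkQ', u_mul D hkQ hkQ', N_add' D.hq, Tr_line D.hq hc h1 h1', add_zero,
        h2, h2', mul_add]
  inv_mem' := by
    rintro k ⟨hk, h1, h2⟩
    have hkQ := V_le D hk
    refine ⟨inv_mem hk, ?_, ?_⟩
    · rw [a_inv D hkQ, h1]
    · rw [a_inv D hkQ, u_inv D hkQ, h2]

theorem B_sq {hc : N n c = 1} {k : G} (hk : k ∈ B D c hc) : k * k = 1 := by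
  obtain ⟨hkV, h1, h2⟩ := hk
  rw [sq_eq D (V_le D hkV), h2, add_self, e_zero D hkV, zero_mul, add_zero, z_zero]

theorem B_comm {hc : N n c = 1} {k g : G} (hk : k ∈ B D c hc) (hg : g ∈ V D)
    (hgl : c * bar n (a D g) = a D g) : k * g = g * k := by
  obtain ⟨hkV, h1, h2⟩ := hk
  rw [comm_eq D (V_le D hkV) (V_le D hg), Tr_line D.hq hc h1 hgl, e_zero D hkV, e_zero D hg,
    zero_mul, zero_mul, add_zero, add_zero, z_zero, one_mul]

include h in
/-- `x` acts on `V`. -/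
theorem conj_V_eq {r : K} (hr : ∀ y ∈ W D, x * y * x⁻¹ = D.z (r * u D y) * y) {g : G}
    (hg : g ∈ V D) (hgl : c * bar n (a D g) = a D g) :
    x * g * x⁻¹ = D.z (N n (a D g) + r * u D g) * g := by
  obtain ⟨p, hp, y, hy, rfl⟩ := hg
  have hpQ := D.P_le hp
  have hyQ := W_le D hy
  rw [a_mul D hpQ hyQ, a_P D hp, a_W D hy, add_zero] at hgl ⊢
  rw [u_mul D hpQ hyQ, u_P D hp, zero_add, NormQ.conj_mul, h.inverts hp hgl, hr y hy, D.z_add]
  have h1 : p⁻¹ = D.z (N n (D.ca p)) * p := by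
    rw [inv_eq_iff_mul_eq_one, ← D.Q_Z p hpQ, ← mul_assoc, D.P_sq p hp, z_self]
  rw [h1]
  have h2 : D.z (N n (D.ca p)) * p * (D.z (r * u D y) * y) =
      D.z (N n (D.ca p)) * (p * D.z (r * u D y)) * y := by group
  rw [h2, D.Q_Z p hpQ]; group

include h in
theorem four_one_aux {r : K} (hrf : bar n r = r)
    (hr : ∀ y ∈ W D, x * y * x⁻¹ = D.z (r * u D y) * y) {g : G}
    (hg : g ∈ V D) (hgx : (g * x) * (g * x) = 1) :
    (∃ y ∈ V D, y * x * y⁻¹ = g * x) ∨
    (r = gam D ∧ (∀ b ∈ B D c h.N_c, b * (g * x) = (g * x) * b)) := by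
  have hgQ := V_le D hg
  have h1 : g * (x * g * x⁻¹) = 1 := by
    rw [← hgx]
    have : g * x * (g * x) = g * (x * g * x⁻¹) * (x * x) := by group
    rw [this, h.sq, mul_one]
  have hgl : c * bar n (a D g) = a D g := by
    have h2 := a_mul D hgQ (h.norm.fwd g hgQ)
    rw [h1, a_one, h.a_conj hgQ] at h2
    exact (Field.add_eq_zero.mp h2.symm).symm
  rw [conj_V_eq h hr hg hgl, ← mul_assoc, D.Q_Z g hgQ, mul_assoc, sq_eq D hgQ, e_zero D hg,
    zero_mul, add_zero, ← D.z_add] at h1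
  have h2 : N n (a D g) + r * u D g + (N n (a D g) + gam D * u D g) = (r + gam D) * u D g := by
    have : N n (a D g) + r * u D g + (N n (a D g) + gam D * u D g) =
      (N n (a D g) + N n (a D g)) + (r + gam D) * u D g := by ring
    rw [this, add_self, zero_add]
  rw [h2] at h1
  have h3 := D.z_inj _ (fixed_mul (fixed_add hrf (gam_fixed D)) (u_fixed D hgQ)) h1
  rcases mul_eq_zero.mp h3 with h4 | h4
  · right
    have hrg : r = gam D := Field.add_eq_zero.mp h4
    refine ⟨hrg, fun b hb => ?_⟩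
    have e1 : b * g = g * b := B_comm hb hg hgl
    have e2 : x * b = b * x := by
      have h5 := conj_V_eq h hr hb.1 hb.2.1
      rw [hb.2.2, hrg, add_self, z_zero, one_mul] at h5
      exact mul_inv_eq_iff_eq_mul.mp h5
    rw [← mul_assoc, e1, mul_assoc, ← e2, mul_assoc]
  · left
    -- `g ∈ P`
    have hgP : g ∈ D.P := by
      rcases mem_T_of_u D hgQ h4 with h5 | h5
      · exact h5
      · exfalso
        have h6 := e_P D h5
        rw [e_mul D hgQ D.Q_t, e_zero D hg, e_t, zero_add] at h6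
        exact one_ne_zero h6
    obtain ⟨y, hy, h5⟩ := h.conj_P hgP (by rw [← a_P D hgP]; exact hgl)
    exact ⟨y, P_le_V D hy, h5⟩

include h in
/-- Level one. -/
theorem four_one [Finite G] (hO : Amb D O) {g : G} (hg : g ∈ V D) (hgx : (g * x) * (g * x) = 1) :
    (∃ y ∈ V D, y * x * y⁻¹ = g * x) ∨
    (∀ b ∈ B D c h.N_c, b * (g * x) = (g * x) * b) := by
  obtain ⟨r, hrf, hr⟩ := h.exists_r hO
  rcases four_one_aux h hrf hr hg hgx with h1 | h1
  · exact Or.inl h1
  · exact Or.inr h1.2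

/-! ### Level two -/

include h in
theorem b_conj {s : G} (hs : s ∈ N2 D) : b D (x * s * x⁻¹) = c * bar n (b D s) := by
  unfold b
  have ht : x⁻¹ * D.t * x = D.t := by rw [mul_assoc, ← h.comm]; group
  have h1 : x * s * x⁻¹ * D.t * (x * s * x⁻¹)⁻¹ = x * (s * (x⁻¹ * D.t * x) * s⁻¹) * x⁻¹ := by group
  rw [h1, ht, h.a_conj (hs.1.fwd _ D.Q_t)]

include h in
/-- Level two. -/
theorem four_two [Finite G] (hg0 : gam D = 0) (hO : Amb D O) (X : Next D O)
    (hsurj : ∀ c, ∃ s ∈ X.S, a D (s * D.t * s⁻¹) = c) (hxU : ∀ s ∈ U D X, x * s * x⁻¹ ∈ U D X)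
    {g : G} (hg : g ∈ U D X) (hgx : (g * x) * (g * x) = 1) :
    (∃ y ∈ U D X, y * x * y⁻¹ = g * x) ∨ (∀ b ∈ W D, b * (g * x) = (g * x) * b) := by
  obtain ⟨r, hrf, hr⟩ := h.exists_r hO
  by_cases hr0 : r = 0
  · right
    intro y hy
    have e1 : x * y = y * x := by
      have := hr y hy
      rw [hr0, zero_mul, z_zero, one_mul] at this
      exact mul_inv_eq_iff_eq_mul.mp this
    rw [← mul_assoc, ((mem_U D).mp hg).2 y hy, mul_assoc, ← e1, mul_assoc]
  · left
    -- reduction of `g` by conjugation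
    have hred : ∀ g ∈ U D X, (g * x) * (g * x) = 1 → ∀ k ∈ U D X,
        (∃ y ∈ U D X, y * x * y⁻¹ = k * g * (x * k⁻¹ * x⁻¹) * x) →
        ∃ y ∈ U D X, y * x * y⁻¹ = g * x := by
      rintro g hg hgx k hk ⟨y, hy, h1⟩
      refine ⟨k⁻¹ * y, mul_mem (inv_mem hk) hy, ?_⟩
      have e1 : k⁻¹ * y * x * (k⁻¹ * y)⁻¹ = k⁻¹ * (y * x * y⁻¹) * k := by group
      rw [e1, h1]; group
    have hinv : ∀ g ∈ U D X, (g * x) * (g * x) = 1 → ∀ k ∈ U D X,
        (k * g * (x * k⁻¹ * x⁻¹) * x) * (k * g * (x * k⁻¹ * x⁻¹) * x) = 1 := by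
      intro g hg hgx k hk
      have e1 : (k * g * (x * k⁻¹ * x⁻¹) * x) = k * (g * x) * k⁻¹ := by group
      rw [e1]
      have e2 : k * (g * x) * k⁻¹ * (k * (g * x) * k⁻¹) = k * (g * x * (g * x)) * k⁻¹ := by group
      rw [e2, hgx]; group
    -- step 1: `V`
    have step1 : ∀ g ∈ V D, (g * x) * (g * x) = 1 → ∃ y ∈ U D X, y * x * y⁻¹ = g * x := by
      intro g hg hgx
      rcases four_one_aux h hrf hr hg hgx with ⟨y, hy, h1⟩ | ⟨h1, -⟩
      · exact ⟨y, V_le_U D X hy, h1⟩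
      · rw [hg0] at h1
        exact absurd h1 hr0
    -- step 2
    have hgS := U_le D X hg
    have hgN := X.S_N2 hgS
    have h1 : g * (x * g * x⁻¹) = 1 := by
      rw [← hgx]
      have : g * x * (g * x) = g * (x * g * x⁻¹) * (x * x) := by group
      rw [this, h.sq, mul_one]
    have hxgN := X.S_N2 (U_le D X (hxU g hg))
    have hgl : c * bar n (b D g) = b D g := by
      have h2 := b_mul D hgN hxgN
      rw [h1, b_one, b_conj h hgN] at h2
      exact (Field.add_eq_zero.mp h2.symm).symm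
    obtain ⟨d, hd⟩ := exists_coboundary D.hq h.N_c hgl
    obtain ⟨k, hk, hbk⟩ := U_surj D hg0 hO X hsurj d
    have hkN := X.S_N2 (U_le D X hk)
    apply hred g hg hgx k hk
    have hxk := hxU _ (inv_mem hk)
    have hmem : k * g * (x * k⁻¹ * x⁻¹) ∈ U D X := mul_mem (mul_mem hk hg) hxk
    apply step1 _ _ (hinv g hg hgx k hk)
    apply U_Q D hmem
    apply mem_Q_of_b D hg0 hO X (U_le D X hmem)
    rw [b_mul D (mul_mem hkN hgN) (X.S_N2 (U_le D X hxk)), b_mul D hkN hgN,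
      b_conj h (inv_mem hkN), b_inv D hkN, hbk, ← hd]
    have : d + (d + c * bar n d) + c * bar n d = (d + d) + (c * bar n d + c * bar n d) := by ring
    rw [this, add_self, add_self, add_zero]

end Cfsg.Agent.StdU3.OuterEnd
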