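import Cfsg.Agent.StdU3.TermTwo
import Cfsg.Agent.StdU3.OuterEnd

/-!
# Instances of `TermDef.Term` for the first two levels

Only the field `three` at level 1 is left as a hypothesis.
-/

set_option autoImplicit false
set_option linter.unusedSectionVars false

namespace Cfsg.Agent.StdU3.TermInst

open Cfsg.Agent.StdU3.Field Cfsg.Agent.StdU3.PreDef Cfsg.Agent.StdU3.LevelOne
open Cfsg.Agent.StdU3.LevelOneW Cfsg.Agent.StdU3.NormQ Cfsg.Agent.StdU3.Kernel
open Cfsg.Agent.StdU3.Next Cfsg.Agent.StdU3.LevelTwo Cfsg.Agent.StdU3.Card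
open Cfsg.Agent.StdU3.TermTwo Cfsg.Agent.StdU3.Outer Cfsg.Agent.StdU3.TermDef

variable {G : Type*} [Group G] {K : Type*} [Field K] [Fintype K] [CharP K 2] {n : ℕ}
variable {D : Pre G K n} {O : Subgroup G}

/-! ### From the hypotheses of `Term.four` to `Out` -/

theorem mem_Q_iff {g : G} : g ∈ D.Q ↔ g ∈ V D ∨ g * D.t ∈ V D := by
  constructor
  · exact V_or D
  · rintro (h | h)
    · exact V_le D h
    · have := mul_mem (V_le D h) D.Q_t
      rwa [mul_assoc, D.t_sq, mul_one] at this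

/-- normalizing `V` and commuting with `t` -/
theorem norm_of_V [Finite G] {x : G} (hx : x * D.t = D.t * x)
    (hV : ∀ g ∈ V D, x * g * x⁻¹ ∈ V D) : Norm D x := by
  apply norm_of_fwd
  intro g hg
  rcases mem_Q_iff.mp hg with h | h
  · exact mem_Q_iff.mpr (Or.inl (hV g h))
  · apply mem_Q_iff.mpr
    right
    have h1 := hV _ h
    have h2 : x * (g * D.t) * x⁻¹ = x * g * x⁻¹ * (x * D.t * x⁻¹) := by group
    have h3 : x * D.t * x⁻¹ = D.t := by rw [hx]; group
    rwa [h2, h3] at h1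

theorem out_of_norm {x : G} (hx : x * D.t = D.t * x) (hxx : x * x = 1) (hn : Norm D x) {c : K}
    (hc : ∀ p ∈ D.P, x * p * x⁻¹ ∈ D.P ∧ D.ca (x * p * x⁻¹) = c * bar n (D.ca p)) :
    Out D x c where
  comm := hx
  sq := hxx
  norm := hn
  act := by
    intro b
    obtain ⟨p, hp, rfl⟩ := D.ca_surj b
    obtain ⟨h1, h2⟩ := hc p hp
    rw [← A_P D hn hp, a_P D h1, h2]

/-! ### Level 1 -/

theorem V_isPGroup : IsPGroup 2 (V D) := D.Q_two.to_le (V_le D)

theorem comm_t_V {g : G} (hg : g ∈ V D) (h : g * D.t = D.t * g) : g ∈ D.P := by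
  rcases D.Q_T g (V_le D hg) h with h1 | h1
  · exact h1
  · exfalso
    have h2 := e_P D h1
    rw [e_mul D (V_le D hg) D.Q_t, e_zero D hg, e_t, zero_add] at h2
    exact one_ne_zero h2

theorem mem_B {c : K} (hc : N n c = 1) {k : G} : k ∈ OuterEnd.B D c hc ↔
    k ∈ V D ∧ c * bar n (a D k) = a D k ∧ N n (a D k) = gam D * u D k := Iff.rfl

/-- `B` has order at least `q²`. -/
theorem card_B [Finite G] {c : K} (hc : N n c = 1) :
    (2 ^ n) ^ 2 ≤ Nat.card (OuterEnd.B D c hc) := by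
  obtain ⟨c0, hc0, h0⟩ := exists_line D.hq hc
  have hc' : c ≠ 0 := by
    rintro rfl
    rw [N_zero] at hc
    exact zero_ne_one hc
  by_cases hg : gam D = 0
  · have hle : W D ≤ OuterEnd.B D c hc := by
      intro y hy
      rw [mem_B]
      refine ⟨W_le_V D hy, ?_, ?_⟩
      · rw [a_W D hy, bar_zero, mul_zero]
      · rw [a_W D hy, N_zero, hg, zero_mul]
    have h1 := Nat.card_le_card_of_injective _ (Subgroup.inclusion_injective hle)
    rwa [card_W] at h1
  · have hline : ∀ k ∈ OuterEnd.B D c hc, bar n (a D k / c0) = a D k / c0 := by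
      intro k hk
      obtain ⟨l, hl, he⟩ := line_eq hc0 h0 ((mem_B hc).mp hk).2.1
      rw [he, mul_div_cancel_right₀ _ hc0, hl]
    have h3 := card_of_hom (OuterEnd.B D c hc) (Z D) (fun g => a D g / c0) (Fq K n) (by
      intro x hx y hy
      have hx' := V_le D ((mem_B hc).mp hx).1
      have hy' := V_le D ((mem_B hc).mp hy).1
      show a D (x * y) / c0 = a D x / c0 + a D y / c0
      rw [a_mul D hx' hy', add_div]) (by
      intro x
      constructor
      · rintro ⟨b, hb, rfl⟩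
        refine ⟨(mem_B hc).mpr ⟨W_le_V D (z_mem_W D b), ?_, ?_⟩, ?_⟩
        · rw [a_z, bar_zero, mul_zero]
        · rw [a_z, N_zero, u_z, mul_zero]
        · show a D (D.z b) / c0 = 0
          rw [a_z, zero_div]
      · rintro ⟨hx, h5⟩
        obtain ⟨hxV, -, h7⟩ := (mem_B hc).mp hx
        have h6 : a D x = 0 := (div_eq_zero_iff.mp h5).resolve_right hc0
        rw [h6, N_zero] at h7
        exact ker_eq D (V_le D hxV) h6 ((mul_eq_zero.mp h7.symm).resolve_left hg)
          (e_zero D hxV)) hline (by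
      intro m hm
      have hgi : bar n (gam D)⁻¹ = (gam D)⁻¹ := fixed_inv (gam_fixed D)
      obtain ⟨g, hg1, hg2, hg3, hg4⟩ := surj D (a0 := m * c0)
        (u0 := (gam D)⁻¹ * N n (m * c0)) (e0 := 0) (fixed_mul hgi (fixed_N D.hq _))
        (Or.inl rfl)
      have hgV : g ∈ V D := (e_eq_zero_iff D).mp hg4
      have h5 : a D g / c0 = m := by rw [hg2, mul_div_cancel_right₀ _ hc0]
      refine ⟨g, (mem_B hc).mpr ⟨hgV, ?_, ?_⟩, h5⟩
      · have hm' : bar n m = m := hm
        rw [hg2, bar_mul, hm', mul_left_comm, h0]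
      · rw [hg2, hg3, ← mul_assoc, mul_inv_cancel₀ hg, one_mul])
    rw [h3, card_Z, card_Fq D.hq, sq]

/-- an outer involution is not in `Q` -/
theorem not_mem_Q {x : G} {c : K} (h : Out D x c) : x ∉ D.Q := fun hx =>
  h.not_N2 (Q_le_N2 D hx)

/-- **level 1**: `U = V`. -/
noncomputable def one [Finite G] (hO : Amb D O)
    (three : ∀ g ∈ V D, (g * D.t) * (g * D.t) = 1 →
      (∃ y ∈ V D, y * D.t * y⁻¹ = g * D.t) ∨ (∀ y : G, y * D.t * y⁻¹ ≠ g * D.t)) : Term D where
  U := V D
  U_two := V_isPGroup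
  P_le := P_le_V D
  class_two := by
    intro x hx y hy g hg
    rw [cmt_eq D (V_le D hx) (V_le D hy)]
    exact (comm_z D (V_le D hg) _).symm
  t_not := t_not_V D
  t_conj := fun g hg => V_t D hg
  comm_t := fun g hg h => comm_t_V hg h
  two := fun v hv h1 hz => levelOne D hv h1 hz
  three := three
  four := by
    intro x hx hxx hc hV g hg hgx
    obtain ⟨c, hc⟩ := hc
    have hout := out_of_norm hx hxx (norm_of_V hx hV) hc
    rcases OuterEnd.four_one hout hO hg hgx with h | h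
    · exact Or.inl h
    · right
      have hBV : OuterEnd.B D c hout.N_c ≤ V D := fun b hb => ((mem_B _).mp hb).1
      refine ⟨OuterEnd.B D c hout.N_c, hBV, fun b hb => OuterEnd.B_sq hb, h, ?_, ?_, card_B _⟩
      · intro b hb b' hb'
        exact OuterEnd.B_comm hb (hBV hb') ((mem_B _).mp hb').2.1
      · intro hgxB
        apply not_mem_Q hout
        have h2 := mul_mem (inv_mem (V_le D hg)) (V_le D (hBV hgxB))
        rwa [← mul_assoc, inv_mul_cancel, one_mul] at h2

/-! ### Level 2 -/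

theorem U_isPGroup (X : Next D O) : IsPGroup 2 (U D X) := X.S_two.to_le (U_le D X)

theorem t_mem_S (X : Next D O) : D.t ∈ X.S := X.Q_le D.Q_t

/-- `W` is the centre of `U`. -/
theorem mem_W_iff_center (hg0 : gam D = 0) (hO : Amb D O) (X : Next D O) {g : G}
    (hg : g ∈ U D X) : g ∈ W D ↔ ∀ k ∈ U D X, g * k = k * g := by
  constructor
  · intro h k hk
    exact ((mem_U D).mp hk).2 g h
  · intro h
    have hgN := X.S_N2 (U_le D X hg)
    have hb : b D g = 0 := by
      by_contra h0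
      obtain ⟨y, hy⟩ := exists_Tr_eq D.hq h0 (bar_one n)
      obtain ⟨p, hp, rfl⟩ := D.ca_surj y
      have h1 := u_conj_N2 D hg0 hgN (D.P_le hp)
      have h2 : g * p * g⁻¹ = p := by
        rw [h p (V_le_U D X (P_le_V D hp))]; group
      rw [h2, u_P D hp, e_P D hp, a_P D hp, hy, zero_mul, add_zero, zero_add] at h1
      exact zero_ne_one h1
    have hgV := U_Q D hg (mem_Q_of_b D hg0 hO X (U_le D X hg) hb)
    apply W_of_ae D (V_le D hgV) _ (e_zero D hgV)
    exact a_zero_of_comm D (V_le D hgV) (fun x hx => h x (V_le_U D X (P_le_V D hx)))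

/-- `V` = the elements of `U` which commute with `t` modulo `W`. -/
theorem mem_V_iff_comm (hg0 : gam D = 0) (hO : Amb D O) (X : Next D O) {g : G}
    (hg : g ∈ U D X) : g ∈ V D ↔ g * D.t * g⁻¹ * D.t⁻¹ ∈ W D := by
  have hgN := X.S_N2 (U_le D X hg)
  constructor
  · intro h
    rw [u_conj D (V_le D h), mul_inv_cancel_right]
    exact z_mem_W D _
  · intro h
    have h1 := a_W D h
    have hQ := hgN.1.fwd _ D.Q_t
    rw [a_mul D hQ (inv_mem D.Q_t), a_inv D D.Q_t, a_t, add_zero] at h1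
    exact U_Q D hg (mem_Q_of_b D hg0 hO X (U_le D X hg) h1)

theorem norm_of_U [Finite G] (hg0 : gam D = 0) (hO : Amb D O) (X : Next D O) {x : G}
    (hx : x * D.t = D.t * x) (hU : ∀ g ∈ U D X, x * g * x⁻¹ ∈ U D X) : Norm D x := by
  -- `x⁻¹` normalizes `U` too
  have hUi : ∀ g ∈ U D X, x⁻¹ * g * x ∈ U D X := by
    have hm : (U D X).map (MulAut.conj x).toMonoidHom ≤ U D X := by
      rw [Subgroup.map_le_iff_le_comap]
      intro g hg
      exact hU g hg
    have hm' : (U D X).map (MulAut.conj x).toMonoidHom = U D X := by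
      apply Subgroup.eq_of_le_of_card_ge hm
      rw [Nat.card_congr ((U D X).equivMapOfInjective (MulAut.conj x).toMonoidHom
        (MulAut.conj x).injective).toEquiv]
    intro g hg
    rw [← hm'] at hg
    obtain ⟨k, hk, rfl⟩ := hg
    have : x⁻¹ * (MulAut.conj x).toMonoidHom k * x = k := by
      show x⁻¹ * (x * k * x⁻¹) * x = k
      group
    rw [this]; exact hk
  have hW : ∀ y ∈ W D, x * y * x⁻¹ ∈ W D := by
    intro y hy
    rw [mem_W_iff_center hg0 hO X (hU y (W_le_U D X hy))]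
    intro k hk
    have h1 := ((mem_W_iff_center hg0 hO X (W_le_U D X hy)).mp hy) _ (hUi k hk)
    calc x * y * x⁻¹ * k = x * (y * (x⁻¹ * k * x)) * x⁻¹ := by group
      _ = x * (x⁻¹ * k * x * y) * x⁻¹ := by rw [h1]
      _ = k * (x * y * x⁻¹) := by group
  apply norm_of_V hx
  intro g hg
  rw [mem_V_iff_comm hg0 hO X (hU g (V_le_U D X hg))]
  have h1 := hW _ ((mem_V_iff_comm hg0 hO X (V_le_U D X hg)).mp hg)
  have ht : x * D.t * x⁻¹ = D.t := by rw [hx]; group
  have ht' : x⁻¹ * D.t * x = D.t := by rw [mul_assoc, ← hx]; group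
  have h2 : x * g * x⁻¹ * D.t * (x * g * x⁻¹)⁻¹ * D.t⁻¹ =
      x * (g * (x⁻¹ * D.t * x) * g⁻¹ * (x⁻¹ * D.t * x)⁻¹) * x⁻¹ := by group
  rw [h2, ht']
  exact h1

/-- **level 2**: `gam = 0`, `U = C_S(W)`. -/
noncomputable def two [Finite G] (hg0 : gam D = 0) (hO : Amb D O) (X : Next D O)
    (hsurj : ∀ c, ∃ s ∈ X.S, a D (s * D.t * s⁻¹) = c) : Term D where
  U := U D X
  U_two := U_isPGroup X
  P_le := (P_le_V D).trans (V_le_U D X)
  class_two := by
    intro x hx y hy g hg
    exact ((mem_U D).mp hg).2 _ (cmt_mem_W D hg0 hO X hx hy)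
  t_not := t_not_U D X
  t_conj := fun g hg => conj_U_S D X (t_mem_S X) hg
  comm_t := fun g hg h => mem_P_of_comm D hg0 hO X hg h
  two := fun v hv _ _ => levelTwo hg0 hO X hsurj hv
  three := by
    intro g hg h
    left
    have h1 : D.t⁻¹ * g * D.t ∈ U D X := by
      have := conj_U_S D X (inv_mem (t_mem_S X)) hg
      rwa [inv_inv] at this
    have h2 : D.t * (D.t⁻¹ * g * D.t) = g * D.t := by group
    obtain ⟨r, hr, h3⟩ := invol_conj D hg0 hO X hsurj h1 (by rw [h2, h])
    exact ⟨r, hr, by rw [← h3, h2]⟩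
  four := by
    intro x hx hxx hc hU g hg hgx
    obtain ⟨c, hc⟩ := hc
    have hout := out_of_norm hx hxx (norm_of_U hg0 hO X hx hU) hc
    rcases OuterEnd.four_two hout hg0 hO X hsurj hU hg hgx with h | h
    · exact Or.inl h
    · right
      refine ⟨W D, W_le_U D X, ?_, h, fun b hb c hc => W_comm D hb hc, ?_, (card_W D).ge⟩
      · intro y hy
        rw [W_sq D hy, hg0, zero_mul, z_zero]
      · intro hgxW
        apply hout.not_N2
        have h2 := mul_mem (inv_mem (U_le D X hg)) (X.Q_le (W_le D hgxW))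
        rw [← mul_assoc, inv_mul_cancel, one_mul] at h2
        exact X.S_N2 h2

end Cfsg.Agent.StdU3.TermInst
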