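import Cfsg.Agent.StdU3.SwapTorus
import Cfsg.Agent.StdU3.EndN
import Cfsg.Agent.StdU3.OuterTorus
import Cfsg.Agent.StdU3.TermInst
import Cfsg.Agent.StdU3.TermExists

/-!
# An outer involution `e` conjugate to `t`: the action on `Q`

`e` acts on `W` by `w ↦ z ((1 + gam) u w) w`; for every `b ∈ F_q` there is `x ∈ V` commuting with
`e` with `u x = b`, `x t` conjugate to `t`; `e t` is not conjugate to `t`.
-/

set_option autoImplicit false
set_option linter.unusedSectionVars false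
set_option linter.dupNamespace false

namespace Cfsg.Agent.StdU3.OuterA

open Subgroup Cfsg.Agent.StdU3.Field Cfsg.Agent.StdU3.PreDef Cfsg.Agent.StdU3.FldDef
open Cfsg.Agent.StdU3.LevelOne Cfsg.Agent.StdU3.LevelOneW Cfsg.Agent.StdU3.Rank
open Cfsg.Agent.StdU3.NormQ Cfsg.Agent.StdU3.Kernel Cfsg.Agent.StdU3.Next
open Cfsg.Agent.StdU3.Outer Cfsg.Agent.StdU3.Swap Cfsg.Agent.StdU3.SwapTorus
open Cfsg.Agent.StdU3.OuterTorus

/-! ### Field -/

section field
variable {K : Type*} [Field K] [Fintype K] [CharP K 2] {n : ℕ}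

theorem eq_one_or_bar (h : Qd K n) (τ : K ≃+* K) (hτ : ∀ b, bar n b = b → τ b = b) :
    τ = 1 ∨ τ = FieldAut.barE h := by
  have key : ∀ x, τ x = x ∨ τ x = bar n x := by
    intro x
    have h1 : (τ x + x) * (τ x + bar n x) = 0 := by
      have h2 : (τ x + x) * (τ x + bar n x) = τ x * τ x + Tr n x * τ x + N n x := by
        rw [Tr_def, N_def]; ring
      have h3 : τ (x * x + Tr n x * x + N n x) = τ x * τ x + Tr n x * τ x + N n x := by
        rw [map_add, map_add, map_mul, map_mul, hτ _ (fixed_Tr h x), hτ _ (fixed_N h x)]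
      have h4 : x * x + Tr n x * x + N n x = 0 := by
        rw [Tr_def, N_def]
        have : x * x + (x + bar n x) * x + x * bar n x =
          (x * x + x * x) + (x * bar n x + x * bar n x) := by ring
        rw [this, Field.add_self, Field.add_self, add_zero]
      rw [h2, ← h3, h4, map_zero]
    rcases mul_eq_zero.mp h1 with h2 | h2
    · exact Or.inl (Field.add_eq_zero.mp h2)
    · exact Or.inr (Field.add_eq_zero.mp h2)
  by_cases h1 : τ = 1
  · exact Or.inl h1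
  · right
    obtain ⟨x0, hx0⟩ : ∃ x, τ x ≠ x := by
      by_contra hcon
      push Not at hcon
      exact h1 (RingEquiv.ext hcon)
    have hx0' := (key x0).resolve_left hx0
    ext x
    show τ x = bar n x
    rcases key x with h2 | h2
    · rcases key (x + x0) with h3 | h3
      · exfalso
        rw [map_add, h2] at h3
        exact hx0 (add_left_cancel h3)
      · rw [map_add, hx0', bar_add] at h3
        exact add_right_cancel h3
    · exact h2

theorem fixed_aut {τ : K ≃+* K} {b : K} (hb : bar n b = b) : bar n (τ b) = τ b := by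
  conv_rhs => rw [← hb]
  rw [bar_def, bar_def, map_pow]

end field

variable {G : Type*} [Group G] {K : Type*} [Field K] [Fintype K] [CharP K 2] {n : ℕ}
variable {D : Pre G K n} {O : Subgroup G}

/-! ### `O` and `Q` -/

theorem eq_one_of_O_Q (hO : Amb D O) {k : G} (hk : k ∈ O) (hq : k ∈ D.Q) : k = 1 := by
  obtain ⟨m, hm⟩ := D.Q_two ⟨k, hq⟩
  exact eq_one_of_O D hO hk (congrArg Subtype.val hm)

theorem comm_O_z (hO : Amb D O) {k : G} (hk : k ∈ O) (b : K) : Commute k (D.z b) :=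
  hO.O_P k hk _ (D.z_mem b)

/-- `Q` normalizes `O`. -/
theorem conj_O (hO : Amb D O) {x k : G} (hx : x ∈ D.Q) (hk : k ∈ O) : x * k * x⁻¹ ∈ O := by
  have hxi := inv_mem hx
  have hkt : Commute k D.t := hO.O_t k hk
  have h1 : x⁻¹ * D.t * x = D.z (u D x) * D.t := by
    have := u_conj D hxi
    rw [u_inv D hx, inv_inv] at this
    exact this
  have h2 : Commute k (x⁻¹ * D.t * x) := by
    rw [h1]; exact (comm_O_z hO hk _).mul_right hkt
  have h3 : (x * k * x⁻¹) * D.t = D.t * (x * k * x⁻¹) := by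
    calc (x * k * x⁻¹) * D.t = x * (k * (x⁻¹ * D.t * x)) * x⁻¹ := by group
      _ = x * ((x⁻¹ * D.t * x) * k) * x⁻¹ := by rw [h2.eq]
      _ = _ := by group
  have h4 : ∀ p ∈ D.P, (x * k * x⁻¹) * p * (x * k * x⁻¹)⁻¹ = p := by
    intro p hp
    obtain ⟨b, hb, h5⟩ := conj_P D hxi hp
    rw [inv_inv] at h5
    have h6 : Commute k (x⁻¹ * p * x) := by
      rw [h5]; exact hO.O_P k hk _ (mul_mem (D.z_mem b) hp)
    calc (x * k * x⁻¹) * p * (x * k * x⁻¹)⁻¹ = x * (k * (x⁻¹ * p * x)) * k⁻¹ * x⁻¹ := by group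
      _ = x * ((x⁻¹ * p * x) * k) * k⁻¹ * x⁻¹ := by rw [h6.eq]
      _ = p := by group
  obtain ⟨x1, hx1, k1, hk1, he⟩ := hO.dec _ h3 (fun p hp => by
    rw [h4 p hp]; exact ⟨hp, rfl⟩)
  have hk1t : Commute k1 D.t := hO.O_t k1 hk1
  have hx1t : x1 * D.t = D.t * x1 := by
    have e : x1 = (x * k * x⁻¹) * k1⁻¹ := by rw [he]; group
    rw [e]
    exact (show Commute (x * k * x⁻¹) D.t from h3).mul_left hk1t.inv_left
  have hcomm : Commute x1 k1 := by
    rcases D.Q_T x1 hx1 hx1t with h5 | h5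
    · exact (hO.O_P k1 hk1 _ h5).symm
    · have e : x1 = x1 * D.t * D.t := by rw [mul_assoc, D.t_sq, mul_one]
      rw [e]
      exact (show Commute (x1 * D.t) k1 from (hO.O_P k1 hk1 _ h5).symm).mul_left hk1t.symm
  have h5 : (x * k * x⁻¹) ^ Nat.card O = 1 := by
    rw [conj_pow, pow_card_O hk, mul_one, mul_inv_cancel]
  rw [he, hcomm.mul_pow, pow_card_O hk1, mul_one] at h5
  obtain ⟨m, hm⟩ := D.Q_two ⟨x1, hx1⟩
  have hm' : x1 ^ 2 ^ m = 1 := congrArg Subtype.val hm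
  have hcop : Nat.Coprime (Nat.card O) (2 ^ m) := (Nat.coprime_two_right.mpr hO.odd).pow_right m
  have h6 : orderOf x1 ∣ Nat.gcd (Nat.card O) (2 ^ m) :=
    Nat.dvd_gcd (orderOf_dvd_of_pow_eq_one h5) (orderOf_dvd_of_pow_eq_one hm')
  rw [Nat.Coprime.gcd_eq_one hcop, Nat.dvd_one, orderOf_eq_one_iff] at h6
  rw [he, h6, one_mul]
  exact hk1

/-- uniqueness of the decomposition in `Q O`. -/
theorem dec_unique (hO : Amb D O) {x x' k k' : G} (hx : x ∈ D.Q) (hx' : x' ∈ D.Q) (hk : k ∈ O)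
    (hk' : k' ∈ O) (h : x * k = x' * k') : x = x' ∧ k = k' := by
  have h1 : x'⁻¹ * x = k' * k⁻¹ := by
    have : x'⁻¹ * (x * k) * k⁻¹ = x'⁻¹ * (x' * k') * k⁻¹ := by rw [h]
    calc x'⁻¹ * x = x'⁻¹ * (x * k) * k⁻¹ := by group
      _ = x'⁻¹ * (x' * k') * k⁻¹ := this
      _ = _ := by group
  have h2 : k' * k⁻¹ = 1 := eq_one_of_O_Q hO (mul_mem hk' (inv_mem hk)) (by
    rw [← h1]; exact mul_mem (inv_mem hx') hx)
  rw [h2] at h1
  exact ⟨(inv_mul_eq_one.mp h1).symm, (mul_inv_eq_one.mp h2).symm⟩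

/-- structure of the square roots of elements of `Z` in `Q O` commuting with `e`. -/
theorem dec_sq (hO : Amb D O) {x k : G} {b : K} (hx : x ∈ D.Q) (hk : k ∈ O)
    (hsq : (x * k) * (x * k) = D.z b) : x * x = D.z b ∧ x * k * x⁻¹ = k⁻¹ := by
  have hk1 := conj_O hO hx hk
  have hk2 := conj_O hO hx hk1
  have h1 : (x * k * x⁻¹) * (x * (x * k * x⁻¹) * x⁻¹) = D.z b * (x * x)⁻¹ := by
    rw [← hsq]; group
  have h2 : (x * k * x⁻¹) * (x * (x * k * x⁻¹) * x⁻¹) = 1 :=
    eq_one_of_O_Q hO (mul_mem hk1 hk2) (by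
      rw [h1]; exact mul_mem (z_mem_Q D b) (inv_mem (mul_mem hx hx)))
  rw [h2] at h1
  have h3 : x * x = D.z b := (mul_inv_eq_one.mp h1.symm).symm
  refine ⟨h3, ?_⟩
  have h4 : x * (x * k * x⁻¹) * x⁻¹ = k := by
    have e : x * (x * k * x⁻¹) * x⁻¹ = (x * x) * k * (x * x)⁻¹ := by group
    rw [e, h3, (comm_O_z hO hk b).symm.eq]; group
  rw [h4] at h2
  exact eq_inv_of_mul_eq_one_left h2

/-- `x k` is conjugate to `x` under powers of `k`. -/
theorem dec_conj (hO : Amb D O) {x k : G} (hk : k ∈ O) (h : x * k * x⁻¹ = k⁻¹) :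
    ∃ j : ℕ, k ^ j * x * (k ^ j)⁻¹ = x * k := by
  obtain ⟨j, hj⟩ := exists_sqrt_odd hO.odd (pow_card_O hk)
  refine ⟨j, ?_⟩
  have h1 : x * k ^ j * x⁻¹ = (k ^ j)⁻¹ := by rw [← conj_pow, h, inv_pow]
  have h2 : x * (k ^ j)⁻¹ * x⁻¹ = k ^ j := by
    calc x * (k ^ j)⁻¹ * x⁻¹ = (x * k ^ j * x⁻¹)⁻¹ := by group
      _ = k ^ j := by rw [h1, inv_inv]
  calc k ^ j * x * (k ^ j)⁻¹ = k ^ j * (x * (k ^ j)⁻¹ * x⁻¹) * x := by group
    _ = k⁻¹ * x := by rw [h2, hj]
    _ = x * k := by rw [← h]; group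

/-! ### The elements of `P_e0` -/

variable {F : Fld D} {e g : G}

/-- the elements of `P_e` inverted by `t`. -/
theorem exists_y (hn : ∀ s ∈ F.Sg, Norm D s) (hC : Cj F e g) {b : K} (hb : bar n b = b) :
    ∃ y, (∃ p ∈ D.P, y = g * p * g⁻¹) ∧ y * D.t * y⁻¹ = D.z b * D.t ∧ y * y = D.z b ∧
      Commute y e ∧ (∃ w, w * D.t * w⁻¹ = y * D.t) := by
  obtain ⟨c, h2⟩ := out_of hC.inv (hn _ hC.mem)
  set t2 := g⁻¹ * D.t * g with ht2
  obtain ⟨b', hb', hbb⟩ := hC.z' b hb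
  obtain ⟨s, hs, hsb⟩ := exists_N_line D.hq h2.N_c hb'
  obtain ⟨p, hp, rfl⟩ := D.ca_surj s
  have hpp : p * p = D.z b' := by rw [D.P_sq p hp, hsb]
  have hinv := h2.inverts hp hs
  have hz : D.z b = g * D.z b' * g⁻¹ := by rw [← hbb]; group
  have ht : D.t = g * t2 * g⁻¹ := by rw [ht2]; group
  refine ⟨g * p * g⁻¹, ⟨p, hp, rfl⟩, ?_, ?_, ?_, ?_⟩
  · have h3 : t2 * p⁻¹ * t2⁻¹ = p := by
      calc t2 * p⁻¹ * t2⁻¹ = (t2 * p * t2⁻¹)⁻¹ := by group
        _ = p := by rw [hinv, inv_inv]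
    have h4 : p * t2 * p⁻¹ = D.z b' * t2 := by
      calc p * t2 * p⁻¹ = p * (t2 * p⁻¹ * t2⁻¹) * t2 := by group
        _ = _ := by rw [h3, hpp]
    rw [hz]
    conv_lhs => rw [ht]
    conv_rhs => rw [ht]
    calc g * p * g⁻¹ * (g * t2 * g⁻¹) * (g * p * g⁻¹)⁻¹ = g * (p * t2 * p⁻¹) * g⁻¹ := by group
      _ = _ := by rw [h4]; group
  · rw [hz, ← hpp]; group
  · rw [← hC.te]
    have h3 : Commute p D.t := P_t (D := D) hp
    show g * p * g⁻¹ * (g * D.t * g⁻¹) = g * D.t * g⁻¹ * (g * p * g⁻¹)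
    calc g * p * g⁻¹ * (g * D.t * g⁻¹) = g * (p * D.t) * g⁻¹ := by group
      _ = g * (D.t * p) * g⁻¹ := by rw [h3.eq]
      _ = _ := by group
  · obtain ⟨y1, hy1, h3⟩ := h2.conj_P hp hs
    refine ⟨g * y1 * g⁻¹, ?_⟩
    conv_lhs => rw [ht]
    conv_rhs => rw [ht]
    calc g * y1 * g⁻¹ * (g * t2 * g⁻¹) * (g * y1 * g⁻¹)⁻¹ = g * (y1 * t2 * y1⁻¹) * g⁻¹ := by group
      _ = _ := by rw [h3]; group

/-- elements of `C(t)` centralizing `Z`. -/
theorem act_of_cz {v : G} (hvt : v * D.t = D.t * v) (hvz : ∀ b, v * D.z b = D.z b * v) :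
    (∀ p ∈ D.P, v * p * v⁻¹ ∈ D.P) ∧ (ch F v = 1 ∨ ch F v = FieldAut.barE D.hq) ∧
    ∃ c, N n c = 1 ∧ ∀ p ∈ D.P, D.ca (v * p * v⁻¹) = c * ch F v (D.ca p) := by
  have hvP : ∀ p ∈ D.P, v * p * v⁻¹ ∈ D.P := by
    apply F.ti v hvt (D.z 1) (D.z_mem 1) (fun h => one_ne_zero (D.z_inj 1 (bar_one n) h))
    rw [hvz 1, mul_inv_cancel_right]
    exact D.z_mem 1
  obtain ⟨c, hc, h1, h2⟩ := ch_ca F hvt hvP
  have h3 : ∀ b, bar n b = b → N n c * ch F v b = b := by
    intro b hb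
    have h4 := h2 b hb
    rw [hvz b, mul_inv_cancel_right] at h4
    exact (z_eq D hb (fixed_mul (fixed_N D.hq c) (fixed_aut hb)) h4).symm
  have hNc : N n c = 1 := by
    have := h3 1 (bar_one n)
    rwa [map_one, mul_one] at this
  refine ⟨hvP, ?_, c, hNc, h1⟩
  apply eq_one_or_bar D.hq
  intro b hb
  have := h3 b hb
  rwa [hNc, one_mul] at this

theorem dec_y (he : Inv F e) {y : G} {b : K} (hb : bar n b = b)
    (hyt : y * D.t * y⁻¹ = D.z b * D.t) (hyy : y * y = D.z b) (hye : Commute y e)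
    (hyz : ∀ b, y * D.z b = D.z b * y) (hez : ∀ b, e * D.z b = D.z b * e) :
    ∃ ε, (ε = 1 ∨ ε = e) ∧ ∃ x ∈ D.Q, ∃ k ∈ F.O, y * ε = x * k := by
  obtain ⟨g0, hg0, hg0t⟩ := D.Q_surj b hb
  -- the main argument
  have key : ∀ ε, (ε = 1 ∨ ε = e) → ch F (g0⁻¹ * (y * ε)) = 1 →
      ∃ ε, (ε = 1 ∨ ε = e) ∧ ∃ x ∈ D.Q, ∃ k ∈ F.O, y * ε = x * k := by
    intro ε hε hch
    have hεt : Commute ε D.t := by
      rcases hε with rfl | rfl
      · exact Commute.one_left _
      · exact he.t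
    have hεz : ∀ b, ε * D.z b = D.z b * ε := by
      intro b
      rcases hε with rfl | rfl
      · rw [one_mul, mul_one]
      · exact hez b
    have hεε : ε * ε = 1 := by
      rcases hε with rfl | rfl
      · rw [one_mul]
      · exact he.sq
    have hyε : Commute y ε := by
      rcases hε with rfl | rfl
      · exact Commute.one_right _
      · exact hye
    set v := g0⁻¹ * (y * ε) with hv
    have hvt : v * D.t = D.t * v := by
      have h1 : (y * ε) * D.t = g0 * D.t * g0⁻¹ * (y * ε) := by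
        rw [hg0t, ← hyt]
        calc (y * ε) * D.t = y * (ε * D.t) := by group
          _ = y * (D.t * ε) := by rw [hεt.eq]
          _ = _ := by group
      calc v * D.t = g0⁻¹ * ((y * ε) * D.t) := by rw [hv]; group
        _ = D.t * v := by rw [h1, hv]; group
    have hvz : ∀ b, v * D.z b = D.z b * v := by
      intro b
      have h1 : Commute g0 (D.z b) := D.Q_Z g0 hg0 b
      exact h1.inv_left.mul_left ((show Commute y (D.z b) from hyz b).mul_left (hεz b))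
    obtain ⟨hvP, -, c, hNc, hvc⟩ := act_of_cz (F := F) hvt hvz
    have hvc' : ∀ p ∈ D.P, D.ca (v * p * v⁻¹) = c * D.ca p := by
      intro p hp
      rw [hvc p hp, hch]; rfl
    -- `y ε = g0 v`
    have hyv : y * ε = g0 * v := by rw [hv]; group
    have hact : ∀ p ∈ D.P, (y * ε) * p * (y * ε)⁻¹ ∈ D.P ∧
        D.ca ((y * ε) * p * (y * ε)⁻¹) = c * D.ca p := by
      intro p hp
      have e1 : (y * ε) * p * (y * ε)⁻¹ = g0 * (v * p * v⁻¹) * g0⁻¹ := by rw [hyv]; group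
      obtain ⟨d, hd, h1⟩ := conj_P D hg0 (hvP p hp)
      rw [e1, h1]
      refine ⟨mul_mem (D.z_mem d) (hvP p hp), ?_⟩
      rw [D.ca_mul _ (D.z_mem d) _ (hvP p hp), D.ca_z, zero_add, hvc' p hp]
    have hsq : (y * ε) * (y * ε) = D.z b := by
      calc (y * ε) * (y * ε) = y * (ε * y) * ε := by group
        _ = y * (y * ε) * ε := by rw [hyε.eq]
        _ = (y * y) * (ε * ε) := by group
        _ = D.z b := by rw [hyy, hεε, mul_one]
    have hc1 : c = 1 := by
      obtain ⟨p, hp, hp1⟩ := D.ca_surj 1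
      obtain ⟨h1, h2⟩ := hact p hp
      obtain ⟨h3, h4⟩ := hact _ h1
      have e1 : (y * ε) * ((y * ε) * p * (y * ε)⁻¹) * (y * ε)⁻¹ = p := by
        have : (y * ε) * ((y * ε) * p * (y * ε)⁻¹) * (y * ε)⁻¹ =
          ((y * ε) * (y * ε)) * p * ((y * ε) * (y * ε))⁻¹ := by group
        rw [this, hsq, ← D.Q_Z p (D.P_le hp)]; group
      rw [e1, h2, hp1, mul_one] at h4
      have h5 : (c + 1) * (c + 1) = 0 := by
        have : (c + 1) * (c + 1) = c * c + (c + c) + 1 := by ring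
        rw [this, ← h4, Field.add_self, add_zero, Field.add_self]
      exact Field.add_eq_zero.mp (mul_self_eq_zero.mp h5)
    obtain ⟨x1, hx1, k, hk, hvk⟩ := F.amb.dec v hvt (fun p hp => ⟨hvP p hp, by
      rw [hvc' p hp, hc1, one_mul]⟩)
    exact ⟨ε, hε, g0 * x1, mul_mem hg0 hx1, k, hk, by rw [hyv, hvk]; group⟩
  have hvt : (g0⁻¹ * y) * D.t = D.t * (g0⁻¹ * y) := by
    have h1 : y * D.t = g0 * D.t * g0⁻¹ * y := by rw [hg0t, ← hyt]; group
    rw [mul_assoc, h1]; group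
  have hvz : ∀ b, (g0⁻¹ * y) * D.z b = D.z b * (g0⁻¹ * y) := fun b =>
    (show Commute g0 (D.z b) from D.Q_Z g0 hg0 b).inv_left.mul_left (hyz b)
  obtain ⟨-, h1 | h1, -⟩ := act_of_cz (F := F) hvt hvz
  · exact key 1 (Or.inl rfl) (by rw [mul_one]; exact h1)
  · refine key e (Or.inr rfl) ?_
    have e1 : g0⁻¹ * (y * e) = (g0⁻¹ * y) * e := by group
    rw [e1, ch_mul F hvt he.t, h1, he.ch]
    ext a
    show bar n (bar n a) = a
    exact bar_bar D.hq a

/-- the elements of `Q` commuting with `e`. -/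
theorem exists_x (hn : ∀ s ∈ F.Sg, Norm D s) (he : Inv F e) (heN : Norm D e) (hC : Cj F e g)
    {b : K} (hb : bar n b = b) :
    ∃ x ∈ D.Q, Commute x e ∧ u D x = b ∧ x * x = D.z b ∧
      ((∃ w, w * D.t * w⁻¹ = x * D.t) ∨ (∃ w, w * D.t * w⁻¹ = x * (e * D.t))) := by
  obtain ⟨c, ho⟩ := out_of he heN
  obtain ⟨y, ⟨p, hp, hyp⟩, hyt, hyy, hye, w, hw⟩ := exists_y hn hC hb
  have hyz : ∀ b, y * D.z b = D.z b * y := by
    intro b
    obtain ⟨b', hb', hbb⟩ := z_fixed D b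
    obtain ⟨d, hd, hd'⟩ := hC.z' b' hb'
    have h1 : D.z b' = g * D.z d * g⁻¹ := by rw [← hd']; group
    rw [hbb, h1, hyp]
    have h2 := D.Q_Z p (D.P_le hp) d
    calc g * p * g⁻¹ * (g * D.z d * g⁻¹) = g * (p * D.z d) * g⁻¹ := by group
      _ = g * (D.z d * p) * g⁻¹ := by rw [h2]
      _ = _ := by group
  obtain ⟨ε, hε, x, hx, k, hk, hyx⟩ := dec_y he hb hyt hyy hye hyz ho.comm_z
  have hεt : Commute ε D.t := by
    rcases hε with rfl | rfl
    · exact Commute.one_left _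
    · exact he.t
  have hεe : Commute ε e := by
    rcases hε with rfl | rfl
    · exact Commute.one_left _
    · exact Commute.refl _
  have hεε : ε * ε = 1 := by
    rcases hε with rfl | rfl
    · rw [one_mul]
    · exact he.sq
  have hyε : Commute y ε := by
    rcases hε with rfl | rfl
    · exact Commute.one_right _
    · exact hye
  have hkt : Commute k D.t := F.amb.O_t k hk
  -- commutation with `e`
  have hxke : Commute (x * k) e := by rw [← hyx]; exact hye.mul_left hεe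
  have hek := F.O_conj e he.t k hk
  have hex := heN.fwd x hx
  obtain ⟨h1, h2⟩ := dec_unique F.amb hex hx hek hk (by
    calc e * x * e⁻¹ * (e * k * e⁻¹) = e * (x * k) * e⁻¹ := by group
      _ = (x * k) * e * e⁻¹ := by rw [hxke.eq]
      _ = x * k := by group)
  have hxe : Commute x e := (mul_inv_eq_iff_eq_mul.mp h1).symm
  have hke : Commute k e := (mul_inv_eq_iff_eq_mul.mp h2).symm
  -- the square
  have hsq : (x * k) * (x * k) = D.z b := by
    rw [← hyx]
    calc (y * ε) * (y * ε) = y * (ε * y) * ε := by group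
      _ = y * (y * ε) * ε := by rw [hyε.eq]
      _ = (y * y) * (ε * ε) := by group
      _ = D.z b := by rw [hyy, hεε, mul_one]
  obtain ⟨hxx, hxk⟩ := dec_sq F.amb hx hk hsq
  have hu : u D x = b := by
    apply u_eq D hx hb
    have e1 : x = y * ε * k⁻¹ := by rw [hyx]; group
    have h3 : x * D.t * x⁻¹ = y * ε * (k⁻¹ * D.t * k) * ε⁻¹ * y⁻¹ := by rw [e1]; group
    have h4 : k⁻¹ * D.t * k = D.t := by rw [mul_assoc, ← hkt.eq]; group
    rw [h3, h4]
    calc y * ε * D.t * ε⁻¹ * y⁻¹ = y * (ε * D.t) * ε⁻¹ * y⁻¹ := by group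
      _ = y * (D.t * ε) * ε⁻¹ * y⁻¹ := by rw [hεt.eq]
      _ = y * D.t * y⁻¹ := by group
      _ = _ := hyt
  refine ⟨x, hx, hxe, hu, hxx, ?_⟩
  obtain ⟨j, hj⟩ := dec_conj F.amb hk hxk
  have hyd : ∀ d, Commute k d → (k ^ j)⁻¹ * (x * k * d) * k ^ j = x * d := by
    intro d hd
    rw [← hj]
    have h3 : Commute (k ^ j) d := hd.pow_left j
    calc (k ^ j)⁻¹ * (k ^ j * x * (k ^ j)⁻¹ * d) * k ^ j = x * ((k ^ j)⁻¹ * d) * k ^ j := by group
      _ = x * (d * (k ^ j)⁻¹) * k ^ j := by rw [h3.inv_left.eq]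
      _ = x * d := by group
  rcases hε with rfl | rfl
  · left
    refine ⟨(k ^ j)⁻¹ * w, ?_⟩
    rw [mul_one] at hyx
    calc (k ^ j)⁻¹ * w * D.t * ((k ^ j)⁻¹ * w)⁻¹ = (k ^ j)⁻¹ * (w * D.t * w⁻¹) * k ^ j := by group
      _ = x * D.t := by rw [hw, hyx]; exact hyd _ hkt
  · right
    refine ⟨(k ^ j)⁻¹ * w, ?_⟩
    have h3 : y * D.t = x * k * (ε * D.t) := by
      rw [← hyx]
      calc y * D.t = y * (ε * ε) * D.t := by rw [hεε, mul_one]
        _ = _ := by group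
    calc (k ^ j)⁻¹ * w * D.t * ((k ^ j)⁻¹ * w)⁻¹ = (k ^ j)⁻¹ * (w * D.t * w⁻¹) * k ^ j := by group
      _ = x * (ε * D.t) := by rw [hw, h3]; exact hyd _ (hke.mul_right hkt)

/-! ### Rank -/

include F in
theorem not_conj_of_B [Finite G] {B : Subgroup G} {d : G} (hB2 : ∀ b ∈ B, b * b = 1)
    (hdd : d * d = 1) (hBd : ∀ b ∈ B, b * d = d * b) (hnB : d ∉ B)
    (hcard : (2 ^ n) ^ 2 ≤ Nat.card B) (w : G) : w * D.t * w⁻¹ ≠ d := by
  intro hw
  obtain ⟨B', h1, h2, h3⟩ := EndN.exists_double hB2 hdd hBd hnB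
  have h4 := card_elem F h1 (y := w) (by rw [hw]; exact h2)
  have h5 := four_le D.hq
  have h6 : 2 ^ n * 4 ≤ (2 ^ n) ^ 2 := by rw [sq]; exact Nat.mul_le_mul_left _ h5
  omega

/-! ### The main statement -/

/-- the situation. -/
structure Dat (F : Fld D) (e g : G) (c r : K) : Prop where
  hn : ∀ s ∈ F.Sg, Norm D s
  inv : Inv F e
  cj : Cj F e g
  out : Out D e c
  rf : bar n r = r
  act : ∀ y ∈ W D, e * y * e⁻¹ = D.z (r * u D y) * y

theorem exists_dat [Finite G] (hn : ∀ s ∈ F.Sg, Norm D s) (he : Inv F e) (heN : Norm D e) {g0 : G}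
    (hg0 : g0 * D.t * g0⁻¹ = e) : ∃ g c r, Dat F e g c r := by
  obtain ⟨g, hC⟩ := exists_cj he heN hg0
  obtain ⟨c, ho⟩ := out_of he heN
  obtain ⟨r, hr, h⟩ := ho.exists_r F.amb
  exact ⟨g, c, r, hn, he, hC, ho, hr, h⟩

/-- commutation with `B`. -/
theorem B_act {c r : K} (ho : Out D e c) (hr : ∀ y ∈ W D, e * y * e⁻¹ = D.z (r * u D y) * y)
    (hrg : r = gam D) {b : G} (hb : b ∈ OuterEnd.B D c ho.N_c) : Commute b e := by
  obtain ⟨h1, h2, h3⟩ := (TermInst.mem_B ho.N_c).mp hb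
  have h4 := OuterEnd.conj_V_eq ho hr h1 h2
  rw [h3, hrg, Field.add_self, z_zero, one_mul] at h4
  exact (mul_inv_eq_iff_eq_mul.mp h4).symm

theorem V_le_Q' {x : G} (hx : x ∈ V D) : x ∈ D.Q := V_le D hx

variable {c r : K} (h : Dat F e g c r)
include h

theorem Dat.ne_gam [Finite G] : r ≠ gam D := by
  intro hrg
  refine not_conj_of_B (F := F) (B := OuterEnd.B D c h.out.N_c) (d := e)
    (fun b hb => OuterEnd.B_sq hb) h.inv.sq (fun b hb => B_act h.out h.act hrg hb) ?_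
    (TermInst.card_B h.out.N_c) g h.cj.te
  intro he
  exact TermInst.not_mem_Q h.out (V_le D ((TermInst.mem_B h.out.N_c).mp he).1)

theorem Dat.line {x : G} (hx : x ∈ D.Q) (hxe : Commute x e) : c * bar n (a D x) = a D x := by
  have h1 := h.out.a_conj hx
  have h2 : e * x * e⁻¹ = x := by rw [← hxe.eq]; group
  rw [h2] at h1
  exact h1.symm

/-- the norm of the coordinate of elements of `V` commuting with `e`. -/
theorem Dat.N_eq {x : G} (hx : x ∈ V D) (hxe : Commute x e) : N n (a D x) = r * u D x := by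
  have h1 := OuterEnd.conj_V_eq h.out h.act hx (h.line (V_le D hx) hxe)
  have h2 : e * x * e⁻¹ = x := by rw [← hxe.eq]; group
  rw [h2] at h1
  have h3 : D.z (N n (a D x) + r * u D x) = 1 := mul_eq_right.mp h1.symm
  exact Field.add_eq_zero.mp (D.z_inj _ (fixed_add (fixed_N D.hq _)
    (fixed_mul h.rf (u_fixed D (V_le D hx)))) h3)

theorem Dat.aux {b : K} (hb : bar n b = b) (hb0 : b ≠ 0) {x : G} (hx : x ∈ D.Q) (hxe : Commute x e)
    (hu : u D x = b) (hxx : x * x = D.z b) :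
    (x ∈ V D ∧ r = 1 + gam D) ∨ r = gam D := by
  rcases e_cases D x with ⟨h1, h2⟩ | ⟨h1, h2⟩
  · left
    refine ⟨h2, ?_⟩
    have h3 := h.N_eq h2 hxe
    have h4 := sq_eq D hx
    rw [h1, zero_mul, add_zero, hxx, h3, hu] at h4
    have h5 := z_eq D hb (fixed_add (fixed_mul h.rf hb) (fixed_mul (gam_fixed D) hb)) h4
    have h6 : (r + gam D) * b = 1 * b := by rw [one_mul, add_mul]; exact h5.symm
    have h7 := mul_right_cancel₀ hb0 h6
    rw [← h7, add_add_self]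
  · right
    have h3 := V_of_not D hx h2
    have h4 := h.N_eq h3 (hxe.mul_left h.inv.t.symm)
    rw [a_mul D hx D.Q_t, a_t, add_zero, u_mul D hx D.Q_t, u_t, add_zero, hu] at h4
    have h5 := sq_eq D hx
    rw [h1, one_mul, hxx, h4, hu] at h5
    have h6 := z_eq D hb (fixed_add (fixed_add (fixed_mul h.rf hb) (fixed_mul (gam_fixed D) hb)) hb)
      h5
    have h7 : r * b + gam D * b = 0 := add_eq_right.mp h6.symm
    have h8 : (r + gam D) * b = 0 * b := by rw [zero_mul, add_mul]; exact h7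
    exact Field.add_eq_zero.mp (mul_right_cancel₀ hb0 h8)

theorem Dat.r_eq [Finite G] : r = 1 + gam D := by
  obtain ⟨x, hx, hxe, hu, hxx, -⟩ := exists_x h.hn h.inv h.out.norm h.cj (bar_one n)
  rcases h.aux (bar_one n) one_ne_zero hx hxe hu hxx with h1 | h1
  · exact h1.2
  · exact absurd h1 h.ne_gam

/-- the involution `e t`. -/
theorem Dat.out_s : Out D (e * D.t) c where
  comm := by
    rw [h.inv.t]
    calc D.t * e * D.t = D.t * (e * D.t) := by group
      _ = D.t * (D.t * e) := by rw [h.inv.t]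
  sq := by
    calc e * D.t * (e * D.t) = e * (D.t * e) * D.t := by group
      _ = e * (e * D.t) * D.t := by rw [h.inv.t]
      _ = (e * e) * (D.t * D.t) := by group
      _ = 1 := by rw [h.inv.sq, D.t_sq, mul_one]
  norm := Norm.mul D h.out.norm (Norm.of_mem D D.Q_t)
  act := by
    intro b
    rw [A_mul D h.out.norm (Norm.of_mem D D.Q_t), A_of_mem D D.Q_t, h.out.act]

theorem Dat.act_s : ∀ y ∈ W D, (e * D.t) * y * (e * D.t)⁻¹ = D.z ((r + 1) * u D y) * y := by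
  intro y hy
  have hyQ := W_le D hy
  have e1 : (e * D.t) * y * (e * D.t)⁻¹ = e * (D.t * y * D.t⁻¹) * e⁻¹ := by group
  rw [e1, t_conj D hyQ, NormQ.conj_mul, h.out.conj_z, h.act y hy, ← mul_assoc, ← D.z_add]
  congr 2
  ring

theorem Dat.s_gam [Finite G] : r + 1 = gam D := by
  rw [h.r_eq, add_comm (1 : K), add_add_self]

theorem Dat.comm_s [Finite G] {b : G} (hb : b ∈ OuterEnd.B D c h.out.N_c) :
    Commute b (e * D.t) :=
  B_act h.out_s h.act_s h.s_gam hb

theorem Dat.not_Q : e ∉ D.Q := TermInst.not_mem_Q h.out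

/-- **`e t` is not conjugate to `t`**. -/
theorem Dat.s_not [Finite G] (w : G) : w * D.t * w⁻¹ ≠ e * D.t := by
  refine not_conj_of_B (F := F) (B := OuterEnd.B D c h.out.N_c) (d := e * D.t)
    (fun b hb => OuterEnd.B_sq hb) h.out_s.sq (fun b hb => h.comm_s hb) ?_
    (TermInst.card_B h.out.N_c) w
  intro he
  exact TermInst.not_mem_Q h.out_s (V_le D ((TermInst.mem_B h.out.N_c).mp he).1)

/-- **the elements of `V` commuting with `e`** -/
theorem Dat.exists_V [Finite G] {b : K} (hb : bar n b = b) (hb0 : b ≠ 0) :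
    ∃ x ∈ V D, Commute x e ∧ u D x = b ∧ x * x = D.z b ∧ c * bar n (a D x) = a D x ∧
      N n (a D x) = (1 + gam D) * b ∧ ∃ w, w * D.t * w⁻¹ = x * D.t := by
  obtain ⟨x, hx, hxe, hu, hxx, hw⟩ := exists_x h.hn h.inv h.out.norm h.cj hb
  have hxV : x ∈ V D := by
    rcases h.aux hb hb0 hx hxe hu hxx with h1 | h1
    · exact h1.1
    · exact absurd h1 h.ne_gam
  have hline := h.line hx hxe
  refine ⟨x, hxV, hxe, hu, hxx, hline, by rw [h.N_eq hxV hxe, hu, h.r_eq], ?_⟩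
  rcases hw with hw | ⟨w, hw⟩
  · exact hw
  · exfalso
    refine not_conj_of_B (F := F) (B := OuterEnd.B D c h.out.N_c) (d := x * (e * D.t))
      (fun b hb => OuterEnd.B_sq hb) ?_ ?_ ?_ (TermInst.card_B h.out.N_c) w hw
    · have h2 : D.t * x * D.t = D.z b * x := by
        have := t_conj D hx
        rw [hu, t_inv] at this
        exact this
      calc x * (e * D.t) * (x * (e * D.t)) = x * (e * (D.t * x)) * (e * D.t) := by group
        _ = x * (e * (D.t * x * D.t)) * D.t⁻¹ * (e * D.t) := by group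
        _ = x * (e * (D.z b * x)) * D.t⁻¹ * (e * D.t) := by rw [h2]
        _ = x * ((e * D.z b) * x) * D.t⁻¹ * (e * D.t) := by group
        _ = x * ((D.z b * e) * x) * D.t⁻¹ * (e * D.t) := by rw [h.out.comm_z]
        _ = (x * D.z b) * (e * x) * D.t⁻¹ * (e * D.t) := by group
        _ = (D.z b * x) * (x * e) * D.t⁻¹ * (e * D.t) := by rw [D.Q_Z x hx, hxe.eq]
        _ = D.z b * (x * x) * e * D.t⁻¹ * (D.t * e) := by rw [h.inv.t]; group
        _ = (D.z b * D.z b) * (e * e) := by rw [hxx]; group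
        _ = 1 := by rw [z_self, h.inv.sq, mul_one]
    · intro b' hb'
      have h1 := h.comm_s hb'
      have h2 : Commute b' x := OuterEnd.B_comm hb' hxV hline
      exact (h2.mul_right h1)
    · intro h1
      have h2 := V_le D ((TermInst.mem_B h.out.N_c).mp h1).1
      apply h.not_Q
      have e1 : e = x⁻¹ * (x * (e * D.t)) * D.t := by
        calc e = e * (D.t * D.t) := by rw [D.t_sq, mul_one]
          _ = _ := by group
      rw [e1]
      exact mul_mem (mul_mem (inv_mem hx) h2) D.Q_t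

/-- **(7)**: the two cases. -/
theorem Dat.cases [Finite G] :
    (gam D = 0 ∧ ∀ X : Next D F.O, ∀ c, ∃ s ∈ X.S, a D (s * D.t * s⁻¹) = c) ∨
    (gam D = 1 ∧ ∀ X : Next D F.O, ∀ c, bar n c = c → ∃ s ∈ X.S, u D (s * D.t * s⁻¹) = c) := by
  rcases cases_of D F.O with h1 | h1
  · exfalso
    obtain ⟨x, hx, hxe, hu, hxx, hl, hN, w, hw⟩ := h.exists_V (bar_one n) one_ne_zero
    obtain ⟨w', hw', hw''⟩ := LevelOneD.three F.amb (TermExists.fl_of_fld F) h1 hx hw
    have h2 := u_conj D (V_le D hw')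
    rw [hw''] at h2
    have h3 : x = D.z (u D w') := mul_right_cancel h2
    have h4 := u_z D (u D w')
    rw [← h3, hu] at h4
    exact one_ne_zero h4
  · exact h1

end Cfsg.Agent.StdU3.OuterA
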