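import Cfsg.Agent.StdU3.GZeroC1
import Cfsg.Agent.StdU3.OuterA

/-!
# Level two, `gam = 0`: the outer involution `e` on `U`

`al (e s e⁻¹) = c * bar (al s)`, and `ep = mu² + mu` with `bar mu = mu + 1`.
-/

set_option autoImplicit false
set_option linter.unusedSectionVars false

namespace Cfsg.Agent.StdU3.GZeroC2

open Cfsg.Agent.StdU3.Field Cfsg.Agent.StdU3.PreDef Cfsg.Agent.StdU3.FldDef
open Cfsg.Agent.StdU3.LevelOne Cfsg.Agent.StdU3.LevelOneW
open Cfsg.Agent.StdU3.NormQ Cfsg.Agent.StdU3.Kernel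
open Cfsg.Agent.StdU3.Next Cfsg.Agent.StdU3.LevelTwo Cfsg.Agent.StdU3.GZeroCDef
open Cfsg.Agent.StdU3.OuterA Cfsg.Agent.StdU3.Outer

/-! ### Field -/

section field

variable {K : Type*} [Field K] [Fintype K] [CharP K 2] {n : ℕ}

/-- the additive group `{x | Tr x ∈ {0, 1}}`. -/
def M (K : Type*) [Field K] [CharP K 2] (n : ℕ) : AddSubgroup K where
  carrier := {x | Tr n x = 0 ∨ Tr n x = 1}
  zero_mem' := Or.inl (Tr_zero n)
  add_mem' := by
    intro x y hx hy
    change Tr n x = 0 ∨ Tr n x = 1 at hx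
    change Tr n y = 0 ∨ Tr n y = 1 at hy
    change Tr n (x + y) = 0 ∨ Tr n (x + y) = 1
    rw [Tr_add]
    rcases hx with hx | hx <;> rcases hy with hy | hy <;> rw [hx, hy]
    · left; rw [add_zero]
    · right; rw [zero_add]
    · right; rw [add_zero]
    · left; rw [add_self]
  neg_mem' := by
    intro x hx
    rw [CharTwo.neg_eq]
    exact hx

theorem mem_M {x : K} : x ∈ M K n ↔ Tr n x = 0 ∨ Tr n x = 1 := Iff.rfl

theorem card_M (h : Qd K n) : Nat.card (M K n) = 2 ^ n * 2 := by
  let f : M K n →+ Card.Two K :=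
    AddMonoidHom.mk' (fun x => ⟨Tr n x.1, Card.mem_Two.mpr x.2⟩)
      (fun x y => Subtype.ext (Tr_add n x.1 y.1))
  have hker : Nat.card f.ker = 2 ^ n := by
    rw [← Card.card_Fq h]
    have e : f.ker ≃ Card.Fq K n :=
      { toFun := fun x => ⟨x.1.1, fixed_of_Tr (congrArg Subtype.val x.2)⟩
        invFun := fun x => ⟨⟨x.1, Or.inl (Tr_of_fixed x.2)⟩, by
          rw [AddMonoidHom.mem_ker]
          exact Subtype.ext (Tr_of_fixed x.2)⟩
        left_inv := fun x => by ext; rfl
        right_inv := fun x => by ext; rfl }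
    exact Nat.card_congr e
  have hran : f.range = ⊤ := by
    rw [eq_top_iff]
    rintro ⟨m, hm⟩ -
    rcases Card.mem_Two.mp hm with rfl | rfl
    · exact ⟨0, Subtype.ext (Tr_zero n)⟩
    · obtain ⟨e, he⟩ := exists_Tr_one h
      exact ⟨⟨e, Or.inr he⟩, Subtype.ext he⟩
  have h1 := AddSubgroup.card_mul_index f.ker
  rw [AddSubgroup.index_ker, hker, hran, AddSubgroup.card_top, Card.card_Two] at h1
  exact h1.symm

theorem exists_root (h : Qd K n) {ep : K} (hep : bar n ep = ep) :
    ∃ mu : K, (Tr n mu = 0 ∨ Tr n mu = 1) ∧ mu * mu + mu = ep := by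
  classical
  have hmap : ∀ x ∈ M K n, bar n (x * x + x) = x * x + x := by
    intro x hx
    rw [bar_add, bar_mul]
    have h2 : (2 : K) = 0 := CharTwo.two_eq_zero
    rcases hx with hx | hx
    · rw [fixed_of_Tr hx]
    · have h1 : bar n x = x + 1 := by
        have h3 := add_self x
        rw [Tr_def] at hx
        linear_combination hx - h3
      rw [h1]
      linear_combination (x + 1) * h2
  let f : M K n →+ Card.Fq K n :=
    AddMonoidHom.mk' (fun x => ⟨x.1 * x.1 + x.1, hmap x.1 x.2⟩) (fun x y => by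
      apply Subtype.ext
      have h2 : (2 : K) = 0 := CharTwo.two_eq_zero
      show (x.1 + y.1) * (x.1 + y.1) + (x.1 + y.1) = (x.1 * x.1 + x.1) + (y.1 * y.1 + y.1)
      linear_combination (x.1 * y.1) * h2)
  have hker : Nat.card f.ker = 2 := by
    have h1 : ∀ x : f.ker, (x.1.1 = 0 ∨ x.1.1 = 1) := by
      rintro ⟨⟨x, hx⟩, hx0⟩
      have h2 : x * x + x = 0 := congrArg Subtype.val hx0
      have h3 : x * (x + 1) = 0 := by rw [mul_add, mul_one]; exact h2
      rcases mul_eq_zero.mp h3 with h4 | h4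
      · exact Or.inl h4
      · exact Or.inr (Field.add_eq_zero.mp h4)
    have h0 : (0 : K) ∈ M K n := (M K n).zero_mem
    have h1' : (1 : K) ∈ M K n := Or.inl (Tr_of_fixed (bar_one n))
    have e : f.ker ≃ ({0, 1} : Finset K) :=
      { toFun := fun x => ⟨x.1.1, by
          rcases h1 x with h | h
          · rw [h]; simp
          · rw [h]; simp⟩
        invFun := fun x => ⟨⟨x.1, by
          have := x.2
          simp only [Finset.mem_insert, Finset.mem_singleton] at this
          rcases this with h | h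
          · rw [h]; exact h0
          · rw [h]; exact h1'⟩, by
          have := x.2
          simp only [Finset.mem_insert, Finset.mem_singleton] at this
          rw [AddMonoidHom.mem_ker]
          apply Subtype.ext
          show x.1 * x.1 + x.1 = 0
          rcases this with h | h
          · rw [h, mul_zero, add_zero]
          · rw [h, mul_one, add_self]⟩
        left_inv := fun x => by ext; rfl
        right_inv := fun x => by ext; rfl }
    rw [Nat.card_congr e, Nat.card_eq_fintype_card, Fintype.card_coe, Finset.card_pair zero_ne_one]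
  have hcard : Nat.card f.range = 2 ^ n := by
    have h1 := AddSubgroup.card_mul_index f.ker
    rw [AddSubgroup.index_ker, hker, card_M h] at h1
    omega
  have htop : f.range = ⊤ := by
    apply AddSubgroup.eq_top_of_card_eq
    rw [hcard, Card.card_Fq h]
  have hmem : (⟨ep, hep⟩ : Card.Fq K n) ∈ f.range := by rw [htop]; trivial
  obtain ⟨x, hx⟩ := hmem
  exact ⟨x.1, x.2, congrArg Subtype.val hx⟩

end field

variable {G : Type*} [Group G] {K : Type*} [Field K] [Fintype K] [CharP K 2] {n : ℕ}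
variable {D : Pre G K n}

section coord

variable {O : Subgroup G} {X : Next D O} {al Om : G → K} {ep : K} (C : Coord D X al Om ep)
include C

theorem ext : GZeroC1.Ext D X al := ⟨C.al_mul, C.al_V, C.al_h⟩

theorem Om_inj {y : G} (hy : y ∈ W D) (h : Om y = 0) : y = 1 := by
  have h1 := C.Om_Tr y hy
  rw [h, Tr_zero] at h1
  obtain ⟨b, hb, rfl⟩ := z_of_W D hy h1.symm
  rw [C.Om_z b hb] at h
  rw [h, z_zero]

end coord

section dat

variable {F : Fld D} {e g : G} {c r : K} (h : Dat F e g c r)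
include h

theorem e_U (X : Next D F.O) (heX : ∀ s ∈ X.S, e * s * e⁻¹ ∈ X.S) {s : G} (hs : s ∈ U D X) :
    e * s * e⁻¹ ∈ U D X := conj_U D X h.out.norm heX hs

theorem e_b {X : Next D F.O} {s : G} (hs : s ∈ U D X) :
    b D (e * s * e⁻¹) = c * bar n (b D s) := OuterEnd.b_conj h.out (X.S_N2 (U_le D X hs))

/-- `e` acts on `W` by `bar`. -/
theorem e_Om [Finite G] (hg0 : gam D = 0) {X : Next D F.O} {al Om : G → K} {ep : K}
    (C : Coord D X al Om ep) {y : G} (hy : y ∈ W D) : Om (e * y * e⁻¹) = bar n (Om y) := by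
  have hr : r = 1 := by rw [h.r_eq, hg0, add_zero]
  have hyQ := W_le D hy
  rw [h.act y hy, hr, one_mul, C.Om_mul _ (z_mem_W D _) y hy, C.Om_z _ (u_fixed D hyQ),
    ← C.Om_Tr y hy, Tr_def]
  have h3 := add_self (Om y)
  linear_combination h3

/-- **the action of `e`**. -/
theorem e_al [Finite G] (hg0 : gam D = 0) {X : Next D F.O}
    (heX : ∀ s ∈ X.S, e * s * e⁻¹ ∈ X.S) {al Om : G → K} {ep : K} (C : Coord D X al Om ep)
    {s : G} (hs : s ∈ U D X) : al (e * s * e⁻¹) = c * bar n (al s) := by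
  have hO := F.amb
  -- the quadratic identity
  have key : ∀ s ∈ U D X, ∀ d, al (e * s * e⁻¹) = c * bar n (al s) + d →
      N n d + Tr n (c * bar n (al s) * bar n d) + bar n d * (c * bar n (b D s)) = 0 := by
    intro s hs d h3
    have heU := e_U h X heX hs
    have h1 := C.sq _ heU
    have h2 : e * s * e⁻¹ * (e * s * e⁻¹) = e * (s * s) * e⁻¹ := by group
    have hN1 : N n (c * bar n (al s)) = N n (al s) := by
      rw [N_mul, h.out.N_c, one_mul, N_bar D.hq]
    have hN2 : N n (c * bar n (b D s)) = N n (b D s) := by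
      rw [N_mul, h.out.N_c, one_mul, N_bar D.hq]
    have hb : bar n (c * bar n (al s) + d) = bar n c * al s + bar n d := by
      rw [bar_add, bar_mul, bar_bar D.hq]
    have hb2 : bar n (N n (al s) + bar n (al s) * b D s + ep * N n (b D s)) =
        N n (al s) + al s * bar n (b D s) + ep * N n (b D s) := by
      rw [bar_add, bar_add, fixed_N D.hq, bar_mul n (bar n (al s)), bar_bar D.hq,
        bar_mul n ep, C.ep_fixed, fixed_N D.hq]
    rw [h2, e_Om h hg0 C (sq_mem_W D hg0 hO X hs), C.sq s hs, e_b h hs, h3, N_add' D.hq, hN1,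
      hN2, hb, hb2] at h1
    have hcc : bar n c * c = 1 := by rw [mul_comm]; exact h.out.N_c
    have h4 : (2 : K) = 0 := CharTwo.two_eq_zero
    linear_combination - h1 - (al s * bar n (b D s)) * hcc
  obtain ⟨d, hd⟩ : ∃ d, al (e * s * e⁻¹) = c * bar n (al s) + d :=
    ⟨al (e * s * e⁻¹) + c * bar n (al s), by
      rw [add_comm (al (e * s * e⁻¹)), ← add_assoc, add_self, zero_add]⟩
  have hd0 : c * bar n d = 0 := by
    apply eq_zero_of_Tr D.hq
    intro x
    obtain ⟨v, hv, hvx⟩ := D.ca_surj x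
    have hvV := P_le_V D hv
    have hvU := V_le_U D X hvV
    have hvQ := D.P_le hv
    have h1 : al (v * s) = x + al s := by
      rw [C.al_mul v hvU s hs, C.al_V v hvV, a_P D hv, hvx]
    have h2 : b D (v * s) = b D s := by
      rw [b_mul D (X.S_N2 (U_le D X hvU)) (X.S_N2 (U_le D X hs)), b_Q D hvQ, zero_add]
    have heV : e * v * e⁻¹ ∈ V D := conj_V D h.out.norm hvV
    have h3 : al (e * (v * s) * e⁻¹) = c * bar n (al (v * s)) + d := by
      rw [NormQ.conj_mul, C.al_mul _ (V_le_U D X heV) _ (e_U h X heX hs), C.al_V _ heV,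
        h.out.a_conj hvQ, a_P D hv, hvx, hd, h1, bar_add]
      ring
    have h4 := key _ (mul_mem hvU hs) d h3
    have h5 := key s hs d hd
    rw [h1, h2] at h4
    have h6 : Tr n (c * bar n (x + al s) * bar n d) =
        Tr n (c * bar n d * bar n x) + Tr n (c * bar n (al s) * bar n d) := by
      rw [← Tr_add, bar_add]; congr 1; ring
    rw [h6] at h4
    linear_combination h4 - h5
  have hd1 : d = 0 := bar_eq_zero ((mul_eq_zero.mp hd0).resolve_left h.out.c_ne)
  rw [hd, hd1, add_zero]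

/-- **the constant `ep`**. -/
theorem exists_mu [Finite G] (hg0 : gam D = 0) {X : Next D F.O}
    (hsurj : ∀ c, ∃ s ∈ X.S, a D (s * D.t * s⁻¹) = c)
    (heX : ∀ s ∈ X.S, e * s * e⁻¹ ∈ X.S) {al Om : G → K} {ep : K} (C : Coord D X al Om ep) :
    ∃ mu, mu * mu + mu = ep ∧ bar n mu = mu + 1 := by
  have hO := F.amb
  obtain ⟨mu, h1 | h1, h2⟩ := exists_root D.hq C.ep_fixed
  swap
  · refine ⟨mu, h2, ?_⟩
    rw [Tr_def] at h1
    have h3 := add_self mu
    linear_combination h1 - h3
  exfalso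
  have hmu := fixed_of_Tr h1
  have hN : ∀ s ∈ U D X, s ∈ N2 D := fun s hs => X.S_N2 (U_le D X hs)
  have hE := ext C
  let E : Subgroup G :=
    { carrier := {s | s ∈ U D X ∧ al s = mu * b D s}
      one_mem' := ⟨(U D X).one_mem, by
        rw [C.al_V 1 (V D).one_mem, a_one, b_one, mul_zero]⟩
      mul_mem' := by
        rintro x y ⟨hx, hx'⟩ ⟨hy, hy'⟩
        refine ⟨mul_mem hx hy, ?_⟩
        rw [C.al_mul x hx y hy, b_mul D (hN x hx) (hN y hy), hx', hy', mul_add]
      inv_mem' := by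
        rintro x ⟨hx, hx'⟩
        refine ⟨inv_mem hx, ?_⟩
        rw [hE.inv hx, b_inv D (hN x hx), hx'] }
  have hmem : ∀ s, s ∈ E ↔ s ∈ U D X ∧ al s = mu * b D s := fun s => Iff.rfl
  have hsq : ∀ s ∈ E, s * s = 1 := by
    rintro s ⟨hs, hs'⟩
    apply Om_inj C (sq_mem_W D hg0 hO X hs)
    rw [C.sq s hs, hs', N_mul, N_of_fixed hmu, bar_mul, hmu, ← h2]
    have h3 : mu ^ 2 * N n (b D s) + mu * bar n (b D s) * b D s + (mu * mu + mu) * N n (b D s) =
        (mu ^ 2 * N n (b D s) + mu * N n (b D s)) + (mu ^ 2 * N n (b D s) + mu * N n (b D s)) := by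
      rw [N_def]; ring
    rw [h3, add_self]
  have hinv : ∀ s ∈ E, s⁻¹ = s := fun s hs => by rw [inv_eq_iff_mul_eq_one, hsq s hs]
  have hcomm : ∀ x ∈ E, ∀ y ∈ E, x * y = y * x := by
    intro x hx y hy
    calc x * y = (x * y)⁻¹ := (hinv _ (mul_mem hx hy)).symm
      _ = y⁻¹ * x⁻¹ := by group
      _ = y * x := by rw [hinv x hx, hinv y hy]
  have heE : ∀ s ∈ E, e * s * e⁻¹ ∈ E := by
    rintro s ⟨hs, hs'⟩
    refine ⟨e_U h X heX hs, ?_⟩
    rw [e_al h hg0 heX C hs, e_b h hs, hs', bar_mul, hmu]; ring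
  -- the order of `E`
  have hcard : Nat.card E = (2 ^ n) ^ 2 * (2 ^ n) ^ 2 := by
    have h3 := Card.card_of_hom E (W D) (b D) ⊤
      (fun x hx y hy => b_mul D (hN x hx.1) (hN y hy.1)) (fun x => ?_) (fun _ _ => trivial) ?_
    · rw [Card.card_W, Card.card_top_K D.hq] at h3
      exact h3
    · constructor
      · intro hx
        have hbx : b D x = 0 := b_Q D (W_le D hx)
        exact ⟨⟨W_le_U D X hx, by rw [hE.of_W hx, hbx, mul_zero]⟩, hbx⟩
      · rintro ⟨⟨hx, hx'⟩, hbx⟩
        exact hE.mem_W hg0 hO hx (by rw [hx', hbx, mul_zero]) hbx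
    · intro m _
      obtain ⟨s, hs, hs1, hs2⟩ := hE.exists_sec hg0 hO hsurj (mu * m) m
      exact ⟨s, ⟨hs, by rw [hs1, hs2]⟩, hs2⟩
  set B : Subgroup G := E ⊓ Subgroup.centralizer {e} with hB
  have hmemB : ∀ x, x ∈ B ↔ x ∈ E ∧ e * x = x * e := by
    intro x
    rw [hB, Subgroup.mem_inf, Subgroup.mem_centralizer_iff]
    simp only [Set.mem_singleton_iff, forall_eq]
  have hei : e⁻¹ = e := h.out.inv_eq
  have hle := Card.card_le_cent E B e (by
    intro x hx
    have h3 : x * e * x⁻¹ * e⁻¹ = x * (e * x * e⁻¹) := by rw [hinv x hx]; group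
    rw [h3, hmemB]
    refine ⟨mul_mem hx (heE x hx), ?_⟩
    have h4 := hcomm x hx _ (heE x hx)
    calc e * (x * (e * x * e⁻¹)) = (e * x * e⁻¹) * (e * e * x * e⁻¹) := by group
      _ = (e * x * e⁻¹) * x * e := by rw [h.inv.sq, hei]; group
      _ = x * (e * x * e⁻¹) * e := by rw [h4])
  rw [hcard, ← hB] at hle
  have hle' : (2 ^ n) ^ 2 ≤ Nat.card B := by
    by_contra hcon
    push Not at hcon
    have := Nat.mul_lt_mul'' hcon hcon
    omega
  refine not_conj_of_B (F := F) (B := B) (d := e) (fun b hb => hsq b ((hmemB b).mp hb).1)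
    h.inv.sq (fun b hb => ((hmemB b).mp hb).2.symm) ?_ hle' g h.cj.te
  intro he
  exact h.out.not_N2 (hN e ((hmemB e).mp he).1.1)

end dat

end Cfsg.Agent.StdU3.GZeroC2
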