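import Cfsg.Agent.StdU3.PreDef
import Cfsg.Agent.StdU3.FieldAut
import Cfsg.Agent.StdU3.Semilinear

/-!
# The product of two groups of type `P`: action of the normalizer

`GZ0` is the part of the structure `GZero` which describes the group `U = P₁ × P₂`.  Every element
normalizing `U` acts semilinearly on the two factors, up to a swap.
-/

set_option autoImplicit false
set_option linter.unusedSectionVars false

namespace Cfsg.Agent.StdU3.GZeroAct

open Cfsg.Agent.StdU3.Field Cfsg.Agent.StdU3.PreDef Cfsg.Agent.StdU3.FieldAut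

/-- the group `U = P₁ × P₂`, in coordinates; the first fields of `GZero`. -/
structure GZ0 (G : Type*) [Group G] (K : Type*) [Field K] [Fintype K] [CharP K 2]
    (n : ℕ) where
  hq : Qd K n
  U : Subgroup G
  a : Bool → G → K
  a_mul : ∀ i, ∀ x ∈ U, ∀ y ∈ U, a i (x * y) = a i x + a i y
  a_surj : ∀ f : Bool → K, ∃ x ∈ U, ∀ i, a i x = f i
  z : Bool → K → G
  z_mem : ∀ i b, z i b ∈ U
  z_add : ∀ i b c, z i (b + c) = z i b * z i c
  z_cen : ∀ i b, ∀ x ∈ U, x * z i b = z i b * x
  z_inj : ∀ b c, bar n b = b → bar n c = c → z false b * z true c = 1 → b = 0 ∧ c = 0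
  a_z : ∀ i j b, a i (z j b) = 0
  exists_z : ∀ x ∈ U, (∀ i, a i x = 0) →
    ∃ b c, bar n b = b ∧ bar n c = c ∧ x = z false b * z true c
  U_sq : ∀ x ∈ U, x * x = z false (N n (a false x)) * z true (N n (a true x))
  U_comm : ∀ x ∈ U, ∀ y ∈ U, x * y =
    z false (Tr n (a false x * bar n (a false y))) * z true (Tr n (a true x * bar n (a true y))) *
      (y * x)

variable {G : Type*} [Group G] {K : Type*} [Field K] [Fintype K] [CharP K 2] {n : ℕ}
variable (D : GZ0 G K n)

theorem a_one (i : Bool) : D.a i 1 = 0 := by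
  have := D.a_mul i 1 D.U.one_mem 1 D.U.one_mem
  rw [mul_one] at this
  exact left_eq_add.mp this

theorem a_inv (i : Bool) {x : G} (hx : x ∈ D.U) : D.a i x⁻¹ = D.a i x := by
  have := D.a_mul i x⁻¹ (inv_mem hx) x hx
  rw [inv_mul_cancel, a_one] at this
  exact Field.add_eq_zero.mp this.symm

theorem z_zero (i : Bool) : D.z i 0 = 1 := by
  have := D.z_add i 0 0
  rw [add_zero] at this
  exact left_eq_mul.mp this

theorem z_sq (i : Bool) (b : K) : D.z i b * D.z i b = 1 := by
  rw [← D.z_add, Field.add_self, z_zero]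

theorem z_comm (i j : Bool) (b c : K) : D.z i b * D.z j c = D.z j c * D.z i b :=
  D.z_cen j c _ (D.z_mem i b)

theorem z_inj' (i : Bool) {b c : K} (hb : bar n b = b) (hc : bar n c = c)
    (h : D.z i b = D.z i c) : b = c := by
  have h1 : D.z i (b + c) = 1 := by rw [D.z_add, h, z_sq]
  have h2 := fixed_add hb hc
  rcases i with _ | _
  · have := (D.z_inj (b + c) 0 h2 (bar_zero n) (by rw [h1, z_zero, mul_one])).1
    exact Field.add_eq_zero.mp this
  · have := (D.z_inj 0 (b + c) (bar_zero n) h2 (by rw [h1, z_zero, mul_one])).2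
    exact Field.add_eq_zero.mp this

/-- `x` has square one iff it has coordinates `0` -/
theorem sq_one_iff {x : G} (hx : x ∈ D.U) : x * x = 1 ↔ ∀ i, D.a i x = 0 := by
  constructor
  · intro h
    rw [D.U_sq x hx] at h
    obtain ⟨h1, h2⟩ := D.z_inj _ _ (fixed_N D.hq _) (fixed_N D.hq _) h
    rintro (_ | _)
    · exact N_eq_zero h1
    · exact N_eq_zero h2
  · intro h
    rw [D.U_sq x hx, h, h, N_zero, z_zero, z_zero, mul_one]

theorem exists_R (i : Bool) (r : K) : ∃ x ∈ D.U, D.a (!i) x = 0 ∧ D.a i x = r := by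
  obtain ⟨x, hx, h⟩ := D.a_surj (fun j => if j = i then r else 0)
  refine ⟨x, hx, ?_, ?_⟩
  · rw [h, if_neg (by cases i <;> decide)]
  · rw [h, if_pos rfl]

theorem sq_of {i : Bool} {x : G} (hx : x ∈ D.U) (h : D.a (!i) x = 0) :
    x * x = D.z i (N n (D.a i x)) := by
  rw [D.U_sq x hx]
  rcases i with _ | _
  · rw [show D.a true x = 0 from h, N_zero, z_zero, mul_one]
  · rw [show D.a false x = 0 from h, N_zero, z_zero, one_mul]

/-- if no coordinate of `v` is zero, then the centralizer of `v` is abelian. -/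
theorem comm_of_ne {v r s : G} (hv : v ∈ D.U) (h : ∀ i, D.a i v ≠ 0) (hr : r ∈ D.U)
    (hs : s ∈ D.U) (hvr : v * r = r * v) (hvs : v * s = s * v) : r * s = s * r := by
  have key : ∀ r ∈ D.U, v * r = r * v → ∀ i, Tr n (D.a i v * bar n (D.a i r)) = 0 := by
    intro r hr hvr
    have h1 := D.U_comm v hv r hr
    rw [hvr] at h1
    have h2 := (mul_eq_right.mp h1.symm)
    obtain ⟨h3, h4⟩ := D.z_inj _ _ (fixed_Tr D.hq _) (fixed_Tr D.hq _) h2
    rintro (_ | _)
    · exact h3
    · exact h4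
  have h0 : ∀ i, Tr n (D.a i r * bar n (D.a i s)) = 0 := by
    intro i
    have h1 := fixed_div_of_Tr D.hq (key r hr hvr i) (h i)
    have h2 := fixed_div_of_Tr D.hq (key s hs hvs i) (h i)
    have e1 : D.a i r = D.a i r / D.a i v * D.a i v := (div_mul_cancel₀ _ (h i)).symm
    have e2 : D.a i s = D.a i s / D.a i v * D.a i v := (div_mul_cancel₀ _ (h i)).symm
    rw [e1, e2, bar_mul, h2]
    have e3 : D.a i r / D.a i v * D.a i v * (D.a i s / D.a i v * bar n (D.a i v)) =
        D.a i r / D.a i v * (D.a i s / D.a i v * N n (D.a i v)) := by rw [N_def]; ring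
    rw [e3]
    exact Tr_of_fixed (fixed_mul h1 (fixed_mul h2 (fixed_N D.hq _)))
  rw [D.U_comm r hr s hs, h0, h0, z_zero, z_zero, mul_one, one_mul]

/-- if some coordinate of `v` is zero, then the centralizer of `v` is not abelian. -/
theorem exists_not_comm {v : G} (hv : v ∈ D.U) {i : Bool} (h : D.a i v = 0) :
    ∃ r ∈ D.U, ∃ s ∈ D.U, v * r = r * v ∧ v * s = s * v ∧ r * s ≠ s * r := by
  have hc : ∀ r ∈ D.U, D.a (!i) r = 0 → v * r = r * v := by
    intro r hr h'
    rw [D.U_comm v hv r hr]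
    rcases i with _ | _
    · rw [h, show D.a true r = 0 from h', bar_zero, zero_mul, mul_zero, Tr_zero, z_zero, z_zero,
        one_mul, one_mul]
    · rw [h, show D.a false r = 0 from h', bar_zero, zero_mul, mul_zero, Tr_zero, z_zero, z_zero,
        one_mul, one_mul]
  obtain ⟨e, he⟩ := exists_Tr_one D.hq
  obtain ⟨r, hr, hr0, hr1⟩ := exists_R D i e
  obtain ⟨s, hs, hs0, hs1⟩ := exists_R D i 1
  refine ⟨r, hr, s, hs, hc r hr hr0, hc s hs hs0, fun hrs => ?_⟩
  have h1 := D.U_comm r hr s hs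
  rw [hrs] at h1
  have h2 := (mul_eq_right.mp h1.symm)
  obtain ⟨h3, h4⟩ := D.z_inj _ _ (fixed_Tr D.hq _) (fixed_Tr D.hq _) h2
  have h5 : Tr n (D.a i r * bar n (D.a i s)) = 0 := by
    rcases i with _ | _
    · exact h3
    · exact h4
  rw [hr1, hs1, bar_one, mul_one, he] at h5
  exact one_ne_zero h5

section act

variable {g : G} (hg : ∀ x ∈ D.U, g * x * g⁻¹ ∈ D.U)
include hg

theorem exists_zero {v : G} (hv : v ∈ D.U) {j : Bool} (h : D.a j v = 0) :
    ∃ i, D.a i (g * v * g⁻¹) = 0 := by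
  by_contra hne
  push Not at hne
  obtain ⟨r, hr, s, hs, h1, h2, h3⟩ := exists_not_comm D hv h
  apply h3
  have hc : ∀ r, v * r = r * v → (g * v * g⁻¹) * (g * r * g⁻¹) = (g * r * g⁻¹) * (g * v * g⁻¹) := by
    intro r h
    calc (g * v * g⁻¹) * (g * r * g⁻¹) = g * (v * r) * g⁻¹ := by group
      _ = (g * r * g⁻¹) * (g * v * g⁻¹) := by rw [h]; group
  have h4 := comm_of_ne D (hg v hv) hne (hg r hr) (hg s hs) (hc r h1) (hc s h2)
  calc r * s = g⁻¹ * ((g * r * g⁻¹) * (g * s * g⁻¹)) * g := by group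
    _ = s * r := by rw [h4]; group

/-- each factor is mapped to a factor -/
theorem exists_factor (j : Bool) :
    ∃ k, ∀ v ∈ D.U, D.a (!j) v = 0 → D.a (!k) (g * v * g⁻¹) = 0 := by
  by_contra hne
  push Not at hne
  obtain ⟨v, hv, hv0, hv1⟩ := hne false
  obtain ⟨v', hv', hv0', hv1'⟩ := hne true
  change D.a true (g * v * g⁻¹) ≠ 0 at hv1
  change D.a false (g * v' * g⁻¹) ≠ 0 at hv1'
  have h1 : D.a false (g * v * g⁻¹) = 0 := by
    obtain ⟨i, hi⟩ := exists_zero D hg hv hv0
    rcases i with _ | _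
    · exact hi
    · exact absurd hi hv1
  have h2 : D.a true (g * v' * g⁻¹) = 0 := by
    obtain ⟨i, hi⟩ := exists_zero D hg hv' hv0'
    rcases i with _ | _
    · exact absurd hi hv1'
    · exact hi
  obtain ⟨i, hi⟩ := exists_zero D hg (mul_mem hv hv') (j := !j)
    (by rw [D.a_mul _ v hv v' hv', hv0, hv0', add_zero])
  rw [show g * (v * v') * g⁻¹ = (g * v * g⁻¹) * (g * v' * g⁻¹) by group,
    D.a_mul _ _ (hg v hv) _ (hg v' hv')] at hi
  rcases i with _ | _
  · rw [h1, zero_add] at hi; exact hv1' hi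
  · rw [h2, add_zero] at hi; exact hv1 hi

/-- the action from the factor `j` to the factor `k` is semilinear -/
theorem exists_semi {j k : Bool} (h : ∀ v ∈ D.U, D.a (!j) v = 0 → D.a (!k) (g * v * g⁻¹) = 0) :
    ∃ (c : K) (φ : K ≃+* K), c ≠ 0 ∧
      ∀ v ∈ D.U, D.a (!j) v = 0 → D.a k (g * v * g⁻¹) = c * φ (D.a j v) := by
  classical
  choose f hf hf0 hf1 using fun r => exists_R D j r
  have hval : ∀ v ∈ D.U, D.a (!j) v = 0 → D.a k (g * v * g⁻¹) = D.a k (g * f (D.a j v) * g⁻¹) := by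
    intro v hv h0
    set v' := f (D.a j v) with hv'
    have hv'U : v' ∈ D.U := hf _
    have h1 : ∀ i, D.a i (v'⁻¹ * v) = 0 := by
      intro i
      rw [D.a_mul _ _ (inv_mem hv'U) _ hv, a_inv D i hv'U]
      rcases Bool.eq_or_eq_not i j with rfl | rfl
      · rw [hv', hf1, Field.add_self]
      · rw [hv', hf0, h0, add_zero]
    have h2 := (sq_one_iff D (mul_mem (inv_mem hv'U) hv)).mpr h1
    have h3 : g * (v'⁻¹ * v) * g⁻¹ * (g * (v'⁻¹ * v) * g⁻¹) = 1 := by
      rw [show g * (v'⁻¹ * v) * g⁻¹ * (g * (v'⁻¹ * v) * g⁻¹) =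
        g * ((v'⁻¹ * v) * (v'⁻¹ * v)) * g⁻¹ by group, h2]; group
    have h4 := (sq_one_iff D (hg _ (mul_mem (inv_mem hv'U) hv))).mp h3 k
    rw [show g * (v'⁻¹ * v) * g⁻¹ = (g * v' * g⁻¹)⁻¹ * (g * v * g⁻¹) by group,
      D.a_mul _ _ (inv_mem (hg _ hv'U)) _ (hg v hv), a_inv D k (hg _ hv'U), Field.add_eq_zero] at h4
    exact h4.symm
  let A : K →+ K :=
    AddMonoidHom.mk' (fun r => D.a k (g * f r * g⁻¹)) (fun r s => by
      have h1 : D.a j (f r * f s) = r + s := by rw [D.a_mul _ _ (hf r) _ (hf s), hf1, hf1]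
      have h2 : D.a (!j) (f r * f s) = 0 := by
        rw [D.a_mul _ _ (hf r) _ (hf s), hf0, hf0, add_zero]
      have h3 := hval (f r * f s) (mul_mem (hf r) (hf s)) h2
      rw [h1] at h3
      rw [← h3, show g * (f r * f s) * g⁻¹ = (g * f r * g⁻¹) * (g * f s * g⁻¹) by group,
        D.a_mul _ _ (hg _ (hf r)) _ (hg _ (hf s))])
  have hA : ∀ r, A r = D.a k (g * f r * g⁻¹) := fun _ => rfl
  have hAinj : Function.Injective A := by
    rw [injective_iff_map_eq_zero]
    intro r hr
    rw [hA] at hr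
    have h1 : ∀ i, D.a i (g * f r * g⁻¹) = 0 := by
      intro i
      rcases Bool.eq_or_eq_not i k with rfl | rfl
      · exact hr
      · exact h _ (hf r) (hf0 r)
    have h2 := (sq_one_iff D (hg _ (hf r))).mpr h1
    have h3 : f r * f r = 1 := by
      calc f r * f r = g⁻¹ * (g * f r * g⁻¹ * (g * f r * g⁻¹)) * g := by group
        _ = 1 := by rw [h2]; group
    have h4 := (sq_one_iff D (hf r)).mp h3 j
    rwa [hf1] at h4
  have hz : ∀ b, bar n b = b → ∃ c, bar n c = c ∧ g * D.z j b * g⁻¹ = D.z k c := by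
    intro b hb
    obtain ⟨r, rfl⟩ := exists_norm D.hq hb
    refine ⟨N n (A r), fixed_N D.hq _, ?_⟩
    have h1 := sq_of D (hf r) (hf0 r)
    rw [hf1] at h1
    have h2 := sq_of D (hg _ (hf r)) (h _ (hf r) (hf0 r))
    rw [hA, ← h2, ← h1]; group
  let θ : K → K := fun b => if hb : bar n b = b then Classical.choose (hz b hb) else 0
  have hθ : ∀ b (hb : bar n b = b), bar n (θ b) = θ b ∧ g * D.z j b * g⁻¹ = D.z k (θ b) := by
    intro b hb
    simp only [θ, dif_pos hb]
    exact Classical.choose_spec (hz b hb)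
  obtain ⟨c, hc, σ, h1, -⟩ := Semilinear.exists_semilinear (barE D.hq) (bar_bar D.hq)
    (by
      obtain ⟨e, he⟩ := exists_Tr_one D.hq
      refine ⟨e, fun h0 => ?_⟩
      rw [barE_apply] at h0
      rw [Tr_of_fixed h0] at he
      exact zero_ne_one he) A hAinj θ (by
      intro x y hx hy
      rw [barE_apply] at hx hy
      apply z_inj' D k (hθ _ (fixed_add hx hy)).1 (fixed_add (hθ x hx).1 (hθ y hy).1)
      rw [D.z_add, ← (hθ _ (fixed_add hx hy)).2, ← (hθ x hx).2, ← (hθ y hy).2, D.z_add]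
      group) (by
      intro r
      rw [barE_apply, barE_apply, ← N_def, ← N_def]
      apply z_inj' D k (fixed_N D.hq _) (hθ _ (fixed_N D.hq r)).1
      rw [← (hθ _ (fixed_N D.hq r)).2]
      have h1 := sq_of D (hf r) (hf0 r)
      rw [hf1] at h1
      have h2 := sq_of D (hg _ (hf r)) (h _ (hf r) (hf0 r))
      rw [hA, ← h2, ← h1]; group)
  refine ⟨c, σ, hc, fun v hv h0 => ?_⟩
  rw [hval v hv h0]
  exact h1 _

/-- **the elements normalizing `U` act semilinearly on the two factors, up to a swap** -/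
theorem act [Finite G] : ∃ (c : Bool → K) (φ : Bool → (K ≃+* K)),
    (∀ i, c i ≠ 0) ∧ ((∀ i, ∀ x ∈ D.U, D.a i (g * x * g⁻¹) = c i * φ i (D.a i x)) ∨
      (∀ i, ∀ x ∈ D.U, D.a i (g * x * g⁻¹) = c i * φ i (D.a (!i) x))) := by
  classical
  choose κ hκ using fun j => exists_factor D hg j
  -- decomposition
  have hdec : ∀ (j : Bool) (x : G), x ∈ D.U → ∃ y ∈ D.U, ∃ y' ∈ D.U, x = y * y' ∧
      D.a (!j) y = 0 ∧ D.a j y' = 0 ∧ D.a j y = D.a j x ∧ D.a (!j) y' = D.a (!j) x := by
    intro j x hx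
    obtain ⟨y, hy, h0, h1⟩ := exists_R D j (D.a j x)
    refine ⟨y, hy, y⁻¹ * x, mul_mem (inv_mem hy) hx, by group, h0, ?_, h1, ?_⟩
    · rw [D.a_mul _ _ (inv_mem hy) _ hx, a_inv D j hy, h1, Field.add_self]
    · rw [D.a_mul _ _ (inv_mem hy) _ hx, a_inv D _ hy, h0, zero_add]
  have hsurj : ∀ y ∈ D.U, ∃ x ∈ D.U, g * x * g⁻¹ = y := by
    intro y hy
    let F : D.U → D.U := fun x => ⟨g * x * g⁻¹, hg x x.2⟩
    have hF : Function.Injective F := by
      intro x x' hxx
      have h1 : g * (x : G) * g⁻¹ = g * x' * g⁻¹ := congrArg Subtype.val hxx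
      exact Subtype.ext (mul_left_cancel (mul_right_cancel h1))
    obtain ⟨x, hx⟩ := (Finite.injective_iff_surjective.mp hF) ⟨y, hy⟩
    exact ⟨x, x.2, congrArg Subtype.val hx⟩
  have hne : κ false ≠ κ true := by
    intro heq
    obtain ⟨y, hy, hy0, hy1⟩ := exists_R D (!(κ false)) 1
    obtain ⟨x, hx, hxy⟩ := hsurj y hy
    obtain ⟨v, hv, v', hv', hvv, h1, h2, -, -⟩ := hdec false x hx
    have e1 := hκ false v hv h1
    have e2 := hκ true v' hv' h2
    rw [← heq] at e2
    rw [← hxy, hvv, show g * (v * v') * g⁻¹ = (g * v * g⁻¹) * (g * v' * g⁻¹) by group,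
      D.a_mul _ _ (hg v hv) _ (hg v' hv'), e1, e2, add_zero] at hy1
    exact zero_ne_one hy1
  have hκ' : ∀ j, κ (!j) = !(κ j) := by
    intro j
    cases j <;> cases h1 : κ false <;> cases h2 : κ true <;> simp_all
  choose c φ hc hφ using fun j => exists_semi D hg (hκ j)
  -- value of the coordinate `κ j`
  have hall : ∀ j, ∀ x ∈ D.U, D.a (κ j) (g * x * g⁻¹) = c j * φ j (D.a j x) := by
    intro j x hx
    obtain ⟨y, hy, y', hy', rfl, h1, h2, h3, -⟩ := hdec j x hx
    have e1 := hκ (!j) y' hy' (by rw [Bool.not_not]; exact h2)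
    rw [hκ' j, Bool.not_not] at e1
    rw [show g * (y * y') * g⁻¹ = (g * y * g⁻¹) * (g * y' * g⁻¹) by group,
      D.a_mul _ _ (hg y hy) _ (hg y' hy'), e1, add_zero, hφ j y hy h1, ← h3]
  rcases Bool.eq_false_or_eq_true (κ false) with h0 | h0
  · -- swap
    have h1 : κ true = false := by have := hκ' false; rw [h0] at this; exact this
    refine ⟨fun i => c (!i), fun i => φ (!i), fun i => hc _, Or.inr ?_⟩
    rintro (_ | _) x hx
    · have := hall true x hx
      rw [h1] at this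
      exact this
    · have := hall false x hx
      rw [h0] at this
      exact this
  · have h1 : κ true = true := by have := hκ' false; rw [h0] at this; exact this
    refine ⟨c, φ, hc, Or.inl ?_⟩
    rintro (_ | _) x hx
    · have := hall false x hx
      rw [h0] at this
      exact this
    · have := hall true x hx
      rw [h1] at this
      exact this

end act

end Cfsg.Agent.StdU3.GZeroAct
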