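import Cfsg.Agent.StdU3.GZeroCDef
import Cfsg.Agent.StdU3.GZeroAct

/-!
# Level two: the decomposition of `U` in two factors

From `Coord` and a root `mu` of `X² + X + ep` with `bar mu = mu + 1`: the coordinates
`a false = al + (mu + 1) b`, `a true = al + mu b` and the structure `GZ0`.
-/

set_option autoImplicit false
set_option linter.unusedSectionVars false

namespace Cfsg.Agent.StdU3.GZeroC3

open Cfsg.Agent.StdU3.Field Cfsg.Agent.StdU3.PreDef Cfsg.Agent.StdU3.LevelOne
open Cfsg.Agent.StdU3.LevelOneW Cfsg.Agent.StdU3.NormQ Cfsg.Agent.StdU3.Kernel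
open Cfsg.Agent.StdU3.Next Cfsg.Agent.StdU3.LevelTwo Cfsg.Agent.StdU3.GZeroCDef

variable {G : Type*} [Group G] {K : Type*} [Field K] [Fintype K] [CharP K 2] {n : ℕ}
variable {D : Pre G K n} {O : Subgroup G} {X : Next D O} {al Om : G → K} {ep : K}

section Om
variable (C : Coord D X al Om ep)
include C

theorem Om_one : Om 1 = 0 := by
  have h := C.Om_mul 1 (W D).one_mem 1 (W D).one_mem
  rw [mul_one] at h
  exact left_eq_add.mp h

theorem Om_inv {y : G} (hy : y ∈ W D) : Om y⁻¹ = Om y := by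
  have h := C.Om_mul y⁻¹ (inv_mem hy) y hy
  rw [inv_mul_cancel, Om_one C] at h
  exact Field.add_eq_zero.mp h.symm

theorem Om_ker {y : G} (hy : y ∈ W D) (h : Om y = 0) : y = 1 := by
  have h1 := C.Om_Tr y hy
  rw [h, Tr_zero] at h1
  obtain ⟨c, hc, h2⟩ := exists_z_mul D (W_le D hy) D.Q.one_mem (by rw [a_W D hy, a_one])
    (by rw [← h1, u_one]) (by
      rw [show e D y = 0 from e_zero D (W_le_V D hy), show e D 1 = 0 from e_zero D (V D).one_mem])
  rw [mul_one] at h2
  rw [h2] at h ⊢
  rw [C.Om_z c hc] at h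
  rw [h, z_zero]

theorem Om_inj {x y : G} (hx : x ∈ W D) (hy : y ∈ W D) (h : Om x = Om y) : x = y := by
  have h1 : x * y⁻¹ = 1 := Om_ker C (mul_mem hx (inv_mem hy)) (by
    rw [C.Om_mul x hx _ (inv_mem hy), Om_inv C hy, h, Field.add_self])
  exact mul_inv_eq_one.mp h1

theorem Om_surj (κ : K) : ∃ y ∈ W D, Om y = κ := by
  obtain ⟨y, hy, h1⟩ := W_surj D (fixed_Tr D.hq κ)
  have h2 : Tr n (Om y + κ) = 0 := by
    rw [Tr_add, C.Om_Tr y hy, h1, Field.add_self]
  have h3 := fixed_of_Tr h2
  refine ⟨D.z (Om y + κ) * y, mul_mem ?_ hy, ?_⟩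
  · exact z_mem_W D _
  · rw [C.Om_mul _ (z_mem_W D _) y hy, C.Om_z _ h3]
    have : Om y + κ + Om y = κ + (Om y + Om y) := by ring
    rw [this, Field.add_self, add_zero]

end Om

/-! ### The function `om`, inverse of `Om` -/

open Classical in
/-- the inverse of `Om : W → K`. -/
noncomputable def om (D : Pre G K n) (Om : G → K) (κ : K) : G :=
  if h : ∃ y ∈ W D, Om y = κ then h.choose else 1

section om
variable (C : Coord D X al Om ep)
include C

theorem om_spec (κ : K) : om D Om κ ∈ W D ∧ Om (om D Om κ) = κ := by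
  have h := Om_surj C κ
  unfold om
  rw [dif_pos h]
  exact h.choose_spec

theorem om_mem (κ : K) : om D Om κ ∈ W D := (om_spec C κ).1

theorem Om_om (κ : K) : Om (om D Om κ) = κ := (om_spec C κ).2

theorem om_Om {y : G} (hy : y ∈ W D) : om D Om (Om y) = y :=
  Om_inj C (om_mem C _) hy (Om_om C _)

theorem om_add (κ l : K) : om D Om (κ + l) = om D Om κ * om D Om l :=
  Om_inj C (om_mem C _) (mul_mem (om_mem C _) (om_mem C _)) (by
    rw [Om_om C, C.Om_mul _ (om_mem C _) _ (om_mem C _), Om_om C, Om_om C])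

theorem om_eq {y : G} (hy : y ∈ W D) {κ : K} (h : Om y = κ) : y = om D Om κ := by
  rw [← h, om_Om C hy]

end om

/-! ### The coordinates -/

/-- the multipliers -/
def mm (mu : K) : Bool → K
  | false => mu + 1
  | true => mu

/-- the coordinates of the two factors. -/
noncomputable def aa (D : Pre G K n) (al : G → K) (mu : K) (i : Bool) (x : G) : K :=
  al x + mm mu i * b D x

section aa
variable {mu : K}
variable (C : Coord D X al Om ep) (hmu : mu * mu + mu = ep) (hmb : bar n mu = mu + 1)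

theorem mm_not (mu : K) (i : Bool) : mm mu (!i) = mm mu i + 1 := by
  cases i
  · show mu = mu + 1 + 1
    rw [Field.add_add_self]
  · rfl

include hmb in
theorem bar_mm (i : Bool) : bar n (mm mu i) = mm mu (!i) := by
  cases i
  · show bar n (mu + 1) = mu
    rw [bar_add, bar_one, hmb, Field.add_add_self]
  · exact hmb

include hmb in
theorem Tr_mm (i : Bool) {c : K} (hc : bar n c = c) : Tr n (mm mu i * c) = c := by
  rw [Tr_def, bar_mul, hc, bar_mm hmb, mm_not]
  have : mm mu i * c + (mm mu i + 1) * c = (mm mu i * c + mm mu i * c) + c := by ring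
  rw [this, Field.add_self, zero_add]

include hmu hmb in
/-- the quadratic form -/
theorem form (x y : K) :
    (mu + 1) * N n (x + (mu + 1) * y) + mu * N n (x + mu * y) =
      N n x + bar n x * y + ep * N n y := by
  have h1 : bar n (mu + 1) = mu := bar_mm hmb false
  rw [N_def, N_def, N_def, N_def, bar_add, bar_add, bar_mul, bar_mul, h1, hmb, ← hmu]
  have h2 : (2 : K) = 0 := CharTwo.two_eq_zero
  linear_combination ((mu * x * bar n x) + mu * (mu + 1) * x * bar n y +
    (mu ^ 2 + mu) * bar n x * y + (mu ^ 3 + mu ^ 2) * y * bar n y) * h2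

include C in
theorem aa_mul (i : Bool) {x y : G} (hx : x ∈ U D X) (hy : y ∈ U D X) :
    aa D al mu i (x * y) = aa D al mu i x + aa D al mu i y := by
  unfold aa
  rw [C.al_mul x hx y hy, b_mul D (X.S_N2 (U_le D X hx)) (X.S_N2 (U_le D X hy))]
  ring

include C in
theorem aa_W (i : Bool) {y : G} (hy : y ∈ W D) : aa D al mu i y = 0 := by
  unfold aa
  rw [C.al_V y (W_le_V D hy), a_W D hy, b_Q D (W_le D hy), mul_zero, add_zero]

include C in
theorem aa_surj (hg0 : gam D = 0) (hO : Amb D O)
    (hsurj : ∀ c, ∃ s ∈ X.S, a D (s * D.t * s⁻¹) = c) (f : Bool → K) :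
    ∃ x ∈ U D X, ∀ i, aa D al mu i x = f i := by
  obtain ⟨s, hs, hb⟩ := U_surj D hg0 hO X hsurj (f false + f true)
  obtain ⟨p, hp, hpa⟩ := D.ca_surj (al s + (f true + mu * (f false + f true)))
  have hpV := P_le_V D hp
  have hpU := V_le_U D X hpV
  refine ⟨s * p, mul_mem hs hpU, fun i => ?_⟩
  have h1 : al (s * p) = f true + mu * (f false + f true) := by
    rw [C.al_mul s hs p hpU, C.al_V p hpV, a_P D hp, hpa, ← add_assoc, Field.add_self, zero_add]
  have h2 : b D (s * p) = f false + f true := by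
    rw [b_mul D (X.S_N2 (U_le D X hs)) (X.S_N2 (U_le D X hpU)), b_Q D (D.P_le hp), add_zero, hb]
  unfold aa
  rw [h1, h2]
  have h3 : (2 : K) = 0 := CharTwo.two_eq_zero
  cases i
  · show f true + mu * (f false + f true) + (mu + 1) * (f false + f true) = f false
    linear_combination (f true + mu * (f false + f true)) * h3
  · show f true + mu * (f false + f true) + mu * (f false + f true) = f true
    linear_combination (mu * (f false + f true)) * h3

include C hmu hmb in
theorem Om_sq {x : G} (hx : x ∈ U D X) :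
    Om (x * x) = (mu + 1) * N n (aa D al mu false x) + mu * N n (aa D al mu true x) := by
  rw [C.sq x hx]
  exact (form hmu hmb (al x) (b D x)).symm

include C in
theorem mem_W_of_aa (hg0 : gam D = 0) (hO : Amb D O) {x : G} (hx : x ∈ U D X)
    (h : ∀ i, aa D al mu i x = 0) : x ∈ W D := by
  have h0 : al x + (mu + 1) * b D x = 0 := h false
  have h1 : al x + mu * b D x = 0 := h true
  have h2 : (2 : K) = 0 := CharTwo.two_eq_zero
  have hb : b D x = 0 := by linear_combination h0 + h1 - (al x + mu * b D x) * h2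
  have hxV := U_Q D hx (mem_Q_of_b D hg0 hO X (U_le D X hx) hb)
  apply W_of_ae D (V_le D hxV) _ (e_zero D hxV)
  rw [← C.al_V x hxV]
  rwa [hb, mul_zero, add_zero] at h1

/-- `W` is central in `U`. -/
theorem W_cen {x y : G} (hx : x ∈ U D X) (hy : y ∈ W D) : x * y = y * x :=
  (((mem_U D).mp hx).2 y hy).symm

include C hmu hmb in
theorem Om_cmt (hg0 : gam D = 0) (hO : Amb D O) {x y : G} (hx : x ∈ U D X) (hy : y ∈ U D X) :
    Om (x * y * x⁻¹ * y⁻¹) = (mu + 1) * Tr n (aa D al mu false x * bar n (aa D al mu false y)) +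
      mu * Tr n (aa D al mu true x * bar n (aa D al mu true y)) := by
  have hc := cmt_mem_W D hg0 hO X hx hy
  have hx2 := sq_mem_W D hg0 hO X hx
  have hy2 := sq_mem_W D hg0 hO X hy
  have h1 : (x * y) * (x * y) = (x * y * x⁻¹ * y⁻¹) * (x * x) * (y * y) := by
    have h2 := W_cen hy hx2
    calc (x * y) * (x * y) = (x * y * x⁻¹ * y⁻¹) * (y * (x * x)) * y := by group
      _ = (x * y * x⁻¹ * y⁻¹) * ((x * x) * y) * y := by rw [h2]
      _ = _ := by group
  have h2 := Om_sq C hmu hmb (mul_mem hx hy)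
  rw [h1, C.Om_mul _ (mul_mem hc hx2) _ hy2, C.Om_mul _ hc _ hx2, Om_sq C hmu hmb hx,
    Om_sq C hmu hmb hy, aa_mul C false hx hy, aa_mul C true hx hy, N_add' D.hq, N_add' D.hq] at h2
  linear_combination h2

/-- an element of trace one -/
noncomputable def theta (hq : Qd K n) : K := (exists_Tr_one hq).choose

theorem Tr_theta (hq : Qd K n) : Tr n (theta hq) = 1 := (exists_Tr_one hq).choose_spec

/-- the centres of the two factors. -/
noncomputable def zz (D : Pre G K n) (Om : G → K) (mu : K) (i : Bool) (c : K) : G :=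
  om D Om (mm mu i * Tr n (theta D.hq * c))

theorem zz_fixed (i : Bool) {c : K} (hc : bar n c = c) :
    zz D Om mu i c = om D Om (mm mu i * c) := by
  unfold zz
  have h : Tr n (theta D.hq * c) = c := by
    rw [Tr_def, bar_mul, hc, ← add_mul]
    have := Tr_theta (n := n) D.hq
    rw [Tr_def] at this
    rw [this, one_mul]
  rw [h]

include C in
theorem zz_mem_W (i : Bool) (c : K) : zz D Om mu i c ∈ W D := om_mem C _

include C in
theorem zz_mul {c d : K} (hc : bar n c = c) (hd : bar n d = d) :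
    zz D Om mu false c * zz D Om mu true d = om D Om ((mu + 1) * c + mu * d) := by
  rw [zz_fixed false hc, zz_fixed true hd, ← om_add C]
  rfl

include C hmb in
theorem zz_inj {c d : K} (hc : bar n c = c) (hd : bar n d = d)
    (h : zz D Om mu false c * zz D Om mu true d = 1) : c = 0 ∧ d = 0 := by
  rw [zz_mul C hc hd] at h
  have h1 : (mu + 1) * c + mu * d = 0 := by
    have h2 := Om_om C ((mu + 1) * c + mu * d)
    rw [h, Om_one C] at h2
    exact h2.symm
  have h2 : c + d = 0 := by
    have h3 := Tr_mm hmb false hc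
    have h4 := Tr_mm hmb true hd
    rw [← h3, ← h4, ← Tr_add]
    show Tr n ((mu + 1) * c + mu * d) = 0
    rw [h1, Tr_zero]
  have h3 : (2 : K) = 0 := CharTwo.two_eq_zero
  have h4 : c = 0 := by linear_combination h1 - mu * h2
  refine ⟨h4, ?_⟩
  rw [h4, zero_add] at h2
  exact h2

include C hmb in
theorem exists_zz {x : G} (hx : x ∈ W D) :
    ∃ c d, bar n c = c ∧ bar n d = d ∧ x = zz D Om mu false c * zz D Om mu true d := by
  set κ := Om x with hκ
  have h3 : (2 : K) = 0 := CharTwo.two_eq_zero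
  have h1 : bar n (κ + mu * Tr n κ) = κ + mu * Tr n κ := by
    rw [bar_add, bar_mul, hmb, fixed_Tr D.hq, Tr_def]
    linear_combination (bar n κ) * h3
  have h2 := fixed_add h1 (fixed_Tr D.hq κ)
  refine ⟨_, _, h1, h2, ?_⟩
  rw [zz_mul C h1 h2]
  apply om_eq C hx
  rw [← hκ]
  linear_combination (-(mu * κ) - mu * Tr n κ - mu ^ 2 * Tr n κ) * h3

include C in
theorem aa_t (i : Bool) {x : G} (hx : x ∈ U D X) :
    aa D al mu i (D.t * x * D.t⁻¹) = aa D al mu (!i) x := by
  have hxN := X.S_N2 (U_le D X hx)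
  have htN : D.t ∈ N2 D := X.S_N2 (X.Q_le D.Q_t)
  have hb : b D (D.t * x * D.t⁻¹) = b D x := by
    rw [b_mul D (mul_mem htN hxN) (inv_mem htN), b_mul D htN hxN, b_inv D htN,
      b_Q D D.Q_t, zero_add, add_zero]
  unfold aa
  rw [C.al_t x hx, hb, mm_not]
  ring

include C in
theorem aa_h (l : Kˣ) (i : Bool) {x : G} (hx : x ∈ U D X) :
    aa D al mu i (X.h' l * x * (X.h' l)⁻¹) = w n l * aa D al mu i x := by
  unfold aa
  rw [C.al_h l x hx, b_h D X l (U_le D X hx)]
  ring

/-- **the group `U` as a product of two groups of type `P`.** -/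
noncomputable def gz0 (hg0 : gam D = 0) (hO : Amb D O)
    (hsurj : ∀ c, ∃ s ∈ X.S, a D (s * D.t * s⁻¹) = c) : GZeroAct.GZ0 G K n where
  hq := D.hq
  U := U D X
  a := aa D al mu
  a_mul := fun i _ hx _ hy => aa_mul C i hx hy
  a_surj := aa_surj C hg0 hO hsurj
  z := zz D Om mu
  z_mem := fun i c => W_le_U D X (zz_mem_W C i c)
  z_add := fun i c d => by
    unfold zz
    rw [mul_add, Tr_add, mul_add, om_add C]
  z_cen := fun i c _ hx => W_cen hx (zz_mem_W C i c)
  z_inj := fun _ _ hc hd h => zz_inj C hmb hc hd h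
  a_z := fun i j c => aa_W C i (zz_mem_W C j c)
  exists_z := fun _ hx h => exists_zz C hmb (mem_W_of_aa C hg0 hO hx h)
  U_sq := fun x hx => by
    rw [zz_mul C (fixed_N D.hq _) (fixed_N D.hq _)]
    exact om_eq C (sq_mem_W D hg0 hO X hx) (Om_sq C hmu hmb hx)
  U_comm := fun x hx y hy => by
    rw [zz_mul C (fixed_Tr D.hq _) (fixed_Tr D.hq _)]
    have h1 := om_eq C (cmt_mem_W D hg0 hO X hx hy) (Om_cmt C hmu hmb hg0 hO hx hy)
    rw [← h1]
    group

end aa

end Cfsg.Agent.StdU3.GZeroC3
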