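import Cfsg.Agent.StdU3.Next

/-!
# The second level, `gam = 0`

`X : Next D O` with `{a (s t s⁻¹) | s ∈ S} = K`.  `U = C_S(W)` has index 2 in `S`, does not
contain `t`, `U' ≤ W ≤ Z(U)`, the squares of the elements of `U` are in `W`, and the involutions
of `t U` are the conjugates of `t` under `U`.
-/

set_option autoImplicit false
set_option linter.unusedSectionVars false

namespace Cfsg.Agent.StdU3.LevelTwo

open Cfsg.Agent.StdU3.Field Cfsg.Agent.StdU3.PreDef Cfsg.Agent.StdU3.LevelOne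
open Cfsg.Agent.StdU3.LevelOneW Cfsg.Agent.StdU3.NormQ Cfsg.Agent.StdU3.Kernel
open Cfsg.Agent.StdU3.Next

variable {G : Type*} [Group G] {K : Type*} [Field K] [Fintype K] [CharP K 2] {n : ℕ}
variable (D : Pre G K n) {O : Subgroup G}

/-- the `V/W`-part of the conjugate of `t`. -/
noncomputable def b (s : G) : K := a D (s * D.t * s⁻¹)

theorem b_mul {s r : G} (hs : s ∈ N2 D) (hr : r ∈ N2 D) : b D (s * r) = b D s + b D r := by
  unfold b
  rw [a_t_mul D hs hr.1, add_comm]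

theorem b_Q {s : G} (hs : s ∈ D.Q) : b D s = 0 := by
  unfold b
  rw [u_conj D hs, a_mul D (z_mem_Q D _) D.Q_t, a_z, a_t, add_zero]

theorem b_one : b D 1 = 0 := b_Q D D.Q.one_mem

theorem b_inv {s : G} (hs : s ∈ N2 D) : b D s⁻¹ = b D s := by
  have h := b_mul D hs (inv_mem hs)
  rw [mul_inv_cancel, b_one] at h
  exact (Field.add_eq_zero.mp h.symm).symm

theorem a_conj_N2 {s g : G} (hs : s ∈ N2 D) (hg : g ∈ D.Q) :
    a D (s * g * s⁻¹) = a D g + e D g * b D s := by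
  rw [a_conj D hs.1 hg, hs.2]; rfl

theorem u_conj_N2 (hg0 : gam D = 0) {s g : G} (hs : s ∈ N2 D) (hg : g ∈ D.Q) :
    u D (s * g * s⁻¹) = u D g + Tr n (b D s * bar n (a D g)) + e D g * N n (b D s) := by
  rw [u_conj' D hs.1 hg, th_N2 D hs (u_fixed D hg), rel_psi D hs.1, hs.2, u_t_zero D hs.1 hg0]
  rfl

theorem b_h (X : Next D O) (l : Kˣ) {s : G} (hs : s ∈ X.S) :
    b D (X.h' l * s * (X.h' l)⁻¹) = w n l * b D s := by
  have hsN := (X.S_N2 hs).1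
  unfold b
  have ht : (X.h' l)⁻¹ * D.t * X.h' l = D.t := by rw [mul_assoc, ← X.h'_t]; group
  have h1 : X.h' l * s * (X.h' l)⁻¹ * D.t * (X.h' l * s * (X.h' l)⁻¹)⁻¹ =
      X.h' l * (s * ((X.h' l)⁻¹ * D.t * X.h' l) * s⁻¹) * (X.h' l)⁻¹ := by group
  rw [h1, ht, X.h'_Q l _ (hsN.fwd _ D.Q_t), a_h D l (hsN.fwd _ D.Q_t)]

/-! ### Squares and commutators of `S` are in `V` -/

theorem mem_Q_of_b (hg0 : gam D = 0) (hO : Amb D O) (X : Next D O) {s : G} (hs : s ∈ X.S)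
    (h : b D s = 0) : s ∈ D.Q := by
  apply X.stab hO hs
  refine ⟨h, ?_⟩
  rw [u_t_zero D (X.S_N2 hs).1 hg0]
  have h' : a D (s * D.t * s⁻¹) = 0 := h
  rw [h', N_zero]

theorem sq_mem_V (hg0 : gam D = 0) (hO : Amb D O) (X : Next D O) {s : G} (hs : s ∈ X.S) :
    s * s ∈ V D := by
  have hsN := X.S_N2 hs
  have hQ : s * s ∈ D.Q := mem_Q_of_b D hg0 hO X (mul_mem hs hs) (by
    rw [b_mul D hsN hsN, add_self])
  rcases e_cases D (s * s) with ⟨-, h⟩ | ⟨h, -⟩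
  · exact h
  · exfalso
    have h1 := a_conj_N2 D hsN hQ
    have h2 : s * (s * s) * s⁻¹ = s * s := by group
    rw [h2, h, one_mul] at h1
    have h3 : b D s = 0 := by
      have := add_eq_left.mp h1.symm
      exact this
    have h4 := mem_Q_of_b D hg0 hO X hs h3
    rw [e_mul D h4 h4, add_self] at h
    exact zero_ne_one h

theorem cmt_mem_V (hg0 : gam D = 0) (hO : Amb D O) (X : Next D O) {s r : G} (hs : s ∈ X.S)
    (hr : r ∈ X.S) : s * r * s⁻¹ * r⁻¹ ∈ V D := by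
  have hrN := (X.S_N2 hr).1
  have h1 := sq_mem_V D hg0 hO X (mul_mem hs hr)
  have h2 : s * r * s⁻¹ * r⁻¹ = (s * r * (s * r)) * (r * r)⁻¹ * (r * (s * s) * r⁻¹)⁻¹ := by group
  rw [h2]
  exact mul_mem (mul_mem h1 (inv_mem (sq_mem_V D hg0 hO X hr)))
    (inv_mem (conj_V D hrN (sq_mem_V D hg0 hO X hs)))

/-- `[S, V] ≤ W`. -/
theorem cmt_V_mem_W {s g : G} (hs : s ∈ N2 D) (hg : g ∈ V D) : s * g * s⁻¹ * g⁻¹ ∈ W D := by
  have hgQ := V_le D hg
  have hc := hs.1.fwd g hgQ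
  apply W_of_ae D (mul_mem hc (inv_mem hgQ))
  · rw [a_mul D hc (inv_mem hgQ), a_conj_N2 D hs hgQ, e_zero D hg, zero_mul, add_zero,
      a_inv D hgQ, add_self]
  · rw [e_mul D hc (inv_mem hgQ), e_conj D hs.1, e_inv D hgQ, add_self]

/-! ### The subgroup `U = C_S(W)` -/

/-- `U = C_S(W)`. -/
def U (X : Next D O) : Subgroup G := X.S ⊓ Subgroup.centralizer (W D : Set G)

theorem mem_U {X : Next D O} {s : G} : s ∈ U D X ↔ s ∈ X.S ∧ ∀ y ∈ W D, y * s = s * y := by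
  unfold U
  rw [Subgroup.mem_inf, Subgroup.mem_centralizer_iff]
  rfl

theorem U_le (X : Next D O) : U D X ≤ X.S := inf_le_left

theorem V_le_U (X : Next D O) : V D ≤ U D X := fun _ hg =>
  (mem_U D).mpr ⟨X.Q_le (V_le D hg), fun y hy => ((mem_V_iff D (V_le D hg)).mp hg y hy).symm⟩

theorem W_le_U (X : Next D O) : W D ≤ U D X := (W_le_V D).trans (V_le_U D X)

theorem t_not_U (X : Next D O) : D.t ∉ U D X := by
  intro h
  obtain ⟨y, hy, uy⟩ := W_surj D (bar_one n)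
  have h1 := t_conj D (W_le D hy)
  rw [← ((mem_U D).mp h).2 y hy, uy] at h1
  have h2 : D.z 1 = 1 := mul_eq_right.mp (h1.symm.trans (by group))
  exact one_ne_zero (D.z_inj 1 (bar_one n) h2)

theorem U_Q {X : Next D O} {s : G} (hs : s ∈ U D X) (hsQ : s ∈ D.Q) : s ∈ V D := by
  rw [mem_V_iff D hsQ]
  intro k hk
  exact (((mem_U D).mp hs).2 k hk).symm

/-- conjugation of `S` on `W`. -/
theorem conj_W_eq {s y : G} (hs : s ∈ N2 D) (hy : y ∈ W D) :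
    ∃ c, bar n c = c ∧ s * y * s⁻¹ = D.z c * y := by
  have hyQ := W_le D hy
  apply exists_z_mul D (hs.1.fwd y hyQ) hyQ
  · rw [a_W D (conj_W D hs.1 hy), a_W D hy]
  · rw [u_conj_W D hs.1 hy, th_N2 D hs (u_fixed D hyQ)]
  · rw [e_conj D hs.1]

/-- `K0` kills `[S, h'] × W → Z`. -/
theorem cmt_h_mem_U (X : Next D O) {k : Kˣ} (hk : N n (k : K) = 1) {s : G} (hs : s ∈ X.S) :
    X.h' k * s * (X.h' k)⁻¹ * s⁻¹ ∈ U D X := by
  rw [mem_U]
  refine ⟨mul_mem (X.h'_S k s hs) (inv_mem hs), fun y hy => ?_⟩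
  have hyQ := W_le D hy
  have hsN := X.S_N2 hs
  -- `h' y h'⁻¹ = z c y`
  obtain ⟨c, hc, h1⟩ : ∃ c, bar n c = c ∧ X.h' k * y * (X.h' k)⁻¹ = D.z c * y := by
    rw [X.h'_Q k y hyQ]
    apply exists_z_mul D (D.Q_h k y hyQ) hyQ
    · rw [a_h D k hyQ, a_W D hy, mul_zero]
    · rw [u_h D k hyQ, hk, one_mul]
    · rw [e_h D k hyQ]
  obtain ⟨d, hd, h2⟩ := conj_W_eq D hsN hy
  have hsN' : X.h' k * s * (X.h' k)⁻¹ ∈ N2 D := X.S_N2 (X.h'_S k s hs)
  -- the action of `h' s h'⁻¹`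
  have h3 : (X.h' k * s * (X.h' k)⁻¹) * y * (X.h' k * s * (X.h' k)⁻¹)⁻¹ = D.z d * y := by
    have hz : ∀ b, X.h' k * D.z b * (X.h' k)⁻¹ = D.z b := by
      intro b
      obtain ⟨b', hb', hbb⟩ := z_fixed D b
      rw [hbb, X.h'_Q k _ (z_mem_Q D b'), h_z D k hb', hk, one_mul]
    have hs' := N2_z D hsN'
    have e1 : y = D.z c * (X.h' k * y * (X.h' k)⁻¹) := by
      rw [h1, ← mul_assoc, z_self, one_mul]
    have e2 : (X.h' k * s * (X.h' k)⁻¹) * y * (X.h' k * s * (X.h' k)⁻¹)⁻¹ =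
        D.z c * (X.h' k * (s * y * s⁻¹) * (X.h' k)⁻¹) := by
      conv_lhs => rw [e1]
      rw [← mul_assoc (X.h' k * s * (X.h' k)⁻¹), hs' c]; group
    rw [e2, h2]
    have e3 : D.z c * (X.h' k * (D.z d * y) * (X.h' k)⁻¹) =
        D.z c * (X.h' k * D.z d * (X.h' k)⁻¹) * (X.h' k * y * (X.h' k)⁻¹) := by group
    rw [e3, hz, h1, z_comm D c d, mul_assoc, ← mul_assoc (D.z c) (D.z c), z_self, one_mul]
  -- combine
  have h4 : s⁻¹ * y * s = D.z d * y := by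
    have e1 : s⁻¹ * D.z d = D.z d * s⁻¹ := N2_z D (inv_mem hsN) d
    have e2 : y = D.z d * (s⁻¹ * y * s) := by
      calc y = s⁻¹ * (s * y * s⁻¹) * s := by group
        _ = s⁻¹ * D.z d * y * s := by rw [h2]; group
        _ = D.z d * (s⁻¹ * y * s) := by rw [e1]; group
    have e3 : D.z d * y = D.z d * (D.z d * (s⁻¹ * y * s)) := by rw [← e2]
    rw [e3, ← mul_assoc, z_self, one_mul]
  have h5 : (X.h' k * s * (X.h' k)⁻¹ * s⁻¹) * y * (X.h' k * s * (X.h' k)⁻¹ * s⁻¹)⁻¹ = y := by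
    have e1 : (X.h' k * s * (X.h' k)⁻¹ * s⁻¹) * y * (X.h' k * s * (X.h' k)⁻¹ * s⁻¹)⁻¹ =
      (X.h' k * s * (X.h' k)⁻¹) * (s⁻¹ * y * s) * (X.h' k * s * (X.h' k)⁻¹)⁻¹ := by group
    rw [e1, h4, ← mul_assoc, N2_z D hsN' d, mul_assoc, mul_assoc]
    have e2 : D.z d * ((X.h' k * s * (X.h' k)⁻¹) * (y * (X.h' k * s * (X.h' k)⁻¹)⁻¹)) =
      D.z d * ((X.h' k * s * (X.h' k)⁻¹) * y * (X.h' k * s * (X.h' k)⁻¹)⁻¹) := by group
    rw [e2, h3, ← mul_assoc, z_self, one_mul]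
  exact (mul_inv_eq_iff_eq_mul.mp h5).symm

theorem U_or_aux (hg0 : gam D = 0) (hO : Amb D O) (X : Next D O)
    (hsurj : ∀ c, ∃ s ∈ X.S, a D (s * D.t * s⁻¹) = c) {s : G} (hs : s ∈ X.S) :
    ∃ r ∈ U D X, b D r = b D s ∧ (r⁻¹ * s ∈ V D ∨ r⁻¹ * s * D.t ∈ V D) := by
  obtain ⟨k, hk, hk3, -⟩ := exists_norm_one D.hq
  have hw : w n k + 1 ≠ 0 := by
    intro h
    apply hk3
    rw [w_of_norm_one hk] at h
    exact Field.add_eq_zero.mp h
  obtain ⟨s0, hs0, h0⟩ := hsurj (b D s * (w n k + 1)⁻¹)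
  have hb0 : b D s0 = b D s * (w n k + 1)⁻¹ := h0
  have hr := cmt_h_mem_U D X hk hs0
  set r := X.h' k * s0 * (X.h' k)⁻¹ * s0⁻¹ with hrd
  have hbr : b D r = b D s := by
    rw [hrd, b_mul D (X.S_N2 (X.h'_S k s0 hs0)) (inv_mem (X.S_N2 hs0)), b_h D X k hs0,
      b_inv D (X.S_N2 hs0), hb0]
    field_simp
  have hrS := U_le D X hr
  have hq : r⁻¹ * s ∈ D.Q := mem_Q_of_b D hg0 hO X (mul_mem (inv_mem hrS) hs) (by
    rw [b_mul D (inv_mem (X.S_N2 hrS)) (X.S_N2 hs), b_inv D (X.S_N2 hrS), hbr, add_self])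
  exact ⟨r, hr, hbr, V_or D hq⟩

/-- `U` has index two in `S`. -/
theorem U_or (hg0 : gam D = 0) (hO : Amb D O) (X : Next D O)
    (hsurj : ∀ c, ∃ s ∈ X.S, a D (s * D.t * s⁻¹) = c) {s : G} (hs : s ∈ X.S) :
    s ∈ U D X ∨ s * D.t ∈ U D X := by
  obtain ⟨r, hr, -, h | h⟩ := U_or_aux D hg0 hO X hsurj hs
  · left
    have : s = r * (r⁻¹ * s) := by group
    rw [this]
    exact mul_mem hr (V_le_U D X h)
  · right
    have : s * D.t = r * (r⁻¹ * s * D.t) := by group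
    rw [this]
    exact mul_mem hr (V_le_U D X h)

theorem U_surj (hg0 : gam D = 0) (hO : Amb D O) (X : Next D O)
    (hsurj : ∀ c, ∃ s ∈ X.S, a D (s * D.t * s⁻¹) = c) (c : K) : ∃ s ∈ U D X, b D s = c := by
  obtain ⟨s, hs, hc⟩ := hsurj c
  obtain ⟨r, hr, hb, -⟩ := U_or_aux D hg0 hO X hsurj hs
  exact ⟨r, hr, hb.trans hc⟩

theorem a_zero_of_comm {g : G} (hg : g ∈ D.Q) (h : ∀ x ∈ D.P, g * x = x * g) : a D g = 0 := by
  apply eq_zero_of_Tr D.hq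
  intro y
  obtain ⟨x, hx, rfl⟩ := D.ca_surj y
  have h1 := cmt_eq D hg (D.P_le hx)
  rw [h x hx, a_P D hx, u_P D hx, e_P D hx, mul_zero, zero_mul, add_zero, add_zero] at h1
  apply D.z_inj _ (fixed_Tr D.hq _)
  rw [← h1]; group

/-- the squares of elements of `U` are in `W`. -/
theorem sq_mem_W (hg0 : gam D = 0) (hO : Amb D O) (X : Next D O) {s : G} (hs : s ∈ U D X) :
    s * s ∈ W D := by
  have hsS := U_le D X hs
  have hV := sq_mem_V D hg0 hO X hsS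
  apply W_of_ae D (V_le D hV) _ (e_zero D hV)
  apply a_zero_of_comm D (V_le D hV)
  intro x hx
  have hy := cmt_V_mem_W D (X.S_N2 hsS) (P_le_V D hx)
  set y := s * x * s⁻¹ * x⁻¹ with hyd
  have h1 : s * x * s⁻¹ = y * x := by rw [hyd]; group
  have h2 : y * y = 1 := by rw [W_sq D hy, hg0, zero_mul, z_zero]
  have h3 : s * y * s⁻¹ = y := by rw [← ((mem_U D).mp hs).2 y hy]; group
  have h4 : s * s * x * (s * s)⁻¹ = x := by
    have e1 : s * s * x * (s * s)⁻¹ = s * (s * x * s⁻¹) * s⁻¹ := by group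
    have e2 : s * (y * x) * s⁻¹ = (s * y * s⁻¹) * (s * x * s⁻¹) := by group
    rw [e1, h1, e2, h3, h1, ← mul_assoc, h2, one_mul]
  exact mul_inv_eq_iff_eq_mul.mp h4

theorem cmt_mem_W (hg0 : gam D = 0) (hO : Amb D O) (X : Next D O) {s r : G} (hs : s ∈ U D X)
    (hr : r ∈ U D X) : s * r * s⁻¹ * r⁻¹ ∈ W D := by
  have hrN := (X.S_N2 (U_le D X hr)).1
  have h1 := sq_mem_W D hg0 hO X (mul_mem hs hr)
  have h2 : s * r * s⁻¹ * r⁻¹ = (s * r * (s * r)) * (r * r)⁻¹ * (r * (s * s) * r⁻¹)⁻¹ := by group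
  rw [h2]
  exact mul_mem (mul_mem h1 (inv_mem (sq_mem_W D hg0 hO X hr)))
    (inv_mem (conj_W D hrN (sq_mem_W D hg0 hO X hs)))

/-- elements normalizing `Q` and `S` normalize `U`. -/
theorem conj_U (X : Next D O) {f : G} (hf : Norm D f) (hfS : ∀ s ∈ X.S, f * s * f⁻¹ ∈ X.S) {r : G}
    (hr : r ∈ U D X) : f * r * f⁻¹ ∈ U D X := by
  rw [mem_U] at hr ⊢
  refine ⟨hfS r hr.1, fun y hy => ?_⟩
  have h1 : f⁻¹ * y * f ∈ W D := by
    have := conj_W D (Norm.inv D hf) hy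
    rwa [inv_inv] at this
  have h2 := hr.2 _ h1
  calc y * (f * r * f⁻¹) = f * ((f⁻¹ * y * f) * r) * f⁻¹ := by group
    _ = f * (r * (f⁻¹ * y * f)) * f⁻¹ := by rw [h2]
    _ = f * r * f⁻¹ * y := by group

theorem conj_U_S (X : Next D O) {s : G} (hs : s ∈ X.S) {r : G} (hr : r ∈ U D X) :
    s * r * s⁻¹ ∈ U D X :=
  conj_U D X (X.S_N2 hs).1 (fun _ hr => mul_mem (mul_mem hs hr) (inv_mem hs)) hr

/-- the involutions of `t U` are conjugate to `t` under `U`. -/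
theorem invol_conj (hg0 : gam D = 0) (hO : Amb D O) (X : Next D O)
    (hsurj : ∀ c, ∃ s ∈ X.S, a D (s * D.t * s⁻¹) = c) {s : G} (hs : s ∈ U D X)
    (h : (D.t * s) * (D.t * s) = 1) : ∃ r ∈ U D X, D.t * s = r * D.t * r⁻¹ := by
  have hsS := U_le D X hs
  have hsN := X.S_N2 hsS
  have htS : D.t ∈ X.S := X.Q_le D.Q_t
  -- `b s = 0`
  have hb : b D s = 0 := by
    have e1 : (D.t * s) * (D.t * s) = (D.t * (s * D.t * s⁻¹)) * (s * s) := by group
    have hss := sq_mem_W D hg0 hO X hs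
    have hQ1 : D.t * (s * D.t * s⁻¹) ∈ D.Q := mul_mem D.Q_t (hsN.1.fwd _ D.Q_t)
    rw [e1] at h
    have h2 := a_mul D hQ1 (W_le D hss)
    rw [h, a_one, a_W D hss, add_zero, a_mul D D.Q_t (hsN.1.fwd _ D.Q_t), a_t, zero_add] at h2
    exact h2.symm
  have hsV := U_Q D hs (mem_Q_of_b D hg0 hO X hsS hb)
  have hsQ := V_le D hsV
  have htsQ : D.t * s ∈ D.Q := mul_mem D.Q_t hsQ
  have hu : u D s = N n (a D s) := by
    have h2 := sq_eq D htsQ
    rw [h, e_mul D D.Q_t hsQ, e_t, e_zero D hsV, add_zero, one_mul, hg0, zero_mul, add_zero,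
      a_mul D D.Q_t hsQ, a_t, zero_add, u_mul D D.Q_t hsQ, u_t, zero_add] at h2
    have h3 := D.z_inj _ (fixed_add (fixed_N D.hq _) (u_fixed D hsQ)) h2.symm
    exact (Field.add_eq_zero.mp h3).symm
  obtain ⟨r, hr, hbr⟩ := U_surj D hg0 hO X hsurj (a D s)
  have hrN := X.S_N2 (U_le D X hr)
  obtain ⟨c, hc, h3⟩ := exists_z_mul D htsQ (hrN.1.fwd _ D.Q_t)
    (by rw [a_mul D D.Q_t hsQ, a_t, zero_add]; exact hbr.symm)
    (by
      rw [u_mul D D.Q_t hsQ, u_t, zero_add, u_t_zero D hrN.1 hg0, hu]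
      have : a D (r * D.t * r⁻¹) = a D s := hbr
      rw [this])
    (by rw [e_mul D D.Q_t hsQ, e_t, e_zero D hsV, add_zero, e_conj D hrN.1, e_t])
  obtain ⟨y, hy, uy⟩ := W_surj D hc
  refine ⟨r * y, mul_mem hr (W_le_U D X hy), ?_⟩
  have h4 := u_conj D (W_le D hy)
  rw [h3, conj_sub, h4, uy]
  have h5 : r * (D.z c * D.t) * r⁻¹ = r * D.z c * D.t * r⁻¹ := by group
  rw [h5, N2_z D hrN]; group

theorem mem_P_of_comm (hg0 : gam D = 0) (hO : Amb D O) (X : Next D O) {s : G} (hs : s ∈ U D X)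
    (h : s * D.t = D.t * s) : s ∈ D.P := by
  have hsS := U_le D X hs
  have hb : b D s = 0 := by
    unfold b
    rw [h, mul_assoc, mul_inv_cancel, mul_one, a_t]
  have hsV := U_Q D hs (mem_Q_of_b D hg0 hO X hsS hb)
  have hsQ := V_le D hsV
  rcases D.Q_T s hsQ h with h1 | h1
  · exact h1
  · exfalso
    have h2 := e_P D h1
    rw [e_mul D hsQ D.Q_t, e_zero D hsV, e_t, zero_add] at h2
    exact one_ne_zero h2

end Cfsg.Agent.StdU3.LevelTwo
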