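import Cfsg.Agent.StdU3.GZeroKer
import Cfsg.Agent.StdU3.LevelTwo

/-!
# The product of two groups of type `P`: elements acting trivially on `U / W`, instance

The hypotheses of `GZeroKer.exists_O` for the level two group `U = C_S(W)`.
-/

set_option autoImplicit false
set_option linter.unusedSectionVars false

namespace Cfsg.Agent.StdU3.GZeroKerI

open Cfsg.Agent.StdU3.Field Cfsg.Agent.StdU3.PreDef Cfsg.Agent.StdU3.LevelOne
open Cfsg.Agent.StdU3.LevelOneW Cfsg.Agent.StdU3.NormQ Cfsg.Agent.StdU3.Kernel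
open Cfsg.Agent.StdU3.Next Cfsg.Agent.StdU3.LevelTwo Cfsg.Agent.StdU3.GZeroAct

variable {G : Type*} [Group G] {K : Type*} [Field K] [Fintype K] [CharP K 2] {n : ℕ}
variable (D : Pre G K n) {O : Subgroup G}

/-- `invol_conj`, with `t` on the right. -/
theorem inv (hg0 : gam D = 0) (hO : Amb D O) (X : Next D O)
    (hsurj : ∀ c, ∃ s ∈ X.S, a D (s * D.t * s⁻¹) = c) {s : G} (hs : s ∈ U D X)
    (h : (s * D.t) * (s * D.t) = 1) : ∃ r ∈ U D X, r * D.t * r⁻¹ = s * D.t := by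
  have ht : D.t⁻¹ = D.t := inv_eq_of_mul_eq_one_left D.t_sq
  have htS : D.t ∈ X.S := X.Q_le D.Q_t
  -- `s t = t (t s t⁻¹)`
  have h1 : D.t * (D.t⁻¹ * s * D.t) = s * D.t := by group
  have h2 : D.t⁻¹ * s * D.t ∈ U D X := by
    have := conj_U_S D X (inv_mem htS) hs
    rwa [inv_inv] at this
  obtain ⟨r, hr, h3⟩ := invol_conj D hg0 hO X hsurj h2 (by rw [h1]; exact h)
  exact ⟨r, hr, by rw [← h3, h1]⟩

theorem dec (hg0 : gam D = 0) (hO : Amb D O) (X : Next D O) {f : G → K}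
    (hf : ∀ x ∈ D.P, f x = D.ca x) {y : G} (hyt : y * D.t = D.t * y)
    (hyU : ∀ x ∈ U D X, y * x * y⁻¹ ∈ U D X) (hy : ∀ x ∈ U D X, f (y * x * y⁻¹) = f x) :
    ∃ x ∈ U D X, ∃ k, (∃ m, Odd m ∧ k ^ m = 1) ∧ (y = x * k ∨ y = x * D.t * k) := by
  have hP : D.P ≤ U D X := (P_le_V D).trans (V_le_U D X)
  obtain ⟨x, hx, k, hk, h⟩ := hO.dec y hyt (by
    intro x hx
    have h1 : y * x * y⁻¹ ∈ D.P := by
      apply mem_P_of_comm D hg0 hO X (hyU x (hP hx))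
      have h2 := D.t_P x hx
      have h3 : y⁻¹ * D.t = D.t * y⁻¹ := by
        calc y⁻¹ * D.t = y⁻¹ * (D.t * y) * y⁻¹ := by group
          _ = y⁻¹ * (y * D.t) * y⁻¹ := by rw [hyt]
          _ = D.t * y⁻¹ := by group
      calc y * x * y⁻¹ * D.t = y * x * (y⁻¹ * D.t) := by group
        _ = y * (x * D.t) * y⁻¹ := by rw [h3]; group
        _ = (y * D.t) * x * y⁻¹ := by rw [← h2]; group
        _ = D.t * (y * x * y⁻¹) := by rw [hyt]; group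
    exact ⟨h1, by rw [← hf _ h1, hy x (hP hx), hf x hx]⟩)
  have hkt := hO.O_t k hk
  have hxt : x * D.t = D.t * x := by
    have h1 : x = y * k⁻¹ := by rw [h]; group
    have h3 : k⁻¹ * D.t = D.t * k⁻¹ := by
      calc k⁻¹ * D.t = k⁻¹ * (D.t * k) * k⁻¹ := by group
        _ = k⁻¹ * (k * D.t) * k⁻¹ := by rw [hkt]
        _ = D.t * k⁻¹ := by group
    rw [h1, mul_assoc, h3, ← mul_assoc, hyt, mul_assoc]
  rcases D.Q_T x hx hxt with h1 | h1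
  · exact ⟨x, hP h1, k, ⟨_, hO.odd, pow_card_O hk⟩, Or.inl h⟩
  · refine ⟨x * D.t, hP h1, k, ⟨_, hO.odd, pow_card_O hk⟩, Or.inr ?_⟩
    rw [mul_assoc x, D.t_sq, mul_one]
    exact h

/-- **the fields `O`, `O_odd`, `O_U`, `O_conj`, `ker` of `GZero`.** -/
theorem exists_O [Finite G] (hg0 : gam D = 0) (hO : Amb D O) (X : Next D O)
    (hsurj : ∀ c, ∃ s ∈ X.S, a D (s * D.t * s⁻¹) = c) (Z0 : GZ0 G K n) (hU : Z0.U = U D X)
    (ha : ∀ x ∈ D.P, Z0.a false x = D.ca x)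
    (ta : ∀ i, ∀ x ∈ Z0.U, Z0.a i (D.t * x * D.t⁻¹) = Z0.a (!i) x) :
    ∃ O' : Subgroup G, Odd (Nat.card O') ∧ (∀ k ∈ O', ∀ x ∈ Z0.U, k * x = x * k) ∧
      (∀ g, (∀ x ∈ Z0.U, g * x * g⁻¹ ∈ Z0.U) → ∀ k ∈ O', g * k * g⁻¹ ∈ O') ∧
      ∀ g, (∀ x ∈ Z0.U, g * x * g⁻¹ ∈ Z0.U) →
        (∀ i, ∀ x ∈ Z0.U, Z0.a i (g * x * g⁻¹) = Z0.a i x) →
        ∃ x ∈ Z0.U, ∃ k ∈ O', g = x * k := by
  have hp : IsPGroup 2 Z0.U := by
    rw [hU]
    exact X.S_two.to_le (U_le D X)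
  have htS : D.t ∈ X.S := X.Q_le D.Q_t
  refine GZeroKer.exists_O Z0 hp D.t_sq (fun x hx => ?_) ta (fun u hu h => ?_)
    (fun y hyt hyU hy => ?_)
  · rw [hU] at hx ⊢
    exact conj_U_S D X htS hx
  · rw [hU] at hu ⊢
    exact inv D hg0 hO X hsurj hu h
  · rw [hU] at hyU hy ⊢
    exact dec D hg0 hO X (f := Z0.a false) ha hyt hyU (hy false)

end Cfsg.Agent.StdU3.GZeroKerI
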