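import Cfsg.Agent.StdU3.GZeroBase

/-!
# Type `g0`: (K2), steps A and B

A straight involution `y` which acts as the field automorphism on one factor and trivially on the
other one (modulo the centre) centralizes the other factor.
-/

set_option autoImplicit false
set_option linter.unusedSectionVars false

namespace Cfsg.Agent.StdU3.GZeroK2

open Cfsg.Agent.StdU3.Field Cfsg.Agent.StdU3.PreDef Cfsg.Agent.StdU3.FieldAut
open Cfsg.Agent.StdU3.GZeroDef Cfsg.Agent.StdU3.GZeroBase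

variable {G : Type*} [Group G] {K : Type*} [Field K] [Fintype K] [CharP K 2] {n : ℕ}
variable (D : GZero G K n)

theorem two_U : Two D D.U := ⟨D.U_two, le_rfl, U_le_NN D⟩

theorem act_h (l : Kˣ) (i : Bool) : Act D i (D.h l) (w n l) 1 := fun x hx => D.h_a l i x hx

theorem h_mem_St [Finite G] (l : Kˣ) : D.h l ∈ St D := by
  rcases act_cases D (h_mem_NN D l) with h | h
  · exact h.1
  · exfalso
    obtain ⟨x, hx, hx1⟩ := exists_R D false 1
    have h1 := h.1.2 _ x hx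
    have h2 : D.h l * x * (D.h l)⁻¹ ∈ R D false :=
      ⟨D.h_U l x hx.1, by rw [D.h_a l _ x hx.1, hx.2, mul_zero]⟩
    have h3 := W_conj' D (h_mem_NN D l) (mem_W_of_RR D h2 h1)
    rw [show (D.h l)⁻¹ * (D.h l * x * (D.h l)⁻¹) * D.h l = x by group] at h3
    have := h3.2 false
    rw [hx1] at this
    exact one_ne_zero this

/-- the action of the torus on the centre -/
theorem h_z [Finite G] (l : Kˣ) (i : Bool) {b : K} (hb : bar n b = b) :
    D.h l * D.z i b * (D.h l)⁻¹ = D.z i (N n (w n l) * b) := by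
  have h1 := z_conj D (g := D.h l) (c := w n l) (φ := RingEquiv.refl K) (i := i) (j := i)
    (fun x hx => St_R D (h_mem_St D l) hx) (fun x hx => D.h_a l i x hx.1) hb
  exact h1

theorem act_pow {i : Bool} {g : G} {c : K} (hg : g ∈ NN D) (h : Act D i g c 1) (m : ℕ) :
    Act D i (g ^ m) (c ^ m) 1 := by
  induction m with
  | zero =>
    rw [pow_zero, pow_zero]
    exact Act.of_U D D.U.one_mem
  | succ m ih =>
    have h1 := ih.mul D h hg
    rw [← pow_succ, mul_one] at h1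
    rw [pow_succ c m]
    exact h1

theorem odd_card (D : GZero G K n) : ∃ k, Fintype.card K - 1 = 2 * k + 1 := by
  have h1 := D.hq.hK
  have h2 := four_le D.hq
  have h3 : ∃ m, 2 ^ n = 2 * m := by
    have h4 := D.hq.hn
    exact ⟨2 ^ (n - 1), by rw [← pow_succ']; congr 1; omega⟩
  obtain ⟨m, hm⟩ := h3
  have h5 : Fintype.card K = 2 * (m * (2 * m)) := by
    rw [h1, hm]; ring
  have h6 : 1 ≤ m * (2 * m) := by
    have : 1 ≤ m := by omega
    exact Nat.mul_pos this (by omega)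
  exact ⟨m * (2 * m) - 1, by omega⟩

variable {D} {y : G} {j : Bool} {c : K}

/-! ### Step A -/

section stepA
variable (hy : y ∈ St D) (hyy : y * y = 1) (hj : Act D j y 1 1)

include hy hyy hj

theorem inv_y : y⁻¹ = y := inv_eq_of_mul_eq_one_left hyy

theorem y_W [Finite G] {v : G} (hv : v ∈ W D) : y * v = v * y :=
  comm_W hy (by rw [hyy]; exact D.U.one_mem) hv

theorem lam_mem {x : G} (hx : x ∈ R D j) : y * x * y⁻¹ * x⁻¹ ∈ W D := by
  have h1 := St_R D hy hx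
  apply mem_W_of_R D (mul_mem h1 (inv_mem hx))
  rw [D.a_mul _ _ h1.1 _ (inv_mem hx.1), a_inv D _ hx.1, hj x hx.1, one_mul]
  exact Field.add_self _

theorem lam_mul {x x' : G} (hx : x ∈ R D j) (hx' : x' ∈ R D j) :
    y * (x * x') * y⁻¹ * (x * x')⁻¹ = (y * x * y⁻¹ * x⁻¹) * (y * x' * y⁻¹ * x'⁻¹) := by
  have h1 := W_cen D hx.1 (lam_mem hy hyy hj hx')
  calc y * (x * x') * y⁻¹ * (x * x')⁻¹
      = (y * x * y⁻¹) * (y * x' * y⁻¹ * x'⁻¹) * x⁻¹ := by group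
    _ = (y * x * y⁻¹) * x⁻¹ * (x * (y * x' * y⁻¹ * x'⁻¹)) * x⁻¹ := by group
    _ = _ := by rw [h1]; group

theorem lam_eq [Finite G] {x x' : G} (hx : x ∈ R D j) (hx' : x' ∈ R D j)
    (h : D.a j x = D.a j x') : y * x * y⁻¹ * x⁻¹ = y * x' * y⁻¹ * x'⁻¹ := by
  have h1 := mem_W_of_R_eq D hx hx' h
  obtain ⟨v, hv, rfl⟩ : ∃ v ∈ W D, x = x' * v := ⟨_, h1, by group⟩
  rw [lam_mul hy hyy hj hx' (W_le_R D j hv), y_W hy hyy hj hv]
  group

/-- **Step A**: `y` acts on `R j` as an element of `R j`. -/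
theorem stepA [Finite G] (hi : Act D (!j) y c (barE D.hq)) :
    ∃ u ∈ R D j, ∀ x ∈ R D j, y * x * y⁻¹ = u * x * u⁻¹ := by
  obtain ⟨l, hl, hl3, -⟩ := exists_norm_one D.hq
  have hw : w n l = (l : K) ^ 3 := by
    have hb : bar n (l : K) ≠ 0 := fun h => l.ne_zero (bar_eq_zero h)
    unfold w
    have hl' := hl
    rw [N_def] at hl'
    have h1 : (bar n (l : K))⁻¹ = l := (eq_inv_of_mul_eq_one_left hl').symm
    rw [h1]; ring
  set ω : K := w n l with hω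
  have hω0 : ω ≠ 0 := by rw [hw]; exact pow_ne_zero 3 l.ne_zero
  have hω1 : ω⁻¹ + 1 ≠ 0 := by
    intro h
    have h1 : ω⁻¹ = 1 := Field.add_eq_zero.mp h
    have h2 : ω = 1 := by rw [← inv_inv ω, h1, inv_one]
    rw [hw] at h2
    exact hl3 h2
  have hNω : N n ω = 1 := by
    have h3 : ∀ k : ℕ, N n ((l : K) ^ k) = 1 := by
      intro k
      induction k with
      | zero => rw [pow_zero, N_one]
      | succ k ih => rw [pow_succ, N_mul, ih, hl, one_mul]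
    rw [hw, h3]
  set h := D.h l with hh
  have hhS : h ∈ St D := h_mem_St D l
  have hhN := hhS.1
  have hhW : ∀ v ∈ W D, h * v * h⁻¹ = v := by
    intro v hv
    obtain ⟨b, b', hb, hb', rfl⟩ := exists_zW D hv
    calc h * (D.z false b * D.z true b') * h⁻¹
        = (h * D.z false b * h⁻¹) * (h * D.z true b' * h⁻¹) := by group
      _ = _ := by rw [hh, h_z D l _ hb, h_z D l _ hb', ← hω, hNω, one_mul, one_mul]
  -- the commutator
  set g := y * h * y⁻¹ * h⁻¹ with hg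
  have hgS : g ∈ St D := mul_mem (mul_mem (mul_mem hy hhS) (inv_mem hy)) (inv_mem hhS)
  have hcne : c ≠ 0 := hi.ne_zero D hy
  obtain ⟨c1, hc1⟩ := Act.cmt D hi (act_h D l (!j)) hcne hω0 hy.1 hhN
  obtain ⟨c2, hc2⟩ := Act.cmt D hj (act_h D l j) one_ne_zero hω0 hy.1 hhN
  have hc1' := hc1.ne_zero D hgS
  have hc2' := hc2.ne_zero D hgS
  obtain ⟨k0, hk0⟩ := odd_card D
  have hp1 := act_pow D hgS.1 hc1 (Fintype.card K - 1)
  have hp2 := act_pow D hgS.1 hc2 (Fintype.card K - 1)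
  rw [FiniteField.pow_card_sub_one_eq_one c1 hc1'] at hp1
  rw [FiniteField.pow_card_sub_one_eq_one c2 hc2'] at hp2
  have hgp : g ^ (Fintype.card K - 1) ∈ NN D := pow_mem hgS.1 _
  obtain ⟨u, hu, k, hk, huk⟩ := D.ker _ hgp.1 (by
    intro i x hx
    rcases Bool.eq_or_eq_not i j with rfl | rfl
    · have := hp2 x hx
      rw [one_mul] at this
      exact this
    · have := hp1 x hx
      rw [one_mul] at this
      exact this)
  have hyi := inv_y hy hyy hj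
  -- the action of `g` on `R j`
  have hgW : ∀ v ∈ W D, g * v * g⁻¹ = v := by
    intro v hv
    have e1 : h⁻¹ * v * h = v := by
      have := hhW v hv
      calc h⁻¹ * v * h = h⁻¹ * (h * v * h⁻¹) * h := by rw [this]
        _ = v := by group
    have e2 : y⁻¹ * v * y = v := by
      rw [mul_assoc, ← y_W hy hyy hj hv]; group
    calc g * v * g⁻¹ = y * (h * (y⁻¹ * (h⁻¹ * v * h) * y) * h⁻¹) * y⁻¹ := by rw [hg]; group
      _ = v := by rw [e1, e2, hhW v hv, y_W hy hyy hj hv]; group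
  have hgR : ∀ x ∈ R D j, g * x * g⁻¹ =
      (y * (h⁻¹ * x * h * x) * y⁻¹ * (h⁻¹ * x * h * x)⁻¹) * x := by
    intro x hx
    have hx' : h⁻¹ * x * h ∈ R D j := St_R' D hhS hx
    rw [lam_mul hy hyy hj hx' hx]
    have hm' := lam_mem hy hyy hj hx'
    have hm := lam_mem hy hyy hj hx
    have e1 : y⁻¹ * (h⁻¹ * x * h) * y =
        (y * (h⁻¹ * x * h) * y⁻¹ * (h⁻¹ * x * h)⁻¹) * (h⁻¹ * x * h) := by
      rw [hyi]; group
    have e2 : h * ((y * (h⁻¹ * x * h) * y⁻¹ * (h⁻¹ * x * h)⁻¹) * (h⁻¹ * x * h)) * h⁻¹ =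
        (y * (h⁻¹ * x * h) * y⁻¹ * (h⁻¹ * x * h)⁻¹) * x := by
      calc _ = (h * (y * (h⁻¹ * x * h) * y⁻¹ * (h⁻¹ * x * h)⁻¹) * h⁻¹) * x := by group
        _ = _ := by rw [hhW _ hm']
    calc g * x * g⁻¹ = y * (h * (y⁻¹ * (h⁻¹ * x * h) * y) * h⁻¹) * y⁻¹ := by rw [hg]; group
      _ = y * (y * (h⁻¹ * x * h) * y⁻¹ * (h⁻¹ * x * h)⁻¹) * x * y⁻¹ := by
          rw [e1, e2]; group
      _ = _ := by rw [y_W hy hyy hj hm']; group
  have hgRp : ∀ x ∈ R D j, ∀ m : ℕ, g ^ m * x * (g ^ m)⁻¹ =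
      (y * (h⁻¹ * x * h * x) * y⁻¹ * (h⁻¹ * x * h * x)⁻¹) ^ m * x := by
    intro x hx m
    have hx' : h⁻¹ * x * h ∈ R D j := St_R' D hhS hx
    have hm := lam_mem hy hyy hj (mul_mem hx' hx)
    induction m with
    | zero => simp
    | succ m ih =>
      have h1 := hgW _ (pow_mem hm m)
      calc g ^ (m + 1) * x * (g ^ (m + 1))⁻¹ = g * (g ^ m * x * (g ^ m)⁻¹) * g⁻¹ := by
            rw [pow_succ']; group
        _ = (g * (y * (h⁻¹ * x * h * x) * y⁻¹ * (h⁻¹ * x * h * x)⁻¹) ^ m * g⁻¹) *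
            (g * x * g⁻¹) := by rw [ih]; group
        _ = _ := by rw [h1, hgR x hx, pow_succ]; group
  -- comparison with `u`
  have hcomp : ∀ x ∈ R D j, y * (h⁻¹ * x * h * x) * y⁻¹ * (h⁻¹ * x * h * x)⁻¹ =
      D.z j (Tr n (D.a j x * bar n (D.a j u))) := by
    intro x hx
    have hx' : h⁻¹ * x * h ∈ R D j := St_R' D hhS hx
    have hm := lam_mem hy hyy hj (mul_mem hx' hx)
    have h1 := hgRp x hx (Fintype.card K - 1)
    rw [huk, hk0, pow_succ, pow_mul, pow_two, W_sq D hm, one_pow, one_mul] at h1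
    have h2 : u * k * x * (u * k)⁻¹ = u * x * u⁻¹ := by
      calc u * k * x * (u * k)⁻¹ = u * (k * x) * k⁻¹ * u⁻¹ := by group
        _ = _ := by rw [D.O_U k hk x hx.1]; group
    rw [h2] at h1
    have h3 := R_cmt D hx hu
    have h4 : y * (h⁻¹ * x * h * x) * y⁻¹ * (h⁻¹ * x * h * x)⁻¹ = (x * u * x⁻¹ * u⁻¹)⁻¹ := by
      rw [eq_mul_inv_of_mul_eq h1.symm]; group
    rw [h4, h3, z_inv]
  obtain ⟨u1, hu1, hau1⟩ := exists_R D j (bar n (ω⁻¹ + 1)⁻¹ * D.a j u)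
  refine ⟨u1, hu1, fun x1 hx1 => ?_⟩
  obtain ⟨x, hx, hax⟩ := exists_R D j ((ω⁻¹ + 1)⁻¹ * D.a j x1)
  have hx' : h⁻¹ * x * h ∈ R D j := St_R' D hhS hx
  have ha' : D.a j (h⁻¹ * x * h) = ω⁻¹ * D.a j x := by
    have h1 := D.h_a l j _ hx'.1
    rw [← hh, ← hω, show h * (h⁻¹ * x * h) * h⁻¹ = x by group] at h1
    rw [h1, ← mul_assoc, inv_mul_cancel₀ hω0, one_mul]
  have h1 : D.a j x1 = D.a j (h⁻¹ * x * h * x) := by
    rw [D.a_mul _ _ hx'.1 _ hx.1, ha', hax]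
    have : ω⁻¹ * ((ω⁻¹ + 1)⁻¹ * D.a j x1) + (ω⁻¹ + 1)⁻¹ * D.a j x1 =
      (ω⁻¹ + 1) * (ω⁻¹ + 1)⁻¹ * D.a j x1 := by ring
    rw [this, mul_inv_cancel₀ hω1, one_mul]
  have h2 := lam_eq hy hyy hj hx1 (mul_mem hx' hx) h1
  rw [hcomp x hx] at h2
  have h3 := R_cmt D hx1 hu1.1
  have h4 : D.a j x * bar n (D.a j u) = D.a j x1 * bar n (D.a j u1) := by
    rw [hax, hau1, bar_mul, bar_bar D.hq]; ring
  rw [h4, ← h3] at h2
  have h5 : y * x1 * y⁻¹ = (x1 * u1 * x1⁻¹ * u1⁻¹) * x1 := by rw [← h2]; group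
  have h6 : x1 * u1 * x1⁻¹ * u1⁻¹ = u1 * x1 * u1⁻¹ * x1⁻¹ := by
    have e1 : u1 * x1 * u1⁻¹ * x1⁻¹ = (x1 * u1 * x1⁻¹ * u1⁻¹)⁻¹ := by group
    rw [e1, h3, z_inv]
  rw [h5, h6]; group

/-- **Step B** -/
theorem stepB [Finite G] (hi : Act D (!j) y c (barE D.hq)) :
    ∀ x ∈ R D j, y * x = x * y := by
  obtain ⟨u1, hu1, hyu⟩ := stepA hy hyy hj hi
  have hyi := inv_y hy hyy hj
  have hcne : c ≠ 0 := hi.ne_zero D hy
  set y0 := u1⁻¹ * y with hy0
  have hy0S : y0 ∈ St D := mul_mem (inv_mem (U_le_St D hu1.1)) hy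
  have hy0R : ∀ x ∈ R D j, y0 * x * y0⁻¹ = x := by
    intro x hx
    calc y0 * x * y0⁻¹ = u1⁻¹ * (y * x * y⁻¹) * u1 := by rw [hy0]; group
      _ = x := by rw [hyu x hx]; group
  set ν := N n (D.a j u1) with hν
  have hνf : bar n ν = ν := fixed_N D.hq _
  have hy0sq : y0 * y0 = D.z j ν := by
    have h1 := hyu _ (inv_mem hu1)
    calc y0 * y0 = u1⁻¹ * (y * u1⁻¹ * y⁻¹) * (y * y) := by rw [hy0]; group
      _ = (u1 * u1)⁻¹ := by rw [h1, hyy]; group
      _ = D.z j ν := by rw [R_sq D hu1, z_inv]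
  obtain ⟨l, hl, hl1⟩ := exists_fixed_ne D.hq
  have hw : w n l = (l : K) := by
    unfold w
    rw [hl, sq, mul_assoc, mul_inv_cancel₀ l.ne_zero, mul_one]
  set h := D.h l with hh
  have hhS : h ∈ St D := h_mem_St D l
  have hha : ∀ i, ∀ x ∈ D.U, D.a i (h * x * h⁻¹) = l * D.a i x := by
    intro i x hx
    rw [hh, D.h_a l i x hx, hw]
  have hha' : ∀ i, ∀ x ∈ D.U, D.a i (h⁻¹ * x * h) = (l : K)⁻¹ * D.a i x := by
    intro i x hx
    have h1 := hha i _ (NN_conj' D hhS.1 hx)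
    rw [show h * (h⁻¹ * x * h) * h⁻¹ = x by group] at h1
    rw [h1, ← mul_assoc, inv_mul_cancel₀ l.ne_zero, one_mul]
  set v := y0⁻¹ * h * y0 * h⁻¹ with hv
  have hvS : v ∈ St D := mul_mem (mul_mem (mul_mem (inv_mem hy0S) hhS) hy0S) (inv_mem hhS)
  have hy0j : ∀ x ∈ D.U, D.a j (y0 * x * y0⁻¹) = D.a j x := by
    intro x hx
    have h1 : y0 * x * y0⁻¹ = u1⁻¹ * (y * x * y⁻¹) * u1⁻¹⁻¹ := by rw [hy0]; group
    rw [h1, a_conj_U D j (inv_mem hu1.1) (NN_conj D hy.1 hx), hj x hx, one_mul]; rfl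
  have hy0i : ∀ x ∈ D.U, D.a (!j) (y0 * x * y0⁻¹) = c * bar n (D.a (!j) x) := by
    intro x hx
    have h1 : y0 * x * y0⁻¹ = u1⁻¹ * (y * x * y⁻¹) * u1⁻¹⁻¹ := by rw [hy0]; group
    rw [h1, a_conj_U D (!j) (inv_mem hu1.1) (NN_conj D hy.1 hx), hi x hx]; rfl
  have hvx : ∀ x, y0 * (v * x * v⁻¹) * y0⁻¹ = h * (y0 * (h⁻¹ * x * h) * y0⁻¹) * h⁻¹ := by
    intro x
    rw [hv]; group
  have hvk : ∀ i, ∀ x ∈ D.U, D.a i (v * x * v⁻¹) = D.a i x := by
    intro i x hx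
    have hx1 := NN_conj D hvS.1 hx
    have hx2 := NN_conj' D hhS.1 hx
    have hx3 := NN_conj D hy0S.1 hx2
    rcases Bool.eq_or_eq_not i j with rfl | rfl
    · rw [← hy0j _ hx1, hvx, hha _ _ hx3, hy0j _ hx2, hha' _ _ hx, ← mul_assoc,
        mul_inv_cancel₀ l.ne_zero, one_mul]
    · have h1 := hy0i _ hx1
      rw [hvx, hha _ _ hx3, hy0i _ hx2, hha' _ _ hx, bar_mul, bar_inv, hl] at h1
      have h2 : (l : K) * (c * ((l : K)⁻¹ * bar n (D.a (!j) x))) = c * bar n (D.a (!j) x) := by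
        have : (l : K) * (c * ((l : K)⁻¹ * bar n (D.a (!j) x))) =
          ((l : K) * (l : K)⁻¹) * (c * bar n (D.a (!j) x)) := by ring
        rw [this, mul_inv_cancel₀ l.ne_zero, one_mul]
      rw [h2] at h1
      exact (bar_inj D.hq (mul_left_cancel₀ hcne h1)).symm
  obtain ⟨u, hu, k, hk, huk⟩ := D.ker v hvS.1.1 hvk
  have hkU := D.O_U k hk
  have huR : u ∈ R D (!j) := by
    apply mem_R_of_comm D hu
    intro x hx
    have h1 : v * x * v⁻¹ = x := by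
      have h2 := hvx x
      rw [hy0R _ (St_R' D hhS hx), show h * (h⁻¹ * x * h) * h⁻¹ = x by group] at h2
      calc v * x * v⁻¹ = y0⁻¹ * (y0 * (v * x * v⁻¹) * y0⁻¹) * y0 := by group
        _ = y0⁻¹ * (y0 * x * y0⁻¹) * y0 := by rw [h2, hy0R x hx]
        _ = x := by group
    have h3 : u * x * u⁻¹ = x := by
      rw [huk] at h1
      calc u * x * u⁻¹ = u * (x * k) * k⁻¹ * u⁻¹ := by group
        _ = u * k * x * (u * k)⁻¹ := by rw [← hkU x hx.1]; group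
        _ = x := h1
    exact mul_inv_eq_iff_eq_mul.mp h3
  -- squares
  have hsq1 : h * (y0 * y0) * h⁻¹ = D.z j (N n (l : K) * ν) := by
    rw [hy0sq, hh, h_z D l j hνf, hw]
  have hk' : y0⁻¹ * k * y0 ∈ D.O := by
    have := D.O_conj y0⁻¹ (by
      intro x hx
      rw [inv_inv]
      exact NN_conj' D hy0S.1 hx) k hk
    rwa [inv_inv] at this
  have hsq2 : h * (y0 * y0) * h⁻¹ = (y0 * y0) * ((y0⁻¹ * u * y0) * u) * (y0⁻¹ * k * y0 * k) := by
    have e1 : h * (y0 * y0) * h⁻¹ = (y0 * v) * (y0 * v) := by rw [hv]; group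
    have e2 := D.O_U _ hk' u hu
    rw [e1, huk]
    calc y0 * (u * k) * (y0 * (u * k)) = y0 * u * y0 * ((y0⁻¹ * k * y0) * u) * k := by group
      _ = _ := by rw [e2]; group
  have e3 : y0⁻¹ * u * y0 = y * u * y⁻¹ := by
    have h1 := RR_comm D hu1 huR
    calc y0⁻¹ * u * y0 = y⁻¹ * (u1 * u) * u1⁻¹ * y := by rw [hy0]; group
      _ = y⁻¹ * u * y := by rw [h1]; group
      _ = y * u * y⁻¹ := by rw [hyi]
  rw [e3, hsq1, hy0sq] at hsq2
  have hm : y * u * y⁻¹ * u ∈ D.U := mul_mem (NN_conj D hy.1 hu) hu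
  have hk3 : y0⁻¹ * k * y0 * k = 1 := by
    apply (two_U D).O_eq _ (mul_mem hk' hk)
    have h1 : y0⁻¹ * k * y0 * k = (D.z j ν * (y * u * y⁻¹ * u))⁻¹ *
        D.z j (N n (l : K) * ν) := by
      rw [hsq2]; group
    rw [h1]
    exact mul_mem (inv_mem (mul_mem (D.z_mem _ _) hm)) (D.z_mem _ _)
  rw [hk3, mul_one] at hsq2
  have e4 : y * u * y⁻¹ * u = D.z j ν * D.z j (N n (l : K) * ν) := by
    rw [hsq2, ← mul_assoc, z_sq, one_mul]
  have hrel : c * bar n (D.a (!j) u) = D.a (!j) u := by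
    have h1 := congrArg (D.a (!j)) e4
    rw [D.a_mul _ _ (NN_conj D hy.1 hu) _ hu, hi u hu, D.a_mul _ _ (D.z_mem _ _) _ (D.z_mem _ _),
      D.a_z, D.a_z, add_zero, barE_apply] at h1
    exact Field.add_eq_zero.mp h1
  have h1 := conj_mul_self hy hi (by intro x _; rw [hyy, one_mul, mul_one])
    (fun w hw => y_W hy hyy hj hw) huR hrel
  rw [h1] at e4
  have h2 : D.z j (N n (l : K) * ν) = D.z j ν := by
    have h3 : D.z j ν * 1 = D.z j ν * (D.z j ν * D.z j (N n (l : K) * ν)) := by rw [← e4]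
    rw [← mul_assoc, z_sq, one_mul, mul_one] at h3
    exact h3.symm
  have h3 := z_inj' D j (fixed_mul (fixed_N D.hq _) hνf) hνf h2
  rw [N_of_fixed hl] at h3
  have h4 : ((l : K) + 1) ^ 2 * ν = 0 := by
    have : ((l : K) + 1) ^ 2 * ν = ((l : K) ^ 2 * ν + ν) + ((l : K) + l) * ν := by ring
    rw [this, Field.add_self, zero_mul, add_zero, h3, Field.add_self]
  have h5 : ν = 0 := by
    rcases mul_eq_zero.mp h4 with h6 | h6
    · exact absurd (Field.add_eq_zero.mp ((pow_eq_zero_iff two_ne_zero).mp h6)) hl1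
    · exact h6
  have h6 : D.a j u1 = 0 := N_eq_zero h5
  have h7 := mem_W_of_R D hu1 h6
  intro x hx
  have h8 := hyu x hx
  have h9 := W_cen D hx.1 h7
  have h10 : u1 * x * u1⁻¹ = x := by rw [← h9]; group
  rw [h10] at h8
  exact mul_inv_eq_iff_eq_mul.mp h8

end stepA

/-- **(K2), steps A and B**: a straight involution of type `(σ, 1)` centralizes the other
factor. -/
theorem centralizes [Finite G] {i : Bool} (hy : y ∈ St D) (hyy : y * y = 1)
    (hi : Act D i y c (barE D.hq)) (hj : Act D (!i) y 1 1) : ∀ x ∈ R D (!i), y * x = x * y :=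
  stepB hy hyy hj (c := c) (by rw [Bool.not_not]; exact hi)

end Cfsg.Agent.StdU3.GZeroK2
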