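import Cfsg.Agent.StdU3.GZeroWeak

/-!
# Type `g0`: (K3)

No involution of `N_G(U)` swapping the two factors is fused into `W`.
-/

set_option autoImplicit false
set_option linter.unusedSectionVars false

namespace Cfsg.Agent.StdU3.GZeroK3

open Cfsg.Agent.StdU3.Field Cfsg.Agent.StdU3.PreDef Cfsg.Agent.StdU3.FieldAut
open Cfsg.Agent.StdU3.GZeroDef Cfsg.Agent.StdU3.GZeroBase Cfsg.Agent.StdU3.GZeroWeak

variable {G : Type*} [Group G] [Finite G] {K : Type*} [Field K] [Fintype K] [CharP K 2] {n : ℕ}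
variable {D : GZero G K n}

/-- `x · x^y` -/
def nn (y x : G) : G := x * (y * x * y⁻¹)

section nn
variable {y : G} (hy : Sw D y)

include hy

theorem nn_mul {x x' : G} (hx : x ∈ R D false) (hx' : x' ∈ R D false) :
    nn y (x * x') = nn y x * nn y x' := by
  have h1 := RR_comm D hx' (hy.2 false x hx)
  unfold nn
  calc x * x' * (y * (x * x') * y⁻¹) = x * (x' * (y * x * y⁻¹)) * (y * x' * y⁻¹) := by group
    _ = _ := by rw [h1]; group

theorem nn_comm (hyy : y * y = 1) {x : G} (hx : x ∈ R D false) : nn y x * y = y * nn y x := by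
  have h1 := RR_comm D hx (hy.2 false x hx)
  have h2 : y * nn y x * y⁻¹ = nn y x := by
    unfold nn
    calc y * (x * (y * x * y⁻¹)) * y⁻¹ = (y * x * y⁻¹) * ((y * y) * x * (y * y)⁻¹) := by group
      _ = (y * x * y⁻¹) * x := by rw [hyy]; group
      _ = _ := h1.symm
  calc nn y x * y = y * nn y x * y⁻¹ * y := by rw [h2]
    _ = _ := by group

theorem nn_mem {x : G} (hx : x ∈ R D false) : nn y x ∈ D.U :=
  mul_mem hx.1 (NN_conj D hy.1 hx.1)

theorem nn_cmt {x x' : G} (hx : x ∈ R D false) (hx' : x' ∈ R D false) :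
    nn y x * nn y x' * (nn y x)⁻¹ * (nn y x')⁻¹ = nn y (x * x' * x⁻¹ * x'⁻¹) := by
  have h1 := nn_mul hy (mul_mem (mul_mem hx hx') (inv_mem hx)) (inv_mem hx')
  have h2 := nn_mul hy (mul_mem hx hx') (inv_mem hx)
  have h3 := nn_mul hy hx hx'
  have hinv : ∀ x ∈ R D false, nn y x⁻¹ = (nn y x)⁻¹ := by
    intro x hx
    have h4 := nn_mul hy hx (inv_mem hx)
    rw [mul_inv_cancel] at h4
    have h5 : nn y 1 = 1 := by unfold nn; group
    rw [h5] at h4
    exact (inv_eq_of_mul_eq_one_right h4.symm).symm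
  rw [h1, h2, h3, hinv x hx, hinv x' hx']

end nn

/-- **(K3)** -/
theorem not_fused {y : G} (hy : y ∈ NN D) (hySt : y ∉ St D) (hyy : y * y = 1) {g : G}
    (hg : g * y * g⁻¹ ∈ W D) : False := by
  obtain ⟨S, hS, -, -⟩ := exists_sylow D
  have hSw := Sw_of_not D hy hySt
  obtain ⟨c, φ, hc, hact⟩ := Sw_act D hSw
  -- the subgroup `C_U(y)`
  let B : Subgroup G := D.U ⊓ Subgroup.centralizer {y}
  have hB : ∀ x, x ∈ B ↔ x ∈ D.U ∧ x * y = y * x := by
    intro x
    rw [Subgroup.mem_inf, Subgroup.mem_centralizer_iff]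
    constructor
    · rintro ⟨h1, h2⟩; exact ⟨h1, (h2 y rfl).symm⟩
    · rintro ⟨h1, h2⟩; exact ⟨h1, by rintro _ rfl; exact h2.symm⟩
  obtain ⟨g', hg', hgB⟩ := extremal D S hS.U_le hg B (D.U_two.to_le inf_le_left)
    (fun b hb => ((hB b).mp hb).2)
  -- the map `α`
  set α : K → K := fun b => N n (c true) * φ true b with hα
  have hαf : ∀ b, bar n b = b → bar n (α b) = α b := fun b hb => fixed_Nφ D _ _ hb
  have hαinj : ∀ b b', α b = α b' → b = b' := fun b b' h =>
    (φ true).injective (mul_left_cancel₀ (N_ne_zero (hc true)) h)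
  have hyz : ∀ b, bar n b = b → y * D.z false b * y⁻¹ = D.z true (α b) :=
    fun b hb => Sw_z D hSw hact false hb
  have hnz : ∀ b, bar n b = b → nn y (D.z false b) = D.z false b * D.z true (α b) := by
    intro b hb
    unfold nn
    rw [hyz b hb]
  -- `g'` moves `C_W(y)` into `W`
  have hgv : ∀ b, bar n b = b → g' * (D.z false b * D.z true (α b)) * g'⁻¹ ∈ W D := by
    intro b hb
    have hmem : ∀ x ∈ R D false, g' * nn y x * g'⁻¹ ∈ (S : Subgroup G) := fun x hx =>
      hgB _ ((hB _).mpr ⟨nn_mem hSw hx, nn_comm hSw hyy hx⟩)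
    obtain ⟨x, hx, hPx, x', hx', hPx', h⟩ := exists_cmt false (fun x => g' * nn y x * g'⁻¹ ∈ St D)
      (fun x hx x' hx' hPx hPx' => by
        have := St_of_mul D (hS.le (hmem x hx)) (hS.le (hmem x' hx')) hPx hPx'
        rw [nn_mul hSw hx hx']
        rwa [show g' * nn y x * g'⁻¹ * (g' * nn y x' * g'⁻¹) = g' * (nn y x * nn y x') * g'⁻¹ by
          group] at this) hb
    have h2 := hS.cmt_mem (hmem x hx) (hmem x' hx') hPx hPx'
    rw [show g' * nn y x * g'⁻¹ * (g' * nn y x' * g'⁻¹) * (g' * nn y x * g'⁻¹)⁻¹ *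
      (g' * nn y x' * g'⁻¹)⁻¹ = g' * (nn y x * nn y x' * (nn y x)⁻¹ * (nn y x')⁻¹) * g'⁻¹ by group,
      nn_cmt hSw hx hx', h, hnz b hb] at h2
    apply mem_W_of_sq D h2
    have h3 : (D.z false b * D.z true (α b)) * (D.z false b * D.z true (α b)) = 1 :=
      W_sq D (mul_mem (z_mem_W D _ _) (z_mem_W D _ _))
    calc g' * (D.z false b * D.z true (α b)) * g'⁻¹ * (g' * (D.z false b * D.z true (α b)) * g'⁻¹)
        = g' * ((D.z false b * D.z true (α b)) * (D.z false b * D.z true (α b))) * g'⁻¹ := by group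
      _ = 1 := by rw [h3]; group
  -- correct by the normalizer
  obtain ⟨m, hm, hmB⟩ := control D {x | ∃ b, bar n b = b ∧ x = D.z false b * D.z true (α b)}
    (g := g') (by
      rintro x ⟨b, -, rfl⟩
      exact mul_mem (z_mem_W D _ _) (z_mem_W D _ _)) (by
      rintro x ⟨b, hb, rfl⟩
      exact hgv b hb)
  set g1 := m⁻¹ * g' with hg1
  have hg1v : ∀ b, bar n b = b → g1 * (D.z false b * D.z true (α b)) * g1⁻¹ =
      D.z false b * D.z true (α b) := by
    intro b hb
    have h1 := hmB _ ⟨b, hb, rfl⟩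
    calc g1 * (D.z false b * D.z true (α b)) * g1⁻¹
        = m⁻¹ * (g' * (D.z false b * D.z true (α b)) * g'⁻¹) * m := by rw [hg1]; group
      _ = D.z false b * D.z true (α b) := by rw [← h1]; group
  set w1 := g1 * y * g1⁻¹ with hw1
  have hw1W : w1 ∈ W D := by
    have h1 := W_conj' D hm hg'
    rwa [show m⁻¹ * (g' * y * g'⁻¹) * m = w1 by rw [hw1, hg1]; group] at h1
  -- the conjugates of `w1`
  have hcj : ∀ b, bar n b = b → (g1 * D.z false b * g1⁻¹) * w1 * (g1 * D.z false b * g1⁻¹)⁻¹ =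
      (D.z false b * D.z true (α b)) * w1 := by
    intro b hb
    have h1 : D.z false b * y * (D.z false b)⁻¹ = (D.z false b * D.z true (α b)) * y := by
      have h2 : (D.z false b)⁻¹ = D.z false b := z_inv D _ _
      have h3 : y * D.z false b = D.z true (α b) * y := by rw [← hyz b hb]; group
      rw [h2, mul_assoc, h3]; group
    calc (g1 * D.z false b * g1⁻¹) * w1 * (g1 * D.z false b * g1⁻¹)⁻¹
        = g1 * (D.z false b * y * (D.z false b)⁻¹) * g1⁻¹ := by rw [hw1]; group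
      _ = (g1 * (D.z false b * D.z true (α b)) * g1⁻¹) * w1 := by rw [h1, hw1]; group
      _ = _ := by rw [hg1v b hb]
  obtain ⟨b1, c1, hb1, hc1, hw⟩ := exists_zW D hw1W
  -- the first conjugate
  have hv : ∀ b, (D.z false b * D.z true (α b)) * w1 =
      D.z false (b + b1) * D.z true (α b + c1) := by
    intro b
    rw [hw, D.z_add, D.z_add]
    have h1 := z_comm D true false (α b) b1
    calc D.z false b * D.z true (α b) * (D.z false b1 * D.z true c1)
        = D.z false b * (D.z true (α b) * D.z false b1) * D.z true c1 := by group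
      _ = _ := by rw [h1]; group
  -- the second one
  obtain ⟨b2, hb2, hne1, hne2⟩ : ∃ b2, bar n b2 = b2 ∧ b2 + b1 ≠ 0 ∧ α b2 + c1 ≠ 0 := by
    obtain ⟨l, hl, hl1⟩ := exists_fixed_ne D.hq
    by_cases h : α (b1 + 1) + c1 = 0
    · refine ⟨b1 + l, fixed_add hb1 hl, ?_, ?_⟩
      · rw [add_comm b1, add_assoc, Field.add_self, add_zero]
        exact l.ne_zero
      · intro h'
        have h2 : α (b1 + l) = α (b1 + 1) := by
          rw [Field.add_eq_zero.mp h, Field.add_eq_zero.mp h']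
        exact hl1 (add_left_cancel (hαinj _ _ h2))
    · refine ⟨b1 + 1, fixed_add hb1 (bar_one n), ?_, h⟩
      rw [add_comm b1, add_assoc, Field.add_self, add_zero]
      exact one_ne_zero
  have e1 := hcj b1 hb1
  have e2 := hcj b2 hb2
  rw [hv, Field.add_self, z_zero, one_mul] at e1
  rw [hv] at e2
  set k1 := g1 * D.z false b1 * g1⁻¹ with hk1
  set k2 := g1 * D.z false b2 * g1⁻¹ with hk2
  have e3 : (k2 * k1⁻¹) * D.z true (α b1 + c1) * (k2 * k1⁻¹)⁻¹ =
      D.z false (b2 + b1) * D.z true (α b2 + c1) := by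
    rw [← e1, ← e2]; group
  obtain ⟨m', hm', hmm⟩ := control D {D.z true (α b1 + c1)} (g := k2 * k1⁻¹) (by
      rintro x rfl
      exact z_mem_W D _ _) (by
      rintro x rfl
      rw [e3]
      exact mul_mem (z_mem_W D _ _) (z_mem_W D _ _))
  have e4 := hmm _ rfl
  rw [e3] at e4
  have hf1 := fixed_add (hαf b1 hb1) hc1
  have hf2 := fixed_add (hαf b2 hb2) hc1
  have hf3 := fixed_add hb2 hb1
  rcases act_cases D hm' with ⟨h, c', φ', hc', h'⟩ | ⟨h, c', φ', hc', h'⟩
  · have h5 := St_z D h h' true hf1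
    rw [e4] at h5
    have h6 := zz_inj D false hf3 hf2 (bar_zero n) (fixed_Nφ D (c' true) (φ' true) hf1) (by
      rw [z_zero, one_mul]; exact h5)
    exact hne1 h6.1
  · have h5 := Sw_z D h h' true hf1
    rw [e4] at h5
    have h6 := zz_inj D false hf3 hf2 (fixed_Nφ D (c' false) (φ' false) hf1) (bar_zero n) (by
      rw [z_zero, mul_one]; exact h5)
    exact hne2 h6.2

end Cfsg.Agent.StdU3.GZeroK3
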