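import Cfsg.Agent.StdU3.GZeroFus
import Cfsg.Agent.StdU3.GZeroK2
import Cfsg.Agent.StdU3.GZeroK3
import Cfsg.Agent.StdU3.TransferTE
import Cfsg.Agent.Lib.SylowNormalInf
import Cfsg.Prelude.Def_TwoFusion

/-!
# Type `g0`: the output

`W` is strongly closed in a Sylow 2-subgroup of `E`, and `t ∉ E`.
-/

set_option autoImplicit false
set_option linter.unusedSectionVars false

namespace Cfsg.Agent.StdU3.GZeroOut

open Cfsg.Agent.StdU3.Field Cfsg.Agent.StdU3.PreDef Cfsg.Agent.StdU3.FieldAut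
open Cfsg.Agent.StdU3.GZeroDef Cfsg.Agent.StdU3.GZeroBase Cfsg.Agent.StdU3.GZeroWeak
open Cfsg.Agent.StdU3.GZeroK1 Cfsg.Agent.StdU3.GZeroFus

variable {G : Type*} [Group G] [Finite G] {K : Type*} [Field K] [Fintype K] [CharP K 2] {n : ℕ}
variable (D : GZero G K n)

/-- **`W` is strongly closed.** -/
theorem closed {S : Sylow 2 G} (hS : Two D S) (ht : D.t ∈ S) (hs : D.s ∈ S) {w g : G}
    (hw : w ∈ W D) (hg : g * w * g⁻¹ ∈ S) : g * w * g⁻¹ ∈ W D :=
  strongly_closed hS ht hs
    (fun _ hy hySt hyy _ hg => GZeroK3.not_fused (hS.le hy) hySt hyy hg)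
    (fun _ _ _ _ hySt hyy hi hj => GZeroK2.centralizes hySt hyy hi hj) hw hg

open Classical in
/-- the sign of an element of `S` -/
noncomputable def sign {S : Sylow 2 G} (hS : Two D S) : S →* ℤˣ :=
  MonoidHom.mk' (fun x => if (x : G) ∈ St D then 1 else -1) (by
    intro x y
    by_cases hx : (x : G) ∈ St D <;> by_cases hy : (y : G) ∈ St D
    · simp only [Subgroup.coe_mul, if_pos hx, if_pos hy, if_pos (mul_mem hx hy), mul_one]
    · have : ¬ ((x : G) * y ∈ St D) := fun h => hy ((Subgroup.mul_mem_cancel_left _ hx).mp h)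
      simp only [Subgroup.coe_mul, if_pos hx, if_neg hy, if_neg this, one_mul]
    · have : ¬ ((x : G) * y ∈ St D) := fun h => hx ((Subgroup.mul_mem_cancel_right _ hy).mp h)
      simp only [Subgroup.coe_mul, if_neg hx, if_pos hy, if_neg this, mul_one]
    · have : (x : G) * y ∈ St D := St_of_mul D (hS.le x.2) (hS.le y.2) hx hy
      simp only [Subgroup.coe_mul, if_neg hx, if_neg hy, if_pos this]
      norm_num)

theorem sign_t {S : Sylow 2 G} (hS : Two D S) {g : G} (hg : g⁻¹ * D.t * g ∈ (S : Subgroup G)) :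
    sign D hS ⟨g⁻¹ * D.t * g, hg⟩ = -1 := by
  classical
  have h1 := Sw_of_conj D (g := g⁻¹) (by rw [inv_inv]; exact hS.le hg)
  rw [inv_inv] at h1
  have h2 := not_St_of_Sw D h1
  change (if g⁻¹ * D.t * g ∈ St D then (1 : ℤˣ) else -1) = -1
  rw [if_neg h2]

/-- `t` is not in a perfect normal subgroup -/
theorem t_not_mem {E : Subgroup G} (hE : commutator E = ⊤) : D.t ∉ E := by
  intro htE
  have := Fact.mk Nat.prime_two
  obtain ⟨S, hS, ht, hs⟩ := exists_sylow D
  have hidx : Odd (S : Subgroup G).index := by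
    rw [← Nat.not_even_iff_odd, even_iff_two_dvd]
    exact S.not_dvd_index
  have hz : IsPGroup 2 (Subgroup.zpowers D.t) := by
    rintro ⟨_, k, rfl⟩
    refine ⟨1, Subtype.ext ?_⟩
    change (D.t ^ k) ^ 2 ^ 1 = 1
    rw [pow_one, pow_two, ← zpow_add, ← two_mul, zpow_mul, zpow_two, D.t_sq, one_zpow]
  have ht1 : sign D hS ⟨D.t, ht⟩ = -1 := by
    have h0 : (1 : G)⁻¹ * D.t * 1 ∈ (S : Subgroup G) := by
      rw [inv_one, one_mul, mul_one]; exact ht
    rw [← sign_t D hS h0]
    congr 1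
    apply Subtype.ext
    change D.t = (1 : G)⁻¹ * D.t * 1
    rw [inv_one, one_mul, mul_one]
  have key := TransferTE.transfer_eq (MulEquiv.refl G) (fun _ => rfl) (S : Subgroup G)
    (fun x hx => hx) (sign D hS) hidx D.t ht D.t_sq rfl (Subgroup.zpowers D.t) hz (fun r hr => hr)
    (Subgroup.mem_zpowers _) (by
      rintro _ ⟨k, rfl⟩
      exact ((Commute.refl D.t).zpow_left k).eq)
    (fun x hx _ => by rw [ht1]; exact sign_t D hS hx)
    (fun x hx _ => by
      have h1 := sign_t D hS hx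
      change sign D hS ⟨x⁻¹ * D.t * x, hx⟩ * sign D hS ⟨x⁻¹ * D.t * x, _⟩ = 1
      rw [h1]; norm_num)
  rw [ht1] at key
  have h1 : D.t ∈ commutator G := by
    have h2 : (⟨D.t, htE⟩ : E) ∈ commutator E := by rw [hE]; exact Subgroup.mem_top _
    have h3 : (commutator E).map E.subtype ≤ commutator G := by
      rw [commutator_def, commutator_def, Subgroup.map_commutator]
      exact Subgroup.commutator_mono le_top le_top
    exact h3 ⟨_, h2, rfl⟩
  have h2 : commutator G ≤ (sign D hS).transfer.ker := Abelianization.commutator_subset_ker _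
  have h3 := h2 h1
  rw [MonoidHom.mem_ker, key] at h3
  norm_num at h3

theorem W_le_E {E : Subgroup G} [E.Normal] (hgen : ∀ g : G, g ∈ E ∨ D.t * g ∈ E) : W D ≤ E := by
  have hcm : ∀ x y : G, x * y * x⁻¹ * y⁻¹ ∈ E := by
    have hq : ∀ a b : G ⧸ E, a * b = b * a := by
      have h1 : ∀ a : G ⧸ E, a = 1 ∨ a = ((D.t⁻¹ : G) : G ⧸ E) := by
        intro a
        induction a using QuotientGroup.induction_on with
        | H a =>
          rcases hgen a with h | h
          · left; exact (QuotientGroup.eq_one_iff a).mpr h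
          · right
            rw [eq_comm, QuotientGroup.eq, inv_inv]
            exact h
      intro a b
      rcases h1 a with rfl | rfl <;> rcases h1 b with rfl | rfl <;> simp
    intro x y
    rw [← QuotientGroup.eq_one_iff]
    rw [QuotientGroup.mk_mul, QuotientGroup.mk_mul, QuotientGroup.mk_mul, hq (x : G ⧸ E) y,
      QuotientGroup.mk_inv, QuotientGroup.mk_inv]
    group
  have hz : ∀ i b, bar n b = b → D.z i b ∈ E := by
    intro i b hb
    obtain ⟨x, -, -, y, -, -, h⟩ := exists_cmt (D := D) i (fun _ => True)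
      (fun _ _ _ _ _ _ => trivial) hb
    rw [← h]
    exact hcm x y
  intro w hw
  obtain ⟨b, c, hb, hc, rfl⟩ := exists_zW D hw
  exact mul_mem (hz _ b hb) (hz _ c hc)

/-- **The output for type `g0`.** -/
theorem out {E : Subgroup G} [hEn : E.Normal] (hE : commutator E = ⊤)
    (hgen : ∀ g : G, g ∈ E ∨ D.t * g ∈ E) :
    D.t ∉ E ∧ ∃ (S : Sylow 2 E) (V : Subgroup E),
      Cfsg.IsStronglyClosed V (S : Subgroup E) ∧ IsMulCommutative V ∧ (∀ v ∈ V, v * v = 1) ∧
      16 ≤ Nat.card V ∧ ∀ v ∈ V, ∀ g : G, g * D.t * g⁻¹ ≠ (v : G) := by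
  have : Fact (Nat.Prime 2) := ⟨Nat.prime_two⟩
  refine ⟨t_not_mem D hE, ?_⟩
  obtain ⟨S, hS, ht, hs⟩ := exists_sylow D
  let SE : Sylow 2 E := (Lib.SylowNormalInf.isPGroup_subgroupOf S E).toSylow
    (Lib.SylowNormalInf.not_dvd_relIndex S E)
  have hSE : (SE : Subgroup E) = (S : Subgroup G).subgroupOf E := rfl
  have hWE := W_le_E D hgen
  refine ⟨SE, (W D).subgroupOf E, ⟨?_, ?_⟩, ?_, ?_, ?_, ?_⟩
  · intro x hx
    rw [hSE, Subgroup.mem_subgroupOf]
    exact hS.U_le (W_le D hx)
  · intro x hx g hg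
    rw [hSE, Subgroup.mem_subgroupOf] at hg
    rw [Subgroup.mem_subgroupOf]
    exact closed D hS ht hs hx hg
  · refine ⟨⟨fun a b => ?_⟩⟩
    apply Subtype.ext
    apply Subtype.ext
    exact W_cen D (W_le D a.2) b.2
  · intro v hv
    exact Subtype.ext (W_sq D hv)
  · have h1 : Nat.card ((W D).subgroupOf E) = Nat.card (W D) :=
      Nat.card_congr (Subgroup.subgroupOfEquivOfLe hWE).toEquiv
    rw [h1, card_W]
    have h4 := four_le D.hq
    exact Nat.mul_le_mul h4 h4
  · intro v hv g hg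
    apply D.t_fus g
    rw [hg]
    exact W_le D hv

end Cfsg.Agent.StdU3.GZeroOut
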