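import Cfsg.Agent.StdU3.GZeroC1
import Cfsg.Agent.StdU3.GZeroC2
import Cfsg.Agent.StdU3.GZeroC3
import Cfsg.Agent.StdU3.GZeroKerI
import Cfsg.Agent.StdU3.GZeroOut
import Cfsg.Agent.StdU3.OuterA
import Cfsg.Agent.StdU3.MainDef

/-!
# Type `g0`: construction of the structure `GZero`, and the output of the local analysis
-/

set_option autoImplicit false
set_option linter.unusedSectionVars false

namespace Cfsg.Agent.StdU3.GZeroMk

open Cfsg.Agent.StdU3.Field Cfsg.Agent.StdU3.PreDef Cfsg.Agent.StdU3.FldDef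
open Cfsg.Agent.StdU3.LevelOne Cfsg.Agent.StdU3.LevelOneW Cfsg.Agent.StdU3.NormQ
open Cfsg.Agent.StdU3.Kernel Cfsg.Agent.StdU3.Next Cfsg.Agent.StdU3.LevelTwo
open Cfsg.Agent.StdU3.GZeroCDef Cfsg.Agent.StdU3.GZeroC3 Cfsg.Agent.StdU3.OuterA
open Cfsg.Agent.StdU3.GZeroDef Cfsg.Agent.StdU3.MainDef

variable {G : Type*} [Group G] [Finite G] {K : Type*} [Field K] [Fintype K] [CharP K 2] {n : ℕ}
variable {D : Pre G K n} {F : Fld D} {e g : G} {c r : K}

/-- **construction of `GZero`.** -/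
theorem exists_gz (h : Dat F e g c r) (hg0 : gam D = 0) (X : Next D F.O)
    (hsurj : ∀ c, ∃ s ∈ X.S, a D (s * D.t * s⁻¹) = c) (heX : ∀ s ∈ X.S, e * s * e⁻¹ ∈ X.S) :
    ∃ Z : GZero G K n, Z.t = D.t := by
  have hO := F.amb
  obtain ⟨al, Om, ep, C⟩ := GZeroC1.exists_coord hg0 hO X hsurj
  obtain ⟨mu, hmu, hmb⟩ := GZeroC2.exists_mu h hg0 hsurj heX C
  have hta : ∀ i, ∀ x ∈ (gz0 C hmu hmb hg0 hO hsurj).U,
      (gz0 C hmu hmb hg0 hO hsurj).a i (D.t * x * D.t⁻¹) =
        (gz0 C hmu hmb hg0 hO hsurj).a (!i) x := fun i x hx => aa_t C i hx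
  obtain ⟨O', hodd, hOU, hOc, hker⟩ := GZeroKerI.exists_O D hg0 hO X hsurj
    (gz0 C hmu hmb hg0 hO hsurj) rfl (fun x hx => by
      show al x + _ * b D x = _
      rw [C.al_V x (P_le_V D hx), b_Q D (D.P_le hx), mul_zero, add_zero, a_P D hx]) hta
  have he := h.inv
  have het : e * D.t = D.t * e := he.t
  have htU : ∀ x ∈ U D X, D.t * x * D.t⁻¹ ∈ U D X := fun x hx =>
    conj_U_S D X (X.Q_le D.Q_t) hx
  have heU : ∀ x ∈ U D X, e * x * e⁻¹ ∈ U D X := fun x hx => GZeroC2.e_U h X heX hx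
  refine ⟨{ gz0 C hmu hmb hg0 hO hsurj with
    U_two := X.S_two.to_le (U_le D X)
    t := D.t
    t_sq := D.t_sq
    t_U := htU
    t_a := hta
    act := fun g hg => GZeroAct.act _ hg
    O := O'
    O_odd := hodd
    O_U := hOU
    O_conj := hOc
    ker := hker
    h := X.h'
    h_U := fun l x hx => GZeroC1.h_U l hx
    h_a := fun l i x hx => aa_h C l i hx
    s := e * D.t
    s_sq := by
      rw [mul_assoc, ← mul_assoc D.t e, ← het, mul_assoc e D.t D.t, D.t_sq, mul_one, he.sq]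
    s_t := by rw [mul_assoc, D.t_sq, ← mul_assoc, ← het, mul_assoc, D.t_sq]
    s_U := fun x hx => by
      have e1 : e * D.t * x * (e * D.t)⁻¹ = e * (D.t * x * D.t⁻¹) * e⁻¹ := by group
      rw [e1]
      exact heU _ (htU x hx)
    s_a := ⟨c, fun i x hx => by
      have e1 : e * D.t * x * (e * D.t)⁻¹ = e * (D.t * x * D.t⁻¹) * e⁻¹ := by group
      have h1 := htU x hx
      have h2 := aa_t (mu := mu) C (!i) hx
      rw [Bool.not_not] at h2
      show aa D al mu i (e * D.t * x * (e * D.t)⁻¹) = c * bar n (aa D al mu i x)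
      rw [e1, ← h2]
      show al _ + mm mu i * b D _ = c * bar n (al _ + mm mu (!i) * b D _)
      rw [GZeroC2.e_al h hg0 heX C h1, GZeroC2.e_b h h1, bar_add, bar_mul, bar_mm hmb,
        Bool.not_not]
      ring⟩
    ch := Rank.ch F
    ch_mul := fun x y hx hy => Rank.ch_mul F hx hy
    ch_s := by
      rw [Rank.ch_mul F het rfl, Rank.ch_t, mul_one, he.ch]
      intro h1
      obtain ⟨l, hl⟩ := exists_Tr_one (n := n) D.hq
      have h2 : bar n l = l := by
        have := congrArg (fun f : K ≃+* K => f l) h1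
        exact this
      rw [Tr_def, h2, Field.add_self] at hl
      exact zero_ne_one hl
    rank := fun B h1 h2 => Rank.card_elem F h1 (y := 1) (fun b hb => by
      rw [one_mul, inv_one, mul_one]; exact h2 b hb)
    t_fus := fun g hg => EndN.U_not_conj F (TermInst.two hg0 F.amb X hsurj) hg g rfl }, rfl⟩

/-- **the output for type `g0`.** -/
theorem out_of (h : Dat F e g c r) (hg0 : gam D = 0) (heS : e ∈ F.Sg) {E : Subgroup G}
    (hG : Glob D.t E) : Out D.t E := by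
  have := hG.normal
  obtain ⟨X, hX⟩ := exists_next D F.amb F.Sg F.Sg_two (fun s hs => F.Sg_norm s hs)
  have hsurj : ∀ c, ∃ s ∈ X.S, a D (s * D.t * s⁻¹) = c := by
    rcases h.cases with h1 | h1
    · exact h1.2 X
    · exfalso
      have := h1.1
      rw [hg0] at this
      exact zero_ne_one this
  obtain ⟨Z, hZ⟩ := exists_gz h hg0 X hsurj (fun s hs => hX e heS s hs)
  have h1 := GZeroOut.out Z hG.perf (fun g => by rw [hZ]; exact hG.gen g)
  rw [hZ] at h1
  obtain ⟨h2, S, V, h3, h4, h5, h6, -⟩ := h1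
  refine ⟨h2, Or.inr ⟨S, V, h3, h4, ?_, ?_⟩⟩
  · intro hV
    rw [hV, Subgroup.card_bot] at h6
    omega
  · exact h6.trans (Subgroup.card_le_of_le h3.1)

end Cfsg.Agent.StdU3.GZeroMk
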