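import Cfsg.Agent.StdU3.EndLie
import Cfsg.Agent.StdSz.Reduce
import Cfsg.Agent.S0280

/-!
# Standard subgroups of type `U₃(2ⁿ)`: final assembly

`main`: the statement S1771 from S1170 and the existence of a strongly closed class two subgroup in
a Sylow 2-subgroup of the (simple) layer, together with `t ∉ E(G)`.
-/

set_option autoImplicit false
set_option linter.unusedSectionVars false

namespace Cfsg.Agent.StdU3.FinalRed

open Cfsg Subgroup Cfsg.Agent.StdSz Cfsg.Agent.StdSz.Out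

universe u v

/-- the arithmetic: `3` divides the order of `PSU₃(q)`. -/
theorem three_dvd {q N : ℕ} (hq : ¬ 3 ∣ q) (hq0 : 0 < q)
    (h : Nat.gcd 3 (q + 1) * N = q ^ 3 * ((q ^ 2 - 1) * (q ^ 3 + 1))) : 3 ∣ N := by
  rcases (Nat.dvd_prime Nat.prime_three).mp (Nat.gcd_dvd_left 3 (q + 1)) with hg | hg
  · rw [hg, one_mul] at h
    rw [h]
    refine Dvd.dvd.mul_left (Dvd.dvd.mul_right ?_ _) _
    have h1 : q % 3 = 1 ∨ q % 3 = 2 := by omega
    rcases h1 with h1 | h1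
    · obtain ⟨r, rfl⟩ : ∃ r, q = 3 * r + 1 := ⟨q / 3, by omega⟩
      refine ⟨3 * r ^ 2 + 2 * r, ?_⟩
      rw [Nat.sub_eq_iff_eq_add (by nlinarith)]; ring
    · obtain ⟨r, rfl⟩ : ∃ r, q = 3 * r + 2 := ⟨q / 3, by omega⟩
      refine ⟨3 * r ^ 2 + 4 * r + 1, ?_⟩
      rw [Nat.sub_eq_iff_eq_add (by nlinarith)]; ring
  · rw [hg] at h
    have h2 : 3 ∣ q + 1 := by rw [← hg]; exact Nat.gcd_dvd_right 3 (q + 1)
    obtain ⟨r, rfl⟩ : ∃ r, q = 3 * r + 2 := ⟨q / 3, by omega⟩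
    have h3 : (3 * r + 2) ^ 2 - 1 = 3 * (3 * r ^ 2 + 4 * r + 1) := by
      rw [Nat.sub_eq_iff_eq_add (by nlinarith)]; ring
    rw [h3] at h
    have h4 : (3 * r + 2) ^ 3 + 1 = 3 * (9 * r ^ 3 + 18 * r ^ 2 + 12 * r + 3) := by ring
    rw [h4] at h
    refine ⟨(3 * r + 2) ^ 3 * ((3 * r ^ 2 + 4 * r + 1) * (9 * r ^ 3 + 18 * r ^ 2 + 12 * r + 3)), ?_⟩
    have h5 : (0 : ℕ) < 3 := by norm_num
    refine Nat.eq_of_mul_eq_mul_left h5 ?_
    rw [h]; ring

theorem three_dvd_psu {F : Type*} [Field F] [Fintype F] {a : ℕ}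
    (hF : Fintype.card F = 4 ^ a) : 3 ∣ Nat.card (Cfsg.PSU 3 F (2 ^ a)) := by
  have hF' : Fintype.card F = (2 ^ a) ^ 2 := by
    rw [hF, ← pow_mul, mul_comm, pow_mul]; norm_num
  have h1 := Cfsg.Agent.S0280.result hF' 3 (by norm_num)
  norm_num [Finset.prod_range_succ, Nat.even_iff] at h1
  refine three_dvd (q := 2 ^ a) ?_ (by positivity) ?_
  · intro h
    have := Nat.prime_three.dvd_of_dvd_pow h
    omega
  · generalize 2 ^ a = q at h1 ⊢
    generalize Nat.card (Cfsg.PSU 3 F q) = N at h1 ⊢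
    generalize Nat.gcd 3 (q + 1) = g at h1 ⊢
    refine Nat.eq_of_mul_eq_mul_left (show 0 < q + 1 by omega) ?_
    calc (q + 1) * (g * N) = g * ((q + 1) * N) := by ring
      _ = _ := h1
      _ = _ := by ring

/-- What the local analysis has to deliver. -/
structure Out (G : Type u) [Group G] [Finite G] (t : G) : Prop where
  not_mem : t ∉ Cfsg.layer G
  closed : ∃ (S : Sylow 2 ↥(Cfsg.layer G)) (U : Subgroup ↥(Cfsg.layer G)),
    IsStronglyClosed U (S : Subgroup ↥(Cfsg.layer G)) ∧ ¬ IsMulCommutative U ∧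
    ⁅(⊤ : Subgroup U), ⊤⁆ ≤ Subgroup.center U ∧ 16 ≤ Nat.card U

theorem lie_of_out {G : Type u} [Group G] [Finite G] (h1170 : S1170Stmt.{u}) {A : Subgroup G}
    (S : Reduce.Simple A) {t : G} {F : Type v} [Field F] [Fintype F] {a : ℕ}
    (hF : Fintype.card F = 4 ^ a)
    (hAX : Nonempty (↥A ⧸ Subgroup.center ↥A ≃* Cfsg.PSU 3 F (2 ^ a)))
    (O : Out G t) : IsLieTypeChar 2 ↥(Cfsg.layer G) := by
  haveI := S.simple
  obtain ⟨S', U, h1, h2, h3, h4⟩ := O.closed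
  refine EndLie.lie_of_closed h1170 S' U h1 h2 h3 h4 ?_
  obtain ⟨e⟩ := hAX
  have h5 := three_dvd_psu hF
  rw [← Nat.card_congr e.toEquiv] at h5
  have h6 : 3 ∣ Nat.card A := h5.trans (Subgroup.card_quotient_dvd_card _)
  exact h6.trans (Subgroup.card_dvd_of_le S.le_layer)

/-- **Assembly**: the statement S1771. -/
theorem main {G : Type u} [Group G] [Finite G] (h1170 : S1170Stmt.{u})
    (hO : Cfsg.oddCore G = ⊥) (A : Subgroup G) (hA : Cfsg.IsStandardSubgroup A) (hnA : ¬ A.Normal)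
    (t : G) (ht : orderOf t = 2) (htA : t ∈ Subgroup.centralizer (A : Set G))
    {F : Type v} [Field F] [Fintype F] (a : ℕ) (hF : Fintype.card F = 4 ^ a)
    (hAX : Nonempty (↥A ⧸ Subgroup.center ↥A ≃* Cfsg.PSU 3 F (2 ^ a)))
    (hout : Reduce.Simple A → Out G t) :
    Nonempty (↥(Cfsg.layer G) ≃* ↥A × ↥A) ∨ (IsLieTypeChar 2 ↥(Cfsg.layer G) ∧
      ¬ (∃ e : G, e ∈ Cfsg.layer G ∧ ∀ x ∈ Cfsg.layer G, t * x * t⁻¹ = e * x * e⁻¹)) := by
  rcases Reduce.prod_or_simple hA hnA hO ht htA with h | S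
  · exact Or.inl h
  · have O := hout S
    exact Or.inr ⟨lie_of_out h1170 S hF hAX O, S.not_inner O.not_mem⟩

end Cfsg.Agent.StdU3.FinalRed
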