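import Cfsg.Agent.StdU3.FinalAb
import Cfsg.Agent.StdU3.FinalRed
import Cfsg.Agent.StdL2.Assemble
import Cfsg.Agent.FixBN.BTheorem
import Cfsg.Agent.OddHalf.Known

/-!
# The final reduction of S1771 to groups `G = E ⟨t⟩`
-/

set_option autoImplicit false
set_option linter.unusedSectionVars false
set_option linter.style.haveILetI false

namespace Cfsg.Agent.StdU3.FinalGen

open scoped commutatorElement
open Cfsg Subgroup Cfsg.Agent.SignalizersComponents
open Cfsg.Agent.StdL2.Setup Cfsg.Agent.StdL2.Assemble Cfsg.Agent.StdSz Cfsg.Agent.StdSz.Out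

universe u v

variable {H : Type u} [Group H] [Finite H] {L A : Subgroup H} {t : H}

theorem layer_eq (C : Conf L A t) : layer H = L := by
  haveI := C.normal
  haveI := C.simple
  have hL : IsComponent L :=
    ⟨Normal.isSubnormal inferInstance, Cfsg.Agent.FixBN.BTheorem.isQuasisimple_of_simple C.not_comm⟩
  apply le_antisymm
  · refine sSup_le ?_
    intro K hK
    have hK' : IsComponent K := hK
    by_cases h : K = L
    · rw [h]
    · exfalso
      have h1 := Components.component_le_centralizer_of_ne hK' hL h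
      rw [C.cent, le_bot_iff] at h1
      have h2 : Nontrivial K := by
        have h3 := hK'.2.2
        obtain ⟨x, y, hxy⟩ := h3.toNontrivial.exists_pair_ne
        obtain ⟨x, rfl⟩ := QuotientGroup.mk_surjective x
        obtain ⟨y, rfl⟩ := QuotientGroup.mk_surjective y
        exact ⟨x, y, fun h => hxy (by rw [h])⟩
      rw [h1] at h2
      exact not_nontrivial _ h2
  · exact le_sSup hL

/-- normal subgroups not containing `L` are trivial -/
theorem eq_bot_of_normal (C : Conf L A t) {N : Subgroup H} (hN : N.Normal) (h : ¬ L ≤ N) :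
    N = ⊥ := by
  haveI := C.normal
  haveI := C.simple
  have h1 : (N.subgroupOf L).Normal := inferInstance
  rcases h1.eq_bot_or_eq_top with h2 | h2
  · rw [← le_bot_iff, ← C.cent]
    have h3 : N ⊓ L = ⊥ := by
      rw [Subgroup.subgroupOf_eq_bot] at h2
      exact h2.eq_bot
    intro x hx
    rw [mem_centralizer_iff]
    intro y hy
    have h4 : x * y * x⁻¹ * y⁻¹ ∈ N ⊓ L := by
      rw [mem_inf]
      refine ⟨?_, ?_⟩
      · have : x * (y * x⁻¹ * y⁻¹) ∈ N := mul_mem hx (hN.conj_mem _ (inv_mem hx) y)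
        simpa only [mul_assoc] using this
      · exact mul_mem (C.normal.conj_mem y hy x) (inv_mem hy)
    rw [h3, mem_bot, mul_inv_eq_one, mul_inv_eq_iff_eq_mul] at h4
    exact h4.symm
  · exact absurd (subgroupOf_eq_top.mp h2) h

/-- the reduced configuration is again a configuration of the original kind. -/
theorem simple_of_conf (C : Conf L A t) (h2 : 2 ∣ Nat.card A) : Reduce.Simple A where
  std := C.std
  not_normal := by
    intro hn
    have h1 : L ≤ A := by
      by_contra h
      have h3 := eq_bot_of_normal C hn h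
      rw [h3, Subgroup.card_bot] at h2
      omega
    have h4 : t ∈ Subgroup.centralizer (L : Set H) :=
      Subgroup.centralizer_le h1 C.htA
    rw [C.cent, mem_bot] at h4
    have h5 := C.ht
    rw [h4, orderOf_one] at h5
    omega
  oddCore := by
    apply eq_bot_of_normal C (Lib.Cores.pPrimeCore_normal 2)
    intro h
    have h1 := Lib.Cores.pPrimeCore_coprime (G := H) 2
    have h3 : 2 ∣ Nat.card (pPrimeCore 2 H) := h2.trans (Subgroup.card_dvd_of_le (C.le.trans h))
    have h4 := Nat.Coprime.eq_one_of_dvd h1.symm h3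
    omega
  pCore := by
    haveI : Fact (Nat.Prime 2) := ⟨Nat.prime_two⟩
    haveI := C.simple
    apply eq_bot_of_normal C (Lib.Cores.pCore_normal 2)
    intro h
    have h1 : IsPGroup 2 L := (Lib.Cores.pCore_isPGroup 2).to_le h
    apply C.not_comm
    have h3 : Nontrivial (center L) := h1.center_nontrivial
    rcases (inferInstance : (center L).Normal).eq_bot_or_eq_top with h4 | h4
    · rw [h4] at h3
      exact absurd h3 (not_nontrivial _)
    · refine ⟨⟨fun a b => ?_⟩⟩
      have : a ∈ center L := by rw [h4]; trivial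
      rw [mem_center_iff] at this
      exact (this b).symm
  centralizer := by rw [layer_eq C]; exact C.cent
  le_layer := by rw [layer_eq C]; exact C.le
  simple := by rw [layer_eq C]; exact C.simple
  not_comm := by rw [layer_eq C]; exact C.not_comm

theorem glob_of_conf (C : Conf L A t) : MainDef.Glob t L where
  normal := C.normal
  gen := by
    haveI := C.normal
    intro g
    have h1 : g ∈ L ⊔ Subgroup.zpowers t := by rw [C.gen]; trivial
    obtain ⟨x, hx, y, hy, rfl⟩ := Subgroup.mem_sup_of_normal_left.mp h1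
    have htt : t * t = 1 := by
      have := pow_orderOf_eq_one t
      rwa [C.ht, pow_two] at this
    have h2 : y = 1 ∨ y = t := by
      obtain ⟨k, rfl⟩ := Subgroup.mem_zpowers_iff.mp hy
      have h4 : t ^ (2 : ℤ) = 1 := by
        rw [show (2 : ℤ) = ((2 : ℕ) : ℤ) by norm_num, zpow_natCast, pow_two, htt]
      rcases Int.even_or_odd' k with ⟨c, h | h⟩
      · left
        rw [h, zpow_mul, h4, one_zpow]
      · right
        rw [h, zpow_add, zpow_mul, h4, one_zpow, one_mul, zpow_one]
    rcases h2 with rfl | rfl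
    · left
      rw [mul_one]; exact hx
    · right
      have h3 := C.normal.conj_mem x hx y
      have h4 : y * (x * y) = y * x * y⁻¹ := by
        have : y⁻¹ = y := inv_eq_of_mul_eq_one_right htt
        rw [this, mul_assoc]
      rw [h4]; exact h3
  perf := by
    haveI := C.simple
    rcases (inferInstance : (commutator L).Normal).eq_bot_or_eq_top with h | h
    · exfalso
      apply C.not_comm
      refine ⟨⟨fun a b => ?_⟩⟩
      have h1 : ⁅a, b⁆ ∈ commutator L := Subgroup.commutator_mem_commutator (mem_top a) (mem_top b)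
      rw [h, mem_bot, commutatorElement_eq_one_iff_mul_comm] at h1
      exact h1
    · exact h

theorem two_dvd_psu {F : Type*} [Field F] [Fintype F] {a : ℕ} (ha : 2 ≤ a)
    (hF : Fintype.card F = 4 ^ a) : 2 ∣ Nat.card (Cfsg.PSU 3 F (2 ^ a)) := by
  have hF' : Fintype.card F = (2 ^ a) ^ 2 := by
    rw [hF, ← pow_mul, mul_comm, pow_mul]; norm_num
  have h1 := Cfsg.Agent.S0280.result hF' 3 (by norm_num)
  norm_num [Finset.prod_range_succ, Nat.even_iff] at h1
  have h2 : 2 ∣ 2 ^ a := dvd_pow_self 2 (by omega)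
  generalize 2 ^ a = q at h1 h2 ⊢
  generalize Nat.card (Cfsg.PSU 3 F q) = N at h1 ⊢
  have h3 : Nat.gcd 3 (q + 1) * N = q ^ 3 * ((q ^ 2 - 1) * (q ^ 3 + 1)) := by
    generalize Nat.gcd 3 (q + 1) = g at h1 ⊢
    refine Nat.eq_of_mul_eq_mul_left (show 0 < q + 1 by omega) ?_
    calc (q + 1) * (g * N) = g * ((q + 1) * N) := by ring
      _ = _ := h1
      _ = _ := by ring
  have h4 : 2 ∣ Nat.gcd 3 (q + 1) * N := by
    rw [h3]
    exact Dvd.dvd.mul_right (dvd_pow h2 (by norm_num)) _
  rcases (Nat.dvd_prime Nat.prime_three).mp (Nat.gcd_dvd_left 3 (q + 1)) with hg | hg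
  · rwa [hg, one_mul] at h4
  · rw [hg] at h4
    exact (Nat.Coprime.dvd_mul_left (by norm_num)).mp h4

/-- **The final reduction.** -/
theorem main {G : Type u} [Group G] [Finite G] (h1170 : S1170Stmt.{u})
    (hO : Cfsg.oddCore G = ⊥) (A : Subgroup G) (hA : Cfsg.IsStandardSubgroup A) (hnA : ¬ A.Normal)
    (hR : ∀ R : Sylow 2 ↥(Subgroup.centralizer (A : Set G)),
      IsCyclic ↥(R : Subgroup ↥(Subgroup.centralizer (A : Set G))))
    (t : G) (ht : orderOf t = 2) (htA : t ∈ Subgroup.centralizer (A : Set G))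
    {F : Type v} [Field F] [Fintype F] (a : ℕ) (ha : 2 ≤ a) (hF : Fintype.card F = 4 ^ a)
    (hAX : Nonempty (↥A ⧸ Subgroup.center ↥A ≃* Cfsg.PSU 3 F (2 ^ a)))
    (hout : ∀ (H : Type u) [Group H] [Finite H] (L A : Subgroup H) (t : H), Conf L A t →
      Reduce.Simple A → MainDef.Glob t L →
      Nonempty (↥A ⧸ Subgroup.center ↥A ≃* Cfsg.PSU 3 F (2 ^ a)) →
      t ∉ L ∧ (MainDef.NonAb L ∨ MainDef.Ab L) ∧
        ∃ P ≤ L, IsPGroup 2 P ∧ ∃ x ∈ P, ∃ y ∈ P, x * y ≠ y * x) :
    Nonempty (↥(Cfsg.layer G) ≃* ↥A × ↥A) ∨ (IsLieTypeChar 2 ↥(Cfsg.layer G) ∧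
      ¬ (∃ e : G, e ∈ Cfsg.layer G ∧ ∀ x ∈ Cfsg.layer G, t * x * t⁻¹ = e * x * e⁻¹)) := by
  rcases Reduce.prod_or_simple hA hnA hO ht htA with h | S
  · exact Or.inl h
  have C := conf_of_simple S ht htA hR
  have hLH : Cfsg.layer G ≤ Cfsg.layer G ⊔ Subgroup.zpowers t := le_sup_left
  have hAH : A ≤ Cfsg.layer G ⊔ Subgroup.zpowers t := S.le_layer.trans hLH
  have eL := subgroupOfEquivOfLe hLH
  have eA := subgroupOfEquivOfLe hAH
  have hAX' : Nonempty (↥(A.subgroupOf (Cfsg.layer G ⊔ Subgroup.zpowers t)) ⧸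
      Subgroup.center ↥(A.subgroupOf (Cfsg.layer G ⊔ Subgroup.zpowers t)) ≃*
        Cfsg.PSU 3 F (2 ^ a)) := by
    obtain ⟨f⟩ := hAX
    refine ⟨(QuotientGroup.congr _ _ eA ?_).trans f⟩
    ext x
    constructor
    · rintro ⟨y, hy, rfl⟩
      rw [mem_center_iff]
      intro g
      have h1 := mem_center_iff.mp hy (eA.symm g)
      have h2 := congrArg eA h1
      simpa using h2
    · intro hx
      refine ⟨eA.symm x, ?_, by simp⟩
      rw [SetLike.mem_coe, mem_center_iff]
      intro g
      have h1 := mem_center_iff.mp hx (eA g)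
      have h2 := congrArg eA.symm h1
      simpa using h2
  have hcardA : Nat.card (Cfsg.PSU 3 F (2 ^ a)) ∣
      Nat.card ↥(A.subgroupOf (Cfsg.layer G ⊔ Subgroup.zpowers t)) := by
    obtain ⟨f⟩ := hAX'
    rw [← Nat.card_congr f.toEquiv]
    exact Subgroup.card_quotient_dvd_card _
  obtain ⟨h1, h2, P, hP, hP2, hPc⟩ := hout _ _ _ _ C
    (simple_of_conf C ((two_dvd_psu ha hF).trans hcardA)) (glob_of_conf C) hAX'
  haveI := C.simple
  right
  constructor
  · refine Cfsg.Agent.OddHalf.Known.isLieTypeChar_congr eL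
      (FinalAb.lie_of_out h1170 hP2 hP hPc ?_ h2)
    exact ((FinalRed.three_dvd_psu hF).trans hcardA).trans (Subgroup.card_dvd_of_le C.le)
  · apply S.not_inner
    intro h
    exact h1 (mem_subgroupOf.mpr h)

end Cfsg.Agent.StdU3.FinalGen
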