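import Cfsg.Agent.StdU3.LevelTwo

/-!
# Involutions of `C(t)` acting on `P / Z` as `b ↦ c bar b`
-/

set_option autoImplicit false
set_option linter.unusedSectionVars false

namespace Cfsg.Agent.StdU3.Outer

open Cfsg.Agent.StdU3.Field Cfsg.Agent.StdU3.PreDef Cfsg.Agent.StdU3.LevelOne
open Cfsg.Agent.StdU3.LevelOneW Cfsg.Agent.StdU3.NormQ Cfsg.Agent.StdU3.Kernel
open Cfsg.Agent.StdU3.Next Cfsg.Agent.StdU3.LevelTwo

section field
variable {K : Type*} [Field K] [Fintype K] [CharP K 2] {n : ℕ}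

/-- fixed elements are fourth powers of fixed elements. -/
theorem exists_fourth (h : Qd K n) {m : K} (hm : bar n m = m) : ∃ l, bar n l = l ∧ l ^ 4 = m := by
  refine ⟨m ^ (2 ^ (n - 2)), by rw [bar_pow, hm], ?_⟩
  have h2 := h.hn
  have h3 : 2 ^ (n - 2) * 4 = 2 ^ n := by
    have : n = (n - 2) + 2 := by omega
    conv_rhs => rw [this]
    rw [pow_add]
    norm_num
  rw [← pow_mul, h3]
  exact hm

/-- Hilbert 90. -/
theorem exists_line (h : Qd K n) {c : K} (hc : N n c = 1) : ∃ c0, c0 ≠ 0 ∧ c * bar n c0 = c0 := by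
  obtain ⟨x, hx⟩ := exists_Tr_one h
  by_cases h1 : c = 1
  · exact ⟨1, one_ne_zero, by rw [h1, bar_one, mul_one]⟩
  · refine ⟨1 + c, fun h2 => h1 (Field.add_eq_zero.mp h2).symm, ?_⟩
    rw [bar_add, bar_one, mul_add, mul_one, ← N_def, hc, add_comm]

theorem line_eq {c c0 : K} (hc0 : c0 ≠ 0) (h0 : c * bar n c0 = c0) {x : K}
    (hx : c * bar n x = x) : ∃ l, bar n l = l ∧ x = l * c0 := by
  refine ⟨x * c0⁻¹, ?_, by rw [mul_assoc, inv_mul_cancel₀ hc0, mul_one]⟩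
  have hc : c ≠ 0 := by
    rintro rfl
    rw [zero_mul] at h0
    exact hc0 h0.symm
  have hb0 : bar n c0 ≠ 0 := fun h' => hc0 (bar_eq_zero h')
  rw [bar_mul, bar_inv]
  have e1 : bar n x = c⁻¹ * x := by
    rw [eq_inv_mul_iff_mul_eq₀ hc]; exact hx
  have e2 : bar n c0 = c⁻¹ * c0 := by
    rw [eq_inv_mul_iff_mul_eq₀ hc]; exact h0
  rw [e1, e2]
  field_simp

theorem exists_coboundary (h : Qd K n) {c x : K} (hc : N n c = 1) (hx : c * bar n x = x) :
    ∃ r, r + c * bar n r = x := by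
  obtain ⟨c0, hc0, h0⟩ := exists_line h hc
  obtain ⟨l, hl, rfl⟩ := line_eq hc0 h0 hx
  obtain ⟨y, hy⟩ := exists_Tr_one h
  refine ⟨l * y * c0, ?_⟩
  have : c * bar n (l * y * c0) = (bar n (l * y)) * (c * bar n c0) := by
    rw [bar_mul n (l * y) c0]; ring
  rw [this, h0, bar_mul, hl]
  rw [Tr_def] at hy
  have : l * y * c0 + l * bar n y * c0 = l * (y + bar n y) * c0 := by ring
  rw [this, hy, mul_one]

theorem Tr_line {c x y : K} (h : Qd K n) (hc : N n c = 1) (hx : c * bar n x = x)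
    (hy : c * bar n y = y) : Tr n (x * bar n y) = 0 := by
  obtain ⟨c0, hc0, h0⟩ := exists_line h hc
  obtain ⟨l, hl, rfl⟩ := line_eq hc0 h0 hx
  obtain ⟨m, hm, rfl⟩ := line_eq hc0 h0 hy
  have : l * c0 * bar n (m * c0) = (l * m) * N n c0 := by
    rw [bar_mul, hm, N_def]; ring
  rw [this, Tr_of_fixed (fixed_mul (fixed_mul hl hm) (fixed_N h _))]

/-- norms of the elements of the line. -/
theorem exists_N_line (h : Qd K n) {c b : K} (hc : N n c = 1) (hb : bar n b = b) :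
    ∃ x, c * bar n x = x ∧ N n x = b := by
  obtain ⟨c0, hc0, h0⟩ := exists_line h hc
  obtain ⟨l, hl, h4⟩ := exists_fourth h (fixed_mul hb (fixed_inv (fixed_N h c0)))
  refine ⟨l ^ 2 * c0, ?_, ?_⟩
  · rw [bar_mul, bar_pow, hl]
    calc c * (l ^ 2 * bar n c0) = l ^ 2 * (c * bar n c0) := by ring
      _ = l ^ 2 * c0 := by rw [h0]
  · have hl2 : bar n (l ^ 2) = l ^ 2 := by rw [bar_pow, hl]
    rw [N_mul, N_of_fixed hl2, ← pow_mul, h4, mul_assoc, inv_mul_cancel₀ (N_ne_zero hc0), mul_one]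

end field

variable {G : Type*} [Group G] {K : Type*} [Field K] [Fintype K] [CharP K 2] {n : ℕ}
variable {D : Pre G K n} {O : Subgroup G}

/-- an outer involution of `C(t)`. -/
structure Out (D : Pre G K n) (x : G) (c : K) : Prop where
  comm : x * D.t = D.t * x
  sq : x * x = 1
  norm : Norm D x
  act : ∀ b, A D x b = c * bar n b

variable {x : G} {c : K} (h : Out D x c)

include h

theorem Out.N_c : N n c = 1 := by
  have h1 : A D (x * x) 1 = A D x (A D x 1) := A_mul D h.norm h.norm 1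
  rw [h.sq, A_one, h.act, h.act, bar_one, mul_one] at h1
  exact h1.symm

theorem Out.c_ne : c ≠ 0 := by
  rintro rfl
  have := h.N_c
  rw [N_zero] at this
  exact zero_ne_one this

theorem Out.conj_t : x * D.t * x⁻¹ = D.t := by rw [h.comm]; group

theorem Out.inv_eq : x⁻¹ = x := by rw [inv_eq_iff_mul_eq_one, h.sq]

theorem Out.th_eq {b : K} (hb : bar n b = b) : th D x b = b := by
  obtain ⟨y, rfl⟩ := exists_norm D.hq hb
  rw [← N_A D h.norm, h.act, N_mul, h.N_c, one_mul, N_bar D.hq]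

theorem Out.conj_z (b : K) : x * D.z b * x⁻¹ = D.z b := by
  obtain ⟨b', hb', hbb⟩ := z_fixed D b
  rw [hbb, th_conj D h.norm, h.th_eq hb']

theorem Out.comm_z (b : K) : x * D.z b = D.z b * x := mul_inv_eq_iff_eq_mul.mp (h.conj_z b)

theorem Out.a_conj {g : G} (hg : g ∈ D.Q) : a D (x * g * x⁻¹) = c * bar n (a D g) := by
  rw [NormQ.a_conj D h.norm hg, h.act, h.conj_t, a_t, mul_zero, add_zero]

theorem Out.psi_eq (b : K) : psi D x b = 0 := by
  rw [rel_psi D h.norm, h.conj_t, a_t, zero_mul, Tr_zero]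

theorem Out.u_conj {g : G} (hg : g ∈ D.Q) : u D (x * g * x⁻¹) = u D g := by
  rw [u_conj' D h.norm hg, h.psi_eq, h.conj_t, u_t, mul_zero, add_zero, add_zero,
    h.th_eq (u_fixed D hg)]

theorem Out.P_mem {p : G} (hp : p ∈ D.P) : x * p * x⁻¹ ∈ D.P := by
  have hpQ := D.P_le hp
  have hu : u D (x * p * x⁻¹) = 0 := by rw [h.u_conj hpQ, u_P D hp]
  rcases mem_T_of_u D (h.norm.fwd p hpQ) hu with h1 | h1
  · exact h1
  · exfalso
    have h2 := e_P D h1
    rw [e_mul D (h.norm.fwd p hpQ) D.Q_t, e_conj D h.norm, e_P D hp, e_t, zero_add] at h2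
    exact one_ne_zero h2

theorem Out.ca_conj {p : G} (hp : p ∈ D.P) : D.ca (x * p * x⁻¹) = c * bar n (D.ca p) := by
  rw [← a_P D (h.P_mem hp), h.a_conj (D.P_le hp), a_P D hp]

/-- `x` is not in `V`. -/
theorem Out.not_V : x ∉ V D := by
  intro hx
  have h1 := A_of_mem D (V_le D hx)
  have hc : c = 1 := by
    have := h1 1
    rw [h.act, bar_one, mul_one] at this
    exact this
  obtain ⟨y, hy⟩ := exists_Tr_one D.hq
  have h2 := h1 y
  rw [h.act, hc, one_mul] at h2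
  rw [Tr_of_fixed h2] at hy
  exact zero_ne_one hy

theorem Out.not_N2 : x ∉ N2 D := by
  intro hx
  have h1 := hx.2
  have hc : c = 1 := by
    have := h1 1
    rw [h.act, bar_one, mul_one] at this
    exact this
  obtain ⟨y, hy⟩ := exists_Tr_one D.hq
  have h2 := h1 y
  rw [h.act, hc, one_mul] at h2
  rw [Tr_of_fixed h2] at hy
  exact zero_ne_one hy

/-! ### The action on `W` -/

theorem Out.exists_rho (v : K) (hv : bar n v = v) :
    ∃ r, bar n r = r ∧ ∀ y ∈ W D, u D y = v → x * y * x⁻¹ = D.z r * y := by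
  obtain ⟨y, hy, rfl⟩ := W_surj D hv
  have hyQ := W_le D hy
  obtain ⟨r, hr, h1⟩ := exists_z_mul D (h.norm.fwd y hyQ) hyQ
    (by rw [h.a_conj hyQ, a_W D hy, bar_zero, mul_zero])
    (by rw [h.u_conj hyQ]) (by rw [e_conj D h.norm])
  refine ⟨r, hr, fun y' hy' hu => ?_⟩
  have hyQ' := W_le D hy'
  obtain ⟨b, hb, h2⟩ := exists_z_mul D hyQ' hyQ (by rw [a_W D hy, a_W D hy']) hu
    (by rw [e_W D hy, e_W D hy'])
  rw [h2, NormQ.conj_mul, h.conj_z, h1, ← mul_assoc, ← mul_assoc, z_comm D b r]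

/-- `x` acts on `W` by `w ↦ z (r u(w)) w`. -/
theorem Out.exists_r [Finite G] (hO : Amb D O) :
    ∃ r, bar n r = r ∧ ∀ y ∈ W D, x * y * x⁻¹ = D.z (r * u D y) * y := by
  classical
  choose rho hrf hrs using h.exists_rho
  -- `rho` on multiples
  have hkey : ∀ (l : Kˣ) (hl : bar n (l : K) = l) (v : K) (hv : bar n v = v),
      ∃ j : K, ∀ (v : K) (hv : bar n v = v) (hv' : bar n ((l : K) ^ 2 * v) = (l : K) ^ 2 * v),
        rho ((l : K) ^ 2 * v) hv' = (l : K) ^ 2 * (rho v hv + j * v) := by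
    intro l hl v0 hv0
    have hd := norm_h D l
    set d := D.h l with hdd
    have hyN : x * d * x⁻¹ * d⁻¹ ∈ N2 D := by
      refine ⟨Norm.mul D (Norm.mul D (Norm.mul D h.norm hd) (Norm.inv D h.norm)) (Norm.inv D hd),
        fun b => ?_⟩
      rw [A_mul D (Norm.mul D (Norm.mul D h.norm hd) (Norm.inv D h.norm)) (Norm.inv D hd),
        A_mul D (Norm.mul D h.norm hd) (Norm.inv D h.norm), A_mul D h.norm hd]
      have e1 : ∀ b, A D x (A D d b) = A D d (A D x b) := by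
        intro b
        rw [hdd, A_h, h.act, h.act, A_h, bar_mul, w_of_fixed hl, hl]; ring
      rw [e1, A_inv_right D h.norm, A_inv_right D hd]
    have hdt : d * D.t = D.t * d := by rw [hdd]; exact (D.t_h l).symm
    have hyt : x * d * x⁻¹ * d⁻¹ * D.t = D.t * (x * d * x⁻¹ * d⁻¹) := by
      have c1 : Commute x D.t := h.comm
      have c2 : Commute d D.t := hdt
      exact (((c1.mul_left c2).mul_left c1.inv_left).mul_left c2.inv_left)
    obtain ⟨q, hq, k, hk, hqk⟩ := dec_of_comm D hO hyN hyt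
    refine ⟨e D q, fun v hv hv' => ?_⟩
    obtain ⟨y, hy, rfl⟩ := W_surj D hv
    have hyQ := W_le D hy
    have hdy : d * y * d⁻¹ ∈ W D := by rw [hdd]; exact W_h D l hy
    have hud : u D (d * y * d⁻¹) = (l : K) ^ 2 * u D y := by
      rw [hdd, u_h D l hyQ, N_of_fixed hl]
    have h1 := hrs _ hv' _ hdy hud
    have hk' := ((mem_D1 D).mp hk).2
    -- the action of `q k` on `W`
    have hact : ∀ y ∈ W D, (x * d * x⁻¹ * d⁻¹) * y * (x * d * x⁻¹ * d⁻¹)⁻¹ =
        D.z (e D q * u D y) * y := by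
      intro y hy
      have hyQ := W_le D hy
      rw [hqk]
      have e1 : q * k * y * (q * k)⁻¹ = q * (k * y * k⁻¹) * q⁻¹ := by group
      have e2 : k * y * k⁻¹ = y := by rw [← hk' y hyQ]; group
      rw [e1, e2, comm_eq D hq hyQ, a_W D hy, e_W D hy, bar_zero, mul_zero, Tr_zero, zero_mul,
        add_zero, zero_add]
      group
    have h2 : x * (d * y * d⁻¹) * x⁻¹ = (x * d * x⁻¹ * d⁻¹) * (d * (x * y * x⁻¹) * d⁻¹) *
        (x * d * x⁻¹ * d⁻¹)⁻¹ := by group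
    have h3 : d * (x * y * x⁻¹) * d⁻¹ = D.z ((l : K) ^ 2 * rho (u D y) hv) * (d * y * d⁻¹) := by
      rw [hrs _ hv y hy rfl, NormQ.conj_mul, hdd, h_z D l (hrf _ hv), N_of_fixed hl]
    rw [h2, h3, NormQ.conj_mul, hact _ hdy, hud] at h1
    have hz := N2_z D hyN ((l : K) ^ 2 * rho (u D y) hv)
    have h4 : (x * d * x⁻¹ * d⁻¹) * D.z ((l : K) ^ 2 * rho (u D y) hv) *
        (x * d * x⁻¹ * d⁻¹)⁻¹ = D.z ((l : K) ^ 2 * rho (u D y) hv) := by
      rw [hz]; group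
    rw [h4, ← mul_assoc, ← D.z_add] at h1
    have h5 := z_eq D (fixed_add (fixed_mul (by rw [bar_pow, hl]) (hrf _ hv))
      (fixed_mul (e_fixed D q) hv')) (hrf _ hv') (mul_right_cancel h1)
    rw [← h5]; ring
  have hkey2 : ∀ (v : K) (hv : bar n v = v), rho v hv = v * rho 1 (bar_one n) := by
    intro v hv
    by_cases hv0 : v = 0
    · subst hv0
      rw [zero_mul]
      have h1 := hrs 0 hv 1 (W D).one_mem (u_one D)
      have h2 : D.z (rho 0 hv) = 1 := by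
        have : x * 1 * x⁻¹ = 1 := by group
        rw [this, mul_one] at h1
        exact h1.symm
      exact D.z_inj _ (hrf _ hv) h2
    · obtain ⟨l, hl, h4⟩ := exists_fourth D.hq hv
      have hl0 : l ≠ 0 := by
        rintro rfl
        rw [zero_pow (by norm_num)] at h4
        exact hv0 h4.symm
      obtain ⟨j, hj⟩ := hkey (Units.mk0 l hl0) hl 1 (bar_one n)
      have hl2 : bar n (l ^ 2) = l ^ 2 := by rw [bar_pow, hl]
      have h1 := hj 1 (bar_one n) (by show bar n (l ^ 2 * 1) = l ^ 2 * 1; rw [mul_one, hl2])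
      have h2 := hj (l ^ 2 * 1) (by rw [mul_one, hl2]) (by
        show bar n (l ^ 2 * (l ^ 2 * 1)) = l ^ 2 * (l ^ 2 * 1)
        rw [mul_one, bar_mul, hl2])
      have hl' : ((Units.mk0 l hl0 : Kˣ) : K) = l := rfl
      simp only [hl'] at h1 h2
      rw [h1] at h2
      have h3 : l ^ 2 * (l ^ 2 * 1) = v := by rw [← h4]; ring
      simp only [h3] at h2
      rw [h2]
      have h5 : l ^ 2 * (l ^ 2 * (rho 1 (bar_one n) + j * 1) + j * (l ^ 2 * 1)) =
          l ^ 4 * rho 1 (bar_one n) + (l ^ 4 * j + l ^ 4 * j) := by ring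
      rw [h5, add_self, add_zero, h4]
  refine ⟨rho 1 (bar_one n), hrf _ _, fun y hy => ?_⟩
  have h1 := hrs (u D y) (u_fixed D (W_le D hy)) y hy rfl
  rw [hkey2] at h1
  rw [h1, mul_comm (u D y)]

/-! ### The action on `P` -/

/-- `x` inverts the preimage of the fixed line. -/
theorem Out.inverts {p : G} (hp : p ∈ D.P) (hl : c * bar n (D.ca p) = D.ca p) :
    x * p * x⁻¹ = p⁻¹ := by
  obtain ⟨r, hr⟩ := exists_coboundary D.hq h.N_c hl
  obtain ⟨p1, hp1, rfl⟩ := D.ca_surj r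
  have hm : p1⁻¹ * (x * p1 * x⁻¹) ∈ D.P := mul_mem (inv_mem hp1) (h.P_mem hp1)
  have hca : D.ca (p1⁻¹ * (x * p1 * x⁻¹)) = D.ca p := by
    rw [D.ca_mul _ (inv_mem hp1) _ (h.P_mem hp1), ca_inv D hp1, h.ca_conj hp1, hr]
  obtain ⟨b, hb, h1⟩ := eq_z_mul D hp hm hca.symm
  have h2 : x * (p1⁻¹ * (x * p1 * x⁻¹)) * x⁻¹ = (p1⁻¹ * (x * p1 * x⁻¹))⁻¹ := by
    have e1 : x * (p1⁻¹ * (x * p1 * x⁻¹)) * x⁻¹ = x * p1⁻¹ * (x * p1 * (x * x)⁻¹) := by group
    have e2 : (p1⁻¹ * (x * p1 * x⁻¹))⁻¹ = x * p1⁻¹ * (x⁻¹ * p1) := by group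
    rw [e1, e2, h.sq, inv_one, mul_one, h.inv_eq]
  have h3 : (D.z b * (p1⁻¹ * (x * p1 * x⁻¹)))⁻¹ = D.z b * (p1⁻¹ * (x * p1 * x⁻¹))⁻¹ := by
    rw [mul_inv_rev (D.z b), z_inv, D.Q_Z _ (inv_mem (D.P_le hm))]
  rw [h1, NormQ.conj_mul, h.conj_z, h2, h3]

/-- the elements `p x`, `p` in the preimage of the fixed line, are conjugate to `x` under `P`. -/
theorem Out.conj_P {p : G} (hp : p ∈ D.P) (hl : c * bar n (D.ca p) = D.ca p) :
    ∃ y ∈ D.P, y * x * y⁻¹ = p * x := by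
  obtain ⟨r, hr⟩ := exists_coboundary D.hq h.N_c hl
  obtain ⟨p1, hp1, rfl⟩ := D.ca_surj r
  have hm : p1⁻¹ * (x * p1 * x⁻¹) ∈ D.P := mul_mem (inv_mem hp1) (h.P_mem hp1)
  have hca : D.ca (p1⁻¹ * (x * p1 * x⁻¹)) = D.ca p := by
    rw [D.ca_mul _ (inv_mem hp1) _ (h.P_mem hp1), ca_inv D hp1, h.ca_conj hp1, hr]
  obtain ⟨b, hb, h1⟩ := eq_z_mul D hp hm hca.symm
  obtain ⟨s, hs, hsb⟩ := exists_N_line D.hq h.N_c hb
  obtain ⟨p2, hp2, rfl⟩ := D.ca_surj s
  -- `p2 x p2⁻¹ = p2² x = z b x`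
  have h2 : p2 * x * p2⁻¹ = D.z b * x := by
    have e1 := h.inverts (inv_mem hp2) (by rw [ca_inv D hp2]; exact hs)
    have e2 : x * p2⁻¹ = p2 * x := by
      have := mul_inv_eq_iff_eq_mul.mp e1
      rw [this, inv_inv]
    rw [mul_assoc, e2, ← mul_assoc, D.P_sq p2 hp2, hsb]
  refine ⟨p1⁻¹ * p2, mul_mem (inv_mem hp1) hp2, ?_⟩
  have h3 : p1⁻¹ * p2 * x * (p1⁻¹ * p2)⁻¹ = p1⁻¹ * (p2 * x * p2⁻¹) * p1 := by group
  rw [h3, h2, h1]
  have h4 : p1⁻¹ * D.z b = D.z b * p1⁻¹ := D.Q_Z _ (inv_mem (D.P_le hp1)) b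
  have h5 : p1⁻¹ * (D.z b * x) * p1 = (p1⁻¹ * D.z b) * x * p1 := by group
  rw [h5, h4]; group

end Cfsg.Agent.StdU3.Outer
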