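import Cfsg.Agent.StdU3.OutN
import Cfsg.Agent.StdU3.TermExists
import Cfsg.Agent.StdU3.Gen
import Cfsg.Agent.StdU3.MainDef
import Cfsg.Agent.StdU3.Tower.Final
import Cfsg.Agent.StdU3.OuterA
import Cfsg.Agent.StdU3.GZeroOut
import Cfsg.Agent.StdU3.LZeroTop
import Cfsg.Agent.StdU3.FinalGen

/-!
# The local analysis: final assembly

`G = E ⟨t⟩`, `E` normal and perfect. Output: `t ∉ E` and a strongly closed subgroup in a Sylow
2-subgroup of `E`.
-/

set_option autoImplicit false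
set_option linter.unusedSectionVars false
set_option linter.dupNamespace false
set_option linter.style.haveILetI false

namespace Cfsg.Agent.StdU3.Main

open Subgroup Cfsg.Agent.StdU3.Field Cfsg.Agent.StdU3.PreDef Cfsg.Agent.StdU3.FldDef
open Cfsg.Agent.StdU3.LevelOne Cfsg.Agent.StdU3.TermDef Cfsg.Agent.StdU3.LevelOneW
open Cfsg.Agent.StdU3.MainDef Cfsg.Agent.StdU3.EndN Cfsg.Agent.StdU3.Next Cfsg.Agent.StdU3.NormQ

universe u v

section

variable {G : Type u} [Group G] [Finite G] {K : Type*} [Field K] [Fintype K] [CharP K 2] {n : ℕ}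
variable {D : Pre G K n} (F : Fld D) {E : Subgroup G}

/-- `U ≤ E` for the terminal groups. -/
theorem U_le {E : Subgroup G} (hG : Glob D.t E) (hAE : F.A ≤ E) (T : Term D)
    (h : ∀ (M : Type u) [CommGroup M] (f : G →* M), (∀ p ∈ D.P, f p = 1) → ∀ x ∈ T.U, f x = 1) :
    T.U ≤ E := by
  haveI := hG.normal
  intro x hx
  exact Gen.mem_of_gen hG.gen (fun p hp => hAE (F.P_A hp)) (fun M _ f hf => h M f hf x hx)

/-- the terminal group. -/
theorem exists_term (hG : Glob D.t E) (hAE : F.A ≤ E) :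
    ∃ T : Term D, (∀ s ∈ F.Sg, ∀ g ∈ T.U, s * g * s⁻¹ ∈ T.U) ∧ T.U ≤ E := by
  rcases TermExists.cases F F.Sg_norm with ⟨T, hTU, h⟩ | ⟨hg, X, T, hTU, hsurj, -, h⟩ | ⟨hg, -⟩
  · refine ⟨T, fun s hs => h s (F.Sg_norm s hs), U_le F hG hAE T ?_⟩
    intro M _ f hf x hx
    rw [hTU] at hx
    exact Gen.gen_V D f hf hx
  · refine ⟨T, h, U_le F hG hAE T ?_⟩
    intro M _ f hf x hx
    rw [hTU] at hx
    exact Gen.gen_U D f hf hg F.amb X hsurj hx
  · obtain ⟨T, h1, h2, -⟩ := Tower.Final.exists_term F hg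
    exact ⟨T, h1, U_le F hG hAE T (fun M _ f hf x hx => h2 f hf x hx)⟩

/-- **case (n)** -/
theorem case_n (hG : Glob D.t E) (hAE : F.A ≤ E) (hno : NoOut F) : D.t ∉ E ∧ NonAb E := by
  haveI := hG.normal
  obtain ⟨T, hU, hUE⟩ := exists_term F hG hAE
  exact OutN.out F T hU F.Sg_norm hno hG.perf hUE

/-- the outer involution when `NoOut` fails -/
theorem exists_e (hno : ¬ NoOut F) : ∃ e ∈ F.Sg, e * e = 1 ∧ Rank.ch F e = FieldAut.barE D.hq ∧
    ∃ y, y * D.t * y⁻¹ = e := by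
  unfold NoOut at hno
  push Not at hno
  obtain ⟨x, h1, h2, h3, y, hy⟩ := hno
  exact ⟨x, h1, h2, h3, y, hy⟩

/-- the remaining constructions: type `g0` -/
def ConsZero (F : Fld D) : Prop :=
  ∀ (e g : G) (c r : K), e ∈ F.Sg → OuterA.Dat F e g c r → gam D = 0 →
    (∀ X : Next D F.O, ∀ c, ∃ s ∈ X.S, a D (s * D.t * s⁻¹) = c) →
    ∃ Z : GZeroDef.GZero G K n, Z.t = D.t

/-- the remaining constructions: type `g1` -/
def ConsOne (F : Fld D) (E : Subgroup G) : Prop :=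
  ∀ (e g : G) (c r : K), e ∈ F.Sg → OuterA.Dat F e g c r → gam D = 1 → Glob D.t E → F.A ≤ E →
    Out D.t E

/-- **The local analysis.** -/
theorem out (hG : Glob D.t E) (hAE : F.A ≤ E) (h0 : ConsZero F) (h1 : ConsOne F E) :
    Out D.t E := by
  by_cases hno : NoOut F
  · obtain ⟨h2, h3⟩ := case_n F hG hAE hno
    exact ⟨h2, Or.inl h3⟩
  · obtain ⟨e, he, hee, hch, y, hy⟩ := exists_e F hno
    have hI : Swap.Inv F e := ⟨F.Sg_t e he, F.Sg_P e he, hee, hch⟩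
    obtain ⟨g, c, r, hD⟩ := OuterA.exists_dat F.Sg_norm hI (F.Sg_norm e he) hy
    rcases hD.cases with ⟨hg, hs⟩ | ⟨hg, -⟩
    · obtain ⟨Z, hZ⟩ := h0 e g c r he hD hg hs
      haveI := hG.normal
      obtain ⟨h4, S, V, h5, h6, -, h7, -⟩ := GZeroOut.out Z hG.perf (by rw [hZ]; exact hG.gen)
      rw [hZ] at h4
      refine ⟨h4, Or.inr ⟨S, V, h5, h6, ?_, ?_⟩⟩
      · rintro rfl
        rw [Subgroup.card_bot] at h7
        omega
      · exact h7.trans (Subgroup.card_le_of_le h5.1)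
    · exact h1 e g c r he hD hg hG hAE

include F in
theorem P_not_comm : ∃ x ∈ D.P, ∃ y ∈ D.P, x * y ≠ y * x := by
  obtain ⟨b, hb⟩ := exists_Tr_one D.hq
  obtain ⟨x, hx, hxa⟩ := D.ca_surj b
  obtain ⟨y, hy, hya⟩ := D.ca_surj 1
  refine ⟨x, hx, y, hy, fun h => ?_⟩
  have h1 := D.P_comm x hx y hy
  rw [hxa, hya, bar_one, mul_one, hb, h] at h1
  have h2 : D.z 1 = 1 := (mul_eq_right.mp h1.symm)
  exact one_ne_zero (D.z_inj 1 (bar_one n) h2)

end

/-- **S1771** from S1170 and the two constructions. -/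
theorem main {G : Type u} [Group G] [Finite G] (h1170 : StdSz.Out.S1170Stmt.{u})
    (hO : Cfsg.oddCore G = ⊥) (A : Subgroup G) (hA : Cfsg.IsStandardSubgroup A) (hnA : ¬ A.Normal)
    (hR : ∀ R : Sylow 2 ↥(Subgroup.centralizer (A : Set G)),
      IsCyclic ↥(R : Subgroup ↥(Subgroup.centralizer (A : Set G))))
    (t : G) (ht : orderOf t = 2) (htA : t ∈ Subgroup.centralizer (A : Set G))
    {F : Type v} [Field F] [Fintype F] (a : ℕ) (ha : 2 ≤ a) (hF : Fintype.card F = 4 ^ a)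
    (hAX : Nonempty (↥A ⧸ Subgroup.center ↥A ≃* Cfsg.PSU 3 F (2 ^ a)))
    (h0 : ∀ (H : Type u) [Group H] [Finite H] [CharP F 2] (D : Pre H F a) (Fl : Fld D), ConsZero Fl)
    (h1 : ∀ (H : Type u) [Group H] [Finite H] [CharP F 2] (D : Pre H F a) (Fl : Fld D)
      (E : Subgroup H), ConsOne Fl E) :
    Nonempty (↥(Cfsg.layer G) ≃* ↥A × ↥A) ∨ (IsLieTypeChar 2 ↥(Cfsg.layer G) ∧
      ¬ (∃ e : G, e ∈ Cfsg.layer G ∧ ∀ x ∈ Cfsg.layer G, t * x * t⁻¹ = e * x * e⁻¹)) := by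
  refine FinalGen.main h1170 hO A hA hnA hR t ht htA a ha hF hAX ?_
  intro H _ _ L A t C S hGl hAX'
  haveI := LZeroTop.charP_two hF
  obtain ⟨D, Fl, hDt, hDA, -⟩ := LZeroTop.exists_fld S C.ht C.htA C.cyc ha hF hAX'
  have hAE : Fl.A ≤ L := by rw [hDA]; exact C.le
  have hG : Glob D.t L := by rw [hDt]; exact hGl
  obtain ⟨h2, h3⟩ := out Fl hG hAE (h0 H D Fl) (h1 H D Fl L)
  rw [hDt] at h2
  exact ⟨h2, h3, D.P, fun p hp => hAE (Fl.P_A hp), D.Q_two.to_le D.P_le, P_not_comm Fl⟩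

end Cfsg.Agent.StdU3.Main
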