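import Mathlib

/-!
# Two involutions whose product squared lies in a normal subgroup
-/

set_option autoImplicit false

namespace Cfsg.Agent.StdU3.GOneALem

variable {G : Type*} [Group G]

theorem isPGroup_pair {t s : G} (ht : t * t = 1) (hs : s * s = 1) {b : ℕ}
    (h : (t * s) ^ (2 ^ b) = 1) : IsPGroup 2 (Subgroup.closure {t, s} : Subgroup G) := by
  have htinv : t⁻¹ = t := inv_eq_of_mul_eq_one_left ht
  have hsinv : s⁻¹ = s := inv_eq_of_mul_eq_one_left hs
  have hconj : t * (t * s) * t⁻¹ = (t * s)⁻¹ := by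
    rw [mul_inv_rev, hsinv, htinv]
    calc t * (t * s) * t = (t * t) * s * t := by group
      _ = s * t := by rw [ht, one_mul]
  have hk : ∀ k : ℤ, t * (t * s) ^ k = (t * s) ^ (-k) * t := by
    intro k
    have h1 : (t * (t * s) * t⁻¹) ^ k = t * (t * s) ^ k * t⁻¹ := conj_zpow
    rw [hconj, inv_zpow, ← zpow_neg] at h1
    rw [h1]
    group
  have hs' : s = (t * s) ^ (-1 : ℤ) * t := by
    rw [zpow_neg_one, mul_inv_rev, htinv, hsinv, mul_assoc, ht, mul_one]
  have key : ∀ g ∈ Subgroup.closure ({t, s} : Set G), ∃ k : ℤ, g = (t * s) ^ k ∨ g = (t * s) ^ k * t := by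
    intro g hg
    induction hg using Subgroup.closure_induction with
    | mem x hx =>
      rcases hx with rfl | hx
      · exact ⟨0, Or.inr (by simp)⟩
      · rw [Set.mem_singleton_iff] at hx
        exact ⟨-1, Or.inr (hx.trans hs')⟩
    | one => exact ⟨0, Or.inl (by simp)⟩
    | mul x y _ _ hx hy =>
      obtain ⟨k, hk1⟩ := hx
      obtain ⟨l, hl⟩ := hy
      rcases hk1 with rfl | rfl <;> rcases hl with rfl | rfl
      · exact ⟨k + l, Or.inl (by rw [zpow_add])⟩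
      · exact ⟨k + l, Or.inr (by rw [zpow_add, mul_assoc])⟩
      · exact ⟨k - l, Or.inr (by rw [mul_assoc, hk, ← mul_assoc, ← zpow_add]; rfl)⟩
      · refine ⟨k - l, Or.inl ?_⟩
        rw [mul_assoc, ← mul_assoc t, hk, mul_assoc _ t t, ht, mul_one, ← zpow_add]; rfl
    | inv x _ hx =>
      obtain ⟨k, hk1⟩ := hx
      rcases hk1 with rfl | rfl
      · exact ⟨-k, Or.inl (by rw [zpow_neg])⟩
      · refine ⟨k, Or.inr ?_⟩
        rw [mul_inv_rev, htinv, ← zpow_neg, hk, neg_neg]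
  rintro ⟨g, hg⟩
  refine ⟨b + 1, ?_⟩
  apply Subtype.ext
  show g ^ (2 ^ (b + 1)) = 1
  obtain ⟨k, hk1⟩ := key g hg
  rcases hk1 with rfl | rfl
  · rw [← zpow_natCast, ← zpow_mul, mul_comm, pow_succ, Nat.cast_mul, mul_assoc, zpow_mul,
      zpow_natCast, h, one_zpow]
  · have h2 : ((t * s) ^ k * t) * ((t * s) ^ k * t) = 1 := by
      rw [mul_assoc, ← mul_assoc t, hk, mul_assoc _ t t, ht, mul_one, ← zpow_add, add_neg_cancel, zpow_zero]
    rw [pow_succ, mul_comm, pow_mul, pow_two ((t * s) ^ k * t), h2, one_pow]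

/-- if `(t s)² ∈ K` then some `K`-conjugate of `s` generates a 2-group with `t`. -/
theorem exists_conj_two [Finite G] {t s : G} (ht : t * t = 1) (hs : s * s = 1) {K : Subgroup G}
    (h : (t * s) * (t * s) ∈ K) :
    ∃ k ∈ K, IsPGroup 2 (Subgroup.closure {t, k⁻¹ * s * k} : Subgroup G) := by
  have htinv : t⁻¹ = t := inv_eq_of_mul_eq_one_left ht
  have hsinv : s⁻¹ = s := inv_eq_of_mul_eq_one_left hs
  set d := t * s with hd
  have hpos : 0 < orderOf d := orderOf_pos d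
  obtain ⟨b, r, hr, hbr⟩ := Nat.exists_eq_two_pow_mul_odd hpos.ne'
  -- `1 + 4 i ≡ 0` modulo `r`
  obtain ⟨i, hi⟩ : ∃ i : ℤ, (r : ℤ) ∣ 1 + 4 * i := by
    have hcop : IsCoprime (r : ℤ) 4 := by
      have : Nat.Coprime r 4 := by
        have h1 : Nat.Coprime r 2 := hr.coprime_two_right
        exact Nat.Coprime.pow_right 2 h1
      exact_mod_cast this.isCoprime
    obtain ⟨u, v, huv⟩ := hcop
    refine ⟨-v, ⟨u, ?_⟩⟩
    linarith
  obtain ⟨j, hj⟩ := hi
  have hsd : s * d * s⁻¹ = d⁻¹ := by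
    rw [hd, mul_inv_rev, hsinv, htinv]
    calc s * (t * s) * s = s * t * (s * s) := by group
      _ = s * t := by rw [hs, mul_one]
  have htd : t * d * t⁻¹ = d⁻¹ := by
    rw [hd, mul_inv_rev, hsinv, htinv]
    calc t * (t * s) * t = (t * t) * s * t := by group
      _ = s * t := by rw [ht, one_mul]
  have hsk : ∀ m : ℤ, s * d ^ m = d ^ (-m) * s := by
    intro m
    have h1 : (s * d * s⁻¹) ^ m = s * d ^ m * s⁻¹ := conj_zpow
    rw [hsd, inv_zpow, ← zpow_neg] at h1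
    rw [h1]; group
  have htk : ∀ m : ℤ, t * d ^ m = d ^ (-m) * t := by
    intro m
    have h1 : (t * d * t⁻¹) ^ m = t * d ^ m * t⁻¹ := conj_zpow
    rw [htd, inv_zpow, ← zpow_neg] at h1
    rw [h1]; group
  refine ⟨d ^ (2 * i), ?_, ?_⟩
  · rw [zpow_mul]
    apply zpow_mem
    rw [zpow_two]; exact h
  · have hs2 : ((d ^ (2 * i))⁻¹ * s * d ^ (2 * i)) * ((d ^ (2 * i))⁻¹ * s * d ^ (2 * i)) = 1 := by
      calc ((d ^ (2 * i))⁻¹ * s * d ^ (2 * i)) * ((d ^ (2 * i))⁻¹ * s * d ^ (2 * i)) =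
            (d ^ (2 * i))⁻¹ * (s * s) * d ^ (2 * i) := by group
        _ = 1 := by rw [hs]; group
    refine isPGroup_pair (b := b) ht hs2 ?_
    have h1 : t * ((d ^ (2 * i))⁻¹ * s * d ^ (2 * i)) = d ^ (1 + 4 * i) := by
      rw [mul_assoc, hsk, ← zpow_neg, ← mul_assoc, ← mul_assoc, htk, mul_assoc (d ^ _) t, htk,
        ← mul_assoc, ← zpow_add, mul_assoc, ← hd, ← zpow_add_one]
      congr 1; ring
    rw [h1, ← zpow_natCast, ← zpow_mul, hj]
    have h2 : (r : ℤ) * j * ((2 ^ b : ℕ) : ℤ) = (orderOf d : ℤ) * j := by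
      rw [hbr]; push_cast; ring
    rw [h2, zpow_mul, zpow_natCast, pow_orderOf_eq_one, one_zpow]

end Cfsg.Agent.StdU3.GOneALem
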