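import Cfsg.Agent.StdU3.FieldAut
import Cfsg.Agent.StdU3.Tower.GBase

/-!
# Automorphisms of `F_q` and `F_{q²}`, `q = 2 ^ n`, `n` odd
-/

set_option autoImplicit false
set_option linter.unusedSectionVars false
set_option linter.style.haveILetI false

namespace Cfsg.Agent.StdU3.AutOdd

open Cfsg.Agent.StdU3.Field Cfsg.Agent.StdU3.FieldAut

/-- the order of an automorphism of `F_{2^m}` divides `m`. -/
theorem pow_eq_one {F : Type*} [Field F] [Finite F] [CharP F 2] {m : ℕ} (hF : Nat.card F = 2 ^ m)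
    (σ : F ≃+* F) : σ ^ m = 1 := by
  have : Fact (Nat.Prime 2) := ⟨Nat.prime_two⟩
  letI : Algebra (ZMod 2) F := ZMod.algebra F 2
  have hinj : Function.Injective (toGal (F := F) 2) := by
    intro a b h
    ext x
    exact congrArg (fun f : F ≃ₐ[ZMod 2] F => f x) h
  have h1 : Nat.card (F ≃ₐ[ZMod 2] F) = Module.finrank (ZMod 2) F :=
    IsGalois.card_aut_eq_finrank (ZMod 2) F
  have h2 : Nat.card F = Nat.card (ZMod 2) ^ Module.finrank (ZMod 2) F :=
    Module.natCard_eq_pow_finrank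
  rw [Nat.card_zmod, hF] at h2
  have h3 : Module.finrank (ZMod 2) F = m := (Nat.pow_right_injective le_rfl h2).symm
  apply hinj
  rw [map_pow, map_one, ← h3, ← h1]
  exact pow_card_eq_one'

theorem eq_one_of_sq {F : Type*} [Field F] [Finite F] [CharP F 2] {m : ℕ} (hm : Odd m)
    (hF : Nat.card F = 2 ^ m) {σ : F ≃+* F} (h : σ * σ = 1) : σ = 1 := by
  have h1 := pow_eq_one hF σ
  obtain ⟨k, rfl⟩ := hm
  rwa [pow_succ, pow_mul, pow_two, h, one_pow, one_mul] at h1

/-- automorphisms of `F_{q²}` of 2-power order are involutions. -/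
theorem sq_eq_one {K : Type*} [Field K] [Fintype K] [CharP K 2] {n : ℕ} (hn : Odd n) (hq : Qd K n)
    {σ : K ≃+* K} {k : ℕ} (h : σ ^ 2 ^ k = 1) : σ * σ = 1 := by
  have hF : Nat.card K = 2 ^ (n * 2) := by
    rw [Nat.card_eq_fintype_card, hq.hK, pow_mul]
  have h1 := pow_eq_one hF σ
  have h2 : orderOf (σ ^ 2) ∣ n := orderOf_dvd_of_pow_eq_one (by rw [← pow_mul, mul_comm, h1])
  have h3 : orderOf (σ ^ 2) ∣ 2 ^ k := orderOf_dvd_of_pow_eq_one (by
    rw [← pow_mul, mul_comm, pow_mul, h, one_pow])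
  have h4 : orderOf (σ ^ 2) ∣ Nat.gcd n (2 ^ k) := Nat.dvd_gcd h2 h3
  have h5 : Nat.Coprime n (2 ^ k) := (Nat.coprime_two_right.mpr hn).pow_right k
  rw [h5.gcd_eq_one, Nat.dvd_one, orderOf_eq_one_iff, pow_two] at h4
  exact h4

/-- an involutory additive map with `θ (τ x * k y) = A x * B y` is the identity, `m` odd. -/
theorem theta_id {F : Type*} [Field F] [Finite F] [CharP F 2] {m : ℕ} (hm : Odd m)
    (hF : Nat.card F = 2 ^ m) {X Y : Type*} (θ : F → F) (hadd : ∀ a b, θ (a + b) = θ a + θ b)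
    (hθ : ∀ a, θ (θ a) = a) (τ A : X → F) (k B : Y → F) (hτ : ∀ b, ∃ x, τ x = b)
    (hk : ∃ y, k y ≠ 0) (hA : ∀ x, ∃ y, A x = k y) (h : ∀ x y, θ (τ x * k y) = A x * B y) (a : F) :
    θ a = a := by
  have h0 : θ 0 = 0 := by
    have := hadd 0 0
    rw [add_zero] at this
    exact left_eq_add.mp this
  obtain ⟨y0, hy0⟩ := hk
  have hb0 : B y0 ≠ 0 := by
    intro hb
    obtain ⟨x, hx⟩ := hτ (θ 1 * (k y0)⁻¹)
    have h1 := h x y0
    rw [hb, mul_zero, hx, mul_assoc, inv_mul_cancel₀ hy0, mul_one, hθ] at h1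
    exact one_ne_zero h1
  have hks : ∀ b, ∃ y, k y = b := by
    intro b
    obtain ⟨x, hx⟩ := hτ (θ (b * B y0) * (k y0)⁻¹)
    have h1 := h x y0
    rw [hx, mul_assoc, inv_mul_cancel₀ hy0, mul_one, hθ] at h1
    obtain ⟨y, hy⟩ := hA x
    exact ⟨y, by rw [← hy]; exact (mul_right_cancel₀ hb0 h1).symm⟩
  set g := θ 1 with hg
  have hg0 : g ≠ 0 := by
    intro hg0
    have h1 := hθ 1
    rw [← hg, hg0, h0] at h1
    exact zero_ne_one h1
  obtain ⟨x1, hx1⟩ := hτ 1
  obtain ⟨y1, hy1⟩ := hks 1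
  have hmul : ∀ b c, θ (b * c) * g = θ b * θ c := by
    intro b c
    obtain ⟨xb, hxb⟩ := hτ b
    obtain ⟨yc, hyc⟩ := hks c
    have e1 := h xb yc
    have e2 := h x1 y1
    have e3 := h xb y1
    have e4 := h x1 yc
    rw [hxb, hyc] at e1
    rw [hx1, hy1, one_mul, ← hg] at e2
    rw [hxb, hy1, mul_one] at e3
    rw [hx1, hyc, one_mul] at e4
    rw [e1, e2, e3, e4]; ring
  let f : F →+* F :=
    { toFun := fun b => θ b * g⁻¹
      map_one' := mul_inv_cancel₀ hg0
      map_zero' := by rw [h0, zero_mul]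
      map_add' := fun b c => by rw [hadd, add_mul]
      map_mul' := fun b c => by
        have := hmul b c
        field_simp
        rw [this] }
  have hf : ∀ b, f b = θ b * g⁻¹ := fun _ => rfl
  have hbij : Function.Bijective f := ⟨f.injective, Finite.surjective_of_injective f.injective⟩
  have hgg : θ g⁻¹ = g * g := by
    have h1 := hmul g g⁻¹
    rw [mul_inv_cancel₀ hg0, ← hg] at h1
    have h2 : θ g = 1 := hθ 1
    rw [h2, one_mul] at h1
    exact h1.symm
  have hff : (RingEquiv.ofBijective f hbij) * (RingEquiv.ofBijective f hbij) = 1 := by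
    ext b
    show f (f b) = b
    rw [hf, hf]
    have h1 := hmul (θ b) g⁻¹
    rw [hθ, hgg] at h1
    have h2 : θ (θ b * g⁻¹) = b * g := by
      apply mul_right_cancel₀ hg0
      rw [h1]; ring
    rw [h2, mul_assoc, mul_inv_cancel₀ hg0, mul_one]
  have hone := eq_one_of_sq hm hF hff
  have hfa : ∀ b, θ b * g⁻¹ = b := by
    intro b
    have h1 := congrArg (fun σ : F ≃+* F => σ b) hone
    exact h1
  have hfb : ∀ b, θ b = b * g := by
    intro b
    have h1 := hfa b
    rw [mul_inv_eq_iff_eq_mul₀ hg0] at h1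
    exact h1
  have hg1 : g = 1 := by
    have h1 := hfb g
    have h2 : θ g = 1 := hθ 1
    rw [h2] at h1
    have h3 : (g + 1) * (g + 1) = 0 := by
      have : (g + 1) * (g + 1) = g * g + 1 + (g + g) := by ring
      rw [this, ← h1, CharTwo.add_self_eq_zero, CharTwo.add_self_eq_zero, add_zero]
    exact CharTwo.add_eq_zero.mp (mul_self_eq_zero.mp h3)
  rw [hfb, hg1, mul_one]

end Cfsg.Agent.StdU3.AutOdd
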