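import Cfsg.Agent.StdU3.EndLie
import Cfsg.Agent.StdU3.MainDef
import Cfsg.Agent.S1169
import Cfsg.Agent.S0222

/-!
# The abelian output: Goldschmidt and Bender
-/

set_option autoImplicit false
set_option linter.unusedSectionVars false

namespace Cfsg.Agent.StdU3.FinalAb

open scoped Pointwise
open Cfsg Subgroup Cfsg.Agent.StdSz.Out Cfsg.Agent.StdSz.OutLie

universe u

/-- a simple group of order divisible by 3, with noncommutative Sylow 2-subgroups, one of them with a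
non-trivial abelian strongly closed subgroup, is of Lie type in characteristic 2. -/
theorem lie_of_ab {L : Type u} [Group L] [Finite L] [IsSimpleGroup L] (S : Sylow 2 L)
    (hS : ¬ IsMulCommutative (S : Subgroup L)) (W : Subgroup L) (hne : W ≠ ⊥)
    (hcomm : IsMulCommutative W) (hcl : IsStronglyClosed W (S : Subgroup L))
    (h3 : 3 ∣ Nat.card L) : IsLieTypeChar 2 L := by
  rcases Cfsg.Agent.S1169.result S W hne hcomm hcl with h | ⟨H, hH⟩
  · exact absurd h hS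
  · have hna : ∃ a b : L, a * b ≠ b * a := by
      by_contra hcon
      push Not at hcon
      exact hS ⟨⟨fun a b => Subtype.ext (hcon a b)⟩⟩
    rcases Cfsg.Agent.S0222.result hna H hH with ⟨F, _, _, hchar, h4, he⟩ | h |
      ⟨F, _, _, q, hq, heven, h4, he⟩
    · left
      exact ⟨F, inferInstance, inferInstance, hchar, 2, le_rfl, fun _ => h4, he⟩
    · exact absurd h3 (EndLie.not_three_dvd_suzuki h)
    · have hev : Even (Fintype.card F) := by
        rw [hq, pow_two]; exact heven.mul_left q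
      right; right; left
      exact ⟨F, inferInstance, inferInstance, charP_two_of_even hev, 3, q, hq, le_rfl,
        fun h => by omega, he⟩

/-- **both outputs.** -/
theorem lie_of_out {G : Type u} [Group G] [Finite G] (h1170 : S1170Stmt.{u}) {E P : Subgroup G}
    [IsSimpleGroup E] (hP : IsPGroup 2 P) (hPE : P ≤ E) (hPc : ∃ x ∈ P, ∃ y ∈ P, x * y ≠ y * x)
    (h3 : 3 ∣ Nat.card E) (h : MainDef.NonAb E ∨ MainDef.Ab E) : IsLieTypeChar 2 E := by
  have : Fact (Nat.Prime 2) := ⟨Nat.prime_two⟩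
  rcases h with ⟨S, U, h1, h2, h3', h4⟩ | ⟨S, W, h1, h2, h3', -⟩
  · exact EndLie.lie_of_closed h1170 S U h1 h2 h3' h4 h3
  · refine lie_of_ab S ?_ W h3' h2 h1 h3
    intro hc
    obtain ⟨x, hx, y, hy, hxy⟩ := hPc
    have h5 : IsPGroup 2 (P.subgroupOf E) := hP.comap_subtype
    obtain ⟨T, hT⟩ := h5.exists_le_sylow
    obtain ⟨g, hg⟩ := MulAction.exists_smul_eq E T S
    have hmem : ∀ z (hz : z ∈ P), g * ⟨z, hPE hz⟩ * g⁻¹ ∈ (S : Subgroup E) := by
      intro z hz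
      rw [← hg]
      have h6 : (⟨z, hPE hz⟩ : E) ∈ (T : Subgroup E) := hT (mem_subgroupOf.mpr hz)
      exact Subgroup.smul_mem_pointwise_smul (⟨z, hPE hz⟩ : E) (MulAut.conj g)
        (T : Subgroup E) h6
    apply hxy
    have h7 := hc.is_comm.comm (⟨_, hmem x hx⟩ : (S : Subgroup E)) ⟨_, hmem y hy⟩
    have h8 : g * ⟨x, hPE hx⟩ * g⁻¹ * (g * ⟨y, hPE hy⟩ * g⁻¹) =
      g * ⟨y, hPE hy⟩ * g⁻¹ * (g * ⟨x, hPE hx⟩ * g⁻¹) := congrArg Subtype.val h7
    have h9 : (⟨x, hPE hx⟩ : E) * ⟨y, hPE hy⟩ = ⟨y, hPE hy⟩ * ⟨x, hPE hx⟩ := by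
      calc (⟨x, hPE hx⟩ : E) * ⟨y, hPE hy⟩ =
          g⁻¹ * (g * ⟨x, hPE hx⟩ * g⁻¹ * (g * ⟨y, hPE hy⟩ * g⁻¹)) * g := by group
        _ = g⁻¹ * (g * ⟨y, hPE hy⟩ * g⁻¹ * (g * ⟨x, hPE hx⟩ * g⁻¹)) * g := by rw [h8]
        _ = ⟨y, hPE hy⟩ * ⟨x, hPE hx⟩ := by group
    exact congrArg Subtype.val h9

end Cfsg.Agent.StdU3.FinalAb
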