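import Cfsg.Agent.StdU3.EndN

/-!
# `Sg / P` is abelian and not fused in `C_G(t)`
-/

set_option autoImplicit false
set_option linter.unusedSectionVars false
set_option linter.dupNamespace false

namespace Cfsg.Agent.StdU3.FusC

open Subgroup Cfsg.Agent.StdU3.Field Cfsg.Agent.StdU3.PreDef Cfsg.Agent.StdU3.FldDef
open Cfsg.Agent.StdU3.LevelOne Cfsg.Agent.StdU3.FieldAut Cfsg.Agent.StdU3.Rank
open Cfsg.Agent.StdU3.OutInv Cfsg.Agent.StdU3.LemC Cfsg.Agent.StdU3.EndN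
open Cfsg.Agent.StdU3.NormQ hiding barE

variable {G : Type*} [Group G] [Finite G] {K : Type*} [Field K] [Fintype K] [CharP K 2] {n : ℕ}
variable {D : Pre G K n} (F : Fld D)

theorem A_inf_Sg {x : G} (hx : x ∈ F.Sg) (hA : x ∈ F.A) : x ∈ D.P := by
  rcases ch_ker F hx (ch_A F hA) with h | h
  · exact h
  · exfalso
    apply F.t_A
    have e : D.t = x⁻¹ * (x * D.t) := by group
    rw [e]
    exact F.A.mul_mem (F.A.inv_mem hA) (F.P_A h)

/-- commutators of `Sg` are in `P`. -/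
theorem cmt_Sg (hn : ∀ s ∈ F.Sg, Norm D s) {x y : G} (hx : x ∈ F.Sg) (hy : y ∈ F.Sg) :
    x * y * x⁻¹ * y⁻¹ ∈ D.P := by
  obtain ⟨f, hf, hf1, -⟩ := exists_f F hn
  -- normal form
  have key : ∀ x ∈ F.Sg, ∃ p ∈ D.P, ∃ k : ℤ, ∃ τ, (τ = 1 ∨ τ = D.t) ∧ x = p * f ^ k * τ := by
    intro x hx
    obtain ⟨k, h | h⟩ := hf1 x hx
    · exact ⟨x * f ^ k, h, -k, 1, Or.inl rfl, by group⟩
    · refine ⟨x * f ^ k * D.t, h, -k, D.t, Or.inr rfl, ?_⟩
      have e : x * f ^ k * D.t * f ^ (-k) = x * D.t := by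
        have e1 : f ^ k * D.t * f ^ (-k) = D.t := by
          rw [F.Sg_t _ (F.Sg.zpow_mem hf k)]; group
        calc x * f ^ k * D.t * f ^ (-k) = x * (f ^ k * D.t * f ^ (-k)) := by group
          _ = _ := by rw [e1]
      rw [e, mul_assoc, D.t_sq, mul_one]
  have hτc : ∀ τ, (τ = 1 ∨ τ = D.t) → ∀ g, g * D.t = D.t * g → g * τ = τ * g := by
    rintro τ (rfl | rfl) g hg
    · rw [one_mul, mul_one]
    · exact hg
  obtain ⟨p, hp, k, τ, hτ, rfl⟩ := key x hx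
  obtain ⟨p', hp', k', τ', hτ', rfl⟩ := key y hy
  have hfk := F.Sg.zpow_mem hf k
  have hfk' := F.Sg.zpow_mem hf k'
  have ht1 : ∀ k : ℤ, f ^ k * D.t = D.t * f ^ k := fun k => F.Sg_t _ (F.Sg.zpow_mem hf k)
  have e1 : p * f ^ k * τ * (p' * f ^ k' * τ') =
      (p * (f ^ k * p' * (f ^ k)⁻¹)) * (f ^ (k + k') * (τ * τ')) := by
    calc p * f ^ k * τ * (p' * f ^ k' * τ') = p * f ^ k * (τ * (p' * f ^ k')) * τ' := by group
      _ = p * f ^ k * ((p' * f ^ k') * τ) * τ' := by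
          rw [hτc τ hτ _ (comm_mul (P_t hp') (ht1 k'))]
      _ = _ := by rw [zpow_add]; group
  have e2 : (p' * f ^ k' * τ') * (p * f ^ k * τ) =
      (p' * (f ^ k' * p * (f ^ k')⁻¹)) * (f ^ (k + k') * (τ * τ')) := by
    calc (p' * f ^ k' * τ') * (p * f ^ k * τ) = p' * f ^ k' * (τ' * (p * f ^ k)) * τ := by group
      _ = p' * f ^ k' * ((p * f ^ k) * τ') * τ := by
          rw [hτc τ' hτ' _ (comm_mul (P_t hp) (ht1 k))]
      _ = (p' * (f ^ k' * p * (f ^ k')⁻¹)) * (f ^ (k' + k) * (τ' * τ)) := by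
          rw [zpow_add]; group
      _ = _ := by
          rw [add_comm k' k]
          congr 2
          rcases hτ with rfl | rfl
          · rw [mul_one, one_mul]
          · exact (hτc τ' hτ' _ rfl).symm
  have e3 : p * f ^ k * τ * (p' * f ^ k' * τ') * (p * f ^ k * τ)⁻¹ * (p' * f ^ k' * τ')⁻¹ =
      (p * (f ^ k * p' * (f ^ k)⁻¹)) * (p' * (f ^ k' * p * (f ^ k')⁻¹))⁻¹ := by
    have e4 : p * f ^ k * τ * (p' * f ^ k' * τ') * (p * f ^ k * τ)⁻¹ * (p' * f ^ k' * τ')⁻¹ =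
        (p * f ^ k * τ * (p' * f ^ k' * τ')) * ((p' * f ^ k' * τ') * (p * f ^ k * τ))⁻¹ := by group
    rw [e4, e1, e2]; group
  rw [e3]
  exact D.P.mul_mem (D.P.mul_mem hp (F.Sg_P _ hfk _ hp'))
    (D.P.inv_mem (D.P.mul_mem hp' (F.Sg_P _ hfk' _ hp)))

/-- `A` as a subgroup of `C(t)` -/
def A' : Subgroup (centralizer ({D.t} : Set G)) := F.A.subgroupOf _

instance : (A' F).Normal where
  conj_mem := by
    intro a ha g
    exact F.A_norm g (mem_centralizer_singleton_iff.mp g.2) _ ha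

/-- **no fusion in `Sg / P`.** -/
theorem fusC (hn : ∀ s ∈ F.Sg, Norm D s) {x c : G} (hx : x ∈ F.Sg) (hc : c * D.t = D.t * c)
    (hcx : c * x * c⁻¹ ∈ F.Sg) : c * x * c⁻¹ * x⁻¹ ∈ D.P := by
  classical
  have : Fact (Nat.Prime 2) := ⟨Nat.prime_two⟩
  have hxt := F.Sg_t x hx
  let C : Subgroup G := centralizer ({D.t} : Set G)
  -- `Sg` as a Sylow subgroup of `C(t)`
  have hSg2 : IsPGroup 2 (F.Sg.subgroupOf C) := F.Sg_two.comap_subtype
  obtain ⟨P0, hP0⟩ := hSg2.exists_le_sylow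
  have hP0' : (P0 : Subgroup C).map C.subtype = F.Sg := by
    apply Sg_max F (P0.isPGroup'.map _)
    · rintro _ ⟨r, hr, rfl⟩
      exact mem_centralizer_singleton_iff.mp r.2
    · intro s hs
      exact ⟨⟨s, mem_cent (F.Sg_t s hs)⟩, hP0 hs, rfl⟩
  have hmem : ∀ r : C, r ∈ (P0 : Subgroup C) ↔ (r : G) ∈ F.Sg := by
    intro r
    rw [← hP0']
    constructor
    · intro h; exact ⟨r, h, rfl⟩
    · rintro ⟨r', hr', h⟩
      have : r' = r := Subtype.ext h
      rwa [← this]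
  let π : C →* C ⧸ A' F := QuotientGroup.mk' (A' F)
  have hπ : Function.Surjective π := QuotientGroup.mk'_surjective _
  have hπ1 : ∀ r r' : C, π r = π r' ↔ (r : G)⁻¹ * r' ∈ F.A := by
    intro r r'
    show ((r : C ⧸ A' F) = (r' : C ⧸ A' F)) ↔ _
    rw [QuotientGroup.eq]
    rfl
  let X : Sylow 2 (C ⧸ A' F) := P0.mapSurjective hπ
  have hX : (X : Subgroup (C ⧸ A' F)) = (P0 : Subgroup C).map π := rfl
  have hXc : IsMulCommutative (X : Subgroup (C ⧸ A' F)) := by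
    refine ⟨⟨?_⟩⟩
    rintro ⟨_, r, hr, rfl⟩ ⟨_, r', hr', rfl⟩
    apply Subtype.ext
    show π r * π r' = π r' * π r
    rw [← map_mul, ← map_mul, hπ1]
    have h1 := cmt_Sg F hn (inv_mem ((hmem r').mp hr')) (inv_mem ((hmem r).mp hr))
    have e : ((r * r' : C) : G)⁻¹ * ((r' * r : C) : G) =
        (r' : G)⁻¹ * (r : G)⁻¹ * (r' : G)⁻¹⁻¹ * (r : G)⁻¹⁻¹ := by
      show ((r : G) * r')⁻¹ * (r' * r) = _
      group
    rw [e]; exact F.P_A h1
  let x' : C := ⟨x, mem_cent hxt⟩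
  let c' : C := ⟨c, mem_cent hc⟩
  have hxX : π x' ∈ (X : Subgroup (C ⧸ A' F)) := ⟨x', (hmem x').mpr hx, rfl⟩
  have hcxX : (π c')⁻¹⁻¹ * π x' * (π c')⁻¹ ∈ (X : Subgroup (C ⧸ A' F)) := by
    refine ⟨c' * x' * c'⁻¹, (hmem _).mpr hcx, ?_⟩
    rw [map_mul, map_mul, map_inv, inv_inv]
  obtain ⟨m, hm, hmx⟩ := X.conj_eq_normalizer_conj_of_mem (π x') (π c')⁻¹ hxX hcxX
  -- `m` centralizes `X`
  have hmX : ∀ z ∈ (X : Subgroup (C ⧸ A' F)), m⁻¹ * z * m ∈ (X : Subgroup (C ⧸ A' F)) := by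
    intro z hz
    have h1 := inv_mem hm
    have h2 := (Subgroup.mem_normalizer_iff.mp h1 z).mp hz
    rwa [inv_inv] at h2
  let tt : C := ⟨D.t, mem_cent rfl⟩
  have httc : ∀ z, π tt * z = z * π tt := by
    intro z
    obtain ⟨r, rfl⟩ := hπ z
    rw [← map_mul, ← map_mul]
    congr 1
    apply Subtype.ext
    exact (mem_centralizer_singleton_iff.mp r.2).symm
  have httt : π tt * π tt = 1 := by
    rw [← map_mul]
    have : tt * tt = 1 := Subtype.ext D.t_sq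
    rw [this, map_one]
  have hcl : ∀ z ∈ (X : Subgroup (C ⧸ A' F)), m⁻¹ * z * m = z ∨ m⁻¹ * z * m = z * π tt := by
    intro z hz
    have h1 := hmX z hz
    obtain ⟨r, hr, rfl⟩ := hz
    obtain ⟨r', hr', h2⟩ := h1
    obtain ⟨μ, hμ⟩ := hπ m
    rw [← hμ, ← map_inv, ← map_mul, ← map_mul, hπ1] at h2
    have hμt := mem_centralizer_singleton_iff.mp μ.2
    have hrt := mem_centralizer_singleton_iff.mp r.2
    have hrt' := mem_centralizer_singleton_iff.mp r'.2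
    have hch : ch F (r' : G) = ch F (r : G) := by
      have h3 := ch_A F h2
      have e : ((μ⁻¹ * r * μ : C) : G) = (μ : G)⁻¹ * r * (μ : G)⁻¹⁻¹ := by
        show (μ : G)⁻¹ * r * μ = _
        rw [inv_inv]
      rw [e, ch_mul F (comm_inv hrt') (comm_mul (comm_mul (comm_inv hμt) hrt)
        (comm_inv (comm_inv hμt))), ch_conj F (comm_inv hμt) hrt, ch_inv F hrt'] at h3
      exact (inv_mul_eq_one.mp h3)
    have hrr : (r : G)⁻¹ * r' ∈ F.Sg := mul_mem (inv_mem ((hmem r).mp hr)) ((hmem r').mp hr')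
    have hch1 : ch F ((r : G)⁻¹ * r') = 1 := by
      rw [ch_mul F (comm_inv hrt) hrt', ch_inv F hrt, hch, inv_mul_cancel]
    have h2' : π r' = m⁻¹ * π r * m := by
      rw [← hμ, ← map_inv, ← map_mul, ← map_mul, hπ1]; exact h2
    rw [← h2']
    rcases ch_ker F hrr hch1 with h4 | h4
    · left
      exact ((hπ1 r r').mpr (F.P_A h4)).symm
    · right
      rw [← map_mul]
      symm
      rw [hπ1]
      have e : ((r * tt : C) : G)⁻¹ * r' = (r : G)⁻¹ * r' * D.t := by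
        show ((r : G) * D.t)⁻¹ * r' = _
        rw [mul_inv_rev, t_inv]
        have e1 : D.t * (r : G)⁻¹ = (r : G)⁻¹ * D.t := (comm_inv hrt).symm
        rw [e1, mul_assoc, ← hrt', mul_assoc]
      rw [e]; exact F.P_A h4
  have hcl2 : ∀ z ∈ (X : Subgroup (C ⧸ A' F)), (m * m)⁻¹ * z * (m * m) = z := by
    intro z hz
    have e : (m * m)⁻¹ * z * (m * m) = m⁻¹ * (m⁻¹ * z * m) * m := by group
    rw [e]
    rcases hcl z hz with h1 | h1
    · rw [h1, h1]
    · rw [h1]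
      have e2 : m⁻¹ * (z * π tt) * m = (m⁻¹ * z * m) * π tt := by
        have : m⁻¹ * (z * π tt) * m = m⁻¹ * z * (π tt * m) := by group
        rw [this, httc]; group
      rw [e2, h1, mul_assoc, httt, mul_one]
  -- the 2-part of `m` is in `X`
  obtain ⟨a, b, hb, hab⟩ := Nat.exists_eq_two_pow_mul_odd (n := orderOf m) (orderOf_pos m).ne'
  have hmb : m ^ b ∈ (X : Subgroup (C ⧸ A' F)) := by
    have h1 : IsPGroup 2 (zpowers (m ^ b)) := by
      rw [IsPGroup.iff_card]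
      refine ⟨a, ?_⟩
      rw [Nat.card_zpowers, orderOf_pow' _ hb.pos.ne', hab, Nat.gcd_eq_right (dvd_mul_left _ _),
        Nat.mul_div_cancel _ hb.pos]
    have h2 : IsPGroup 2 ((X : Subgroup (C ⧸ A' F)) ⊔ zpowers (m ^ b) : Subgroup (C ⧸ A' F)) := by
      apply IsPGroup.to_sup_of_normal_left' X.isPGroup' h1
      rw [zpowers_le]
      exact pow_mem hm b
    have h3 := X.is_maximal' h2 le_sup_left
    have h4 : m ^ b ∈ ((X : Subgroup (C ⧸ A' F)) ⊔ zpowers (m ^ b) : Subgroup (C ⧸ A' F)) :=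
      (le_sup_right (a := (X : Subgroup (C ⧸ A' F)))) (mem_zpowers _)
    rw [h3] at h4
    exact h4
  have hfin : ∀ z ∈ (X : Subgroup (C ⧸ A' F)), m⁻¹ * z * m = z := by
    intro z hz
    obtain ⟨j, rfl⟩ := hb
    have h1 : m ^ (2 * j + 1) * z = z * m ^ (2 * j + 1) := by
      have := hXc.is_comm.comm ⟨_, hmb⟩ ⟨z, hz⟩
      exact congrArg Subtype.val this
    have h2 : (m * m) * z = z * (m * m) := by
      have := hcl2 z hz
      rw [mul_assoc, inv_mul_eq_iff_eq_mul] at this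
      exact this.symm
    have h3 : (m * m) ^ j * z = z * (m * m) ^ j := (Commute.pow_left (show Commute (m * m) z from h2) j)
    have h4 : m ^ (2 * j + 1) = (m * m) ^ j * m := by
      rw [pow_succ, pow_mul, sq]
    rw [h4] at h1
    have h5 : (m * m) ^ j * (m * z) = (m * m) ^ j * (z * m) := by
      rw [← mul_assoc, h1, ← mul_assoc, ← mul_assoc, h3]
    have h6 := mul_left_cancel h5
    rw [mul_assoc, ← h6]; group
  rw [hfin _ hxX] at hmx
  have h7 : π (c' * x' * c'⁻¹) = π x' := by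
    rw [inv_inv] at hmx
    rw [map_mul, map_mul, map_inv]
    exact hmx
  rw [hπ1] at h7
  have h8 : c * x * c⁻¹ * x⁻¹ ∈ F.A := by
    have h9 := F.A.inv_mem h7
    have e : ((((c' * x' * c'⁻¹ : C) : G))⁻¹ * (x' : G))⁻¹ = x⁻¹ * (c * x * c⁻¹) := by
      show ((c * x * c⁻¹)⁻¹ * x)⁻¹ = _
      group
    rw [e] at h9
    have h10 := F.A_norm x hxt _ h9
    have e2 : x * (x⁻¹ * (c * x * c⁻¹)) * x⁻¹ = c * x * c⁻¹ * x⁻¹ := by group
    rwa [e2] at h10
  exact A_inf_Sg F (mul_mem hcx (inv_mem hx)) h8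

end Cfsg.Agent.StdU3.FusC
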