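import Mathlib

/-!
# Type `g1`: general lemmas
-/

set_option autoImplicit false

namespace Cfsg.Agent.StdU3.GOneLem

open Subgroup

section Orbit

variable {G : Type*} [Group G]

/-- orbit-stabilizer for conjugation by the elements of a subgroup. -/
theorem orb_stab (H : Subgroup G) (d : G) :
    Nat.card {x : G // ∃ h ∈ H, x = h * d * h⁻¹} *
      Nat.card (H ⊓ centralizer ({d} : Set G) : Subgroup G) = Nat.card H := by
  let _ : MulAction H G := MulAction.compHom G ((MulAut.conj : G →* MulAut G).comp H.subtype)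
  have hsm : ∀ (h : H) (x : G), h • x = (h : G) * x * (h : G)⁻¹ := fun h x => rfl
  have h1 : Nat.card (MulAction.orbit H d) * Nat.card (MulAction.stabilizer H d) = Nat.card H := by
    rw [← Nat.card_prod]
    exact Nat.card_congr (MulAction.orbitProdStabilizerEquivGroup H d)
  have h2 : Nat.card (MulAction.orbit H d) = Nat.card {x : G // ∃ h ∈ H, x = h * d * h⁻¹} := by
    apply Nat.card_congr
    refine Equiv.subtypeEquivRight (fun x => ?_)
    constructor
    · rintro ⟨h, rfl⟩
      exact ⟨h, h.2, (hsm h d)⟩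
    · rintro ⟨h, hh, rfl⟩
      exact ⟨⟨h, hh⟩, hsm _ _⟩
  have h3 : Nat.card (MulAction.stabilizer H d) =
      Nat.card (H ⊓ centralizer ({d} : Set G) : Subgroup G) := by
    apply Nat.card_congr
    refine ⟨fun x => ⟨(x : H), (x : H).2, ?_⟩, fun x => ⟨⟨x, x.2.1⟩, ?_⟩, fun x => ?_, fun x => ?_⟩
    · have := x.2
      rw [MulAction.mem_stabilizer_iff, hsm, mul_inv_eq_iff_eq_mul] at this
      exact mem_centralizer_singleton_iff.2 this
    · rw [MulAction.mem_stabilizer_iff, hsm, mul_inv_eq_iff_eq_mul]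
      exact mem_centralizer_singleton_iff.1 x.2.2
    · rfl
    · rfl
  rw [← h2, ← h3, h1]

/-- upper bound for the order by the size of a set containing the conjugates of `d` and the order of a
subgroup containing the centralizer of `d`. -/
theorem card_le_of [Finite G] (H K : Subgroup G) (d : G) (V : Set G)
    (hV : ∀ h ∈ H, h * d * h⁻¹ ∈ V) (hK : ∀ h ∈ H, h * d = d * h → h ∈ K) :
    Nat.card H ≤ V.ncard * Nat.card K := by
  rw [← orb_stab H d]
  apply Nat.mul_le_mul
  · rw [← Nat.card_coe_set_eq]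
    have : Finite V := V.toFinite
    refine Nat.card_le_card_of_injective
      (fun x : {x : G // ∃ h ∈ H, x = h * d * h⁻¹} => (⟨x.1, by
        obtain ⟨x, h, hh, rfl⟩ := x; exact hV h hh⟩ : V)) ?_
    intro x y hxy
    exact Subtype.ext (congrArg (fun z : V => (z : G)) hxy)
  · exact Nat.card_le_card_of_injective _ (inclusion_injective
      (show H ⊓ centralizer ({d} : Set G) ≤ K from
        fun x hx => hK x hx.1 (mem_centralizer_singleton_iff.1 hx.2)))

/-- the conjugates of `d` fill up the set `V` if the numbers fit. -/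
theorem surj_of [Finite G] (H K : Subgroup G) (d : G) (V : Set G)
    (hV : ∀ h ∈ H, h * d * h⁻¹ ∈ V) (hK : ∀ h ∈ H, h * d = d * h → h ∈ K)
    (hc : V.ncard * Nat.card K ≤ Nat.card H) : ∀ v ∈ V, ∃ h ∈ H, h * d * h⁻¹ = v := by
  have h1 : Nat.card (H ⊓ centralizer ({d} : Set G) : Subgroup G) ≤ Nat.card K :=
    Nat.card_le_card_of_injective _ (inclusion_injective
      (show H ⊓ centralizer ({d} : Set G) ≤ K from
        fun x hx => hK x hx.1 (mem_centralizer_singleton_iff.1 hx.2)))
  have h2 := orb_stab H d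
  have hpos : 0 < Nat.card (H ⊓ centralizer ({d} : Set G) : Subgroup G) := Nat.card_pos
  let W : Set G := {x : G | ∃ h ∈ H, x = h * d * h⁻¹}
  have hWV : W ⊆ V := by rintro _ ⟨h, hh, rfl⟩; exact hV h hh
  have hW : W.ncard = Nat.card {x : G // ∃ h ∈ H, x = h * d * h⁻¹} :=
    (Nat.card_coe_set_eq W).symm
  have h3 : V.ncard ≤ W.ncard := by
    rw [hW]
    by_contra hlt
    push Not at hlt
    have h4 : Nat.card {x : G // ∃ h ∈ H, x = h * d * h⁻¹} *
        Nat.card (H ⊓ centralizer ({d} : Set G) : Subgroup G) < V.ncard * Nat.card K :=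
      lt_of_lt_of_le (Nat.mul_lt_mul_of_pos_right hlt hpos) (Nat.mul_le_mul_left _ h1)
    omega
  have h5 : W = V := Set.eq_of_subset_of_ncard_le hWV h3 (Set.toFinite V)
  intro v hv
  rw [← h5] at hv
  obtain ⟨h, hh, e⟩ := hv
  exact ⟨h, hh, e.symm⟩

/-- the order of a product set of subgroups. -/
theorem card_mul_le [Finite G] (A B C D : Subgroup G) (hC : C ≤ A) (hCB : C ≤ B)
    (hD : ∀ x ∈ D, ∃ a ∈ A, ∃ b ∈ B, x = a * b) :
    Nat.card D * Nat.card C ≤ Nat.card A * Nat.card B := by
  choose a ha b hb hab using hD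
  rw [← Nat.card_prod, ← Nat.card_prod]
  refine Nat.card_le_card_of_injective
    (fun p : D × C => ((⟨a p.1 p.1.2 * p.2, mul_mem (ha _ _) (hC p.2.2)⟩ : A),
      (⟨(p.2 : G)⁻¹ * b p.1 p.1.2, mul_mem (inv_mem (hCB p.2.2)) (hb _ _)⟩ : B))) ?_
  rintro ⟨x, c⟩ ⟨y, c'⟩ hxy
  have h1 : a x x.2 * (c : G) = a y y.2 * c' := congrArg (fun z => ((z.1 : A) : G)) hxy
  have h2 : (c : G)⁻¹ * b x x.2 = (c' : G)⁻¹ * b y y.2 := congrArg (fun z => ((z.2 : B) : G)) hxy
  have h3 : (x : G) = y := by
    rw [hab x x.2, hab y y.2]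
    calc a x x.2 * b x x.2 = (a x x.2 * c) * ((c : G)⁻¹ * b x x.2) := by group
      _ = (a y y.2 * c') * ((c' : G)⁻¹ * b y y.2) := by rw [h1, h2]
      _ = _ := by group
  have h4 : x = y := Subtype.ext h3
  subst h4
  have h5 : (c : G) = c' := mul_left_cancel h1
  rw [Subtype.ext h5]

/-- the order of a product set of subgroups, lower bound. -/
theorem card_le_mul [Finite G] (A B C D : Subgroup G) (hD : ∀ a ∈ A, ∀ b ∈ B, a * b ∈ D)
    (hC : ∀ x ∈ A, x ∈ B → x ∈ C) :
    Nat.card A * Nat.card B ≤ Nat.card D * Nat.card C := by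
  classical
  -- fibres of `A × B → D`
  let f : A × B → D := fun p => ⟨p.1 * p.2, hD _ p.1.2 _ p.2.2⟩
  rw [← Nat.card_prod]
  have hfib : ∀ d : D, Nat.card {p : A × B // f p = d} ≤ Nat.card C := by
    intro d
    by_cases hne : ∃ p, f p = d
    · obtain ⟨p, hp⟩ := hne
      refine Nat.card_le_card_of_injective
        (fun r : {p : A × B // f p = d} => (⟨(p.1 : G)⁻¹ * r.1.1, hC _
          (mul_mem (inv_mem p.1.2) r.1.1.2) (by
            have h1 : (p.1 : G) * p.2 = r.1.1 * r.1.2 := by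
              have := hp.trans r.2.symm
              exact congrArg Subtype.val this
            have h2 : (p.1 : G)⁻¹ * r.1.1 = p.2 * (r.1.2 : G)⁻¹ := by
              rw [eq_mul_inv_iff_mul_eq, mul_assoc, ← h1, inv_mul_cancel_left]
            rw [h2]
            exact mul_mem p.2.2 (inv_mem r.1.2.2))⟩ : C)) ?_
      intro r r' hrr
      have h3 : (p.1 : G)⁻¹ * r.1.1 = (p.1 : G)⁻¹ * r'.1.1 := congrArg (fun z : C => (z : G)) hrr
      have h4 : (r.1.1 : G) = r'.1.1 := mul_left_cancel h3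
      have h5 : (r.1.1 : G) * r.1.2 = r'.1.1 * r'.1.2 :=
        congrArg Subtype.val (r.2.trans r'.2.symm)
      rw [h4] at h5
      have h6 := mul_left_cancel h5
      exact Subtype.ext (Prod.ext (Subtype.ext h4) (Subtype.ext h6))
    · have : IsEmpty {p : A × B // f p = d} := ⟨fun p => hne ⟨p.1, p.2⟩⟩
      rw [Nat.card_of_isEmpty]
      exact Nat.zero_le _
  rw [Nat.card_congr (Equiv.sigmaFiberEquiv f).symm]
  have := Fintype.ofFinite D
  rw [Nat.card_sigma]
  calc ∑ d : D, Nat.card {p : A × B // f p = d} ≤ ∑ _d : D, Nat.card C :=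
        Finset.sum_le_sum (fun d _ => hfib d)
    _ = Nat.card D * Nat.card C := by
        rw [Finset.sum_const, Finset.card_univ, smul_eq_mul, Nat.card_eq_fintype_card (α := D)]

end Orbit

section TwoGroup

variable {Y : Type*} [Group Y]

theorem mul_mem_of_index_two {X : Subgroup Y} (hX : X.index = 2) {a b : Y} (ha : a ∉ X)
    (hb : b ∉ X) : a * b ∈ X := by
  rw [Subgroup.mul_mem_iff_of_index_two hX]
  exact ⟨fun h => absurd h ha, fun h => absurd h hb⟩

theorem sq_mem_of_index_two {X : Subgroup Y} (hX : X.index = 2) (a : Y) : a * a ∈ X := by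
  rw [Subgroup.mul_mem_iff_of_index_two hX]

/-- If `X` (index two) lies in the subgroup generated by the squares, `Y` is commutative. -/
theorem comm_of_le [Finite Y] (hY : IsPGroup 2 Y) {X : Subgroup Y} (hX : X.index = 2)
    (hsq : X ≤ closure (Set.range fun g : Y => g * g)) : ∀ a b : Y, a * b = b * a := by
  classical
  have : Fact (Nat.Prime 2) := ⟨Nat.prime_two⟩
  obtain ⟨g, hg⟩ : ∃ g, g ∉ X := by
    by_contra hcon
    push Not at hcon
    have : X = ⊤ := by rw [eq_top_iff]; exact fun x _ => hcon x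
    rw [this, index_top] at hX
    omega
  have hcyc : zpowers g = ⊤ := by
    by_contra hne
    obtain ⟨n, hn⟩ := hY.exists_card_eq
    obtain ⟨m, hm⟩ := (hY.to_subgroup (zpowers g)).exists_card_eq
    have hlt : m < n := by
      have h1 : Nat.card (zpowers g) < Nat.card Y := by
        by_contra hle
        exact hne (Subgroup.eq_top_of_card_eq _ (le_antisymm (Subgroup.card_le_card_group _)
          (not_lt.1 hle)))
      rw [hn, hm] at h1
      exact (Nat.pow_lt_pow_iff_right (by norm_num)).1 h1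
    obtain ⟨M, hM, hgM⟩ := Sylow.exists_subgroup_card_pow_prime_le (G := Y) 2
      (show 2 ^ (n - 1) ∣ Nat.card Y by rw [hn]; exact pow_dvd_pow 2 (by omega)) (zpowers g) hm
      (by omega)
    have hMi : M.index = 2 := by
      have h1 := M.card_mul_index
      rw [hM, hn] at h1
      have h2 : 2 ^ n = 2 ^ (n - 1) * 2 := by
        rw [← pow_succ]; congr 1; omega
      rw [h2] at h1
      exact Nat.eq_of_mul_eq_mul_left (pow_pos (by norm_num) (n - 1)) h1
    have h3 : X ≤ M := by
      refine hsq.trans ?_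
      rw [closure_le]
      rintro _ ⟨g, rfl⟩
      exact sq_mem_of_index_two hMi g
    have h4 : X = M := by
      apply Subgroup.eq_of_le_of_card_ge h3
      have e1 := X.card_mul_index
      have e2 := M.card_mul_index
      rw [hX] at e1
      rw [hMi] at e2
      omega
    exact hg (h4 ▸ hgM (mem_zpowers g))
  intro a b
  have ha : a ∈ zpowers g := by rw [hcyc]; trivial
  have hb : b ∈ zpowers g := by rw [hcyc]; trivial
  obtain ⟨i, rfl⟩ := ha
  obtain ⟨j, rfl⟩ := hb
  simp only
  rw [← zpow_add, ← zpow_add, add_comm]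

/-- `X` abelian of index two, `t ∈ X` an involution not in the subgroup `T` of index two, `X ⊓ T`
cyclic and contained in the subgroup generated by the squares: then `T` is commutative. -/
theorem comm_of_squares [Finite Y] (hY : IsPGroup 2 Y) {X T : Subgroup Y} (hX : X.index = 2)
    (hT : T.index = 2) (hXc : ∀ x ∈ X, ∀ y ∈ X, x * y = y * x) {t : Y} (htX : t ∈ X)
    (htt : t * t = 1) (htT : t ∉ T) {f : Y} (hfX : f ∈ X) (hfT : f ∈ T)
    (hcyc : ∀ x ∈ X, x ∈ T → ∃ i : ℤ, x = f ^ i)
    (hsq : ∀ x ∈ X, x ∈ T → x ∈ closure (Set.range fun g : Y => g * g)) :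
    ∀ a ∈ T, ∀ b ∈ T, a * b = b * a := by
  classical
  have hsX : ∀ g : Y, g * g ∈ X := sq_mem_of_index_two hX
  have hsT : ∀ g : Y, g * g ∈ T := sq_mem_of_index_two hT
  -- `f` is central
  have hfc : ∀ y : Y, y * f = f * y := by
    by_cases hex : ∀ g : Y, g * g ∈ zpowers (f * f)
    · -- then `f = 1`
      have h1 : f ∈ zpowers (f * f) := by
        have h2 : closure (Set.range fun g : Y => g * g) ≤ zpowers (f * f) := by
          rw [closure_le]
          rintro _ ⟨g, rfl⟩
          exact hex g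
        exact h2 (hsq f hfX hfT)
      obtain ⟨i, hi⟩ := h1
      simp only at hi
      have h3 : f ^ (2 * i - 1) = 1 := by
        have h4 : (f * f) ^ i = f ^ (2 * i) := by
          rw [← pow_two, ← zpow_natCast, ← zpow_mul]; rfl
        rw [zpow_sub, zpow_one, ← h4, hi, mul_inv_cancel]
      obtain ⟨k, hk⟩ := hY f
      have h5 : (orderOf f : ℤ) ∣ 2 * i - 1 := orderOf_dvd_iff_zpow_eq_one.2 h3
      have h6 : orderOf f ∣ 2 ^ k := orderOf_dvd_of_pow_eq_one hk
      obtain ⟨m, -, hm⟩ := (Nat.dvd_prime_pow Nat.prime_two).1 h6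
      have h7 : orderOf f = 1 := by
        rcases Nat.eq_zero_or_pos m with h0 | h0
        · rw [hm, h0, pow_zero]
        · exfalso
          have h8 : (2 : ℤ) ∣ orderOf f := by
            rw [hm]
            exact_mod_cast dvd_pow_self 2 (by omega : m ≠ 0)
          have h9 := h8.trans h5
          omega
      have h10 : f = 1 := orderOf_eq_one_iff.1 h7
      intro y
      rw [h10, mul_one, one_mul]
    · push Not at hex
      obtain ⟨g, hg⟩ := hex
      -- `g * g = f ^ i`, `i` odd
      obtain ⟨i, hi⟩ := hcyc _ (hsX g) (hsT g)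
      have hff : ∀ j : ℤ, f ^ (2 * j) ∈ zpowers (f * f) := by
        intro j
        refine ⟨j, ?_⟩
        simp only
        rw [← pow_two, ← zpow_natCast, ← zpow_mul]; rfl
      have hiodd : ¬ (2 : ℤ) ∣ i := by
        rintro ⟨j, rfl⟩
        exact hg (hi ▸ hff j)
      -- `g` commutes with `f`
      have hgf : g * f = f * g := by
        obtain ⟨k, hk⟩ := hY f
        have hcop : IsCoprime i ((2 : ℤ) ^ k) := by
          apply IsCoprime.pow_right
          rw [Int.isCoprime_iff_gcd_eq_one]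
          have h1 : Int.gcd i 2 ∣ 2 := by
            have := Int.gcd_dvd_natAbs_right i 2
            simpa using this
          rcases (Nat.dvd_prime Nat.prime_two).1 h1 with h2 | h2
          · exact h2
          · exfalso
            apply hiodd
            have h3 := Int.gcd_dvd_left i 2
            rw [h2] at h3
            exact h3
        obtain ⟨u, v, huv⟩ := hcop
        have h4 : f = (g * g) ^ u := by
          rw [hi, ← zpow_mul]
          have h5 : f ^ (v * 2 ^ k) = 1 := by
            have h6 : f ^ ((2 : ℤ) ^ k) = 1 := by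
              have : ((2 : ℤ) ^ k) = ((2 ^ k : ℕ) : ℤ) := by push_cast; rfl
              rw [this, zpow_natCast, hk]
            rw [mul_comm, zpow_mul, h6, one_zpow]
          calc f = f ^ (u * i + v * 2 ^ k) := by rw [huv, zpow_one]
            _ = f ^ (i * u) := by rw [zpow_add, h5, mul_one, mul_comm]
        have h7 : Commute g (g * g) := (Commute.refl g).mul_right (Commute.refl g)
        rw [h4]
        exact (h7.zpow_right u)
      have hti : t⁻¹ = t := inv_eq_of_mul_eq_one_left htt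
      have hgX : g ∉ X := by
        intro hgX
        have hgT : g ∉ T := by
          intro hgT
          obtain ⟨j, hj⟩ := hcyc g hgX hgT
          apply hg
          have : g * g = f ^ (2 * j) := by rw [hj, ← zpow_add, two_mul]
          rw [this]; exact hff j
        have h1 : t * g ∈ T := mul_mem_of_index_two hT htT hgT
        obtain ⟨j, hj⟩ := hcyc _ (mul_mem htX hgX) h1
        apply hg
        have h2 : g * g = f ^ (2 * j) := by
          calc g * g = (t * t) * (g * g) := by rw [htt, one_mul]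
            _ = t * (t * g) * g := by group
            _ = t * (g * t) * g := by rw [hXc t htX g hgX]
            _ = (t * g) * (t * g) := by group
            _ = _ := by rw [hj, ← zpow_add, two_mul]
        rw [h2]; exact hff j
      intro y
      by_cases hyX : y ∈ X
      · exact hXc y hyX f hfX
      · have h1 : g⁻¹ * y ∈ X := mul_mem_of_index_two hX (fun h => hgX (inv_mem_iff.1 h)) hyX
        have h2 := hXc _ h1 f hfX
        calc y * f = g * ((g⁻¹ * y) * f) := by group
          _ = (g * f) * (g⁻¹ * y) := by rw [h2]; group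
          _ = f * y := by rw [hgf]; group
  intro a ha b hb
  have hpow : ∀ i : ℤ, ∀ y : Y, y * f ^ i = f ^ i * y := fun i y =>
    (show Commute y f from hfc y).zpow_right i
  by_cases haX : a ∈ X
  · obtain ⟨i, rfl⟩ := hcyc a haX ha
    exact (hpow i b).symm
  by_cases hbX : b ∈ X
  · obtain ⟨i, rfl⟩ := hcyc b hbX hb
    exact hpow i a
  have h1 : a⁻¹ * b ∈ X := mul_mem_of_index_two hX (fun h => haX (inv_mem_iff.1 h)) hbX
  obtain ⟨i, hi⟩ := hcyc _ h1 (mul_mem (inv_mem ha) hb)
  have h2 : b = a * f ^ i := by rw [← hi]; group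
  rw [h2, mul_assoc, ← hpow i a]

end TwoGroup

section Index

variable {Y : Type*} [Group Y]

/-- the abstract form of `|S : U C_S(t)| = 2`. -/
theorem dich [Finite Y] (hY : IsPGroup 2 Y) {τ ε y0 : Y} (h0 : y0 * τ * y0⁻¹ = ε)
    (hX : ∀ x y : Y, x * τ = τ * x → y * τ = τ * y → x * y = y * x) (hετ : ε * τ = τ * ε)
    (hcos : ∀ g : Y, (g * τ * g⁻¹) * τ = τ * (g * τ * g⁻¹) → g * τ * g⁻¹ = τ ∨ g * τ * g⁻¹ = ε)
    (hno : ∀ m : Y, (m * τ * m⁻¹) * τ * (m * τ * m⁻¹)⁻¹ ≠ ε) (g : Y) :
    g * τ * g⁻¹ = τ ∨ g * τ * g⁻¹ = ε := by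
  classical
  have : Fact (Nat.Prime 2) := ⟨Nat.prime_two⟩
  let X : Subgroup Y := centralizer {τ}
  have memX : ∀ x, x ∈ X ↔ x * τ = τ * x := fun x => mem_centralizer_singleton_iff
  have hinv : ∀ x ∈ X, y0⁻¹ * x * y0 ∈ X := by
    intro x hx
    rw [memX]
    have h1 : x * ε = ε * x := hX x ε ((memX x).1 hx) hετ
    calc y0⁻¹ * x * y0 * τ = y0⁻¹ * (x * (y0 * τ * y0⁻¹)) * y0 := by group
      _ = y0⁻¹ * ((y0 * τ * y0⁻¹) * x) * y0 := by rw [h0, h1]
      _ = _ := by group
  have heq : X.map (MulAut.conj y0⁻¹).toMonoidHom = X := by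
    apply Subgroup.eq_of_le_of_card_ge
    · rintro _ ⟨x, hx, rfl⟩
      simp only [MulEquiv.coe_toMonoidHom, MulAut.conj_apply, inv_inv]
      exact hinv x hx
    · rw [Nat.card_congr (X.equivMapOfInjective _ (MulAut.conj y0⁻¹).injective).symm.toEquiv]
  let N : Subgroup Y := normalizer (X : Set Y)
  have hXN : X ≤ N := le_normalizer
  have hy0N : y0 ∈ N := by
    show y0 ∈ normalizer (X : Set Y)
    rw [mem_normalizer_iff]
    intro x
    constructor
    · intro hx
      have hx' : x ∈ X.map (MulAut.conj y0⁻¹).toMonoidHom := by rw [heq]; exact hx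
      obtain ⟨w, hw, hwx⟩ := hx'
      simp only [MulEquiv.coe_toMonoidHom, MulAut.conj_apply, inv_inv] at hwx
      rw [← hwx]
      have : y0 * (y0⁻¹ * w * y0) * y0⁻¹ = w := by group
      rw [this]; exact hw
    · intro hx
      have := hinv _ hx
      have e1 : y0⁻¹ * (y0 * x * y0⁻¹) * y0 = x := by group
      rwa [e1] at this
  have hofτ : ∀ m : Y, m * τ * m⁻¹ = τ → m ∈ X := by
    intro m hm
    rw [memX]
    exact mul_inv_eq_iff_eq_mul.1 hm
  have hofε : ∀ m : Y, m * τ * m⁻¹ = ε → m ∈ N := by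
    intro m hm
    have h1 : y0⁻¹ * m ∈ X := by
      apply hofτ
      calc y0⁻¹ * m * τ * (y0⁻¹ * m)⁻¹ = y0⁻¹ * (m * τ * m⁻¹) * y0 := by group
        _ = τ := by rw [hm, ← h0]; group
    have h2 := mul_mem hy0N (hXN h1)
    have e1 : y0 * (y0⁻¹ * m) = m := by group
    rwa [e1] at h2
  have hτX : τ ∈ X := (memX τ).2 rfl
  have hN : ∀ n ∈ N, n * τ * n⁻¹ = τ ∨ n * τ * n⁻¹ = ε := by
    intro n hn
    apply hcos
    have := (mem_normalizer_iff.1 hn τ).1 hτX
    exact (memX _).1 this
  have hNtop : N = ⊤ := by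
    by_contra hne
    have hnil : Group.IsNilpotent Y := hY.isNilpotent
    have hlt : N < normalizer (N : Set Y) :=
      Group.normalizerCondition_of_isNilpotent N (lt_top_iff_ne_top.2 hne)
    obtain ⟨m, hm, hmN⟩ := SetLike.exists_of_lt hlt
    have hd : m * τ * m⁻¹ ∈ N := (mem_normalizer_iff.1 hm τ).1 (hXN hτX)
    by_cases hdX : m * τ * m⁻¹ ∈ X
    · rcases hcos m ((memX _).1 hdX) with h1 | h1
      · exact hmN (hXN (hofτ m h1))
      · exact hmN (hofε m h1)
    · rcases hN _ hd with h1 | h1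
      · exact hdX (hofτ _ h1)
      · exact hno m h1
  exact hN g (by rw [hNtop]; trivial)

end Index

section Index2

variable {Y : Type*} [Group Y]

theorem conj_pair {τ ε y0 : Y} (h0 : y0 * τ * y0⁻¹ = ε) (hne : τ ≠ ε)
    (hd : ∀ g : Y, g * τ * g⁻¹ = τ ∨ g * τ * g⁻¹ = ε) (g : Y) :
    (g * τ * g⁻¹ = τ ∧ g * ε * g⁻¹ = ε) ∨ (g * τ * g⁻¹ = ε ∧ g * ε * g⁻¹ = τ) := by
  have h1 : g * ε * g⁻¹ = (g * y0) * τ * (g * y0)⁻¹ := by rw [← h0]; group
  have h2 := hd (g * y0)
  rw [← h1] at h2
  have hinj : g * τ * g⁻¹ ≠ g * ε * g⁻¹ := fun h3 => hne (mul_left_cancel (mul_right_cancel h3))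
  rcases hd g with h3 | h3 <;> rcases h2 with h4 | h4
  · exact absurd (h3.trans h4.symm) hinj
  · exact Or.inl ⟨h3, h4⟩
  · exact Or.inr ⟨h3, h4⟩
  · exact absurd (h3.trans h4.symm) hinj

theorem index_two {τ ε y0 : Y} (h0 : y0 * τ * y0⁻¹ = ε) (hne : τ ≠ ε)
    (hd : ∀ g : Y, g * τ * g⁻¹ = τ ∨ g * τ * g⁻¹ = ε) :
    (centralizer ({τ} : Set Y)).index = 2 := by
  have mem : ∀ x : Y, x ∈ centralizer ({τ} : Set Y) ↔ x * τ * x⁻¹ = τ := by
    intro x
    rw [mem_centralizer_singleton_iff, mul_inv_eq_iff_eq_mul]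
  have h1 : y0 * ε * y0⁻¹ = τ := by
    rcases conj_pair h0 hne hd y0 with h2 | h2
    · exact absurd (h2.1.symm.trans h0) hne
    · exact h2.2
  rw [Subgroup.index_eq_two_iff]
  refine ⟨y0, fun b => ?_⟩
  have e1 : (b * y0) * τ * (b * y0)⁻¹ = b * ε * b⁻¹ := by rw [← h0]; group
  rw [mem, mem, e1]
  rcases conj_pair h0 hne hd b with h2 | h2
  · right
    exact ⟨h2.1, by rw [h2.2]; exact hne.symm⟩
  · left
    exact ⟨h2.2, by rw [h2.1]; exact hne.symm⟩

end Index2

end Cfsg.Agent.StdU3.GOneLem
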