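import Cfsg.Agent.StdU3.GOneALem
import Cfsg.Agent.StdU3.GOneLem
import Cfsg.Agent.StdU3.GOneSyl
import Cfsg.Agent.StdU3.Tower.TwoCl

/-!
# Type `g1`, `n` even: `[P, P_e] = 1`

The lines: the conjugates `W^g`, `g ∈ N_G(U)`, of `W = [U, t] Z`, with the planes `P^g`.
(a1) two commuting lines `W^g`, `W^g'` are equal or `W^g' ≤ P^g`; (a2) every element of `P - Z` is
contained in a line `≤ P`. If `[P, P_e] ≠ 1` this gives three pairwise commuting lines.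
-/

set_option autoImplicit false
set_option linter.unusedSectionVars false
set_option linter.dupNamespace false

namespace Cfsg.Agent.StdU3.GOneA

open Subgroup Cfsg.Agent.StdU3.Field Cfsg.Agent.StdU3.PreDef Cfsg.Agent.StdU3.FldDef
open Cfsg.Agent.StdU3.LevelOne Cfsg.Agent.StdU3.TermDef Cfsg.Agent.StdU3.GOneSyl
open Cfsg.Agent.StdU3.Tower.Cen Cfsg.Agent.StdU3.Tower.TwoCl
open Cfsg.Agent.StdU3.Swap (Pe mem_Pe)

variable {G : Type*} [Group G] [Finite G] {K : Type*} [Field K] [Fintype K] [CharP K 2] {n : ℕ}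
variable {D : Pre G K n}

/-- for `n` even the weight of the torus is surjective. -/
theorem w_surj (hq : Qd K n) (hn : Even n) {b : K} (hb : b ≠ 0) : ∃ l : Kˣ, w n l = b := by
  let φ : Kˣ →* Kˣ := MonoidHom.mk' (fun l => l ^ 2 * (l ^ (2 ^ n))⁻¹) (fun x y => by
    simp only [mul_pow, mul_inv]
    exact mul_mul_mul_comm _ _ _ _)
  have hφ : ∀ l, ((φ l : Kˣ) : K) = w n l := by
    intro l
    show ((l ^ 2 * (l ^ (2 ^ n))⁻¹ : Kˣ) : K) = (l : K) ^ 2 * (bar n (l : K))⁻¹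
    push_cast
    rfl
  have hinj : Function.Injective φ := by
    rw [injective_iff_map_eq_one]
    intro l hl
    have h1 : l ^ 2 = l ^ (2 ^ n) := by
      have : l ^ 2 * (l ^ (2 ^ n))⁻¹ = 1 := hl
      exact mul_inv_eq_one.mp this
    have h2 : (l : K) ^ 2 = bar n (l : K) := by
      have := congrArg (fun x : Kˣ => (x : K)) h1
      simpa [bar_def] using this
    have h3 : (l : K) ^ 3 = 1 := by
      have h4 : (l : K) ^ 4 = l := by
        calc (l : K) ^ 4 = ((l : K) ^ 2) ^ 2 := by ring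
          _ = bar n ((l : K) ^ 2) := by rw [bar_pow, h2]
          _ = bar n (bar n (l : K)) := by rw [h2]
          _ = l := bar_bar hq _
      have h5 : (l : K) * ((l : K) ^ 3) = l * 1 := by
        have h6 : (l : K) * (l : K) ^ 3 = (l : K) ^ 4 := by ring
        rw [mul_one, h6, h4]
      exact mul_left_cancel₀ l.ne_zero h5
    have h6 : ∃ j, 2 ^ n = 3 * j + 1 := by
      obtain ⟨m, rfl⟩ := hn
      have h7 : 2 ^ (m + m) = 4 ^ m := by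
        rw [← two_mul, pow_mul]; norm_num
      rw [h7]
      have h8 : 4 ^ m % 3 = 1 := by
        rw [Nat.pow_mod]; norm_num
      exact ⟨4 ^ m / 3, by omega⟩
    obtain ⟨j, hj⟩ := h6
    have h9 : (l : K) ^ 2 = l := by
      rw [h2, bar_def, hj, pow_succ, pow_mul, h3, one_pow, one_mul]
    apply Units.val_injective
    rw [Units.val_one]
    have h10 : (l : K) * l = l * 1 := by rw [mul_one, ← sq]; exact h9
    exact mul_left_cancel₀ l.ne_zero h10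
  have hsur : Function.Surjective φ := Finite.surjective_of_injective hinj
  obtain ⟨l, hl⟩ := hsur (Units.mk0 b hb)
  exact ⟨l, by rw [← hφ, hl, Units.val_mk0]⟩

theorem nor {T : Term D} {g u : G} (hg : g ∈ normalizer (T.U : Set G)) (hu : u ∈ T.U) :
    g * u * g⁻¹ ∈ T.U := (Subgroup.mem_normalizer_iff.mp hg u).mp hu

theorem nor' {T : Term D} {g u : G} (hg : g ∈ normalizer (T.U : Set G)) (hu : u ∈ T.U) :
    g⁻¹ * u * g ∈ T.U := by
  have := nor (inv_mem hg) hu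
  rwa [inv_inv] at this

/-- the configuration. -/
structure Ca (F : Fld D) (T : Term D) (e y : G) where
  H : G1 F T e y
  C : Cen D F.O
  A : Cl C
  hT : T.U = Tower.Cen.U C
  S : Sylow 2 G
  hS : G1.Syl H (S : Subgroup G)
  even : Even n

namespace Ca

variable {F : Fld D} {T : Term D} {e y : G} (c : Ca F T e y)

include c

theorem mem_U {g : G} : g ∈ T.U ↔ g ∈ Tower.Cen.U c.C := by rw [c.hT]

/-! ### `Z` -/

theorem Zc {x u : G} (hx : x ∈ Card.Z D) (hu : u ∈ T.U) : x * u = u * x := by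
  obtain ⟨b, -, rfl⟩ := hx
  exact (c.H.z_cen hu b).symm

theorem cmtZ {u v : G} (hu : u ∈ T.U) (hv : v ∈ T.U) : u * v * u⁻¹ * v⁻¹ ∈ Card.Z D := by
  obtain ⟨b, hb, h⟩ := c.H.cz hu hv
  refine ⟨b, hb, ?_⟩
  rw [h]; group

theorem Z_U {x : G} (hx : x ∈ Card.Z D) : x ∈ T.U := T.P_le (Card.Z_le_P D hx)

theorem conjZ {g x : G} (hg : g ∈ normalizer (T.U : Set G)) (hx : x ∈ Card.Z D) :
    g * x * g⁻¹ ∈ Card.Z D := by
  obtain ⟨b, hb, rfl⟩ := hx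
  obtain ⟨x, hx, hx1⟩ := D.ca_surj 1
  obtain ⟨y', hy'⟩ := exists_Tr_eq D.hq (one_ne_zero) hb
  obtain ⟨x', hx', hx1'⟩ := D.ca_surj y'
  have h1 := D.P_comm x hx x' hx'
  have h2 : x * x' * x⁻¹ * x'⁻¹ = D.z b := by
    rw [h1, hx1, hx1', hy']
    group
  rw [← h2]
  have h3 := c.cmtZ (nor hg (T.P_le hx)) (nor hg (T.P_le hx'))
  have h4 : g * (x * x' * x⁻¹ * x'⁻¹) * g⁻¹ =
      (g * x * g⁻¹) * (g * x' * g⁻¹) * (g * x * g⁻¹)⁻¹ * (g * x' * g⁻¹)⁻¹ := by group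
  rw [h4]; exact h3

theorem conjZ' {g x : G} (hg : g ∈ normalizer (T.U : Set G)) (hx : x ∈ Card.Z D) :
    g⁻¹ * x * g ∈ Card.Z D := by
  have := c.conjZ (inv_mem hg) hx
  rwa [inv_inv] at this

theorem memZ_conj {g x : G} (hg : g ∈ normalizer (T.U : Set G)) (hx : g⁻¹ * x * g ∈ Card.Z D) :
    x ∈ Card.Z D := by
  have := c.conjZ hg hx
  have e1 : g * (g⁻¹ * x * g) * g⁻¹ = x := by group
  rwa [e1] at this

/-! ### `W` -/

theorem W_U {x : G} (hx : x ∈ c.A.W) : x ∈ T.U := by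
  rw [c.mem_U]; exact Tower.Cen.M_le c.C (c.A.W_le hx)

theorem Z_W {x : G} (hx : x ∈ Card.Z D) : x ∈ c.A.W := by
  obtain ⟨b, -, rfl⟩ := hx
  exact c.A.z_W b

theorem W_P {x p : G} (hx : x ∈ c.A.W) (hp : p ∈ D.P) : x * p = p * x :=
  c.C.M_P x (c.A.W_le hx) p hp

theorem W_inf_P {x : G} (hx : x ∈ c.A.W) (hp : x ∈ D.P) : x ∈ Card.Z D :=
  Tower.Cen.P_M c.C hp (c.A.W_le hx)

theorem u_ne {x : G} (hx : x ∈ c.A.W) (hxZ : x ∉ Card.Z D) : c.A.u x ≠ 0 := by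
  intro h
  exact hxZ (c.A.u_ker x hx h)

/-- elements of `U` commuting with an element of `W - Z` commute with `W`. -/
theorem lin0 {v x x' : G} (hv : v ∈ T.U) (hx : x ∈ c.A.W) (hxZ : x ∉ Card.Z D) (hx' : x' ∈ c.A.W)
    (h : v * x = x * v) : v * x' = x' * v := by
  by_cases h0 : c.A.u x' = 0
  · exact (c.Zc (c.A.u_ker x' hx' h0) hv).symm
  have hux := c.u_ne hx hxZ
  have hfix : bar n (c.A.u x' / c.A.u x) = c.A.u x' / c.A.u x := by
    rw [div_eq_mul_inv]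
    exact fixed_mul (c.A.u_fixed x' hx') (fixed_inv (c.A.u_fixed x hx))
  obtain ⟨r0, hr0, h4⟩ := Outer.exists_fourth D.hq hfix
  have hr0' : r0 ≠ 0 := by
    rintro rfl
    rw [zero_pow (by norm_num)] at h4
    exact div_ne_zero h0 hux h4.symm
  set r : Kˣ := Units.mk0 (r0 ^ 2) (pow_ne_zero 2 hr0') with hr
  have hrf : bar n (r : K) = r := by rw [hr, Units.val_mk0, bar_pow, hr0]
  have hW : cj c.C r x ∈ c.A.W := c.A.h_W r x hx
  have hrx : c.A.u (cj c.C r x) = c.A.u x' := by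
    have e1 : c.A.u (cj c.C r x) = N n (r : K) * c.A.u x := c.A.u_h r x hx
    have e2 : (r : K) ^ 2 = r0 ^ 4 := by rw [hr, Units.val_mk0]; ring
    rw [e1, N_of_fixed hrf, e2, h4, div_mul_cancel₀ _ hux]
  have hz : (cj c.C r x)⁻¹ * x' ∈ Card.Z D := by
    apply c.A.u_ker _ (mul_mem (inv_mem hW) hx')
    rw [c.A.u_mul _ (inv_mem hW) _ hx']
    have e1 := c.A.u_mul _ hW _ (inv_mem hW)
    rw [mul_inv_cancel] at e1
    have e2 : c.A.u (1 : G) = 0 := by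
      have := c.A.u_mul 1 c.A.W.one_mem 1 c.A.W.one_mem
      rw [mul_one] at this
      exact left_eq_add.mp this
    rw [e2] at e1
    rw [Field.add_eq_zero.mp e1.symm] at hrx
    rw [hrx, Field.add_self]
  have h5 := comm_cj_U c.A F.amb hrf (c.mem_U.mp hv) (c.mem_U.mp (c.W_U hx)) h
  have h6 := c.Zc hz hv
  have e3 : x' = cj c.C r x * ((cj c.C r x)⁻¹ * x') := by group
  rw [e3]
  calc v * (cj c.C r x * ((cj c.C r x)⁻¹ * x')) = (v * cj c.C r x) * ((cj c.C r x)⁻¹ * x') := by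
        group
    _ = cj c.C r x * (v * ((cj c.C r x)⁻¹ * x')) := by rw [h5]; group
    _ = _ := by rw [← h6]; group

/-- the same for a line. -/
theorem lin {g v x x' : G} (hg : g ∈ normalizer (T.U : Set G)) (hv : v ∈ T.U)
    (hx : g⁻¹ * x * g ∈ c.A.W) (hxZ : x ∉ Card.Z D) (hx' : g⁻¹ * x' * g ∈ c.A.W)
    (h : v * x = x * v) : v * x' = x' * v := by
  have h1 := c.lin0 (v := g⁻¹ * v * g) (nor' hg hv) hx (fun h0 => hxZ (c.memZ_conj hg h0)) hx' (by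
    calc g⁻¹ * v * g * (g⁻¹ * x * g) = g⁻¹ * (v * x) * g := by group
      _ = g⁻¹ * (x * v) * g := by rw [h]
      _ = _ := by group)
  calc v * x' = g * ((g⁻¹ * v * g) * (g⁻¹ * x' * g)) * g⁻¹ := by group
    _ = g * ((g⁻¹ * x' * g) * (g⁻¹ * v * g)) * g⁻¹ := by rw [h1]
    _ = _ := by group

theorem Wg_U {g x : G} (hg : g ∈ normalizer (T.U : Set G)) (hx : g⁻¹ * x * g ∈ c.A.W) : x ∈ T.U := by
  have := nor hg (c.W_U hx)
  have e1 : g * (g⁻¹ * x * g) * g⁻¹ = x := by group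
  rwa [e1] at this

theorem Pg_U {g x : G} (hg : g ∈ normalizer (T.U : Set G)) (hx : g⁻¹ * x * g ∈ D.P) : x ∈ T.U := by
  have := nor hg (T.P_le hx)
  have e1 : g * (g⁻¹ * x * g) * g⁻¹ = x := by group
  rwa [e1] at this

/-- two lines with commuting elements commute. -/
theorem lin2 {g g' x x' z z' : G} (hg : g ∈ normalizer (T.U : Set G))
    (hg' : g' ∈ normalizer (T.U : Set G)) (hx : g⁻¹ * x * g ∈ c.A.W) (hxZ : x ∉ Card.Z D)
    (hz : g'⁻¹ * z * g' ∈ c.A.W) (hzZ : z ∉ Card.Z D) (h : x * z = z * x)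
    (hx' : g⁻¹ * x' * g ∈ c.A.W) (hz' : g'⁻¹ * z' * g' ∈ c.A.W) : x' * z' = z' * x' := by
  have h1 : x * z' = z' * x := c.lin hg' (c.Wg_U hg hx) hz hzZ hz' h
  exact (c.lin hg (c.Wg_U hg' hz') hx hxZ hx' h1.symm).symm

/-! ### The action of `t` -/

theorem tt : D.t * D.t = 1 := D.t_sq

theorem ti : D.t⁻¹ = D.t := inv_eq_of_mul_eq_one_left D.t_sq

/-- `[u, t] ∈ W` -/
theorem cmt_t {u : G} (hu : u ∈ T.U) : u * D.t * u⁻¹ * D.t⁻¹ ∈ c.A.W := by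
  obtain ⟨p, hp, m, hm, rfl⟩ := c.mem_U.mp hu
  have h1 := c.A.a_mem m hm
  have h2 := D.t_P p hp
  have h3 := c.W_P h1 hp
  have e1 : p * m * D.t * (p * m)⁻¹ * D.t⁻¹ = m * D.t * m⁻¹ * D.t := by
    have h4 : p⁻¹ * D.t = D.t * p⁻¹ := (D.t_P p⁻¹ (inv_mem hp)).symm
    calc p * m * D.t * (p * m)⁻¹ * D.t⁻¹ = p * (m * D.t * m⁻¹) * (p⁻¹ * D.t⁻¹) := by group
      _ = p * (m * D.t * m⁻¹) * (p⁻¹ * D.t) := by rw [c.ti]
      _ = p * (m * D.t * m⁻¹ * D.t) * p⁻¹ := by rw [h4]; group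
      _ = _ := by rw [← h3]; group
  rw [e1]; exact h1

/-- `W = [U, t] Z` -/
theorem exists_cmt_t {x : G} (hx : x ∈ c.A.W) :
    ∃ u ∈ T.U, ∃ s ∈ Card.Z D, x = u * D.t * u⁻¹ * D.t⁻¹ * s := by
  obtain ⟨m, hm, hem⟩ := c.A.e_surj (c.A.u x) (c.A.u_fixed x hx)
  have h1 := c.A.a_mem m hm
  refine ⟨m, c.mem_U.mpr (Tower.Cen.M_le c.C hm), (m * D.t * m⁻¹ * D.t)⁻¹ * x, ?_, ?_⟩
  · apply c.A.u_ker _ (mul_mem (inv_mem h1) hx)
    rw [c.A.u_mul _ (inv_mem h1) _ hx]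
    have e1 := c.A.u_mul _ h1 _ (inv_mem h1)
    rw [mul_inv_cancel] at e1
    have e2 : c.A.u (1 : G) = 0 := by
      have := c.A.u_mul 1 c.A.W.one_mem 1 c.A.W.one_mem
      rw [mul_one] at this
      exact left_eq_add.mp this
    rw [e2] at e1
    rw [← Field.add_eq_zero.mp e1.symm, c.A.u_a m hm, hem, Field.add_self]
  · rw [c.ti]; group

/-- elements commuting with `W` are centralized by `t` modulo `Z`. -/
theorem t_triv {v : G} (hv : v ∈ T.U) (h : ∀ x ∈ c.A.W, v * x = x * v) :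
    D.t * v * D.t⁻¹ * v⁻¹ ∈ Card.Z D := by
  obtain ⟨p, hp, m, hm, rfl⟩ := c.mem_U.mp hv
  obtain ⟨x, hx, hx1⟩ := c.A.u_surj 1 (bar_one n)
  have h1 : m * x = x * m := by
    have h2 := h x hx
    have h3 := c.W_P hx hp
    have : p * (m * x) = p * (x * m) := by
      calc p * (m * x) = p * m * x := by group
        _ = x * p * m := by rw [h2]; group
        _ = p * (x * m) := by rw [h3]; group
    exact mul_left_cancel this
  have h2 : c.A.e m = 0 := by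
    have h3 := c.A.cm_eq m hm x hx 0 (bar_zero n) (by rw [z_zero, h1]; group)
    rw [hx1, mul_one, mul_zero] at h3
    exact h3.symm
  have h3 : m ∈ c.A.W := (c.A.e_ker m hm).mp h2
  have h4 := c.A.W_inv m h3
  obtain ⟨b, hb, h5⟩ := c.A.sq m hm
  have h6 : D.t * (p * m) * D.t⁻¹ * (p * m)⁻¹ = p * (m * m)⁻¹ * p⁻¹ := by
    calc D.t * (p * m) * D.t⁻¹ * (p * m)⁻¹ = (D.t * p) * m * D.t⁻¹ * m⁻¹ * p⁻¹ := by group
      _ = p * (D.t * m * D.t⁻¹) * m⁻¹ * p⁻¹ := by rw [D.t_P p hp]; group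
      _ = _ := by rw [h4]; group
  rw [h6, h5]
  apply c.conjZ (g := p)
  · exact le_normalizer (T.P_le hp)
  · exact inv_mem ⟨b, hb, rfl⟩

/-! ### The lines attached to involutions -/

omit c in
theorem t_nor : D.t ∈ normalizer (T.U : Set G) := G1.mem_nor (fun _ hx => T.t_conj _ hx)

theorem y_nor : y ∈ normalizer (T.U : Set G) := G1.mem_nor (fun _ hx => c.H.y_U hx)

theorem e_nor : e ∈ normalizer (T.U : Set G) := G1.mem_nor (fun g hg => c.H.hU e c.H.he.mem g hg)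

omit c in
/-- `[U, d] Z` -/
def Wd (T : Term D) (d x : G) : Prop :=
  ∃ u ∈ T.U, ∃ s ∈ Card.Z D, x = u * d * u⁻¹ * d⁻¹ * s

theorem Wd_t {x : G} : Wd T D.t x ↔ x ∈ c.A.W := by
  constructor
  · rintro ⟨u, hu, s, hs, rfl⟩
    exact mul_mem (c.cmt_t hu) (c.Z_W hs)
  · intro hx
    exact c.exists_cmt_t hx

theorem Wd_conj {g d x : G} (hg : g ∈ normalizer (T.U : Set G)) :
    Wd T (g * d * g⁻¹) x ↔ Wd T d (g⁻¹ * x * g) := by
  constructor
  · rintro ⟨u, hu, s, hs, rfl⟩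
    exact ⟨g⁻¹ * u * g, nor' hg hu, g⁻¹ * s * g, c.conjZ' hg hs, by group⟩
  · rintro ⟨u, hu, s, hs, h⟩
    refine ⟨g * u * g⁻¹, nor hg hu, g * s * g⁻¹, c.conjZ hg hs, ?_⟩
    calc x = g * (g⁻¹ * x * g) * g⁻¹ := by group
      _ = _ := by rw [h]; group

omit c in
theorem Wd_mul {d x s : G} (h : Wd T d x) (hs : s ∈ Card.Z D) : Wd T d (x * s) := by
  obtain ⟨u, hu, s', hs', rfl⟩ := h
  exact ⟨u, hu, s' * s, mul_mem hs' hs, by group⟩

theorem Wd_U {d x : G} (hd : d ∈ normalizer (T.U : Set G)) (h : Wd T d x) : x ∈ T.U := by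
  obtain ⟨u, hu, s, hs, rfl⟩ := h
  have h1 := nor hd (inv_mem hu)
  have e1 : u * d * u⁻¹ * d⁻¹ * s = u * (d * u⁻¹ * d⁻¹) * s := by group
  rw [e1]
  exact mul_mem (mul_mem hu h1) (c.Z_U hs)

/-- the kernel of the action of `N_G(U)` on `U / Z` -/
def KV : Subgroup G where
  carrier := {k | k ∈ normalizer (T.U : Set G) ∧ ∀ u ∈ T.U, k * u * k⁻¹ * u⁻¹ ∈ Card.Z D}
  one_mem' := ⟨one_mem _, fun u _ => by simp⟩
  mul_mem' := by
    rintro a b ⟨ha, ha1⟩ ⟨hb, hb1⟩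
    refine ⟨mul_mem ha hb, fun u hu => ?_⟩
    have e1 : a * b * u * (a * b)⁻¹ * u⁻¹ =
        (a * (b * u * b⁻¹ * u⁻¹) * a⁻¹) * (a * u * a⁻¹ * u⁻¹) := by group
    rw [e1]
    exact mul_mem (c.conjZ ha (hb1 u hu)) (ha1 u hu)
  inv_mem' := by
    rintro a ⟨ha, ha1⟩
    refine ⟨inv_mem ha, fun u hu => ?_⟩
    have e1 : a⁻¹ * u * a⁻¹⁻¹ * u⁻¹ = a⁻¹ * (a * u * a⁻¹ * u⁻¹)⁻¹ * a := by group
    rw [e1]
    exact c.conjZ' ha (inv_mem (ha1 u hu))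

theorem U_KV {u : G} (hu : u ∈ T.U) : u ∈ c.KV :=
  ⟨le_normalizer hu, fun _ hv => c.cmtZ hu hv⟩

theorem Wd_triv {k d x : G} (hk : k ∈ c.KV) (hd : d ∈ normalizer (T.U : Set G)) :
    Wd T (k * d * k⁻¹) x ↔ Wd T d x := by
  rw [c.Wd_conj hk.1]
  have key : ∀ x ∈ T.U, ∃ s ∈ Card.Z D, k⁻¹ * x * k = x * s := by
    intro x hx
    have h1 := (inv_mem hk : k⁻¹ ∈ c.KV).2 x hx
    rw [inv_inv] at h1
    refine ⟨_, h1, ?_⟩
    rw [← c.Zc h1 hx]; group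
  constructor
  · intro h
    have hx : x ∈ T.U := by
      have := nor hk.1 (c.Wd_U hd h)
      have e1 : k * (k⁻¹ * x * k) * k⁻¹ = x := by group
      rwa [e1] at this
    obtain ⟨s, hs, h1⟩ := key x hx
    have h2 := Wd_mul h (inv_mem hs)
    rw [h1, mul_inv_cancel_right] at h2
    exact h2
  · intro h
    obtain ⟨s, hs, h1⟩ := key x (c.Wd_U hd h)
    rw [h1]
    exact Wd_mul h hs

theorem Wd_e {x : G} (h : Wd T e x) : x ∈ D.P := by
  obtain ⟨u, hu, s, hs, rfl⟩ := h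
  obtain ⟨p, hp, r, hr, rfl⟩ := c.H.PPe u hu
  have h1 := c.H.hy.Pe_e hr
  have h2 := c.H.half.conj p⁻¹ (inv_mem hp)
  have e1 : p * r * e * (p * r)⁻¹ * e⁻¹ * s = p * (e * p⁻¹ * e⁻¹) * s := by
    calc p * r * e * (p * r)⁻¹ * e⁻¹ * s = p * (r * e) * r⁻¹ * p⁻¹ * e⁻¹ * s := by group
      _ = _ := by rw [h1]; group
  rw [e1]
  exact mul_mem (mul_mem hp h2) (Card.Z_le_P D hs)

/-- `W^y ≤ P` -/
theorem yW {x : G} (hx : y⁻¹ * x * y ∈ c.A.W) : x ∈ D.P := by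
  apply c.Wd_e
  rw [← c.H.hy.te, c.Wd_conj c.y_nor, c.Wd_t]
  exact hx

/-- `W ≤ P_e` -/
theorem W_Pe {x : G} (hx : x ∈ c.A.W) : y⁻¹ * x * y ∈ D.P := by
  apply c.Wd_e
  rw [← c.Wd_conj c.y_nor, c.H.hy.et, c.Wd_t]
  exact hx

/-- **(a1)** -/
theorem a1 {g : G} (hg : g ∈ normalizer (T.U : Set G))
    (h : ∀ w ∈ c.A.W, ∀ x, g⁻¹ * x * g ∈ c.A.W → w * x = x * w) :
    (∀ x, g⁻¹ * x * g ∈ c.A.W → x ∈ c.A.W) ∨ (∀ x, g⁻¹ * x * g ∈ c.A.W → x ∈ D.P) := by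
  have hp2 : Fact (Nat.Prime 2) := ⟨Nat.prime_two⟩
  set t1 := g * D.t * g⁻¹ with ht1
  have ht11 : t1 * t1 = 1 := by
    rw [ht1]
    calc g * D.t * g⁻¹ * (g * D.t * g⁻¹) = g * (D.t * D.t) * g⁻¹ := by group
      _ = 1 := by rw [D.t_sq]; group
  have htn : D.t ∈ normalizer (T.U : Set G) := t_nor
  have ht1n : t1 ∈ normalizer (T.U : Set G) := mul_mem (mul_mem hg htn) (inv_mem hg)
  have hWd : ∀ x, g⁻¹ * x * g ∈ c.A.W ↔ Wd T t1 x := fun x => by rw [c.Wd_conj hg, c.Wd_t]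
  -- `t t₁` and `t₁ t` induce the same on `U / Z`
  have key : ∀ u ∈ T.U, (D.t * t1) * u * (D.t * t1)⁻¹ * ((t1 * D.t) * u * (t1 * D.t)⁻¹)⁻¹ ∈
      Card.Z D := by
    intro u hu
    set a := t1 * u * t1⁻¹ * u⁻¹ with ha
    set b := D.t * u * D.t⁻¹ * u⁻¹ with hb
    have haU : a ∈ T.U := mul_mem (nor ht1n hu) (inv_mem hu)
    have hbU : b ∈ T.U := mul_mem (nor htn hu) (inv_mem hu)
    have haW : g⁻¹ * a * g ∈ c.A.W := by
      have h1 := inv_mem (c.cmt_t (nor' hg hu))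
      have e1 : (g⁻¹ * u * g * D.t * (g⁻¹ * u * g)⁻¹ * D.t⁻¹)⁻¹ = g⁻¹ * a * g := by
        rw [ha, ht1]; group
      rwa [e1] at h1
    have hbW : b ∈ c.A.W := by
      have h1 := inv_mem (c.cmt_t hu)
      have e1 : (u * D.t * u⁻¹ * D.t⁻¹)⁻¹ = b := by rw [hb]; group
      rwa [e1] at h1
    have h1 : D.t * a * D.t⁻¹ * a⁻¹ ∈ Card.Z D := c.t_triv haU (fun w hw => (h w hw a haW).symm)
    have h2 : t1 * b * t1⁻¹ * b⁻¹ ∈ Card.Z D := by
      have h3 := c.t_triv (nor' hg hbU) (fun w hw => by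
        have h4 := h b hbW (g * w * g⁻¹) (by
          have : g⁻¹ * (g * w * g⁻¹) * g = w := by group
          rw [this]; exact hw)
        calc g⁻¹ * b * g * w = g⁻¹ * (b * (g * w * g⁻¹)) * g := by group
          _ = g⁻¹ * ((g * w * g⁻¹) * b) * g := by rw [h4]
          _ = _ := by group)
      have h5 := c.conjZ hg h3
      have e1 : g * (D.t * (g⁻¹ * b * g) * D.t⁻¹ * (g⁻¹ * b * g)⁻¹) * g⁻¹ =
          t1 * b * t1⁻¹ * b⁻¹ := by rw [ht1]; group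
      rwa [e1] at h5
    have e1 : (D.t * t1) * u * (D.t * t1)⁻¹ * ((t1 * D.t) * u * (t1 * D.t)⁻¹)⁻¹ =
        (D.t * a * D.t⁻¹ * a⁻¹) * (a * b * a⁻¹ * b⁻¹) * (t1 * b * t1⁻¹ * b⁻¹)⁻¹ := by
      rw [ha, hb]; group
    rw [e1]
    exact mul_mem (mul_mem h1 (c.cmtZ haU hbU)) (inv_mem h2)
  have hK : (D.t * t1) * (D.t * t1) ∈ c.KV := by
    refine ⟨mul_mem (mul_mem htn ht1n) (mul_mem htn ht1n), fun v hv => ?_⟩
    have hn := mul_mem htn ht1n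
    have h1 := key _ (nor hn hv)
    have e0 : t1 * D.t = (D.t * t1)⁻¹ := by
      rw [mul_inv_rev, c.ti, inv_eq_of_mul_eq_one_left ht11]
    rw [e0] at h1
    have e1 : D.t * t1 * (D.t * t1) * v * (D.t * t1 * (D.t * t1))⁻¹ * v⁻¹ =
        D.t * t1 * (D.t * t1 * v * (D.t * t1)⁻¹) * (D.t * t1)⁻¹ *
          ((D.t * t1)⁻¹ * (D.t * t1 * v * (D.t * t1)⁻¹) * (D.t * t1)⁻¹⁻¹)⁻¹ := by group
    rw [e1]; exact h1
  obtain ⟨k, hk, h2⟩ := GOneALem.exists_conj_two D.t_sq ht11 hK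
  set t2 := k⁻¹ * t1 * k with ht2
  have ht2n : t2 ∈ normalizer (T.U : Set G) := mul_mem (mul_mem (inv_mem hk.1) ht1n) hk.1
  set L : Subgroup G := closure {D.t, t2} with hL
  have hLN : L ≤ normalizer (T.U : Set G) := by
    rw [hL, closure_le]
    rintro x (rfl | rfl)
    · exact htn
    · exact ht2n
  -- the Sylow subgroup
  have hSN : (c.S : Subgroup G) ≤ normalizer (T.U : Set G) := fun x hx => (c.hS.M0 hx).1
  have h3 : IsPGroup 2 (L.subgroupOf (normalizer (T.U : Set G))) := h2.comap_subtype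
  obtain ⟨Q, hQ⟩ := h3.exists_le_sylow
  obtain ⟨m, hm⟩ := MulAction.exists_smul_eq (normalizer (T.U : Set G)) Q (c.S.subtype hSN)
  have hmS : ∀ x ∈ L, (m : G) * x * (m : G)⁻¹ ∈ (c.S : Subgroup G) := by
    intro x hx
    have h4 : (m * ⟨x, hLN hx⟩ * m⁻¹ : normalizer (T.U : Set G)) ∈ (c.S.subtype hSN : Subgroup _) := by
      rw [← hm]
      exact ⟨⟨x, hLN hx⟩, hQ hx, rfl⟩
    exact h4
  have htL : D.t ∈ L := subset_closure (by simp)
  have ht2L : t2 ∈ L := subset_closure (by simp)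
  obtain ⟨x, hx, h5⟩ := c.hS.fus (hmS _ htL)
  set n0 := x⁻¹ * (m : G) with hn0
  have hn0N : n0 ∈ normalizer (T.U : Set G) := mul_mem (inv_mem (hSN hx)) m.2
  have hn0t : n0 * D.t = D.t * n0 := by
    calc n0 * D.t = x⁻¹ * ((m : G) * D.t * (m : G)⁻¹) * m := by rw [hn0]; group
      _ = D.t * n0 := by rw [h5, hn0]; group
  have h6 : n0 * t2 * n0⁻¹ ∈ (c.S : Subgroup G) := by
    have := mul_mem (mul_mem (inv_mem hx) (hmS _ ht2L)) hx
    have e1 : x⁻¹ * ((m : G) * t2 * (m : G)⁻¹) * x = n0 * t2 * n0⁻¹ := by rw [hn0]; group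
    rwa [e1] at this
  have e2 : (n0 * k⁻¹ * g) * D.t * (n0 * k⁻¹ * g)⁻¹ = n0 * t2 * n0⁻¹ := by
    rw [ht2, ht1]; group
  have h7 := c.hS.cl (n0 * k⁻¹ * g) (by rw [e2]; exact h6)
  rw [e2] at h7
  -- transport
  have h8 : ∀ x, g⁻¹ * x * g ∈ c.A.W → Wd T (n0 * t2 * n0⁻¹) (n0 * x * n0⁻¹) := by
    intro x hx
    rw [c.Wd_conj hn0N]
    have e3 : n0⁻¹ * (n0 * x * n0⁻¹) * n0 = x := by group
    rw [e3, ← c.Wd_triv hk ht2n]
    have e4 : k * t2 * k⁻¹ = t1 := by rw [ht2]; group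
    rw [e4, ← hWd]; exact hx
  rcases h7 with ⟨u, hu, h7⟩ | ⟨u, hu, h7⟩
  · left
    intro x hx
    have h9 := h8 x hx
    rw [← h7, c.Wd_triv (c.U_KV hu) htn] at h9
    have e3 : D.t = n0 * D.t * n0⁻¹ := by rw [hn0t]; group
    rw [e3, c.Wd_conj hn0N] at h9
    have e4 : n0⁻¹ * (n0 * x * n0⁻¹) * n0 = x := by group
    rw [e4, c.Wd_t] at h9
    exact h9
  · right
    intro x hx
    have h9 := h8 x hx
    rw [← h7, c.Wd_triv (c.U_KV hu) c.e_nor] at h9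
    have h10 := c.Wd_e h9
    have h11 := D.t_P _ h10
    apply T.comm_t
    · have := nor' hn0N (T.P_le h10)
      have e4 : n0⁻¹ * (n0 * x * n0⁻¹) * n0 = x := by group
      rwa [e4] at this
    · have h12 : D.t * n0⁻¹ = n0⁻¹ * D.t := by
        calc D.t * n0⁻¹ = n0⁻¹ * (n0 * D.t) * n0⁻¹ := by group
          _ = _ := by rw [hn0t]; group
      calc x * D.t = n0⁻¹ * (n0 * x * n0⁻¹) * (n0 * D.t) := by group
        _ = n0⁻¹ * ((n0 * x * n0⁻¹) * D.t) * n0 := by rw [hn0t]; group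
        _ = n0⁻¹ * (D.t * (n0 * x * n0⁻¹)) * n0 := by rw [h11]
        _ = (n0⁻¹ * D.t) * (n0 * x) := by group
        _ = D.t * x := by rw [← h12]; group

/-- **(a1)** for pairs. -/
theorem a1' {g g' : G} (hg : g ∈ normalizer (T.U : Set G)) (hg' : g' ∈ normalizer (T.U : Set G))
    (h : ∀ x x', g⁻¹ * x * g ∈ c.A.W → g'⁻¹ * x' * g' ∈ c.A.W → x * x' = x' * x) :
    (∀ x, g'⁻¹ * x * g' ∈ c.A.W → g⁻¹ * x * g ∈ c.A.W) ∨
      (∀ x, g'⁻¹ * x * g' ∈ c.A.W → g⁻¹ * x * g ∈ D.P) := by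
  have e1 : ∀ x, (g⁻¹ * g')⁻¹ * (g⁻¹ * x * g) * (g⁻¹ * g') = g'⁻¹ * x * g' := by
    intro x; group
  have h1 := c.a1 (g := g⁻¹ * g') (mul_mem (inv_mem hg) hg') (by
    intro w hw x hx
    have h2 := h (g * w * g⁻¹) (g * x * g⁻¹) (by
      have : g⁻¹ * (g * w * g⁻¹) * g = w := by group
      rw [this]; exact hw) (by
      rw [← e1]
      have : g⁻¹ * (g * x * g⁻¹) * g = x := by group
      rw [this]; exact hx)
    calc w * x = g⁻¹ * ((g * w * g⁻¹) * (g * x * g⁻¹)) * g := by group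
      _ = _ := by rw [h2]; group)
  rcases h1 with h1 | h1
  · left
    intro x hx
    exact h1 _ (by rw [e1]; exact hx)
  · right
    intro x hx
    exact h1 _ (by rw [e1]; exact hx)

/-! ### The planes -/

theorem h_nor (l : Kˣ) : c.C.h l ∈ normalizer (T.U : Set G) :=
  G1.mem_nor (fun x hx => by
    rw [c.mem_U] at hx ⊢
    exact cj_U c.C F.amb l hx)

theorem u_Z {x : G} (hx : x ∈ Card.Z D) : c.A.u x = 0 := by
  obtain ⟨b, hb, rfl⟩ := hx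
  have h1 := c.A.W_sq _ (c.A.z_W b)
  rw [z_self] at h1
  exact D.z_inj _ (c.A.u_fixed _ (c.A.z_W b)) h1.symm

theorem plane {x : G} (hx : x ∈ D.P) (hxZ : x ∉ Card.Z D) :
    ∃ g ∈ normalizer (T.U : Set G), g⁻¹ * x * g ∈ c.A.W ∧
      ∀ x', g⁻¹ * x' * g ∈ c.A.W → x' ∈ D.P := by
  obtain ⟨w1, hw1, h1⟩ := c.A.u_surj 1 (bar_one n)
  have hw1Z : w1 ∉ Card.Z D := fun h => one_ne_zero (h1.symm.trans (c.u_Z h))
  set p0 := y * w1 * y⁻¹ with hp0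
  have e0 : y⁻¹ * p0 * y = w1 := by rw [hp0]; group
  have hp0P : p0 ∈ D.P := c.yW (by rw [e0]; exact hw1)
  have hp0Z : p0 ∉ Card.Z D := by
    intro h
    have := c.conjZ' c.y_nor h
    rw [e0] at this
    exact hw1Z this
  have hca : D.ca p0 ≠ 0 := fun h => hp0Z (D.exists_z p0 hp0P h)
  have hcx : D.ca x ≠ 0 := fun h => hxZ (D.exists_z x hx h)
  obtain ⟨l, hl⟩ := w_surj D.hq c.even (b := D.ca x / D.ca p0) (div_ne_zero hcx hca)
  have h2 : cj c.C l p0 ∈ D.P := cj_P_mem c.C F.amb l hp0P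
  have h3 : D.ca (cj c.C l p0) = D.ca x := by
    rw [ca_cj c.C F.amb l hp0P, hl, div_mul_cancel₀ _ hca]
  have h4 : (cj c.C l p0)⁻¹ * x ∈ Card.Z D := by
    apply D.exists_z _ (mul_mem (inv_mem h2) hx)
    rw [D.ca_mul _ (inv_mem h2) _ hx, ca_inv D h2, h3, Field.add_self]
  refine ⟨c.C.h l * y, mul_mem (c.h_nor l) c.y_nor, ?_, ?_⟩
  · have h5 := c.conjZ' (mul_mem (c.h_nor l) c.y_nor) h4
    have e1 : (c.C.h l * y)⁻¹ * x * (c.C.h l * y) =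
        w1 * ((c.C.h l * y)⁻¹ * ((cj c.C l p0)⁻¹ * x) * (c.C.h l * y)) := by
      rw [cj, hp0]; group
    rw [e1]
    exact mul_mem hw1 (c.Z_W h5)
  · intro x' hx'
    have h5 : (c.C.h l)⁻¹ * x' * c.C.h l ∈ D.P := by
      apply c.yW
      have e1 : y⁻¹ * ((c.C.h l)⁻¹ * x' * c.C.h l) * y = (c.C.h l * y)⁻¹ * x' * (c.C.h l * y) := by
        group
      rw [e1]; exact hx'
    have h6 := cj_P_mem c.C F.amb l h5
    have e1 : cj c.C l ((c.C.h l)⁻¹ * x' * c.C.h l) = x' := by rw [cj]; group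
    rwa [e1] at h6

theorem plane' {g x : G} (hg : g ∈ normalizer (T.U : Set G)) (hx : g⁻¹ * x * g ∈ D.P)
    (hxZ : x ∉ Card.Z D) :
    ∃ g' ∈ normalizer (T.U : Set G), g'⁻¹ * x * g' ∈ c.A.W ∧
      ∀ x', g'⁻¹ * x' * g' ∈ c.A.W → g⁻¹ * x' * g ∈ D.P := by
  obtain ⟨g1, hg1, h1, h2⟩ := c.plane hx (fun h => hxZ (c.memZ_conj hg h))
  have e1 : ∀ x', (g * g1)⁻¹ * x' * (g * g1) = g1⁻¹ * (g⁻¹ * x' * g) * g1 := by intro x'; group
  refine ⟨g * g1, mul_mem hg hg1, by rw [e1]; exact h1, fun x' hx' => h2 _ ?_⟩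
  rw [← e1]; exact hx'

end Ca

end Cfsg.Agent.StdU3.GOneA
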