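import Cfsg.Agent.StdU3.GOneQuot

/-!
# Type `g1`: `(S ∩ E) / U` is abelian
-/

set_option autoImplicit false

namespace Cfsg.Agent.StdU3.GOneAb

open Subgroup Cfsg.Agent.StdU3.GOneDef Cfsg.Agent.StdU3.GOneLem Cfsg.Agent.StdU3.GOneCore
  Cfsg.Agent.StdU3.GOneQuot

variable {G : Type*} [Group G] [Finite G] {E : Subgroup G} {S : Sylow 2 G} {U P R Z : Subgroup G}
  {t e : G} {q : ℕ} (h : GOne E S U P R Z t e q)

include h

section Quot

variable [hN : (N h).Normal]

theorem hYp : IsPGroup 2 ((S : Subgroup G) ⧸ (N h)) := S.isPGroup'.to_quotient _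

theorem comm_iff (a : (S : Subgroup G)) :
    (QuotientGroup.mk' (N h)) a * (QuotientGroup.mk' (N h)) ⟨t, h.tS⟩ =
      (QuotientGroup.mk' (N h)) ⟨t, h.tS⟩ * (QuotientGroup.mk' (N h)) a ↔
      ∃ v ∈ U, (a : G) * t * (a : G)⁻¹ = t * v := by
  rw [← map_mul, ← map_mul, eq_comm, mk_eq_iff]
  constructor
  · rintro ⟨v, hv, h1⟩
    have h1 : (a : G) * t = t * a * v := h1
    refine ⟨a * v * (a : G)⁻¹, h.U_norm a a.2 v hv, ?_⟩
    rw [h1]; group
  · rintro ⟨v, hv, h1⟩
    refine ⟨(a : G)⁻¹ * v * a, U_norm' h a.2 hv, ?_⟩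
    show (a : G) * t = t * a * ((a : G)⁻¹ * v * a)
    calc (a : G) * t = ((a : G) * t * (a : G)⁻¹) * a := by group
      _ = _ := by rw [h1]; group

theorem conj_iff (a b : (S : Subgroup G)) :
    (QuotientGroup.mk' (N h)) a * (QuotientGroup.mk' (N h)) ⟨t, h.tS⟩ *
      ((QuotientGroup.mk' (N h)) a)⁻¹ = (QuotientGroup.mk' (N h)) b ↔
      ∃ v ∈ U, (a : G) * t * (a : G)⁻¹ = b * v := by
  rw [← map_inv, ← map_mul, ← map_mul, eq_comm, mk_eq_iff]
  exact Iff.rfl

theorem ne_te : (QuotientGroup.mk' (N h)) ⟨t, h.tS⟩ ≠ (QuotientGroup.mk' (N h)) ⟨e, h.eS⟩ := by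
  intro h1
  rw [mk_eq_iff] at h1
  obtain ⟨v, hv, h2⟩ := h1
  have h2 : e = t * v := h2
  apply te_not_U h
  rw [h2, ← mul_assoc, h.tt, one_mul]
  exact hv

theorem dich_Y (g : (S : Subgroup G) ⧸ (N h)) :
    g * (QuotientGroup.mk' (N h)) ⟨t, h.tS⟩ * g⁻¹ = (QuotientGroup.mk' (N h)) ⟨t, h.tS⟩ ∨
      g * (QuotientGroup.mk' (N h)) ⟨t, h.tS⟩ * g⁻¹ = (QuotientGroup.mk' (N h)) ⟨e, h.eS⟩ := by
  obtain ⟨a, rfl⟩ := QuotientGroup.mk'_surjective (N h) g
  rcases dich_S h a.2 with h1 | h1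
  · left; rw [conj_iff]; exact h1
  · right; rw [conj_iff]; exact h1

theorem exists_y0Y : ∃ y0 : (S : Subgroup G) ⧸ (N h),
    y0 * (QuotientGroup.mk' (N h)) ⟨t, h.tS⟩ * y0⁻¹ = (QuotientGroup.mk' (N h)) ⟨e, h.eS⟩ := by
  obtain ⟨y, hy, hye⟩ := exists_y0 h
  refine ⟨(QuotientGroup.mk' (N h)) ⟨y, hy⟩, ?_⟩
  rw [conj_iff]
  exact ⟨1, one_mem _, by rw [mul_one]; exact hye.symm⟩

theorem indexX :
    (centralizer ({(QuotientGroup.mk' (N h)) ⟨t, h.tS⟩} : Set ((S : Subgroup G) ⧸ (N h)))).index = 2 := by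
  obtain ⟨y0, h0⟩ := exists_y0Y h
  exact index_two h0 (ne_te h) (dich_Y h)

/-- the subgroup generated by the squares -/
def SQ (_h : GOne E S U P R Z t e q) [(N _h).Normal] : Subgroup ((S : Subgroup G) ⧸ (N _h)) :=
  closure (Set.range fun g : (S : Subgroup G) ⧸ (N _h) => g * g)

/-- the images of the elements of `C_S(t)` in the group generated by squares. -/
theorem sq_mem {c : G} (hc : c ∈ S) (hcE : c ∈ E) (hct : c * t = t * c) :
    (QuotientGroup.mk' (N h)) ⟨c, hc⟩ ∈ SQ h := by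
  have h1 := h.sq c hc hcE hct
  let W : Subgroup G := ((SQ h).comap (QuotientGroup.mk' (N h))).map (S : Subgroup G).subtype
  have hW : U ⊔ closure {y | ∃ g ∈ S, y = g * g} ≤ W := by
    apply sup_le
    · intro u hu
      refine ⟨⟨u, h.U_le hu⟩, ?_, rfl⟩
      have : (QuotientGroup.mk' (N h)) ⟨u, h.U_le hu⟩ = 1 := by
        rw [QuotientGroup.mk'_apply, QuotientGroup.eq_one_iff]; exact hu
      rw [SetLike.mem_coe, mem_comap, this]; exact one_mem _
    · rw [closure_le]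
      rintro _ ⟨g, hg, rfl⟩
      refine ⟨⟨g, hg⟩ * ⟨g, hg⟩, ?_, rfl⟩
      rw [SetLike.mem_coe, mem_comap, map_mul]
      exact subset_closure ⟨_, rfl⟩
  obtain ⟨⟨w, hw⟩, hw2, h3⟩ := hW h1
  have h3 : w = c := h3
  subst h3
  exact hw2

end Quot

/-- **`t ∉ E`.** -/
theorem t_not_E : t ∉ E := by
  intro htE
  have hN := N_normal h
  have hall : ∀ g : G, g ∈ E := by
    intro g
    rcases h.E_gen g with h1 | h1
    · exact h1
    · have := mul_mem (inv_mem htE) h1
      rwa [inv_mul_cancel_left] at this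
  have hle : centralizer ({(QuotientGroup.mk' (N h)) ⟨t, h.tS⟩} : Set ((S : Subgroup G) ⧸ (N h))) ≤
      SQ h := by
    intro x hx
    obtain ⟨a, rfl⟩ := QuotientGroup.mk'_surjective (N h) x
    rw [mem_centralizer_singleton_iff, comm_iff] at hx
    obtain ⟨u, hu, c, hc, hct, h1⟩ := decomp h a.2 hx
    have h2 : (QuotientGroup.mk' (N h)) a = (QuotientGroup.mk' (N h)) ⟨c, hc⟩ := by
      rw [mk_eq_iff]
      refine ⟨(c : G)⁻¹ * u⁻¹ * c, U_norm' h hc (inv_mem hu), ?_⟩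
      show c = (a : G) * (c⁻¹ * u⁻¹ * c)
      rw [h1]; group
    rw [h2]
    exact sq_mem h hc (hall c) hct
  have hcomm := comm_of_le (hYp h) (indexX h) hle
  obtain ⟨y0, h0⟩ := exists_y0Y h
  apply ne_te h
  rw [← h0, hcomm y0, mul_inv_cancel_right]

/-- **`(S ∩ E) / U` is abelian.** -/
theorem ab {a b : G} (ha : a ∈ S) (haE : a ∈ E) (hb : b ∈ S) (hbE : b ∈ E) :
    ∃ v ∈ U, b * a = a * b * v := by
  have hN := N_normal h
  have C := core_of h
  have htE := t_not_E h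
  have htE' : ∀ g : G, g ∉ E → t * g ∈ E := fun g hg => (h.E_gen g).resolve_left hg
  -- index two of `S ∩ E`
  have hidxE : (E.subgroupOf (S : Subgroup G)).index = 2 := by
    rw [Subgroup.index_eq_two_iff]
    refine ⟨⟨t, h.tS⟩, fun b => ?_⟩
    rw [mem_subgroupOf, mem_subgroupOf]
    show Xor ((b : G) * t ∈ E) ((b : G) ∈ E)
    by_cases hb : (b : G) ∈ E
    · right
      refine ⟨hb, fun h1 => htE ?_⟩
      have := mul_mem (inv_mem hb) h1
      rwa [inv_mul_cancel_left] at this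
    · left
      refine ⟨?_, hb⟩
      have h1 := htE' b hb
      have h2 := conjE h t⁻¹ h1
      have e1 : t⁻¹ * (t * (b : G)) * t⁻¹⁻¹ = (b : G) * t := by group
      rwa [e1] at h2
  let T : Subgroup ((S : Subgroup G) ⧸ (N h)) :=
    (E.subgroupOf (S : Subgroup G)).map (QuotientGroup.mk' (N h))
  have hker : (QuotientGroup.mk' (N h)).ker ≤ E.subgroupOf (S : Subgroup G) := by
    rw [QuotientGroup.ker_mk']
    intro x hx
    exact h.U_E hx
  have hcomap : T.comap (QuotientGroup.mk' (N h)) = E.subgroupOf (S : Subgroup G) :=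
    comap_map_eq_self hker
  have hT : T.index = 2 := by
    have h1 : (T.comap (QuotientGroup.mk' (N h))).index = T.index :=
      index_comap_of_surjective _ (QuotientGroup.mk'_surjective (N h))
    rw [← h1, hcomap]; exact hidxE
  have memT : ∀ a : (S : Subgroup G), (QuotientGroup.mk' (N h)) a ∈ T ↔ (a : G) ∈ E := by
    intro a
    have : a ∈ T.comap (QuotientGroup.mk' (N h)) ↔ a ∈ E.subgroupOf (S : Subgroup G) := by rw [hcomap]
    exact this
  let X := centralizer ({(QuotientGroup.mk' (N h)) ⟨t, h.tS⟩} : Set ((S : Subgroup G) ⧸ (N h)))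
  have hX : X.index = 2 := indexX h
  have hXc : ∀ x ∈ X, ∀ y ∈ X, x * y = y * x := by
    intro x hx y hy
    obtain ⟨a, rfl⟩ := QuotientGroup.mk'_surjective (N h) x
    obtain ⟨b, rfl⟩ := QuotientGroup.mk'_surjective (N h) y
    have hx' := (comm_iff h a).1 (mem_centralizer_singleton_iff.1 hx)
    have hy' := (comm_iff h b).1 (mem_centralizer_singleton_iff.1 hy)
    rw [← map_mul, ← map_mul, mk_eq_iff]
    exact comm_mod h a.2 b.2 hx' hy'
  -- elements of `X`
  have hXd : ∀ x ∈ X, ∃ c, ∃ hc : c ∈ S, c * t = t * c ∧ x = (QuotientGroup.mk' (N h)) ⟨c, hc⟩ := by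
    intro x hx
    obtain ⟨a, rfl⟩ := QuotientGroup.mk'_surjective (N h) x
    obtain ⟨u, hu, c, hc, hct, h1⟩ := decomp h a.2 ((comm_iff h a).1 (mem_centralizer_singleton_iff.1 hx))
    refine ⟨c, hc, hct, ?_⟩
    rw [mk_eq_iff]
    refine ⟨(c : G)⁻¹ * u⁻¹ * c, U_norm' h hc (inv_mem hu), ?_⟩
    show c = (a : G) * (c⁻¹ * u⁻¹ * c)
    rw [h1]; group
  have hPE : P ≤ E := h.P_le.trans h.U_E
  -- the generator
  obtain ⟨f, hfS, hft, hf⟩ := h.Xcyc
  obtain ⟨f0, hf0S, hf0t, hf0E, hf0⟩ : ∃ f0, f0 ∈ S ∧ f0 * t = t * f0 ∧ f0 ∈ E ∧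
      ∀ x ∈ S, x * t = t * x → x ∈ E → ∃ i : ℤ, x * f0 ^ i ∈ P := by
    by_cases hfE : f ∈ E
    · refine ⟨f, hfS, hft, hfE, ?_⟩
      intro x hx hxt hxE
      obtain ⟨i, hi | hi⟩ := hf x hx hxt
      · exact ⟨i, hi⟩
      · exfalso
        apply htE
        have h1 : t * (x * f ^ i) ∈ E := by rw [← mul_assoc]; exact hPE hi
        have h2 := mul_mem h1 (inv_mem (mul_mem hxE (zpow_mem hfE i)))
        rwa [mul_inv_cancel_right] at h2
    · refine ⟨t * f, mul_mem h.tS hfS, ?_, htE' f hfE, ?_⟩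
      · calc t * f * t = t * (f * t) := by group
          _ = _ := by rw [hft]
      intro x hx hxt hxE
      obtain ⟨i, hi⟩ := hf x hx hxt
      have hcom : Commute t f := hft.symm
      have hpow : (t * f) ^ i = t ^ i * f ^ i := hcom.mul_zpow i
      have hti2 : t ^ i = 1 ∨ t ^ i = t := by
        rcases Int.even_or_odd' i with ⟨j, hj | hj⟩
        · left; rw [hj, zpow_mul, zpow_two, h.tt, one_zpow]
        · right; rw [hj, zpow_add, zpow_mul, zpow_two, h.tt, one_zpow, zpow_one, one_mul]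
      have hmE : x * (t * f) ^ i ∈ E := mul_mem hxE (zpow_mem (htE' f hfE) i)
      refine ⟨i, ?_⟩
      -- `x (tf)^i ∈ P ∪ tP`
      have h3 : x * (t * f) ^ i ∈ P ∨ t * (x * (t * f) ^ i) ∈ P := by
        rw [hpow]
        have hxt' : x * t = t * x := hxt
        rcases hti2 with h4 | h4 <;> rcases hi with h5 | h5
        · left; rw [h4, one_mul]; exact h5
        · right; rw [h4, one_mul, ← mul_assoc]; exact h5
        · right
          have e1 : t * (x * (t ^ i * f ^ i)) = x * f ^ i := by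
            rw [h4]
            calc t * (x * (t * f ^ i)) = t * (x * t) * f ^ i := by group
              _ = (t * t) * x * f ^ i := by rw [hxt']; group
              _ = _ := by rw [h.tt, one_mul]
          rw [e1]; exact h5
        · left
          have e1 : x * (t ^ i * f ^ i) = t * x * f ^ i := by
            rw [h4, ← mul_assoc, hxt']
          rw [e1]; exact h5
      rcases h3 with h4 | h4
      · exact h4
      · exfalso
        apply htE
        have h5 := mul_mem (hPE h4) (inv_mem hmE)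
        rwa [mul_inv_cancel_right] at h5
  have main := comm_of_squares (hYp h) (X := X) (T := T) hX hT hXc
    (t := (QuotientGroup.mk' (N h)) ⟨t, h.tS⟩) (mem_centralizer_singleton_iff.2 rfl)
    (by
      rw [← map_mul, ← map_one (QuotientGroup.mk' (N h))]
      congr 1
      exact Subtype.ext h.tt)
    (by rw [memT]; exact htE)
    (f := (QuotientGroup.mk' (N h)) ⟨f0, hf0S⟩)
    (by
      rw [mem_centralizer_singleton_iff, ← map_mul, ← map_mul]
      congr 1
      exact Subtype.ext hf0t)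
    (by rw [memT]; exact hf0E)
    (by
      intro x hx hxT
      obtain ⟨c, hc, hct, rfl⟩ := hXd x hx
      rw [memT] at hxT
      obtain ⟨i, hi⟩ := hf0 c hc hct hxT
      refine ⟨-i, ?_⟩
      rw [← map_zpow, mk_eq_iff]
      refine ⟨f0 ^ i * (c * f0 ^ i)⁻¹ * (f0 ^ i)⁻¹, ?_, ?_⟩
      · exact h.U_norm _ (zpow_mem hf0S i) _ (h.P_le (inv_mem hi))
      · show f0 ^ (-i) = c * (f0 ^ i * (c * f0 ^ i)⁻¹ * (f0 ^ i)⁻¹)
        group)
    (by
      intro x hx hxT
      obtain ⟨c, hc, hct, rfl⟩ := hXd x hx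
      rw [memT] at hxT
      exact sq_mem h hc hxT hct)
  have h1 := main _ ((memT ⟨a, ha⟩).2 haE) _ ((memT ⟨b, hb⟩).2 hbE)
  rw [← map_mul, ← map_mul, mk_eq_iff] at h1
  exact h1

end Cfsg.Agent.StdU3.GOneAb
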