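import Cfsg.Agent.StdU3.GOneDef
import Cfsg.Agent.StdU3.GOneLem

/-!
# Type `g1`: the group `U⟨t, e⟩`
-/

set_option autoImplicit false

namespace Cfsg.Agent.StdU3.GOneCore

open Subgroup Cfsg.Agent.StdU3.GOneDef Cfsg.Agent.StdU3.GOneLem

variable {G : Type*} [Group G]

/-- the symmetric part of the data. -/
structure Core (U P R Z : Subgroup G) (t e : G) (q : ℕ) : Prop where
  cardU : Nat.card U = q ^ 5
  cardZ : Nat.card Z = q
  P_le : P ≤ U
  R_le : R ≤ U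
  inf : ∀ x ∈ P, x ∈ R → x ∈ Z
  PR : ∀ u ∈ U, ∃ x ∈ P, ∃ y ∈ R, u = x * y
  PRc : ∀ x ∈ P, ∀ y ∈ R, x * y = y * x
  hP : Half P Z e q
  hR : Half R Z t q
  tt : t * t = 1
  tP : ∀ x ∈ P, t * x = x * t
  ee : e * e = 1
  eR : ∀ x ∈ R, e * x = x * e
  te : t * e = e * t

theorem core_of [Finite G] {E : Subgroup G} {S : Sylow 2 G} {U P R Z : Subgroup G} {t e : G} {q : ℕ}
    (h : GOne E S U P R Z t e q) : Core U P R Z t e q :=
  { cardU := h.cardU, cardZ := h.cardZ, P_le := h.P_le, R_le := h.R_le, inf := h.inf, PR := h.PR,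
    PRc := h.PRc, hP := h.hP, hR := h.hR, tt := h.tt, tP := h.tP, ee := h.ee, eR := h.eR,
    te := h.te }

namespace Core

variable {U P R Z : Subgroup G} {t e : G} {q : ℕ} (h : Core U P R Z t e q)

include h

theorem swap : Core U R P Z e t q :=
  { cardU := h.cardU, cardZ := h.cardZ, P_le := h.R_le, R_le := h.P_le
    inf := fun x hx hy => h.inf x hy hx
    PR := fun u hu => by
      obtain ⟨x, hx, y, hy, e⟩ := h.PR u hu
      exact ⟨y, hy, x, hx, by rw [e, h.PRc x hx y hy]⟩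
    PRc := fun x hx y hy => (h.PRc y hy x hx).symm
    hP := h.hR, hR := h.hP, tt := h.ee, tP := h.eR, ee := h.tt, eR := h.tP, te := h.te.symm }

theorem ti : t⁻¹ = t := inv_eq_of_mul_eq_one_left h.tt

theorem ei : e⁻¹ = e := inv_eq_of_mul_eq_one_left h.ee

theorem tPc {x : G} (hx : x ∈ P) : t * x * t⁻¹ = x := by rw [h.tP x hx]; group

theorem eRc {x : G} (hx : x ∈ R) : e * x * e⁻¹ = x := by rw [h.eR x hx]; group

theorem Z_le : Z ≤ U := h.hP.Z_le.trans h.P_le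

/-- `Z` is central in `U` -/
theorem zc {z u : G} (hz : z ∈ Z) (hu : u ∈ U) : z * u = u * z := by
  obtain ⟨x, hx, y, hy, rfl⟩ := h.PR u hu
  have h1 := h.PRc x hx z (h.hR.Z_le hz)
  have h2 := h.PRc z (h.hP.Z_le hz) y hy
  calc z * (x * y) = (z * x) * y := by group
    _ = x * (z * y) := by rw [← h1]; group
    _ = x * y * z := by rw [h2]; group

theorem conjZ {z u : G} (hu : u ∈ U) (hz : z ∈ Z) : u * z * u⁻¹ = z := by
  rw [← h.zc hz hu]; group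

theorem P_norm {u x : G} (hu : u ∈ U) (hx : x ∈ P) : u * x * u⁻¹ ∈ P := by
  obtain ⟨a, ha, b, hb, rfl⟩ := h.PR u hu
  have h1 : a * b * x * (a * b)⁻¹ = a * x * a⁻¹ := by
    calc a * b * x * (a * b)⁻¹ = a * (b * x) * b⁻¹ * a⁻¹ := by group
      _ = a * x * a⁻¹ := by rw [← h.PRc x hx b hb]; group
  rw [h1]
  exact mul_mem (mul_mem ha hx) (inv_mem ha)

theorem cmtU {u v : G} (hu : u ∈ U) (hv : v ∈ U) : u * v * u⁻¹ * v⁻¹ ∈ Z := by
  obtain ⟨a, ha, b, hb, rfl⟩ := h.PR u hu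
  obtain ⟨c, hc, d, hd, rfl⟩ := h.PR v hv
  have h1 := h.PRc c hc b hb
  have h2 := h.PRc a ha d hd
  have h3 := h.PRc a ha b hb
  have h4 := h.PRc c hc d hd
  have h5 := h.PRc _ (inv_mem ha) _ hd
  have h6 := h.PRc _ (inv_mem ha) _ (inv_mem hb)
  have h7 := h.PRc _ (inv_mem hc) _ (inv_mem hd)
  have h8 := h.PRc _ (inv_mem hc) _ (mul_mem (mul_mem hb hd) (inv_mem hb))
  have e1 : a * b * (c * d) * (a * b)⁻¹ * (c * d)⁻¹ =
      (a * c * a⁻¹ * c⁻¹) * (b * d * b⁻¹ * d⁻¹) := by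
    have k1 : a * b * (c * d) = (a * c) * (b * d) := by
      calc a * b * (c * d) = a * (b * c) * d := by group
        _ = (a * c) * (b * d) := by rw [← h1]; group
    have k2 : (a * b)⁻¹ * (c * d)⁻¹ = (a⁻¹ * c⁻¹) * (b⁻¹ * d⁻¹) := by
      have k3 := h.PRc _ (inv_mem hc) _ (inv_mem hb)
      calc (a * b)⁻¹ * (c * d)⁻¹ = (b⁻¹ * a⁻¹) * (d⁻¹ * c⁻¹) := by group
        _ = (a⁻¹ * b⁻¹) * (c⁻¹ * d⁻¹) := by rw [← h6, ← h7]
        _ = a⁻¹ * (b⁻¹ * c⁻¹) * d⁻¹ := by group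
        _ = _ := by rw [← k3]; group
    have k4 := h.PRc _ (mul_mem (inv_mem ha) (inv_mem hc)) _ (mul_mem hb hd)
    calc a * b * (c * d) * (a * b)⁻¹ * (c * d)⁻¹ = (a * b * (c * d)) * ((a * b)⁻¹ * (c * d)⁻¹) := by
          group
      _ = (a * c) * (b * d) * ((a⁻¹ * c⁻¹) * (b⁻¹ * d⁻¹)) := by rw [k1, k2]
      _ = (a * c) * ((b * d) * (a⁻¹ * c⁻¹)) * (b⁻¹ * d⁻¹) := by group
      _ = (a * c) * ((a⁻¹ * c⁻¹) * (b * d)) * (b⁻¹ * d⁻¹) := by rw [← k4]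
      _ = _ := by group
  rw [e1]
  exact mul_mem (h.hP.cmt a ha c hc) (h.hR.cmt b hb d hd)

/-- `C_U(t) = P` -/
theorem fixU {u : G} (hu : u ∈ U) (htu : t * u = u * t) : u ∈ P := by
  obtain ⟨x, hx, y, hy, rfl⟩ := h.PR u hu
  have h1 : t * y = y * t := by
    have h2 := h.tP x hx
    have h3 : x * (t * y) = x * (y * t) := by
      calc x * (t * y) = (x * t) * y := by group
        _ = t * (x * y) := by rw [← h2]; group
        _ = x * (y * t) := by rw [htu]; group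
    exact mul_left_cancel h3
  exact mul_mem hx (h.hP.Z_le (h.hR.fix y hy h1))

theorem q_pos [Finite G] : 0 < q := by
  rw [← h.cardZ]; exact Nat.card_pos

/-- elements acting on `R` as `t` are not in `U` -/
theorem not_mem [Finite G] (hq : 4 ≤ q) {d : G} (hd : ∀ x ∈ R, d * x * d⁻¹ = t * x * t⁻¹) : d ∉ U := by
  intro hdU
  have h1 : ∀ x ∈ R, t * x * t⁻¹ * x⁻¹ ∈ Z := by
    intro x hx
    rw [← hd x hx]
    exact h.cmtU hdU (h.R_le hx)
  have h2 : Nat.card R ≤ q ^ 2 := by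
    rw [← h.hR.card0]
    have : Finite {x : G // x ∈ R ∧ t * x * t⁻¹ * x⁻¹ ∈ Z} := inferInstance
    exact Nat.card_le_card_of_injective
      (fun x : R => (⟨x, x.2, h1 x x.2⟩ : {x : G // x ∈ R ∧ t * x * t⁻¹ * x⁻¹ ∈ Z}))
      (fun x y hxy => Subtype.ext (Subtype.mk.inj hxy))
  rw [h.hR.card] at h2
  have h3 : q ^ 2 < q ^ 3 := Nat.pow_lt_pow_right (by omega) (by norm_num)
  omega

/-- involutions in `tU` -/
theorem inv_tU {u : G} (hu : u ∈ U) (h2 : (t * u) * (t * u) = 1) :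
    u ∈ R ∧ t * u * t⁻¹ * u⁻¹ ∈ Z := by
  obtain ⟨x, hx, y, hy, rfl⟩ := h.PR u hu
  have h3 : (x * x) * (t * y * t⁻¹ * y) = 1 := by
    have e1 : (t * (x * y)) * (t * (x * y)) = (x * x) * (t * y * t⁻¹ * y) := by
      have e2 := h.tP x hx
      have e3 := h.PRc x hx _ (h.hR.conj y hy)
      have e4 := h.PRc x hx _ (mul_mem (h.hR.conj y hy) hy)
      calc (t * (x * y)) * (t * (x * y)) = (t * x) * y * (t * x) * y := by group
        _ = (x * t) * y * (x * t) * y := by rw [e2]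
        _ = x * t * (y * x) * t * y := by group
        _ = x * t * (x * y) * t * y := by rw [← h.PRc x hx y hy]
        _ = x * (t * x) * y * t * y := by group
        _ = x * x * (t * y * t * y) := by rw [e2]; group
        _ = _ := by
          have : t * y * t⁻¹ = t * y * t := by rw [h.ti]
          rw [this]
    rw [← e1]; exact h2
  have h4 : t * y * t⁻¹ * y = (x * x)⁻¹ := (inv_eq_of_mul_eq_one_right h3).symm
  have hxx : x * x ∈ Z := h.hP.sq x hx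
  have h5 : t * y * t⁻¹ * y⁻¹ ∈ Z := by
    have : t * y * t⁻¹ * y⁻¹ = (t * y * t⁻¹ * y) * (y * y)⁻¹ := by group
    rw [this, h4]
    exact mul_mem (inv_mem hxx) (inv_mem (h.hR.sq y hy))
  have h6 := h.hR.inv y hy h5
  have h7 : x * x = 1 := by
    rw [h6, inv_mul_cancel] at h4
    exact inv_eq_one.1 h4.symm
  have hxZ := h.hP.sq1 x hx h7
  have hxR := h.hR.Z_le hxZ
  refine ⟨mul_mem hxR hy, ?_⟩
  have e5 : t * (x * y) * t⁻¹ * (x * y)⁻¹ = x * (t * y * t⁻¹ * y⁻¹) * x⁻¹ := by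
    calc t * (x * y) * t⁻¹ * (x * y)⁻¹ = (t * x) * y * t⁻¹ * y⁻¹ * x⁻¹ := by group
      _ = _ := by rw [h.tP x hx]; group
  rw [e5, h.conjZ (h.P_le hx) h5]
  exact h5

/-- involutions in `tU` are conjugate to `t` under `R`. -/
theorem conj_tU [Finite G] {u : G} (hu : u ∈ U) (h2 : (t * u) * (t * u) = 1) :
    ∃ r ∈ R, r * t * r⁻¹ = t * u := by
  let W : Set G := {x | x ∈ R ∧ t * x * t⁻¹ * x⁻¹ ∈ Z}
  let V : Set G := (fun x => t * x) '' W
  have hW : W.ncard = q ^ 2 := by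
    rw [← h.hR.card0]; exact (Nat.card_coe_set_eq W).symm
  have hV : V.ncard = q ^ 2 := by
    rw [Set.ncard_image_of_injective _ (mul_right_injective t), hW]
  refine surj_of R Z t V ?_ (fun r hr hrt => h.hR.fix r hr hrt.symm) ?_ (t * u) ?_
  · intro r hr
    refine ⟨t * r * t⁻¹ * r⁻¹, ?_, ?_⟩
    · have h3 : t * r * t⁻¹ * r⁻¹ ∈ R := mul_mem (h.hR.conj r hr) (inv_mem hr)
      refine ⟨h3, ?_⟩
      have h4 : (t * (t * r * t⁻¹ * r⁻¹)) * (t * (t * r * t⁻¹ * r⁻¹)) = 1 := by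
        have e1 : t * (t * r * t⁻¹ * r⁻¹) = r * t * r⁻¹ := by
          calc t * (t * r * t⁻¹ * r⁻¹) = (t * t) * r * t⁻¹ * r⁻¹ := by group
            _ = _ := by rw [h.tt, h.ti]; group
        rw [e1]
        calc r * t * r⁻¹ * (r * t * r⁻¹) = r * (t * t) * r⁻¹ := by group
          _ = 1 := by rw [h.tt]; group
      exact (h.inv_tU (h.R_le h3) h4).2
    · show t * (t * r * t⁻¹ * r⁻¹) = r * t * r⁻¹
      calc t * (t * r * t⁻¹ * r⁻¹) = (t * t) * r * t⁻¹ * r⁻¹ := by group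
        _ = _ := by rw [h.tt, h.ti]; group
  · rw [hV, h.cardZ, h.hR.card]
    exact le_of_eq (by ring)
  · exact ⟨u, h.inv_tU hu h2, rfl⟩

theorem te_conj (x y : G) (hx : x ∈ P) (hy : y ∈ R) :
    (t * e) * (x * y) * (t * e)⁻¹ = (e * x * e⁻¹) * (t * y * t⁻¹) := by
  have h1 := h.tPc (h.hP.conj x hx)
  have h2 := h.eRc hy
  calc (t * e) * (x * y) * (t * e)⁻¹ = (t * (e * x * e⁻¹) * t⁻¹) * (t * (e * y * e⁻¹) * t⁻¹) := by
        group
    _ = _ := by rw [h1, h2]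

/-- `C_U(te)` has order at most `q²` -/
theorem card_fix_te [Finite G] : Nat.card (U ⊓ centralizer ({t * e} : Set G) : Subgroup G) ≤ q ^ 2 := by
  let V : Set G := (fun x => t * x) '' (Z : Set G)
  have hV : V.ncard = q := by
    rw [Set.ncard_image_of_injective _ (mul_right_injective t)]
    have : (Z : Set G).ncard = Nat.card Z := (Nat.card_coe_set_eq (Z : Set G)).symm
    rw [this, h.cardZ]
  have key : ∀ u ∈ (U ⊓ centralizer ({t * e} : Set G) : Subgroup G),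
      t * u * t⁻¹ * u⁻¹ ∈ Z ∧ (u * t = t * u → u ∈ Z) := by
    rintro u ⟨hu, hc⟩
    have hc := mem_centralizer_singleton_iff.1 hc
    obtain ⟨x, hx, y, hy, rfl⟩ := h.PR u hu
    have h1 : (t * e) * (x * y) * (t * e)⁻¹ = x * y := by rw [← hc]; group
    rw [h.te_conj x y hx hy] at h1
    have h2 : x⁻¹ * (e * x * e⁻¹) = y * (t * y * t⁻¹)⁻¹ := by
      rw [eq_mul_inv_iff_mul_eq, mul_assoc, h1]; group
    have h3 : x⁻¹ * (e * x * e⁻¹) ∈ Z :=
      h.inf _ (mul_mem (inv_mem hx) (h.hP.conj x hx))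
        (h2 ▸ mul_mem hy (inv_mem (h.hR.conj y hy)))
    have h4 : t * y * t⁻¹ * y⁻¹ ∈ Z := by
      have : t * y * t⁻¹ * y⁻¹ = (y * (t * y * t⁻¹)⁻¹)⁻¹ := by group
      rw [this, ← h2]
      exact inv_mem h3
    constructor
    · have e5 : t * (x * y) * t⁻¹ * (x * y)⁻¹ = x * (t * y * t⁻¹ * y⁻¹) * x⁻¹ := by
        calc t * (x * y) * t⁻¹ * (x * y)⁻¹ = (t * x) * y * t⁻¹ * y⁻¹ * x⁻¹ := by group
          _ = _ := by rw [h.tP x hx]; group
      rw [e5, h.conjZ (h.P_le hx) h4]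
      exact h4
    · intro ht
      have h5 := h.fixU hu ht.symm
      have h6 : e * (x * y) = (x * y) * e := by
        have h7 : t * (e * (x * y)) = t * ((x * y) * e) := by
          calc t * (e * (x * y)) = (x * y) * (t * e) := by rw [← mul_assoc, ← hc]
            _ = (t * (x * y)) * e := by rw [← ht]; group
            _ = _ := by group
        exact mul_left_cancel h7
      exact h.hP.fix _ h5 h6
  have h1 := card_le_of (U ⊓ centralizer ({t * e} : Set G)) Z t V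
    (fun u hu => ⟨t * u * t⁻¹ * u⁻¹, (key u hu).1, by
      show t * (t * u * t⁻¹ * u⁻¹) = u * t * u⁻¹
      calc t * (t * u * t⁻¹ * u⁻¹) = (t * t) * u * t⁻¹ * u⁻¹ := by group
        _ = _ := by rw [h.tt, h.ti]; group⟩)
    (fun u hu => (key u hu).2)
  rw [hV, h.cardZ] at h1
  rw [pow_two]; exact h1

/-- the subgroup of elements of `U` centralized by `t` and `e` modulo `Z` -/
def J0 : Subgroup G where
  carrier := {u | u ∈ U ∧ t * u * t⁻¹ * u⁻¹ ∈ Z ∧ e * u * e⁻¹ * u⁻¹ ∈ Z}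
  mul_mem' := by
    rintro a b ⟨ha, ha1, ha2⟩ ⟨hb, hb1, hb2⟩
    refine ⟨mul_mem ha hb, ?_, ?_⟩
    · have : t * (a * b) * t⁻¹ * (a * b)⁻¹ = (t * a * t⁻¹ * a⁻¹) * (a * (t * b * t⁻¹ * b⁻¹) * a⁻¹) := by
        group
      rw [this, h.conjZ ha hb1]
      exact mul_mem ha1 hb1
    · have : e * (a * b) * e⁻¹ * (a * b)⁻¹ = (e * a * e⁻¹ * a⁻¹) * (a * (e * b * e⁻¹ * b⁻¹) * a⁻¹) := by
        group
      rw [this, h.conjZ ha hb2]
      exact mul_mem ha2 hb2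
  one_mem' := ⟨one_mem _, by simp, by simp⟩
  inv_mem' := by
    rintro a ⟨ha, ha1, ha2⟩
    refine ⟨inv_mem ha, ?_, ?_⟩
    · have : t * a⁻¹ * t⁻¹ * (a⁻¹)⁻¹ = a⁻¹ * (a * (t * a⁻¹ * t⁻¹)) * (a⁻¹)⁻¹ := by group
      have h3 : a * (t * a⁻¹ * t⁻¹) = (t * a * t⁻¹ * a⁻¹)⁻¹ := by group
      rw [this, h3, h.conjZ (inv_mem ha) (inv_mem ha1)]
      exact inv_mem ha1
    · have : e * a⁻¹ * e⁻¹ * (a⁻¹)⁻¹ = a⁻¹ * (a * (e * a⁻¹ * e⁻¹)) * (a⁻¹)⁻¹ := by group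
      have h3 : a * (e * a⁻¹ * e⁻¹) = (e * a * e⁻¹ * a⁻¹)⁻¹ := by group
      rw [this, h3, h.conjZ (inv_mem ha) (inv_mem ha2)]
      exact inv_mem ha2

theorem card_J0 [Finite G] : Nat.card h.J0 ≤ q ^ 3 := by
  let V : Set G := (fun x => t * x) '' (Z : Set G)
  have hV : V.ncard = q := by
    rw [Set.ncard_image_of_injective _ (mul_right_injective t)]
    have : (Z : Set G).ncard = Nat.card Z := (Nat.card_coe_set_eq (Z : Set G)).symm
    rw [this, h.cardZ]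
  have hK : Nat.card (h.J0 ⊓ P : Subgroup G) ≤ q ^ 2 := by
    rw [← h.hP.card0]
    exact Nat.card_le_card_of_injective
      (fun x : (h.J0 ⊓ P : Subgroup G) => (⟨x, x.2.2, x.2.1.2.2⟩ :
        {x : G // x ∈ P ∧ e * x * e⁻¹ * x⁻¹ ∈ Z}))
      (fun x y hxy => Subtype.ext (Subtype.mk.inj hxy))
  have h1 := card_le_of h.J0 (h.J0 ⊓ P) t V
    (fun u hu => ⟨t * u * t⁻¹ * u⁻¹, hu.2.1, by
      show t * (t * u * t⁻¹ * u⁻¹) = u * t * u⁻¹
      calc t * (t * u * t⁻¹ * u⁻¹) = (t * t) * u * t⁻¹ * u⁻¹ := by group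
        _ = _ := by rw [h.tt, h.ti]; group⟩)
    (fun u hu hut => ⟨hu, h.fixU hu.1 hut.symm⟩)
  rw [hV] at h1
  calc Nat.card h.J0 ≤ q * Nat.card (h.J0 ⊓ P : Subgroup G) := h1
    _ ≤ q * q ^ 2 := Nat.mul_le_mul_left _ hK
    _ = q ^ 3 := by ring

theorem te_te : (t * e) * (t * e) = 1 := by
  calc (t * e) * (t * e) = t * (e * t) * e := by group
    _ = (t * t) * (e * e) := by rw [← h.te]; group
    _ = 1 := by rw [h.tt, h.ee, one_mul]

theorem te_inv : (t * e)⁻¹ = t * e := inv_eq_of_mul_eq_one_left h.te_te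

theorem inv_teU {u : G} (hu : u ∈ U) (h2 : (t * e * u) * (t * e * u) = 1) : u ∈ h.J0 := by
  obtain ⟨x, hx, y, hy, rfl⟩ := h.PR u hu
  have h3 : (e * x * e⁻¹) * (t * y * t⁻¹) * (x * y) = 1 := by
    rw [← h.te_conj x y hx hy, h.te_inv, ← h2]
    group
  have h4 := h.PRc x hx _ (h.hR.conj y hy)
  have h5 : (e * x * e⁻¹ * x) * (t * y * t⁻¹ * y) = 1 := by
    rw [← h3]
    calc (e * x * e⁻¹ * x) * (t * y * t⁻¹ * y) = (e * x * e⁻¹) * (x * (t * y * t⁻¹)) * y := by group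
      _ = _ := by rw [h4]; group
  have h6 : e * x * e⁻¹ * x = (t * y * t⁻¹ * y)⁻¹ := eq_inv_of_mul_eq_one_left h5
  have h7 : e * x * e⁻¹ * x ∈ Z := h.inf _ (mul_mem (h.hP.conj x hx) hx)
    (h6 ▸ inv_mem (mul_mem (h.hR.conj y hy) hy))
  have h8 : t * y * t⁻¹ * y ∈ Z := by
    rw [← inv_inv (t * y * t⁻¹ * y), ← h6]; exact inv_mem h7
  have h9 : e * x * e⁻¹ * x⁻¹ ∈ Z := by
    have : e * x * e⁻¹ * x⁻¹ = (e * x * e⁻¹ * x) * (x * x)⁻¹ := by group
    rw [this]; exact mul_mem h7 (inv_mem (h.hP.sq x hx))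
  have h10 : t * y * t⁻¹ * y⁻¹ ∈ Z := by
    have : t * y * t⁻¹ * y⁻¹ = (t * y * t⁻¹ * y) * (y * y)⁻¹ := by group
    rw [this]; exact mul_mem h8 (inv_mem (h.hR.sq y hy))
  refine ⟨mul_mem (h.P_le hx) (h.R_le hy), ?_, ?_⟩
  · have e5 : t * (x * y) * t⁻¹ * (x * y)⁻¹ = x * (t * y * t⁻¹ * y⁻¹) * x⁻¹ := by
      calc t * (x * y) * t⁻¹ * (x * y)⁻¹ = (t * x) * y * t⁻¹ * y⁻¹ * x⁻¹ := by group
        _ = _ := by rw [h.tP x hx]; group
    rw [e5, h.conjZ (h.P_le hx) h10]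
    exact h10
  · have e5 : e * (x * y) * e⁻¹ * (x * y)⁻¹ = e * x * e⁻¹ * x⁻¹ := by
      calc e * (x * y) * e⁻¹ * (x * y)⁻¹ = (e * x * e⁻¹) * (e * y * e⁻¹) * y⁻¹ * x⁻¹ := by group
        _ = _ := by rw [h.eRc hy]; group
    rw [e5]
    exact h9

/-- involutions in `teU` are conjugate to `te` under `U`. -/
theorem conj_teU [Finite G] {u : G} (hu : u ∈ U) (h2 : (t * e * u) * (t * e * u) = 1) :
    ∃ v ∈ U, v * (t * e) * v⁻¹ = t * e * u := by
  let V : Set G := (fun x => t * e * x) '' (h.J0 : Set G)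
  have hV : V.ncard ≤ q ^ 3 := by
    rw [Set.ncard_image_of_injective _ (mul_right_injective (t * e))]
    have : (h.J0 : Set G).ncard = Nat.card h.J0 := (Nat.card_coe_set_eq (h.J0 : Set G)).symm
    rw [this]; exact h.card_J0
  refine surj_of U (U ⊓ centralizer ({t * e} : Set G)) (t * e) V ?_
    (fun v hv hvt => ⟨hv, mem_centralizer_singleton_iff.2 hvt⟩) ?_ (t * e * u) ?_
  · intro v hv
    have hm : (t * e) * v * (t * e)⁻¹ * v⁻¹ ∈ U := by
      obtain ⟨x, hx, y, hy, rfl⟩ := h.PR v hv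
      rw [h.te_conj x y hx hy]
      exact mul_mem (mul_mem (h.P_le (h.hP.conj x hx)) (h.R_le (h.hR.conj y hy))) (inv_mem hv)
    have e1 : t * e * ((t * e) * v * (t * e)⁻¹ * v⁻¹) = v * (t * e) * v⁻¹ := by
      calc t * e * ((t * e) * v * (t * e)⁻¹ * v⁻¹) = ((t * e) * (t * e)) * v * (t * e)⁻¹ * v⁻¹ := by
            group
        _ = _ := by rw [h.te_te, h.te_inv]; group
    refine ⟨(t * e) * v * (t * e)⁻¹ * v⁻¹, h.inv_teU hm ?_, e1⟩
    rw [e1]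
    calc v * (t * e) * v⁻¹ * (v * (t * e) * v⁻¹) = v * ((t * e) * (t * e)) * v⁻¹ := by group
      _ = 1 := by rw [h.te_te]; group
  · rw [h.cardU]
    calc V.ncard * Nat.card (U ⊓ centralizer ({t * e} : Set G) : Subgroup G) ≤ q ^ 3 * q ^ 2 :=
          Nat.mul_le_mul hV h.card_fix_te
      _ = q ^ 5 := by ring
  · exact ⟨u, h.inv_teU hu h2, rfl⟩

end Core

end Cfsg.Agent.StdU3.GOneCore
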