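import Cfsg.Agent.StdU3.GOneFus
import Cfsg.Agent.S1241

/-!
# Type `g1`: the end
-/

set_option autoImplicit false

namespace Cfsg.Agent.StdU3.GOneEnd

open Subgroup Cfsg.Agent.StdU3.GOneDef Cfsg.Agent.StdU3.GOneLem Cfsg.Agent.StdU3.GOneCore
  Cfsg.Agent.StdU3.GOneQuot Cfsg.Agent.StdU3.GOneAb Cfsg.Agent.StdU3.GOneFus

variable {G : Type*} [Group G] [Finite G] {E : Subgroup G} {S : Sylow 2 G} {U P R Z : Subgroup G}
  {t e : G} {q : ℕ} (h : GOne E S U P R Z t e q)

omit [Finite G] in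
theorem card_zpowers_le {x : G} (hx : x * x = 1) : Nat.card (zpowers x) ≤ 2 := by
  rw [Nat.card_zpowers]
  exact Nat.le_of_dvd (by norm_num) (orderOf_dvd_of_pow_eq_one (by rw [pow_two, hx]))

omit [Finite G] in
theorem card_zpowers_eq {x : G} (hx : x * x = 1) (h1 : x ≠ 1) : Nat.card (zpowers x) = 2 := by
  rw [Nat.card_zpowers]
  exact orderOf_eq_prime (by rw [pow_two, hx]) h1

omit [Finite G] in
theorem zpow_cases {x : G} (hx : x * x = 1) (i : ℤ) : x ^ i = 1 ∨ x ^ i = x := by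
  rcases Int.even_or_odd' i with ⟨j, hj | hj⟩
  · left; rw [hj, zpow_mul, zpow_two, hx, one_zpow]
  · right; rw [hj, zpow_add, zpow_mul, zpow_two, hx, one_zpow, zpow_one, one_mul]

include h

/-- `|S| ≤ 2 |S ∩ E|` -/
theorem card_T : Nat.card (S : Subgroup G) ≤ 2 * Nat.card ((S : Subgroup G) ⊓ E : Subgroup G) := by
  have h1 := card_mul_le (zpowers t) ((S : Subgroup G) ⊓ E) ⊥ (S : Subgroup G) bot_le bot_le
    (by
      intro x hx
      rcases h.E_gen x with h2 | h2
      · exact ⟨1, one_mem _, x, ⟨hx, h2⟩, (one_mul x).symm⟩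
      · exact ⟨t, mem_zpowers t, t * x, ⟨mul_mem h.tS hx, h2⟩, by rw [← mul_assoc, h.tt, one_mul]⟩)
  rw [Subgroup.card_bot, mul_one] at h1
  exact h1.trans (Nat.mul_le_mul_right _ (card_zpowers_le h.tt))

/-- the bound for `|S|` -/
theorem card_S_le {m : ℕ}
    (hm : Nat.card ((S : Subgroup G) ⊓ centralizer ({t} : Set G) : Subgroup G) ≤ m * q ^ 3) :
    Nat.card (S : Subgroup G) ≤ 2 * (q ^ 5 * m) := by
  have C := core_of h
  obtain ⟨X, -, hSX, hXc⟩ := card_S h
  have h1 : Nat.card X * q ^ 3 ≤ (q ^ 5 * m) * q ^ 3 :=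
    hXc.trans ((Nat.mul_le_mul_left _ hm).trans (le_of_eq (by ring)))
  have h2 := Nat.le_of_mul_le_mul_right h1 (pow_pos C.q_pos 3)
  rw [hSX]
  exact Nat.mul_le_mul_left _ h2

theorem card_s_le {m : ℕ} (hm : Nat.card (S : Subgroup G) ≤ 2 * (q ^ 5 * m)) :
    Nat.card ((S : Subgroup G) ⊓ centralizer ({t * e} : Set G) : Subgroup G) ≤ 2 * m * q ^ 2 := by
  have C := core_of h
  have h1 := (card_s h).trans hm
  have h2 : 2 * (q ^ 5 * m) = (2 * m * q ^ 2) * q ^ 3 := by ring
  rw [h2] at h1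
  exact Nat.le_of_mul_le_mul_right h1 (pow_pos C.q_pos 3)

/-- case `y ∈ U` -/
theorem caseU {y : G} (hyU : y ∈ U)
    (hlt : Nat.card ((S : Subgroup G) ⊓ centralizer ({y} : Set G) : Subgroup G) <
        Nat.card ((S : Subgroup G) ⊓ centralizer ({t * e} : Set G) : Subgroup G)) : False := by
  have C := core_of h
  have h1 := card_U h hyU
  have hXt : Nat.card ((S : Subgroup G) ⊓ centralizer ({t} : Set G) : Subgroup G) ≤ (2 * q) * q ^ 3 := by
    refine le_trans ?_ h.Xcard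
    exact Nat.card_le_card_of_injective
      (fun x : ((S : Subgroup G) ⊓ centralizer ({t} : Set G) : Subgroup G) =>
        (⟨x, x.2.1, mem_centralizer_singleton_iff.1 x.2.2⟩ : {x : G // x ∈ S ∧ x * t = t * x}))
      (fun x y hxy => Subtype.ext (Subtype.mk.inj hxy))
  have h2 := card_s_le h (card_S_le h hXt)
  have h3 : q ^ 4 < 2 * (2 * q) * q ^ 2 := lt_of_le_of_lt h1 (lt_of_lt_of_le hlt h2)
  have h4 : 2 * (2 * q) * q ^ 2 = 4 * q ^ 3 := by ring
  have h5 : q ^ 4 = q * q ^ 3 := by ring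
  rw [h4, h5] at h3
  have h6 := Nat.lt_of_mul_lt_mul_right h3
  have := h.q4
  omega

/-- if `y` interchanges `P` and `R` modulo conjugation and centralizes `Z`, `Z` is central in `S` -/
theorem Zcent {y v : G} (hy : y ∈ S) (hv : v ∈ U) (hyt : y * t * y⁻¹ = e * v)
    (hyZ : ∀ z ∈ Z, y * z = z * y) : ∀ x ∈ S, ∀ z ∈ Z, x * z = z * x := by
  have : Fact (Nat.Prime 2) := ⟨Nat.prime_two⟩
  have C := core_of h
  by_contra hcon
  let K0 : Subgroup (S : Subgroup G) := (centralizer (Z : Set G)).subgroupOf (S : Subgroup G)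
  have hK0 : K0 ≠ ⊤ := by
    intro htop
    apply hcon
    intro x hx z hz
    have h1 : (⟨x, hx⟩ : (S : Subgroup G)) ∈ K0 := by rw [htop]; trivial
    have h2 : x ∈ centralizer (Z : Set G) := h1
    exact (mem_centralizer_iff.1 h2 z hz).symm
  have hSp : IsPGroup 2 (S : Subgroup G) := S.isPGroup'
  obtain ⟨n, hn⟩ := hSp.exists_card_eq
  obtain ⟨m, hm⟩ := (hSp.to_subgroup K0).exists_card_eq
  have hlt : m < n := by
    have h1 : Nat.card K0 < Nat.card (S : Subgroup G) := by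
      by_contra hle
      exact hK0 (Subgroup.eq_top_of_card_eq _ (le_antisymm (Subgroup.card_le_card_group _)
        (not_lt.1 hle)))
    rw [hn, hm] at h1
    exact (Nat.pow_lt_pow_iff_right (by norm_num)).1 h1
  obtain ⟨M, hM, hKM⟩ := Sylow.exists_subgroup_card_pow_prime_le (G := (S : Subgroup G)) 2
    (show 2 ^ (n - 1) ∣ Nat.card (S : Subgroup G) by rw [hn]; exact pow_dvd_pow 2 (by omega)) K0 hm
    (by omega)
  have hMi : M.index = 2 := by
    have h1 := M.card_mul_index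
    rw [hM, hn] at h1
    have h2 : 2 ^ n = 2 ^ (n - 1) * 2 := by
      rw [← pow_succ]; congr 1; omega
    rw [h2] at h1
    exact Nat.eq_of_mul_eq_mul_left (pow_pos (by norm_num) (n - 1)) h1
  have inM : ∀ x, ∀ hx : x ∈ S, (∀ z ∈ Z, x * z = z * x) → (⟨x, hx⟩ : (S : Subgroup G)) ∈ M := by
    intro x hx hxz
    apply hKM
    show x ∈ centralizer (Z : Set G)
    rw [mem_centralizer_iff]
    exact fun z hz => (hxz z hz).symm
  have hUM : ∀ u, ∀ hu : u ∈ U, (⟨u, h.U_le hu⟩ : (S : Subgroup G)) ∈ M :=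
    fun u hu => inM u _ (fun z hz => (C.zc hz hu).symm)
  have htM : (⟨t, h.tS⟩ : (S : Subgroup G)) ∈ M :=
    inM t _ (fun z hz => h.tP z (h.hP.Z_le hz))
  have hW : U ⊔ closure {y | ∃ g ∈ S, y = g * g} ≤ M.map (S : Subgroup G).subtype := by
    apply sup_le
    · intro u hu
      exact ⟨⟨u, h.U_le hu⟩, hUM u hu, rfl⟩
    · rw [closure_le]
      rintro _ ⟨g, hg, rfl⟩
      exact ⟨⟨g, hg⟩ * ⟨g, hg⟩, sq_mem_of_index_two hMi _, rfl⟩
  have hcM : ∀ c, ∀ hc : c ∈ S, c * t = t * c → c ∈ E → (⟨c, hc⟩ : (S : Subgroup G)) ∈ M := by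
    intro c hc hct hcE
    obtain ⟨⟨w, hw⟩, hw2, h3⟩ := hW (h.sq c hc hcE hct)
    have h3 : w = c := h3
    subst h3
    exact hw2
  have hcM' : ∀ c, ∀ hc : c ∈ S, c * t = t * c → (⟨c, hc⟩ : (S : Subgroup G)) ∈ M := by
    intro c hc hct
    rcases h.E_gen c with h2 | h2
    · exact hcM c hc hct h2
    · have h3 := hcM (t * c) (mul_mem h.tS hc) (by
        calc t * c * t = t * (c * t) := by group
          _ = _ := by rw [hct]) h2
      have h4 : (⟨c, hc⟩ : (S : Subgroup G)) = (⟨t, h.tS⟩ : (S : Subgroup G))⁻¹ *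
          ⟨t * c, mul_mem h.tS hc⟩ := Subtype.ext (by
            show c = t⁻¹ * (t * c)
            group)
      rw [h4]
      exact mul_mem (inv_mem htM) h3
  -- `X ≤ M`
  obtain ⟨X, memX, hSX, -⟩ := card_S h
  have hXS : X ≤ (S : Subgroup G) := fun x hx => ((memX x).1 hx).1
  have hXM : X ≤ M.map (S : Subgroup G).subtype := by
    intro x hx
    obtain ⟨hxS, hv⟩ := (memX x).1 hx
    obtain ⟨u, hu, c, hc, hct, h1⟩ := decomp h hxS hv
    refine ⟨⟨u, h.U_le hu⟩ * ⟨c, hc⟩, mul_mem (hUM u hu) (hcM' c hc hct), ?_⟩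
    exact h1.symm
  have hcard : Nat.card (M.map (S : Subgroup G).subtype) = Nat.card M :=
    (Nat.card_congr (M.equivMapOfInjective _ (S : Subgroup G).subtype_injective).toEquiv).symm
  have hXeq : X = M.map (S : Subgroup G).subtype := by
    apply Subgroup.eq_of_le_of_card_ge hXM
    rw [hcard]
    have h1 := M.card_mul_index
    rw [hMi] at h1
    omega
  have hyM : y ∈ X := by
    rw [hXeq]
    exact ⟨⟨y, hy⟩, inM y hy hyZ, rfl⟩
  obtain ⟨-, w, hw, h5⟩ := (memX y).1 hyM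
  -- `t e ∈ U`
  apply te_not_U h
  have h6 : t * w = e * v := h5.symm.trans hyt
  have h7 : t * e = w * v⁻¹ := by
    have h8 : e * t = v * w⁻¹ := by
      have : e * (t * w) = v := by rw [h6, ← mul_assoc, h.ee, one_mul]
      rw [eq_mul_inv_iff_mul_eq, mul_assoc]; exact this
    rw [h.te, h8]
    have h9 : (e * t)⁻¹ = e * t := by
      rw [← h.te]; exact C.te_inv
    rw [h8] at h9
    rw [← h9]; group
  rw [h7]
  exact mul_mem hw (inv_mem hv)

/-- case (i): `y` swaps and centralizes `Z`. -/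
theorem caseZ {y v : G} (hy : y ∈ S) (hyy : y * y = 1) (hyU : y ∉ U) (hv : v ∈ U)
    (hyt : y * t * y⁻¹ = e * v) (hyZ : ∀ z ∈ Z, y * z = z * y)
    (hlt : Nat.card ((S : Subgroup G) ⊓ centralizer ({y} : Set G) : Subgroup G) <
        Nat.card ((S : Subgroup G) ⊓ centralizer ({t * e} : Set G) : Subgroup G)) : False := by
  have C := core_of h
  have hyi : y⁻¹ = y := inv_eq_of_mul_eq_one_left hyy
  have hyP := of_eU h hy hv hyt
  have hyR : ∀ r ∈ R, y * r * y⁻¹ ∈ P := by
    intro r hr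
    have := onto h hyP r hr
    rwa [hyi] at this ⊢
  have h1 := card_swap h hyR hyy
  have h2 : (Z ⊓ centralizer ({y} : Set G) : Subgroup G) = Z :=
    inf_eq_left.2 (fun z hz => mem_centralizer_singleton_iff.2 (hyZ z hz).symm)
  rw [h2, h.cardZ] at h1
  -- `2 q³ ≤ |C_S(y)|`
  have hy1 : y ≠ 1 := fun h0 => hyU (by rw [h0]; exact one_mem _)
  have h3 := card_le_mul (U ⊓ centralizer ({y} : Set G)) (zpowers y) ⊥
    ((S : Subgroup G) ⊓ centralizer ({y} : Set G))
    (by
      rintro a ⟨haU, hac⟩ b ⟨i, rfl⟩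
      have hac := mem_centralizer_singleton_iff.1 hac
      refine ⟨mul_mem (h.U_le haU) (zpow_mem hy i), mem_centralizer_singleton_iff.2 ?_⟩
      show a * y ^ i * y = y * (a * y ^ i)
      rcases zpow_cases hyy i with h5 | h5
      · rw [h5, mul_one]; exact hac
      · rw [h5]
        calc a * y * y = (a * y) * y := rfl
          _ = (y * a) * y := by rw [hac]
          _ = _ := by group)
    (by
      rintro x ⟨hxU, -⟩ ⟨i, rfl⟩
      simp only at hxU ⊢
      rcases zpow_cases hyy i with h5 | h5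
      · rw [h5]; exact one_mem _
      · exfalso; apply hyU
        rw [h5] at hxU
        exact hxU)
  rw [card_zpowers_eq hyy hy1, Subgroup.card_bot, mul_one] at h3
  -- `|C_S(t)| ≤ 4 q³`
  have hZc := Zcent h hy hv hyt hyZ
  have hXt : Nat.card ((S : Subgroup G) ⊓ centralizer ({t} : Set G) : Subgroup G) ≤ 4 * q ^ 3 := by
    let W : Set G := (P : Set G) ∪ (fun x => t⁻¹ * x) '' (P : Set G) ∪ (fun x => e⁻¹ * x) '' (P : Set G) ∪
      (fun x => (t * e)⁻¹ * x) '' (P : Set G)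
    have hP : (P : Set G).ncard = q ^ 3 := by
      rw [← h.hP.card]; exact (Nat.card_coe_set_eq (P : Set G)).symm
    have hW : W.ncard ≤ 4 * q ^ 3 := by
      have e1 : W.ncard ≤ _ := Set.ncard_union_le ((P : Set G) ∪ (fun x => t⁻¹ * x) '' (P : Set G) ∪
        (fun x => e⁻¹ * x) '' (P : Set G)) ((fun x => (t * e)⁻¹ * x) '' (P : Set G))
      have e2 := Set.ncard_union_le ((P : Set G) ∪ (fun x => t⁻¹ * x) '' (P : Set G))
        ((fun x => e⁻¹ * x) '' (P : Set G))
      have e3 := Set.ncard_union_le (P : Set G) ((fun x => t⁻¹ * x) '' (P : Set G))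
      have f1 : ((fun x => t⁻¹ * x) '' (P : Set G)).ncard = q ^ 3 := by
        rw [Set.ncard_image_of_injective _ (mul_right_injective t⁻¹), hP]
      have f2 : ((fun x => e⁻¹ * x) '' (P : Set G)).ncard = q ^ 3 := by
        rw [Set.ncard_image_of_injective _ (mul_right_injective e⁻¹), hP]
      have f3 : ((fun x => (t * e)⁻¹ * x) '' (P : Set G)).ncard = q ^ 3 := by
        rw [Set.ncard_image_of_injective _ (mul_right_injective (t * e)⁻¹), hP]
      omega
    refine le_trans ?_ hW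
    rw [← Nat.card_coe_set_eq]
    have : Finite W := W.toFinite
    refine Nat.card_le_card_of_injective
      (fun x : ((S : Subgroup G) ⊓ centralizer ({t} : Set G) : Subgroup G) => (⟨x, by
        rcases h.XZ x x.2.1 (mem_centralizer_singleton_iff.1 x.2.2)
          (fun z hz => hZc x x.2.1 z hz) with h5 | h5 | h5 | h5
        · exact Or.inl (Or.inl (Or.inl h5))
        · exact Or.inl (Or.inl (Or.inr ⟨_, h5, by show t⁻¹ * (t * (x : G)) = x; group⟩))
        · exact Or.inl (Or.inr ⟨_, h5, by show e⁻¹ * (e * (x : G)) = x; group⟩)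
        · exact Or.inr ⟨_, h5, by show (t * e)⁻¹ * (t * e * (x : G)) = x; group⟩⟩ : W))
      (fun x y hxy => Subtype.ext (Subtype.mk.inj hxy))
  have h4 := card_s_le h (card_S_le h hXt)
  have h5 : q ^ 2 * q * 2 < 2 * 4 * q ^ 2 := by
    calc q ^ 2 * q * 2 ≤ Nat.card (U ⊓ centralizer ({y} : Set G) : Subgroup G) * 2 :=
          Nat.mul_le_mul_right _ h1
      _ ≤ _ := h3
      _ < _ := hlt
      _ ≤ _ := h4
  have h6 : (2 * q) * q ^ 2 < (2 * 4) * q ^ 2 := by
    calc (2 * q) * q ^ 2 = q ^ 2 * q * 2 := by ring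
      _ < _ := h5
  have h7 := Nat.lt_of_mul_lt_mul_right h6
  have := h.q4
  omega

/-- case (ii): `y` swaps and does not centralize `Z` -/
theorem caseN {y v : G} (hy : y ∈ S) (hyE : y ∈ E) (hyy : y * y = 1) (hv : v ∈ U)
    (hyt : y * t * y⁻¹ = e * v) (hyZ : ¬ ∀ z ∈ Z, y * z = z * y)
    (hlt : Nat.card ((S : Subgroup G) ⊓ centralizer ({y} : Set G) : Subgroup G) <
        Nat.card ((S : Subgroup G) ⊓ centralizer ({t * e} : Set G) : Subgroup G)) : False := by
  have C := core_of h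
  have hyi : y⁻¹ = y := inv_eq_of_mul_eq_one_left hyy
  have hyP := of_eU h hy hv hyt
  have hyR : ∀ r ∈ R, y * r * y⁻¹ ∈ P := by
    intro r hr
    have := onto h hyP r hr
    rwa [hyi] at this ⊢
  have hZinv : ∀ z ∈ Z, z⁻¹ = z := fun z hz => inv_eq_of_mul_eq_one_left (h.hP.Zsq z hz)
  have hZZ : ∀ a ∈ Z, ∀ b ∈ Z, a * b = b * a := fun a ha b hb => C.zc ha (C.Z_le hb)
  -- the subgroup `N₁`
  let N1 : Subgroup G :=
    { carrier := {x | x ∈ S ∧ x ∈ E ∧ ∃ c ∈ Z, c * y = y * c ∧ x * y * x⁻¹ = c * y}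
      one_mem' := ⟨one_mem _, one_mem _, 1, one_mem _, by rw [one_mul, mul_one], by simp⟩
      mul_mem' := by
        rintro a b ⟨ha, haE, c, hc, hcy, h1⟩ ⟨hb, hbE, d, hd, hdy, h2⟩
        refine ⟨mul_mem ha hb, mul_mem haE hbE, (a * d * a⁻¹) * c,
          mul_mem (h.Z_norm a ha d hd) hc, ?_, ?_⟩
        · -- `a d a⁻¹` commutes with `y`
          have h3 : a⁻¹ * y * a = (a⁻¹ * c * a)⁻¹ * y := by
            rw [eq_inv_mul_iff_mul_eq]
            calc a⁻¹ * c * a * (a⁻¹ * y * a) = a⁻¹ * (c * y) * a := by group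
              _ = a⁻¹ * (a * y * a⁻¹) * a := by rw [h1]
              _ = y := by group
          have h4 : d * (a⁻¹ * y * a) = (a⁻¹ * y * a) * d := by
            rw [h3]
            have h5 := hZZ d hd _ (inv_mem (Z_norm' h ha hc))
            calc d * ((a⁻¹ * c * a)⁻¹ * y) = (d * (a⁻¹ * c * a)⁻¹) * y := by group
              _ = (a⁻¹ * c * a)⁻¹ * (d * y) := by rw [h5]; group
              _ = _ := by rw [hdy]; group
          calc a * d * a⁻¹ * c * y = a * d * a⁻¹ * (c * y) := by group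
            _ = a * d * a⁻¹ * (y * c) := by rw [hcy]
            _ = a * (d * (a⁻¹ * y * a)) * a⁻¹ * c := by group
            _ = a * ((a⁻¹ * y * a) * d) * a⁻¹ * c := by rw [h4]
            _ = _ := by group
        · calc a * b * y * (a * b)⁻¹ = a * (b * y * b⁻¹) * a⁻¹ := by group
            _ = (a * d * a⁻¹) * (a * y * a⁻¹) := by rw [h2]; group
            _ = _ := by rw [h1]; group
      inv_mem' := by
        rintro a ⟨ha, haE, c, hc, hcy, h1⟩
        have h3 : a⁻¹ * y * a = (a⁻¹ * c * a)⁻¹ * y := by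
          rw [eq_inv_mul_iff_mul_eq]
          calc a⁻¹ * c * a * (a⁻¹ * y * a) = a⁻¹ * (c * y) * a := by group
            _ = a⁻¹ * (a * y * a⁻¹) * a := by rw [h1]
            _ = y := by group
        refine ⟨inv_mem ha, inv_mem haE, (a⁻¹ * c * a)⁻¹, inv_mem (Z_norm' h ha hc), ?_, ?_⟩
        · -- `a⁻¹ c⁻¹ a` commutes with `y`
          have h4 : c⁻¹ * (c * y) = (c * y) * c⁻¹ := by
            rw [hcy]
            calc c⁻¹ * (y * c) = c⁻¹ * (c * y) := by rw [hcy]
              _ = _ := by group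
          calc (a⁻¹ * c * a)⁻¹ * y = a⁻¹ * (c⁻¹ * (a * y * a⁻¹)) * a := by group
            _ = a⁻¹ * ((c * y) * c⁻¹) * a := by rw [h1, h4]
            _ = a⁻¹ * ((a * y * a⁻¹) * c⁻¹) * a := by rw [h1]
            _ = _ := by group
        · rw [inv_inv]; exact h3 }
  -- `Z ≤ N₁`
  have hZN : Z ≤ N1 := by
    intro z hz
    have hyz : y * z * y⁻¹ ∈ Z := h.Z_norm y hy z hz
    refine ⟨h.U_le (C.Z_le hz), h.U_E (C.Z_le hz), z * (y * z * y⁻¹)⁻¹, mul_mem hz (inv_mem hyz),
      ?_, by group⟩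
    rw [hZinv _ hyz]
    have h1 := hZZ z hz _ hyz
    calc z * (y * z * y⁻¹) * y = z * y * z := by group
      _ = (y * y) * z * y * z := by rw [hyy, one_mul]
      _ = y * ((y * z * y⁻¹) * (y * y) * z) := by group
      _ = y * ((y * z * y⁻¹) * z) := by rw [hyy, mul_one]
      _ = _ := by rw [← h1]
  -- `S ∩ E = R N₁`
  have h1 := card_mul_le R N1 Z ((S : Subgroup G) ⊓ E) h.hR.Z_le hZN
    (by
      rintro x ⟨hx, hxE⟩
      obtain ⟨w, hw, h2⟩ := ab h hy hyE hx hxE
      -- `x y x⁻¹ = y u`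
      obtain ⟨u, hu, h3⟩ : ∃ u ∈ U, x * y * x⁻¹ = y * u :=
        ⟨x * w * x⁻¹, h.U_norm x hx w hw, by rw [h2]; group⟩
      have h4 : (y * u) * (y * u) = 1 := by
        rw [← h3]
        calc x * y * x⁻¹ * (x * y * x⁻¹) = x * (y * y) * x⁻¹ := by group
          _ = 1 := by rw [hyy]; group
      obtain ⟨a, ha, b, hb, rfl⟩ := h.PR u hu
      have hya := hyP a ha
      have hyb := hyR b hb
      have h5 : ((y * b * y⁻¹) * a) * ((y * a * y⁻¹) * b) = 1 := by
        have e1 := h.PRc a ha _ hya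
        have e2 := h.PRc _ hyb _ hya
        calc ((y * b * y⁻¹) * a) * ((y * a * y⁻¹) * b) =
              (y * b * y⁻¹) * (a * (y * a * y⁻¹)) * b := by group
          _ = ((y * b * y⁻¹) * (y * a * y⁻¹)) * a * b := by rw [e1]; group
          _ = (y * a * y⁻¹) * (y * b * y⁻¹) * a * b := by rw [e2]
          _ = (y * (a * b)) * (y⁻¹ * (a * b)) := by group
          _ = 1 := by rw [hyi]; exact h4
      have h6 : (y * b * y⁻¹) * a ∈ Z := by
        refine h.inf _ (mul_mem hyb ha) ?_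
        have : (y * b * y⁻¹) * a = ((y * a * y⁻¹) * b)⁻¹ := eq_inv_of_mul_eq_one_left h5
        rw [this]
        exact inv_mem (mul_mem hya hb)
      set z := (y * b * y⁻¹) * a with hz
      -- `y (a b) = b⁻¹ y b (b⁻¹ z b)`
      have hzb : b⁻¹ * z * b = z := by
        have := C.conjZ (inv_mem (h.R_le hb)) h6
        rwa [inv_inv] at this
      have h7 : y * (a * b) = b⁻¹ * y * b * z := by
        have e1 : a = (y * b⁻¹ * y⁻¹) * z := by rw [hz]; group
        calc y * (a * b) = y * ((y * b⁻¹ * y⁻¹) * z * b) := by rw [← e1]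
          _ = (y * y) * b⁻¹ * y⁻¹ * b * (b⁻¹ * z * b) := by group
          _ = b⁻¹ * y * b * z := by rw [hyy, hzb, hyi, one_mul]
      have h8 : (b * x) * y * (b * x)⁻¹ = y * z := by
        have hzb' := C.conjZ (h.R_le hb) h6
        calc (b * x) * y * (b * x)⁻¹ = b * (x * y * x⁻¹) * b⁻¹ := by group
          _ = b * (b⁻¹ * y * b * z) * b⁻¹ := by rw [h3, h7]
          _ = y * (b * z * b⁻¹) := by group
          _ = y * z := by rw [hzb']
      have h9 : z * y = y * z := by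
        have e1 : (y * z) * (y * z) = 1 := by
          rw [← h8]
          calc b * x * y * (b * x)⁻¹ * (b * x * y * (b * x)⁻¹) = b * x * (y * y) * (b * x)⁻¹ := by
                group
            _ = 1 := by rw [hyy]; group
        have e2 : (y * z)⁻¹ = y * z := inv_eq_of_mul_eq_one_left e1
        rw [mul_inv_rev, hZinv z h6, hyi] at e2
        exact e2
      refine ⟨b⁻¹, inv_mem hb, b * x, ⟨mul_mem (h.U_le (h.R_le hb)) hx,
        mul_mem (h.U_E (h.R_le hb)) hxE, z, h6, h9, by rw [h8, h9]⟩, by group⟩)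
  -- the orbit of `y` under `N₁`
  let V : Set G := (fun c => c * y) '' ((Z ⊓ centralizer ({y} : Set G) : Subgroup G) : Set G)
  have hV : V.ncard = Nat.card (Z ⊓ centralizer ({y} : Set G) : Subgroup G) := by
    rw [Set.ncard_image_of_injective _ (mul_left_injective y)]
    exact (Nat.card_coe_set_eq ((Z ⊓ centralizer ({y} : Set G) : Subgroup G) : Set G)).symm
  have h2 := card_le_of N1 ((S : Subgroup G) ⊓ centralizer ({y} : Set G)) y V
    (by
      rintro x ⟨hx, hxE, c, hc, hcy, h3⟩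
      exact ⟨c, ⟨hc, mem_centralizer_singleton_iff.2 hcy⟩, h3.symm⟩)
    (fun x hx hxy => ⟨hx.1, mem_centralizer_singleton_iff.2 hxy⟩)
  rw [hV] at h2
  -- `2 |C_Z(y)| ≤ q`
  have h3 : 2 * Nat.card (Z ⊓ centralizer ({y} : Set G) : Subgroup G) ≤ q := by
    push Not at hyZ
    obtain ⟨z, hz, hzy⟩ := hyZ
    have hz1 : z ≠ 1 := by rintro rfl; simp at hzy
    have h4 := card_le_mul (zpowers z) (Z ⊓ centralizer ({y} : Set G)) ⊥ Z
      (by
        rintro _ ⟨i, rfl⟩ b ⟨hb, -⟩
        exact mul_mem (zpow_mem hz i) hb)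
      (by
        rintro x ⟨i, rfl⟩ ⟨-, hx⟩
        simp only at hx ⊢
        rcases zpow_cases (h.hP.Zsq z hz) i with h5 | h5
        · rw [h5]; exact one_mem _
        · exfalso; apply hzy
          rw [h5] at hx
          exact (mem_centralizer_singleton_iff.1 hx).symm)
    rw [card_zpowers_eq (h.hP.Zsq z hz) hz1, Subgroup.card_bot, mul_one, h.cardZ] at h4
    exact h4
  rw [h.cardZ, h.hR.card] at h1
  have h4 := card_T h
  have h5 := card_s h
  set c := Nat.card (Z ⊓ centralizer ({y} : Set G) : Subgroup G) with hc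
  set k := Nat.card ((S : Subgroup G) ⊓ centralizer ({y} : Set G) : Subgroup G) with hk
  set T := Nat.card ((S : Subgroup G) ⊓ E : Subgroup G) with hT
  have h6 : (2 * T) * q ≤ (q ^ 3 * k) * q := by
    calc (2 * T) * q = 2 * (T * q) := by ring
      _ ≤ 2 * (q ^ 3 * Nat.card N1) := Nat.mul_le_mul_left _ h1
      _ ≤ 2 * (q ^ 3 * (c * k)) := Nat.mul_le_mul_left _ (Nat.mul_le_mul_left _ h2)
      _ = (q ^ 3 * k) * (2 * c) := by ring
      _ ≤ (q ^ 3 * k) * q := Nat.mul_le_mul_left _ h3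
  have h7 := Nat.le_of_mul_le_mul_right h6 C.q_pos
  have h8 : Nat.card ((S : Subgroup G) ⊓ centralizer ({t * e} : Set G) : Subgroup G) * q ^ 3 ≤
      k * q ^ 3 := by
    calc _ ≤ Nat.card (S : Subgroup G) := h5
      _ ≤ 2 * T := h4
      _ ≤ q ^ 3 * k := h7
      _ = k * q ^ 3 := by ring
  have h9 := Nat.le_of_mul_le_mul_right h8 (pow_pos C.q_pos 3)
  omega

/-- **(F1)** the conjugates of `t e` in `S ∩ E` lie in `t e U`. -/
theorem F1 {y g : G} (hg : g * (t * e) * g⁻¹ = y) (hy : y ∈ S) (hyE : y ∈ E) :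
    ∃ v ∈ U, y = t * e * v := by
  have C := core_of h
  have hyy : y * y = 1 := by
    rw [← hg]
    calc g * (t * e) * g⁻¹ * (g * (t * e) * g⁻¹) = g * ((t * e) * (t * e)) * g⁻¹ := by group
      _ = 1 := by rw [C.te_te]; group
  rcases key h hg hy with h1 | hlt
  · exact h1
  rcases dich_S h hy with h1 | ⟨v, hv, h1⟩
  · rcases of_inv h hy hyE hyy h1 with h2 | h2
    · exact (caseU h h2 hlt).elim
    · exact h2
  · exfalso
    by_cases hyZ : ∀ z ∈ Z, y * z = z * y
    · refine caseZ h hy hyy ?_ hv h1 hyZ hlt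
      intro hyU
      exact caseU h hyU hlt
    · exact caseN h hy hyE hyy hv h1 hyZ hlt

/-- the number `|E : S ∩ E|` is odd -/
theorem odd_rel : ¬ 2 ∣ ((S : Subgroup G) ⊓ E).relIndex E := by
  have := h.E_normal
  have : Fact (Nat.Prime 2) := ⟨Nat.prime_two⟩
  have h1 := relIndex_mul_index (inf_le_right : (S : Subgroup G) ⊓ E ≤ E)
  have h2 := relIndex_mul_index (inf_le_left : (S : Subgroup G) ⊓ E ≤ (S : Subgroup G))
  rw [inf_relIndex_left] at h2
  obtain ⟨k, hk⟩ := relIndex_dvd_index_of_normal E (S : Subgroup G)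
  rw [hk] at h1
  have hpos : 0 < E.relIndex (S : Subgroup G) := by
    apply Nat.pos_of_ne_zero
    exact Subgroup.index_ne_zero_of_finite
  intro hdvd
  have h3 : ((S : Subgroup G) ⊓ E).relIndex E * k = (S : Subgroup G).index := by
    apply Nat.eq_of_mul_eq_mul_left hpos
    rw [h2, ← h1]; ring
  exact S.not_dvd_index (h3 ▸ Dvd.dvd.mul_right hdvd k)

/-- **Type `g1` does not occur.** -/
theorem false_of_gone : False := by
  have C := core_of h
  have : Fact (Nat.Prime 2) := ⟨Nat.prime_two⟩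
  obtain ⟨y0, hy0, hye⟩ := exists_y0 h
  have hteE : t * e ∈ E := by
    have e1 : t * e = (t * y0 * t⁻¹) * y0⁻¹ := by
      rw [hye, C.ti]; group
    have e2 : t * e = (t * y0) * (t⁻¹ * (t * y0) * t⁻¹⁻¹)⁻¹ := by
      rw [hye]
      have : t * (y0 * t * y0⁻¹) = t * (y0 * t⁻¹ * y0⁻¹) := by rw [C.ti]
      rw [this]; group
    rcases h.E_gen y0 with h1 | h1
    · rw [e1]
      exact mul_mem (conjE h t h1) (inv_mem h1)
    · rw [e2]
      exact mul_mem h1 (inv_mem (conjE h t⁻¹ h1))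
  have hne : (⟨t * e, hteE⟩ : E) ≠ 1 := by
    intro h0
    apply te_not_U h
    have : t * e = 1 := congrArg Subtype.val h0
    rw [this]; exact one_mem _
  have hsq : (⟨t * e, hteE⟩ : E) * ⟨t * e, hteE⟩ = 1 := Subtype.ext C.te_te
  refine Cfsg.Agent.S1241.result (G := E) (p := 2) ((S : Subgroup G).subgroupOf E) (U.subgroupOf E)
    (fun x hx => h.U_le hx) ?_ ?_ ?_ ⟨t * e, hteE⟩ (s_mem h) (te_not_U h) ⟨1, ?_⟩ ?_ ?_
  · constructor
    intro u hu x
    exact h.U_norm (x : E) x.2 (u : E) hu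
  · intro x hx y hy
    obtain ⟨v, hv, h1⟩ := ab h (a := (y : G)) hy y.2 (b := (x : G)) hx x.2
    show (x : G) * y * (x : G)⁻¹ * (y : G)⁻¹ ∈ U
    have h2 : (x : G) * y * (x : G)⁻¹ * (y : G)⁻¹ = (y * x : G) * v * (y * x : G)⁻¹ := by
      rw [h1]; group
    rw [h2]
    exact h.U_norm _ (mul_mem hy hx) v hv
  · rw [Nat.Prime.coprime_iff_not_dvd Nat.prime_two]
    have h1 := odd_rel h
    rwa [inf_relIndex_right] at h1
  · rw [pow_one]
    exact orderOf_eq_prime (by rw [pow_two]; exact hsq) hne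
  · intro m a ha
    rcases zpow_cases hsq m with h1 | h1
    · rw [h1]; simp only [mul_one, mul_inv_cancel, inv_one]; exact one_mem _
    · rw [h1] at ha ⊢
      have ha' : (a : G) * (t * e) * (a : G)⁻¹ ∈ S := ha
      obtain ⟨v, hv, h2⟩ := F1 h (g := (a : G)) rfl ha' (conjE h (a : G) hteE)
      show (a : G) * (t * e) * (a : G)⁻¹ * (t * e)⁻¹ ∈ U
      rw [h2]
      exact h.U_norm _ (s_mem h) v hv
  · rw [h.E_perf]; trivial

end Cfsg.Agent.StdU3.GOneEnd
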