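import Cfsg.Agent.StdU3.Card

/-!
# A semilinearity lemma

The functions `k`, `θ` with `θ (k b * Tr (a ā₀)) = k a * Tr (σ b ā₀)` are semilinear.
-/

set_option autoImplicit false
set_option linter.unusedSectionVars false

namespace Cfsg.Agent.StdU3.GOneFieldA

open Cfsg.Agent.StdU3.Field Cfsg.Agent.StdU3.Card

variable {K : Type*} [Field K] [Fintype K] [CharP K 2] {n : ℕ}

/-- elements of given `Tr (b ā₀)` -/
theorem exists_tr (hq : Qd K n) {a0 : K} (ha0 : a0 ≠ 0) {β : K} (hβ : bar n β = β) :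
    ∃ b, Tr n (b * bar n a0) = β := by
  obtain ⟨b, hb⟩ := exists_Tr_eq hq ha0 hβ
  exact ⟨b, by rw [Tr_comm hq]; exact hb⟩

theorem surj_of_inj {f : K → K} (hf : ∀ x, bar n x = x → bar n (f x) = f x)
    (hi : ∀ x y, bar n x = x → bar n y = y → f x = f y → x = y) {y : K} (hy : bar n y = y) :
    ∃ x, bar n x = x ∧ f x = y := by
  have h1 : Function.Injective (fun x : Fq K n => (⟨f x.1, hf x.1 x.2⟩ : Fq K n)) := by
    intro x x' h
    exact Subtype.ext (hi x.1 x'.1 x.2 x'.2 (congrArg Subtype.val h))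
  obtain ⟨x, hx⟩ := Finite.surjective_of_injective h1 ⟨y, hy⟩
  exact ⟨x.1, x.2, congrArg Subtype.val hx⟩

theorem semilin (hq : Qd K n) {a0 : K} (ha0 : a0 ≠ 0) {k θ σ : K → K} {τ : K ≃+* K} {c2 : K}
    (hσ : ∀ b, σ b = c2 * τ b) (hσs : Function.Surjective σ)
    (kadd : ∀ a b, k (a + b) = k a + k b) (kfix : ∀ b, bar n (k b) = k b)
    (θadd : ∀ a b, bar n a = a → bar n b = b → θ (a + b) = θ a + θ b)
    (θfix : ∀ b, bar n b = b → bar n (θ b) = θ b)
    (θinj : ∀ b, bar n b = b → θ b = 0 → b = 0)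
    (hS : ∀ a b, θ (k b * Tr n (a * bar n a0)) = k a * Tr n (σ b * bar n a0))
    (hne : ∃ b, k b ≠ 0) :
    ∃ (ψ : K → K) (g1 θ1 : K), g1 ≠ 0 ∧ θ1 ≠ 0 ∧ bar n g1 = g1 ∧ bar n θ1 = θ1 ∧
      (∀ x, bar n x = x → bar n (ψ x) = ψ x) ∧
      (∀ x y, bar n x = x → bar n y = y → ψ x = ψ y → x = y) ∧
      (∀ x y, bar n x = x → bar n y = y → ψ (x * y) = ψ x * ψ y) ∧
      (∀ x, bar n x = x → θ x = θ1 * ψ x) ∧
      (∀ b, k b = g1 * ψ (Tr n (b * bar n a0))) := by
  have fT : ∀ b, bar n (Tr n (b * bar n a0)) = Tr n (b * bar n a0) := fun b => fixed_Tr hq _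
  have Tadd : ∀ a b, Tr n ((a + b) * bar n a0) = Tr n (a * bar n a0) + Tr n (b * bar n a0) := by
    intro a b; rw [add_mul, Tr_add]
  have θ0 : θ 0 = 0 := by
    have h := θadd 0 0 (bar_zero n) (bar_zero n)
    rw [add_zero] at h
    exact left_eq_add.mp h
  have k0 : k 0 = 0 := by
    have h := kadd 0 0
    rw [add_zero] at h
    exact left_eq_add.mp h
  -- `k a = 0` if `Tr (a ā₀) = 0`
  have h1 : ∀ a, Tr n (a * bar n a0) = 0 → k a = 0 := by
    intro a ha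
    obtain ⟨b', hb'⟩ := exists_tr hq ha0 (bar_one n)
    obtain ⟨b, hb⟩ := hσs b'
    have h2 := hS a b
    rw [ha, mul_zero, θ0, hb, hb', mul_one] at h2
    exact h2.symm
  have h2 : ∀ a b, Tr n (a * bar n a0) = Tr n (b * bar n a0) → k a = k b := by
    intro a b hab
    have h3 : k (a + b) = 0 := h1 _ (by rw [Tadd, hab, Field.add_self])
    rw [kadd] at h3
    exact Field.add_eq_zero.mp h3
  obtain ⟨b1, hb1⟩ := exists_tr hq ha0 (bar_one n)
  -- `g`
  have hex : ∀ β : K, ∃ b, bar n β = β → Tr n (b * bar n a0) = β := by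
    intro β
    by_cases hβ : bar n β = β
    · obtain ⟨b, hb⟩ := exists_tr hq ha0 hβ
      exact ⟨b, fun _ => hb⟩
    · exact ⟨0, fun h => absurd h hβ⟩
  choose s hs using hex
  let g : K → K := fun β => k (s β)
  have hg : ∀ b, k b = g (Tr n (b * bar n a0)) := by
    intro b
    exact h2 _ _ (hs _ (fT b)).symm
  have gfix : ∀ β, bar n (g β) = g β := fun β => kfix _
  -- `s(b) := Tr (σ b ā₀)`
  have h3 : ∀ b, Tr n (b * bar n a0) = 0 → Tr n (σ b * bar n a0) = 0 := by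
    intro b hb
    obtain ⟨b0, hb0⟩ := hne
    have h4 := hS b0 b
    rw [h1 b hb, zero_mul, θ0] at h4
    exact (mul_eq_zero.mp h4.symm).resolve_left hb0
  have σadd : ∀ a b, σ (a + b) = σ a + σ b := by
    intro a b; rw [hσ, hσ, hσ, map_add, mul_add]
  -- `τ` preserves `F_q`
  have τfix : ∀ x, bar n x = x → bar n (τ x) = τ x := by
    intro x hx
    have : bar n (τ x) = τ (bar n x) := by rw [bar_def, bar_def, map_pow]
    rw [this, hx]
  set lam := Tr n (σ b1 * bar n a0) with hlam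
  have h4 : ∀ b, Tr n (σ b * bar n a0) = τ (Tr n (b * bar n a0)) * lam := by
    intro b
    set β := Tr n (b * bar n a0) with hβ
    have h5 : Tr n ((b + β * b1) * bar n a0) = 0 := by
      rw [Tadd, mul_assoc, Tr_mul_fixed (fT b), hb1, mul_one, ← hβ, Field.add_self]
    have h6 := h3 _ h5
    rw [σadd, add_mul, Tr_add] at h6
    have h7 := Field.add_eq_zero.mp h6
    rw [h7, hσ, map_mul]
    have h8 : c2 * (τ β * τ b1) * bar n a0 = τ β * (σ b1 * bar n a0) := by rw [hσ]; ring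
    rw [h8, Tr_mul_fixed (τfix _ (fT b))]
  -- (S)
  have S' : ∀ α β, bar n α = α → bar n β = β → θ (g β * α) = g α * (lam * τ β) := by
    intro α β hα hβ
    have h5 := hS (s α) (s β)
    rw [hs α hα, h4, hs β hβ] at h5
    show θ (k (s β) * α) = k (s α) * (lam * τ β)
    rw [h5]; ring
  have gadd : ∀ α β, bar n α = α → bar n β = β → g (α + β) = g α + g β := by
    intro α β hα hβ
    show k (s (α + β)) = k (s α) + k (s β)
    rw [← kadd]
    apply h2
    rw [Tadd, hs α hα, hs β hβ, hs _ (fixed_add hα hβ)]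
  have g0 : g 0 = 0 := by
    have h := gadd 0 0 (bar_zero n) (bar_zero n)
    rw [add_zero] at h
    exact left_eq_add.mp h
  obtain ⟨b0, hb0⟩ := hne
  rw [hg] at hb0
  set β0 := Tr n (b0 * bar n a0) with hβ0
  have fβ0 : bar n β0 = β0 := fT b0
  have hlam0 : lam ≠ 0 := by
    intro h0
    have h5 := S' 1 β0 (bar_one n) fβ0
    rw [h0, zero_mul, mul_zero, mul_one] at h5
    exact hb0 (θinj _ (gfix _) h5)
  have ginj0 : ∀ β, bar n β = β → g β = 0 → β = 0 := by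
    intro β hβ h5
    have h6 := S' β0 β fβ0 hβ
    rw [h5, zero_mul, θ0] at h6
    have h7 := (mul_eq_zero.mp h6.symm).resolve_left hb0
    have h8 := (mul_eq_zero.mp h7).resolve_left hlam0
    exact (map_eq_zero τ).mp h8
  set g1 := g 1 with hg1
  have hg10 : g1 ≠ 0 := fun h => one_ne_zero (ginj0 1 (bar_one n) h)
  have fg1 : bar n g1 = g1 := gfix 1
  have hθg1 : θ g1 ≠ 0 := fun h => hg10 (θinj _ fg1 h)
  have fθg1 : bar n (θ g1) = θ g1 := θfix _ fg1
  let ψ : K → K := fun x => θ (g1 * x) * (θ g1)⁻¹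
  have hψ : ∀ x, θ (g1 * x) = θ g1 * ψ x := by
    intro x
    show θ (g1 * x) = θ g1 * (θ (g1 * x) * (θ g1)⁻¹)
    rw [mul_comm (θ g1), mul_assoc, inv_mul_cancel₀ hθg1, mul_one]
  have ψfix : ∀ x, bar n x = x → bar n (ψ x) = ψ x := by
    intro x hx
    exact fixed_mul (θfix _ (fixed_mul fg1 hx)) (fixed_inv fθg1)
  have ψadd : ∀ x y, bar n x = x → bar n y = y → ψ (x + y) = ψ x + ψ y := by
    intro x y hx hy
    show θ (g1 * (x + y)) * (θ g1)⁻¹ = θ (g1 * x) * (θ g1)⁻¹ + θ (g1 * y) * (θ g1)⁻¹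
    rw [mul_add, θadd _ _ (fixed_mul fg1 hx) (fixed_mul fg1 hy), add_mul]
  have ψ0 : ∀ x, bar n x = x → ψ x = 0 → x = 0 := by
    intro x hx h5
    have h6 := hψ x
    rw [h5, mul_zero] at h6
    exact (mul_eq_zero.mp (θinj _ (fixed_mul fg1 hx) h6)).resolve_left hg10
  have ψinj : ∀ x y, bar n x = x → bar n y = y → ψ x = ψ y → x = y := by
    intro x y hx hy hxy
    have h5 := ψadd x y hx hy
    rw [hxy, Field.add_self] at h5
    exact Field.add_eq_zero.mp (ψ0 _ (fixed_add hx hy) h5)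
  have ψ1 : ψ 1 = 1 := by
    show θ (g1 * 1) * (θ g1)⁻¹ = 1
    rw [mul_one, mul_inv_cancel₀ hθg1]
  -- `g α = g1 ψ α`
  have h5 : ∀ α, bar n α = α → g α * lam = θ g1 * ψ α := by
    intro α hα
    have h6 := S' α 1 hα (bar_one n)
    rw [map_one, mul_one] at h6
    rw [← hψ, ← h6]
  have h6 : g1 * lam = θ g1 := by rw [h5 1 (bar_one n), ψ1, mul_one]
  have gψ : ∀ α, bar n α = α → g α = g1 * ψ α := by
    intro α hα
    have h7 := h5 α hα
    rw [← h6] at h7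
    have h8 : g α * lam = (g1 * ψ α) * lam := by rw [h7]; ring
    exact mul_right_cancel₀ hlam0 h8
  -- multiplicativity
  have h7 : ∀ α β, bar n α = α → bar n β = β → ψ (ψ β * α) = ψ α * τ β := by
    intro α β hα hβ
    have h8 := S' α β hα hβ
    rw [gψ β hβ, gψ α hα, mul_assoc, hψ] at h8
    have h9 : θ g1 * ψ (ψ β * α) = θ g1 * (ψ α * τ β) := by
      rw [h8, ← h6]; ring
    exact mul_left_cancel₀ hθg1 h9
  have h8 : ∀ β, bar n β = β → ψ (ψ β) = τ β := by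
    intro β hβ
    have := h7 1 β (bar_one n) hβ
    rwa [mul_one, ψ1, one_mul] at this
  have ψmul : ∀ x y, bar n x = x → bar n y = y → ψ (x * y) = ψ x * ψ y := by
    intro x y hx hy
    obtain ⟨β, hβ, hβx⟩ := surj_of_inj ψfix ψinj hx
    rw [← hβx, h7 y β hy hβ, h8 β hβ, mul_comm]
  have hψg1 : ψ g1 ≠ 0 := fun h => hg10 (ψ0 _ fg1 h)
  refine ⟨ψ, g1, θ g1 * (ψ g1)⁻¹, hg10, mul_ne_zero hθg1 (inv_ne_zero hψg1), fg1,
    fixed_mul fθg1 (fixed_inv (ψfix _ fg1)), ψfix, ψinj, ψmul, ?_, ?_⟩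
  · intro x hx
    have h9 : θ (g1 * (g1⁻¹ * x)) = θ g1 * ψ (g1⁻¹ * x) := hψ _
    rw [← mul_assoc, mul_inv_cancel₀ hg10, one_mul] at h9
    have h10 := ψmul g1 (g1⁻¹ * x) fg1 (fixed_mul (fixed_inv fg1) hx)
    rw [← mul_assoc, mul_inv_cancel₀ hg10, one_mul] at h10
    rw [h9, h10, mul_assoc, inv_mul_cancel_left₀ hψg1]
  · intro b
    rw [hg b, gψ _ (fT b)]

end Cfsg.Agent.StdU3.GOneFieldA
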