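import Cfsg.Agent.StdU3.Card

/-!
# A counting lemma in `F_{q²}`

An additive subgroup `A` of `F_{q²}` whose norms lie in a small additive subgroup of `F_q` is small.
-/

set_option autoImplicit false
set_option linter.unusedSectionVars false

namespace Cfsg.Agent.StdU3.GOneFieldD

open Cfsg.Agent.StdU3.Field Cfsg.Agent.StdU3.Card

variable {K : Type*} [Field K] [Fintype K] [CharP K 2] {n : ℕ}

/-- `N` determines the elements of a line. -/
theorem line_inj (hq : Qd K n) {a b c : K} (ha : a ≠ 0) (hb : Tr n (a * bar n b) = 0)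
    (hc : Tr n (a * bar n c) = 0) (h : N n b = N n c) : b = c := by
  have key : ∀ b, Tr n (a * bar n b) = 0 → bar n (b * a⁻¹) = b * a⁻¹ := by
    intro b hb
    have h1 : a * bar n b = bar n a * b := by
      have := Field.add_eq_zero.mp hb
      rw [this, bar_mul, bar_bar hq]
    rw [bar_mul, bar_inv]
    have hba : bar n a ≠ 0 := fun h => ha (bar_eq_zero h)
    field_simp
    rw [mul_comm, h1]
  have h1 := key b hb
  have h2 := key c hc
  have h3 : N n (b * a⁻¹) = N n (c * a⁻¹) := by rw [N_mul, N_mul, h]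
  rw [N_of_fixed h1, N_of_fixed h2] at h3
  have h4 : (b * a⁻¹ + c * a⁻¹) ^ 2 = 0 := by
    rw [CharTwo.add_sq, h3, add_self]
  have h5 := Field.add_eq_zero.mp (pow_eq_zero_iff (two_ne_zero) |>.mp h4)
  exact mul_right_cancel₀ (inv_ne_zero ha) h5

theorem field_lem (hq : Qd K n) (A M : AddSubgroup K) (hM : ∀ b ∈ M, bar n b = b)
    (hN : ∀ a ∈ A, N n a ∈ M) (hA : 2 ^ n * Nat.card M ≤ 2 * Nat.card A)
    (hMc : Nat.card M * Nat.card M ≤ 2 ^ n) : False := by
  classical
  have hq4 := four_le hq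
  have hM0 : 0 < Nat.card M := Nat.card_pos
  have hT : ∀ a ∈ A, ∀ b ∈ A, Tr n (a * bar n b) ∈ M := by
    intro a ha b hb
    have h1 := N_add' hq a b
    have h2 := hN _ (A.add_mem ha hb)
    have h3 : Tr n (a * bar n b) = N n (a + b) - (N n a + N n b) := by rw [h1]; ring
    rw [h3]
    exact M.sub_mem h2 (M.add_mem (hN a ha) (hN b hb))
  -- a non-zero element
  have hA2 : 2 ≤ Nat.card A := by
    have : 4 * 1 ≤ 2 ^ n * Nat.card M := Nat.mul_le_mul hq4 hM0
    omega
  obtain ⟨a, ha, ha0⟩ : ∃ a ∈ A, a ≠ 0 := by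
    by_contra hcon
    push Not at hcon
    have h1 : Nat.card A ≤ 1 := by
      rw [Finite.card_le_one_iff_subsingleton]
      exact ⟨fun x y => Subtype.ext (by rw [hcon x x.2, hcon y y.2])⟩
    omega
  -- the line
  let L : AddSubgroup K :=
    { carrier := {b | b ∈ A ∧ Tr n (a * bar n b) = 0}
      zero_mem' := ⟨A.zero_mem, by rw [bar_zero, mul_zero, Tr_zero]⟩
      add_mem' := by
        rintro x y ⟨hx, hx'⟩ ⟨hy, hy'⟩
        exact ⟨A.add_mem hx hy, by rw [bar_add, mul_add, Tr_add, hx', hy', add_zero]⟩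
      neg_mem' := by
        rintro x ⟨hx, hx'⟩
        refine ⟨A.neg_mem hx, ?_⟩
        have : -x = x := by rw [CharTwo.neg_eq]
        rw [this]; exact hx' }
  have hL : ∀ b, b ∈ L ↔ b ∈ A ∧ Tr n (a * bar n b) = 0 := fun _ => Iff.rfl
  have h1 : Nat.card L ≤ Nat.card M := by
    apply Nat.card_le_card_of_injective (fun b : L => (⟨N n b.1, hN _ b.2.1⟩ : M))
    intro b c hbc
    exact Subtype.ext (line_inj hq ha0 b.2.2 c.2.2 (congrArg Subtype.val hbc))
  have h2 : Nat.card A ≤ Nat.card L * Nat.card M := by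
    let f : A →+ M :=
      { toFun := fun b => ⟨Tr n (a * bar n b.1), hT a ha b.1 b.2⟩
        map_zero' := Subtype.ext (by
          show Tr n (a * bar n (0 : K)) = 0
          rw [bar_zero, mul_zero, Tr_zero])
        map_add' := fun x y => Subtype.ext (by
          show Tr n (a * bar n (x.1 + y.1)) = Tr n (a * bar n x.1) + Tr n (a * bar n y.1)
          rw [bar_add, mul_add, Tr_add]) }
    have h3 := AddSubgroup.card_mul_index f.ker
    rw [AddSubgroup.index_ker] at h3
    rw [← h3]
    apply Nat.mul_le_mul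
    · apply Nat.card_le_card_of_injective
        (fun b : f.ker => (⟨b.1.1, b.1.2, congrArg Subtype.val b.2⟩ : L))
      intro b c hbc
      have h4 : (b.1.1 : K) = c.1.1 := congrArg (fun z : L => z.1) hbc
      exact Subtype.ext (Subtype.ext h4)
    · exact Nat.card_le_card_of_injective (fun x : f.range => x.1) Subtype.val_injective
  -- numbers
  set m := Nat.card M with hm
  set α := Nat.card A with hα
  set l := Nat.card L with hl
  have h3 : 2 ^ n * m ≤ 2 * (m * m) := by
    calc 2 ^ n * m ≤ 2 * α := hA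
      _ ≤ 2 * (l * m) := Nat.mul_le_mul_left _ h2
      _ ≤ 2 * (m * m) := Nat.mul_le_mul_left _ (Nat.mul_le_mul_right _ h1)
  have h4 : 2 ^ n ≤ 2 * m := by
    have h5 : m * 2 ^ n ≤ m * (2 * m) := by nlinarith
    exact Nat.le_of_mul_le_mul_left h5 hM0
  have h5 : 2 ^ n = 4 ∧ m = 2 := by
    have h6 : m * m ≤ 2 * m := hMc.trans h4
    have h7 : m ≤ 2 := by
      by_contra h
      push Not at h
      nlinarith
    have h8 : 2 ≤ m := by omega
    have h9 : m = 2 := by omega
    constructor
    · rw [h9] at h4; omega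
    · exact h9
  obtain ⟨hq4', hm2⟩ := h5
  have hα4 : 4 ≤ α := by rw [hq4', hm2] at hA; omega
  -- the non-zero element of `M`
  obtain ⟨ν, hν⟩ : ∃ ν, ∀ x ∈ M, x ≠ 0 → x = ν := by
    obtain ⟨x, y, hxy, huniv⟩ := Nat.card_eq_two_iff.mp hm2
    have h0 : (0 : M) = x ∨ (0 : M) = y := by
      have := huniv ▸ Set.mem_univ (0 : M)
      simpa using this
    rcases h0 with h0 | h0
    · refine ⟨y.1, fun z hz hz0 => ?_⟩
      have : (⟨z, hz⟩ : M) = x ∨ (⟨z, hz⟩ : M) = y := by
        have := huniv ▸ Set.mem_univ (⟨z, hz⟩ : M)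
        simpa using this
      rcases this with h | h
      · rw [← h0] at h
        exact absurd (congrArg Subtype.val h) hz0
      · exact congrArg Subtype.val h
    · refine ⟨x.1, fun z hz hz0 => ?_⟩
      have : (⟨z, hz⟩ : M) = x ∨ (⟨z, hz⟩ : M) = y := by
        have := huniv ▸ Set.mem_univ (⟨z, hz⟩ : M)
        simpa using this
      rcases this with h | h
      · exact congrArg Subtype.val h
      · rw [← h0] at h
        exact absurd (congrArg Subtype.val h) hz0
  obtain ⟨b, hb, hb0, hba⟩ : ∃ b ∈ A, b ≠ 0 ∧ b ≠ a := by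
    by_contra hcon
    push Not at hcon
    have h1 : (A : Set K) ⊆ {0, a} := by
      intro x hx
      by_cases h0 : x = 0
      · left; exact h0
      · right; exact hcon x hx h0
    have h2 := Set.ncard_le_ncard h1 (Set.toFinite _)
    have h3 : ({0, a} : Set K).ncard ≤ 2 := Set.ncard_insert_le _ _ |>.trans (by
      rw [Set.ncard_singleton])
    have h4 : Nat.card A = (A : Set K).ncard := rfl
    omega
  have hNa := hν _ (hN a ha) (N_ne_zero ha0)
  have hNb := hν _ (hN b hb) (N_ne_zero hb0)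
  have hab0 : a + b ≠ 0 := fun h => hba (Field.add_eq_zero.mp h).symm
  have hNab := hν _ (hN _ (A.add_mem ha hb)) (N_ne_zero hab0)
  -- `x = b / a`
  set x := b * a⁻¹ with hx
  have hxN : N n x = 1 := by
    rw [hx, N_mul, N_inv, hNb, hNa]
    exact mul_inv_cancel₀ (by rw [← hNa]; exact N_ne_zero ha0)
  have hx1N : N n (1 + x) = 1 := by
    have : 1 + x = (a + b) * a⁻¹ := by rw [hx, add_mul, mul_inv_cancel₀ ha0]
    rw [this, N_mul, N_inv, hNab, hNa]
    exact mul_inv_cancel₀ (by rw [← hNa]; exact N_ne_zero ha0)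
  have hbar : bar n x = x ^ 4 := by rw [bar_def, hq4']
  rw [N_add, N_one, hxN, bar_one, one_mul, one_mul, hbar, add_self, zero_add] at hx1N
  rw [N_def, hbar] at hxN
  -- `x ^ 5 = 1`, `x + x ^ 4 = 1`
  have h6 : x * x + x + 1 = 0 := by
    have h7 : x * (x ^ 4 + x) = x * 1 := by rw [hx1N]
    have h8 : x * x ^ 4 + x * x = x := by rw [← mul_add, h7, mul_one]
    rw [hxN] at h8
    have : x * x + x + 1 = (1 + x * x) + x := by ring
    rw [this, h8, add_self]
  have h7 : x ^ 3 = 1 := by
    have h8 : (x + 1) * (x * x + x + 1) = 0 := by rw [h6, mul_zero]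
    have h9 : (x + 1) * (x * x + x + 1) = x ^ 3 + 1 + ((x * x + x * x) + (x + x)) := by ring
    rw [h9, add_self, add_self, add_zero, add_zero] at h8
    exact Field.add_eq_zero.mp h8
  have h8 : x * x = 1 := by
    have : x * x ^ 4 = x ^ 3 * (x * x) := by ring
    rw [this, h7, one_mul] at hxN
    exact hxN
  have h9 : x = 1 := by
    have : x ^ 3 = (x * x) * x := by ring
    rw [this, h8, one_mul] at h7
    exact h7
  rw [h9] at h6
  have h10 : (1 : K) * 1 + 1 + 1 = 1 := by rw [mul_one, add_self, zero_add]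
  rw [h10] at h6
  exact one_ne_zero h6

end Cfsg.Agent.StdU3.GOneFieldD
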