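import Cfsg.Agent.StdU3.GOneAb
import Cfsg.Agent.SylowSp4.Extremal

/-!
# Type `g1`: the conjugates of `t e` in `S ∩ E` lie in `t e U`
-/

set_option autoImplicit false

namespace Cfsg.Agent.StdU3.GOneFus

open Subgroup Cfsg.Agent.StdU3.GOneDef Cfsg.Agent.StdU3.GOneLem Cfsg.Agent.StdU3.GOneCore
  Cfsg.Agent.StdU3.GOneQuot Cfsg.Agent.StdU3.GOneAb

variable {G : Type*} [Group G] [Finite G] {E : Subgroup G} {S : Sylow 2 G} {U P R Z : Subgroup G}
  {t e : G} {q : ℕ} (h : GOne E S U P R Z t e q)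

include h

theorem s_mem : t * e ∈ S := mul_mem h.tS h.eS

theorem s_cent {x : G} (hx : x ∈ S) : ∃ v ∈ U, x * (t * e) * x⁻¹ = t * e * v := by
  have hN := N_normal h
  obtain ⟨y0, h0⟩ := exists_y0Y h
  have h1 := conj_pair h0 (ne_te h) (dich_Y h) ((QuotientGroup.mk' (N h)) ⟨x, hx⟩)
  have hcomm : (QuotientGroup.mk' (N h)) ⟨t, h.tS⟩ * (QuotientGroup.mk' (N h)) ⟨e, h.eS⟩ =
      (QuotientGroup.mk' (N h)) ⟨e, h.eS⟩ * (QuotientGroup.mk' (N h)) ⟨t, h.tS⟩ := by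
    rw [← map_mul, ← map_mul]
    congr 1
    exact Subtype.ext h.te
  have h2 : (QuotientGroup.mk' (N h)) (⟨x, hx⟩ * (⟨t, h.tS⟩ * ⟨e, h.eS⟩) * ⟨x, hx⟩⁻¹) =
      (QuotientGroup.mk' (N h)) (⟨t, h.tS⟩ * ⟨e, h.eS⟩) := by
    rw [map_mul, map_mul, map_mul, map_inv]
    rcases h1 with ⟨h3, h4⟩ | ⟨h3, h4⟩
    · calc _ = ((QuotientGroup.mk' (N h)) ⟨x, hx⟩ * (QuotientGroup.mk' (N h)) ⟨t, h.tS⟩ *
            ((QuotientGroup.mk' (N h)) ⟨x, hx⟩)⁻¹) * ((QuotientGroup.mk' (N h)) ⟨x, hx⟩ *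
            (QuotientGroup.mk' (N h)) ⟨e, h.eS⟩ * ((QuotientGroup.mk' (N h)) ⟨x, hx⟩)⁻¹) := by group
        _ = _ := by rw [h3, h4]
    · calc _ = ((QuotientGroup.mk' (N h)) ⟨x, hx⟩ * (QuotientGroup.mk' (N h)) ⟨t, h.tS⟩ *
            ((QuotientGroup.mk' (N h)) ⟨x, hx⟩)⁻¹) * ((QuotientGroup.mk' (N h)) ⟨x, hx⟩ *
            (QuotientGroup.mk' (N h)) ⟨e, h.eS⟩ * ((QuotientGroup.mk' (N h)) ⟨x, hx⟩)⁻¹) := by group
        _ = _ := by rw [h3, h4, ← hcomm]
  exact (mk_eq_iff h _ _).1 h2.symm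

/-- elements of `C_S(t)` lie in `U C_S(t)`: if the involution `y` of `S ∩ E` normalizes `tU` it lies in
`U ∪ t e U`. -/
theorem of_inv {y : G} (hy : y ∈ S) (hyE : y ∈ E) (hyy : y * y = 1)
    (hyt : ∃ v ∈ U, y * t * y⁻¹ = t * v) : y ∈ U ∨ ∃ v ∈ U, y = t * e * v := by
  have C := core_of h
  have htE := t_not_E h
  obtain ⟨u, hu, c, hc, hct, rfl⟩ := decomp h hy hyt
  have hcc : c * c ∈ U := by
    have h1 : c * c = ((u * (c * u * c⁻¹)))⁻¹ := by
      have : u * (c * u * c⁻¹) * (c * c) = 1 := by rw [← hyy]; group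
      exact (inv_eq_of_mul_eq_one_right this).symm
    rw [h1]
    exact inv_mem (mul_mem hu (h.U_norm c hc u hu))
  have hccP : c * c ∈ P := by
    apply C.fixU hcc
    calc t * (c * c) = (t * c) * c := by group
      _ = (c * t) * c := by rw [hct]
      _ = c * (t * c) := by group
      _ = c * (c * t) := by rw [hct]
      _ = c * c * t := by group
  have hcE : c ∈ E := by
    have := mul_mem (inv_mem (h.U_E hu)) hyE
    rwa [inv_mul_cancel_left] at this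
  have hPE : P ≤ E := h.P_le.trans h.U_E
  rcases h.Xi c hc hct hccP with h1 | h1 | h1 | h1
  · left; exact mul_mem hu (h.P_le h1)
  · exfalso
    apply htE
    have := mul_mem (hPE h1) (inv_mem hcE)
    rwa [mul_inv_cancel_right] at this
  · exfalso
    have heE : e ∈ E := by
      have := mul_mem (hPE h1) (inv_mem hcE)
      rwa [mul_inv_cancel_right] at this
    obtain ⟨g, hg⟩ := h.e_conj
    apply htE
    have h2 := h.E_normal.conj_mem _ heE g⁻¹
    rw [← hg] at h2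
    have e1 : g⁻¹ * (g * t * g⁻¹) * g⁻¹⁻¹ = t := by group
    rwa [e1] at h2
  · right
    have h2 : c = (t * e) * (t * e * c) := by rw [← mul_assoc, C.te_te, one_mul]
    refine ⟨((t * e)⁻¹ * u * (t * e)) * (t * e * c),
      mul_mem (U_norm' h (s_mem h) hu) (h.P_le h1), ?_⟩
    calc u * c = u * ((t * e) * (t * e * c)) := by rw [← h2]
      _ = _ := by group

/-- the key step: the centralizer in `S` of a conjugate of `t e` not in `t e U` is small. -/
theorem key {y g : G} (hg : g * (t * e) * g⁻¹ = y) (hy : y ∈ S) :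
    (∃ v ∈ U, y = t * e * v) ∨
      Nat.card ((S : Subgroup G) ⊓ centralizer ({y} : Set G) : Subgroup G) <
        Nat.card ((S : Subgroup G) ⊓ centralizer ({t * e} : Set G) : Subgroup G) := by
  have : Fact (Nat.Prime 2) := ⟨Nat.prime_two⟩
  have C := core_of h
  set s := t * e with hs
  have hst : s * t = t * s := by
    rw [hs]
    calc t * e * t = t * (e * t) := by group
      _ = _ := by rw [← h.te]
  obtain ⟨v, hv, hext⟩ := SylowSp4.Extremal.exists_extremal S (s_mem h)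
  rw [← hs] at hext
  -- `v` is `S`-conjugate to `s`
  obtain ⟨g1, hg1, hC1⟩ := hext s (s_mem h) ⟨1, by group⟩
  obtain ⟨x1, hx1, h1⟩ := h.fus g1 (hC1 t h.tS hst.symm)
  have hm1 : (x1⁻¹ * g1) * t = t * (x1⁻¹ * g1) := by
    calc (x1⁻¹ * g1) * t = x1⁻¹ * (g1 * t * g1⁻¹) * g1 := by group
      _ = _ := by rw [h1]; group
  have hs1 : (x1⁻¹ * g1) * s * (x1⁻¹ * g1)⁻¹ = x1⁻¹ * v * x1 := by rw [← hg1]; group
  have hs1S : (x1⁻¹ * g1) * s * (x1⁻¹ * g1)⁻¹ ∈ S := by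
    rw [hs1]; exact mul_mem (mul_mem (inv_mem hx1) hv) hx1
  have hp := h.fusC s (s_mem h) hst _ hm1 hs1S
  obtain ⟨k, hk, hvk⟩ : ∃ k ∈ S, v = k * s * k⁻¹ := by
    have h2 : s * (s⁻¹ * (x1⁻¹ * v * x1 * s⁻¹) * s) = x1⁻¹ * v * x1 := by group
    have h3 : s⁻¹ * (x1⁻¹ * v * x1 * s⁻¹) * s ∈ U := by
      rw [hs1] at hp
      exact U_norm' h (s_mem h) (h.P_le hp)
    have h4 : (x1⁻¹ * v * x1) * (x1⁻¹ * v * x1) = 1 := by
      rw [← hg1]
      calc x1⁻¹ * (g1 * s * g1⁻¹) * x1 * (x1⁻¹ * (g1 * s * g1⁻¹) * x1) =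
            x1⁻¹ * g1 * (s * s) * g1⁻¹ * x1 := by group
        _ = 1 := by rw [hs, C.te_te]; group
    obtain ⟨w, hw, h5⟩ := C.conj_teU h3 (by rw [← hs, h2]; exact h4)
    rw [← hs, h2] at h5
    refine ⟨x1 * w, mul_mem hx1 (h.U_le hw), ?_⟩
    calc v = x1 * (x1⁻¹ * v * x1) * x1⁻¹ := by group
      _ = _ := by rw [← h5]; group
  -- `y`
  obtain ⟨g2, hg2, hC2⟩ := hext y hy ⟨g, hg⟩
  let g3 := k⁻¹ * g2
  have hg3 : g3 * y * g3⁻¹ = s := by
    show k⁻¹ * g2 * y * (k⁻¹ * g2)⁻¹ = s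
    calc k⁻¹ * g2 * y * (k⁻¹ * g2)⁻¹ = k⁻¹ * (g2 * y * g2⁻¹) * k := by group
      _ = s := by rw [hg2, hvk]; group
  have hC3 : ∀ x ∈ S, x * y = y * x → g3 * x * g3⁻¹ ∈ S := by
    intro x hx hxy
    have h2 := hC2 x hx hxy
    have h3 := mul_mem (mul_mem (inv_mem hk) h2) hk
    have e1 : k⁻¹ * (g2 * x * g2⁻¹) * k = g3 * x * g3⁻¹ := by
      show _ = k⁻¹ * g2 * x * (k⁻¹ * g2)⁻¹
      group
    rwa [e1] at h3
  by_cases hD : ∃ a : G, a * t * a⁻¹ ∈ S ∧ (a * t * a⁻¹) * y = y * (a * t * a⁻¹)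
  · left
    obtain ⟨a, haS, hay⟩ := hD
    obtain ⟨x2, hx2, h2⟩ := h.fus a haS
    rw [h2] at hay haS
    have h3 := hC3 _ haS hay
    have h4 : g3 * (x2 * t * x2⁻¹) * g3⁻¹ = (g3 * x2) * t * (g3 * x2)⁻¹ := by group
    rw [h4] at h3
    obtain ⟨x3, hx3, h5⟩ := h.fus _ h3
    have hc : (x3⁻¹ * g3 * x2) * t = t * (x3⁻¹ * g3 * x2) := by
      calc (x3⁻¹ * g3 * x2) * t = x3⁻¹ * ((g3 * x2) * t * (g3 * x2)⁻¹) * (g3 * x2) := by group
        _ = _ := by rw [h5]; group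
    have hy' : x2⁻¹ * y * x2 ∈ S := mul_mem (mul_mem (inv_mem hx2) hy) hx2
    have hy't : (x2⁻¹ * y * x2) * t = t * (x2⁻¹ * y * x2) := by
      calc (x2⁻¹ * y * x2) * t = x2⁻¹ * (y * (x2 * t * x2⁻¹)) * x2 := by group
        _ = x2⁻¹ * ((x2 * t * x2⁻¹) * y) * x2 := by rw [hay]
        _ = _ := by group
    have h6 : (x3⁻¹ * g3 * x2) * (x2⁻¹ * y * x2) * (x3⁻¹ * g3 * x2)⁻¹ = x3⁻¹ * s * x3 := by
      calc (x3⁻¹ * g3 * x2) * (x2⁻¹ * y * x2) * (x3⁻¹ * g3 * x2)⁻¹ = x3⁻¹ * (g3 * y * g3⁻¹) * x3 := by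
            group
        _ = _ := by rw [hg3]
    have h7 := h.fusC _ hy' hy't _ hc (by
      rw [h6]; exact mul_mem (mul_mem (inv_mem hx3) (s_mem h)) hx3)
    rw [h6] at h7
    obtain ⟨w, hw, h8⟩ := s_cent h (inv_mem hx3)
    rw [inv_inv, ← hs] at h8
    rw [h8] at h7
    -- `x2⁻¹ y x2 ∈ s U`
    obtain ⟨w', hw', h9⟩ : ∃ w' ∈ U, x2⁻¹ * y * x2 = s * w' := by
      refine ⟨s⁻¹ * (s * w * (x2⁻¹ * y * x2)⁻¹)⁻¹ * s * w,
        mul_mem (U_norm' h (s_mem h) (h.P_le (inv_mem h7))) hw, ?_⟩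
      group
    obtain ⟨w'', hw'', h10⟩ := s_cent h hx2
    rw [← hs] at h10
    refine ⟨w'' * (x2 * w' * x2⁻¹), mul_mem hw'' (h.U_norm x2 hx2 w' hw'), ?_⟩
    calc y = x2 * (x2⁻¹ * y * x2) * x2⁻¹ := by group
      _ = (x2 * s * x2⁻¹) * (x2 * w' * x2⁻¹) := by rw [h9]; group
      _ = _ := by rw [h10]; group
  · right
    let A : Subgroup G := (S : Subgroup G) ⊓ centralizer {y}
    let B : Subgroup G := (S : Subgroup G) ⊓ centralizer {s}
    have hle : A.map (MulAut.conj g3).toMonoidHom ≤ B := by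
      rintro _ ⟨x, ⟨hx, hxy⟩, rfl⟩
      have hxy := mem_centralizer_singleton_iff.1 hxy
      refine ⟨hC3 x hx hxy, mem_centralizer_singleton_iff.2 ?_⟩
      show g3 * x * g3⁻¹ * s = s * (g3 * x * g3⁻¹)
      rw [← hg3]
      calc g3 * x * g3⁻¹ * (g3 * y * g3⁻¹) = g3 * (x * y) * g3⁻¹ := by group
        _ = g3 * (y * x) * g3⁻¹ := by rw [hxy]
        _ = _ := by group
    have hcard : Nat.card (A.map (MulAut.conj g3).toMonoidHom) = Nat.card A :=
      (Nat.card_congr (A.equivMapOfInjective _ (MulAut.conj g3).injective).toEquiv).symm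
    have hne : A.map (MulAut.conj g3).toMonoidHom ≠ B := by
      intro heq
      have ht : t ∈ A.map (MulAut.conj g3).toMonoidHom := by
        rw [heq]
        exact ⟨h.tS, mem_centralizer_singleton_iff.2 hst.symm⟩
      obtain ⟨x, ⟨hx, hxy⟩, hxt⟩ := ht
      have hxt : g3 * x * g3⁻¹ = t := hxt
      have hxy := mem_centralizer_singleton_iff.1 hxy
      have e1 : g3⁻¹ * t * g3⁻¹⁻¹ = x := by rw [← hxt]; group
      exact hD ⟨g3⁻¹, by rw [e1]; exact hx, by rw [e1]; exact hxy⟩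
    show Nat.card A < Nat.card B
    rw [← hcard]
    by_contra hlt
    exact hne (Subgroup.eq_of_le_of_card_ge hle (not_lt.1 hlt))

/-- `|C_S(te)| q³ ≤ |S|` -/
theorem card_s : Nat.card ((S : Subgroup G) ⊓ centralizer ({t * e} : Set G) : Subgroup G) * q ^ 3 ≤
    Nat.card (S : Subgroup G) := by
  have C := core_of h
  have h1 := card_le_mul ((S : Subgroup G) ⊓ centralizer ({t * e} : Set G)) U
    (U ⊓ centralizer ({t * e} : Set G)) (S : Subgroup G)
    (fun a ha b hb => mul_mem ha.1 (h.U_le hb)) (fun x hx hx' => ⟨hx', hx.2⟩)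
  rw [h.cardU] at h1
  have h2 := C.card_fix_te
  have h3 : Nat.card ((S : Subgroup G) ⊓ centralizer ({t * e} : Set G) : Subgroup G) * q ^ 5 ≤
      Nat.card (S : Subgroup G) * q ^ 2 := h1.trans (Nat.mul_le_mul_left _ h2)
  have hq : 0 < q ^ 2 := pow_pos C.q_pos 2
  have e1 : Nat.card ((S : Subgroup G) ⊓ centralizer ({t * e} : Set G) : Subgroup G) * q ^ 5 =
      (Nat.card ((S : Subgroup G) ⊓ centralizer ({t * e} : Set G) : Subgroup G) * q ^ 3) * q ^ 2 := by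
    ring
  rw [e1] at h3
  exact Nat.le_of_mul_le_mul_right h3 hq

/-- the subgroup `U C_S(t)` -/
theorem card_S : ∃ X : Subgroup G, (∀ x, x ∈ X ↔ x ∈ S ∧ ∃ v ∈ U, x * t * x⁻¹ = t * v) ∧
    Nat.card (S : Subgroup G) = 2 * Nat.card X ∧
    Nat.card X * q ^ 3 ≤ q ^ 5 * Nat.card ((S : Subgroup G) ⊓ centralizer ({t} : Set G) : Subgroup G) := by
  have hN := N_normal h
  have C := core_of h
  let X0 : Subgroup (S : Subgroup G) :=
    (centralizer ({(QuotientGroup.mk' (N h)) ⟨t, h.tS⟩} : Set ((S : Subgroup G) ⧸ (N h)))).comap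
      (QuotientGroup.mk' (N h))
  have hX0 : X0.index = 2 := by
    show (comap _ _).index = 2
    have h1 : (comap (QuotientGroup.mk' (N h)) (centralizer ({(QuotientGroup.mk' (N h)) ⟨t, h.tS⟩} :
        Set ((S : Subgroup G) ⧸ (N h))))).index = _ :=
      index_comap_of_surjective _ (QuotientGroup.mk'_surjective (N h))
    rw [h1]; exact indexX h
  have mem : ∀ x, x ∈ X0.map (S : Subgroup G).subtype ↔ x ∈ S ∧ ∃ v ∈ U, x * t * x⁻¹ = t * v := by
    intro x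
    constructor
    · rintro ⟨a, ha, rfl⟩
      refine ⟨a.2, ?_⟩
      rw [SetLike.mem_coe, mem_comap, mem_centralizer_singleton_iff, comm_iff] at ha
      exact ha
    · rintro ⟨hx, hv⟩
      refine ⟨⟨x, hx⟩, ?_, rfl⟩
      rw [SetLike.mem_coe, mem_comap, mem_centralizer_singleton_iff, comm_iff]
      exact hv
  have hcard : Nat.card (X0.map (S : Subgroup G).subtype) = Nat.card X0 :=
    (Nat.card_congr (X0.equivMapOfInjective _ (S : Subgroup G).subtype_injective).toEquiv).symm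
  refine ⟨X0.map (S : Subgroup G).subtype, mem, ?_, ?_⟩
  · rw [hcard, ← X0.card_mul_index, hX0, mul_comm]
  · have h1 := card_mul_le U ((S : Subgroup G) ⊓ centralizer ({t} : Set G)) P
      (X0.map (S : Subgroup G).subtype) h.P_le
      (fun x hx => ⟨h.U_le (h.P_le hx), mem_centralizer_singleton_iff.2 (h.tP x hx).symm⟩)
      (by
        intro x hx
        obtain ⟨hxS, hv⟩ := (mem x).1 hx
        obtain ⟨u, hu, c, hc, hct, h1⟩ := decomp h hxS hv
        exact ⟨u, hu, c, ⟨hc, mem_centralizer_singleton_iff.2 hct⟩, h1⟩)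
    rw [h.hP.card, h.cardU] at h1
    exact h1

/-- case `y ∈ U` -/
theorem card_U {y : G} (hy : y ∈ U) :
    q ^ 4 ≤ Nat.card ((S : Subgroup G) ⊓ centralizer ({y} : Set G) : Subgroup G) := by
  have C := core_of h
  let V : Set G := (fun z => z * y) '' (Z : Set G)
  have hV : V.ncard = q := by
    rw [Set.ncard_image_of_injective _ (mul_left_injective y)]
    have : (Z : Set G).ncard = Nat.card Z := (Nat.card_coe_set_eq (Z : Set G)).symm
    rw [this, h.cardZ]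
  have h1 := card_le_of U ((S : Subgroup G) ⊓ centralizer ({y} : Set G)) y V
    (fun u hu => ⟨u * y * u⁻¹ * y⁻¹, C.cmtU hu hy, by
      show u * y * u⁻¹ * y⁻¹ * y = u * y * u⁻¹
      group⟩)
    (fun u hu huy => ⟨h.U_le hu, mem_centralizer_singleton_iff.2 huy⟩)
  rw [hV, h.cardU] at h1
  have h2 : q * q ^ 4 ≤
      q * Nat.card ((S : Subgroup G) ⊓ centralizer ({y} : Set G) : Subgroup G) := by
    calc q * q ^ 4 = q ^ 5 := by ring
      _ ≤ _ := h1
  exact Nat.le_of_mul_le_mul_left h2 C.q_pos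

/-- case of a swap: the centralizer in `U`. -/
theorem card_swap {y : G} (hyR : ∀ x ∈ R, y * x * y⁻¹ ∈ P)
    (hyy : y * y = 1) :
    q ^ 2 * Nat.card (Z ⊓ centralizer ({y} : Set G) : Subgroup G) ≤
      Nat.card (U ⊓ centralizer ({y} : Set G) : Subgroup G) := by
  have C := core_of h
  have hyi : y⁻¹ = y := inv_eq_of_mul_eq_one_left hyy
  have h1 := card_mul_le (U ⊓ centralizer ({y} : Set G)) P (Z ⊓ centralizer ({y} : Set G)) U
    (fun x hx => ⟨C.Z_le hx.1, hx.2⟩) (fun x hx => h.hP.Z_le hx.1)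
    (by
      intro u hu
      obtain ⟨a, ha, b, hb, rfl⟩ := h.PR u hu
      have hb' := hyR b hb
      have hw : b * (y * b * y⁻¹) ∈ U := mul_mem (h.R_le hb) (h.P_le hb')
      refine ⟨b * (y * b * y⁻¹), ⟨hw, mem_centralizer_singleton_iff.2 ?_⟩,
        (b * (y * b * y⁻¹))⁻¹ * a * (b * (y * b * y⁻¹)) * (y * b * y⁻¹)⁻¹, ?_, ?_⟩
      · have h2 := h.PRc _ hb' b hb
        calc b * (y * b * y⁻¹) * y = (b * (y * b * y⁻¹)) * y := rfl
          _ = ((y * b * y⁻¹) * b) * y := by rw [h2]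
          _ = y * (b * (y⁻¹ * b * y)) := by group
          _ = y * (b * (y * b * y⁻¹)) := by rw [hyi]
      · have h3 := C.P_norm (inv_mem hw) ha
        rw [inv_inv] at h3
        exact mul_mem h3 (inv_mem hb')
      · have h2 := h.PRc _ hb' b hb
        calc a * b = a * (b * (y * b * y⁻¹)) * (y * b * y⁻¹)⁻¹ := by group
          _ = _ := by group)
  rw [h.cardU, h.hP.card] at h1
  have hq : 0 < q ^ 3 := pow_pos C.q_pos 3
  have h2 : (q ^ 2 * Nat.card (Z ⊓ centralizer ({y} : Set G) : Subgroup G)) * q ^ 3 ≤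
      Nat.card (U ⊓ centralizer ({y} : Set G) : Subgroup G) * q ^ 3 := by
    calc _ = q ^ 5 * Nat.card (Z ⊓ centralizer ({y} : Set G) : Subgroup G) := by ring
      _ ≤ _ := h1
  exact Nat.le_of_mul_le_mul_right h2 hq

end Cfsg.Agent.StdU3.GOneFus
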