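import Cfsg.Agent.StdU3.PreDef

/-!
# The second wreath-like type (`g1`), case `[P, P_e] ≠ 1`: data

As in `GOneDef`, but `P` and `R = P_e` do not commute: `[p, r] = z (τ p * k r)` with additive
`τ : P → F_q` (surjective), `k : R → F_q` (not zero).
-/

set_option autoImplicit false

namespace Cfsg.Agent.StdU3.GOneLDef

open Cfsg.Agent.StdU3.Field Cfsg.Agent.StdU3.PreDef

/-- **Type `g1`, `[P, P_e] ≠ 1`.** `Z = {z b | b ∈ F_q}`. -/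
structure GOneL {G : Type*} [Group G] [Finite G] {K : Type*} [Field K] [Fintype K] [CharP K 2]
    {n : ℕ} (D : Pre G K n) (E : Subgroup G) (S : Sylow 2 G) (U R : Subgroup G) (e : G)
    (τ k : G → K) : Prop where
  n3 : 3 ≤ n
  E_normal : E.Normal
  t_E : D.t ∉ E
  U_le : U ≤ (S : Subgroup G)
  U_norm : ∀ x ∈ S, ∀ u ∈ U, x * u * x⁻¹ ∈ U
  U_E : U ≤ E
  cardU : Nat.card U = (2 ^ n) ^ 5
  P_le : D.P ≤ U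
  R_le : R ≤ U
  Z_R : ∀ b, bar n b = b → D.z b ∈ R
  PR : ∀ u ∈ U, ∃ p ∈ D.P, ∃ r ∈ R, u = p * r
  inf : ∀ x ∈ D.P, x ∈ R → ∃ b, bar n b = b ∧ x = D.z b
  /-- `Z` is central in `S` -/
  Zc : ∀ x ∈ S, ∀ b, bar n b = b → x * D.z b = D.z b * x
  /-- squares of `U` are in `Z` -/
  sqU : ∀ x ∈ U, ∃ b, bar n b = b ∧ x * x = D.z b
  /-- commutators of `U` are in `Z` -/
  cmt : ∀ x ∈ U, ∀ y ∈ U, ∃ b, bar n b = b ∧ x * y * x⁻¹ * y⁻¹ = D.z b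
  /-- the commutator form is nondegenerate -/
  surj : ∀ x ∈ U, (∀ b, bar n b = b → x ≠ D.z b) → ∀ b, bar n b = b →
    ∃ y ∈ U, x * y * x⁻¹ * y⁻¹ = D.z b
  tS : D.t ∈ S
  eS : e ∈ S
  ee : e * e = 1
  te : D.t * e = e * D.t
  /-- `C_U(e) = R` -/
  e_R : ∀ r ∈ R, e * r = r * e
  R_e : ∀ u ∈ U, u * e = e * u → u ∈ R
  /-- `C_U(t) = P` -/
  P_t : ∀ u ∈ U, u * D.t = D.t * u → u ∈ D.P
  e_P : ∀ p ∈ D.P, e * p * e⁻¹ ∈ D.P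
  t_R : ∀ r ∈ R, D.t * r * D.t⁻¹ ∈ R
  /-- `e` inverts `P_0 = {p | [e, p] ∈ Z}`, `[P_0, R] = 1`, the involutions of `P e` -/
  inv_P : ∀ p ∈ D.P, ∀ b, bar n b = b → e * p * e⁻¹ * p⁻¹ = D.z b →
    e * p * e⁻¹ = p⁻¹ ∧ τ p = 0 ∧ ∃ v ∈ D.P, v * e * v⁻¹ = p * e
  /-- `t` inverts `R_0 = {r | [t, r] ∈ Z}`, `[P, R_0] = 1`, the involutions of `R t` -/
  inv_R : ∀ r ∈ R, ∀ b, bar n b = b → D.t * r * D.t⁻¹ * r⁻¹ = D.z b →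
    D.t * r * D.t⁻¹ = r⁻¹ ∧ k r = 0 ∧ ∃ v ∈ R, v * D.t * v⁻¹ = r * D.t
  e_E : e ∉ E
  /-- all conjugates of `t` in `S` are `S`-conjugate to `t` -/
  fus : ∀ g : G, g * D.t * g⁻¹ ∈ S → ∃ x ∈ S, g * D.t * g⁻¹ = x * D.t * x⁻¹
  /-- `S` permutes the classes `t^U` and `e^U = e^P` -/
  cls : ∀ x ∈ S, (∃ u ∈ U, x * D.t * x⁻¹ = u * D.t * u⁻¹) ∨
    (∃ p ∈ D.P, x * D.t * x⁻¹ = p * e * p⁻¹)
  /-- `C_S(t) = P ⟨t, e⟩` -/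
  Xi : ∀ x ∈ S, x * D.t = D.t * x → x ∈ D.P ∨ D.t * x ∈ D.P ∨ e * x ∈ D.P ∨ D.t * e * x ∈ D.P
  cardS : Nat.card S ≤ 8 * (2 ^ n) ^ 5
  /-- `t e` is not conjugate into `Z` in `C_G(t)` (Galois component) -/
  fusC : ∀ c : G, c * D.t = D.t * c → ∀ b, bar n b = b → c * (D.t * e) * c⁻¹ ≠ D.z b
  /-- the commutators `[P, R]` -/
  τ_fix : ∀ p ∈ D.P, bar n (τ p) = τ p
  τ_mul : ∀ p ∈ D.P, ∀ p' ∈ D.P, τ (p * p') = τ p + τ p'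
  τ_surj : ∀ b, bar n b = b → ∃ p ∈ D.P, τ p = b
  k_fix : ∀ r ∈ R, bar n (k r) = k r
  k_mul : ∀ r ∈ R, ∀ r' ∈ R, k (r * r') = k r + k r'
  k_ne : ∃ r ∈ R, k r ≠ 0
  cmt_PR : ∀ p ∈ D.P, ∀ r ∈ R, p * r * p⁻¹ * r⁻¹ = D.z (τ p * k r)

end Cfsg.Agent.StdU3.GOneLDef
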