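import Mathlib

/-!
# Totally isotropic subgroups of a class two group

`U` has class two with commutators in the central subgroup `Z`, `Z1` is of index two in `Z`, the
commutator form modulo `Z1` is nondegenerate on `U / Z`: a subgroup `H` with commutators in `Z1`
satisfies `|H|² ≤ |U| |Z|`.
-/

set_option autoImplicit false
set_option linter.unusedSectionVars false
set_option linter.dupNamespace false

namespace Cfsg.Agent.StdU3.IsoCard

open scoped commutatorElement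

theorem sum_hom_zero {A : Type*} [Group A] [Fintype A] (f : A → ℤ)
    (hf : ∀ a b, f (a * b) = f a * f b) {a0 : A} (h0 : f a0 = -1) : ∑ a, f a = 0 := by
  have h1 : ∑ a, f (a0 * a) = ∑ a, f a := Fintype.sum_equiv (Equiv.mulLeft a0) _ _ (fun _ => rfl)
  have h2 : ∑ a, f (a0 * a) = -∑ a, f a := by
    rw [← Finset.sum_neg_distrib]
    apply Finset.sum_congr rfl
    intro a _
    rw [hf, h0, neg_one_mul]
  linarith

variable {G : Type*} [Group G]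

theorem card_sq_le [Finite G] {U H Z Z1 : Subgroup G} (hHU : H ≤ U)
    (cmt : ∀ x ∈ U, ∀ y ∈ U, ⁅x, y⁆ ∈ Z) (Zc : ∀ x ∈ U, ∀ z ∈ Z, x * z = z * x)
    (hZ1 : Z1 ≤ Z) (ind : ∀ z ∈ Z, ∀ z' ∈ Z, z ∉ Z1 → z' ∉ Z1 → z * z' ∈ Z1)
    (hH : ∀ x ∈ H, ∀ y ∈ H, ⁅x, y⁆ ∈ Z1)
    (nd : ∀ v ∈ U, v ∉ Z → ∃ y ∈ U, ⁅v, y⁆ ∉ Z1) :
    Nat.card H * Nat.card H ≤ Nat.card U * Nat.card Z := by
  classical
  haveI := Fintype.ofFinite G
  let χ : G → ℤ := fun z => if z ∈ Z1 then 1 else -1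
  have χ1 : ∀ {z}, z ∈ Z1 → χ z = 1 := fun h => if_pos h
  have χ2 : ∀ {z}, z ∉ Z1 → χ z = -1 := fun h => if_neg h
  have hχ : ∀ a ∈ Z, ∀ b ∈ Z, χ (a * b) = χ a * χ b := by
    intro a ha b hb
    by_cases h1 : a ∈ Z1
    · by_cases h2 : b ∈ Z1
      · rw [χ1 h1, χ1 h2, χ1 (mul_mem h1 h2), one_mul]
      · rw [χ1 h1, χ2 h2, χ2 (fun h => h2 ((Subgroup.mul_mem_cancel_left Z1 h1).mp h)), one_mul]
    · by_cases h2 : b ∈ Z1
      · rw [χ2 h1, χ1 h2, χ2 (fun h => h1 ((Subgroup.mul_mem_cancel_right Z1 h2).mp h)), mul_one]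
      · rw [χ2 h1, χ2 h2, χ1 (ind a ha b hb h1 h2)]; norm_num
  -- commutators are multiplicative
  have cl : ∀ x ∈ U, ∀ y ∈ U, ∀ z ∈ U, ⁅x * y, z⁆ = ⁅y, z⁆ * ⁅x, z⁆ := by
    intro x hx y hy z hz
    have h1 : ⁅x * y, z⁆ = (x * ⁅y, z⁆) * x⁻¹ * ⁅x, z⁆ := by
      simp only [commutatorElement_def]; group
    rw [h1, Zc x hx _ (cmt y hy z hz), mul_inv_cancel_right]
  have cr : ∀ x ∈ U, ∀ y ∈ U, ∀ z ∈ U, ⁅x, y * z⁆ = ⁅x, y⁆ * ⁅x, z⁆ := by
    intro x hx y hy z hz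
    have h1 : ⁅x, y * z⁆ = ⁅x, y⁆ * ((y * ⁅x, z⁆) * y⁻¹) := by
      simp only [commutatorElement_def]; group
    rw [h1, Zc y hy _ (cmt x hx z hz), mul_inv_cancel_right]
  have inv_of : ∀ x y : G, ⁅x, y⁆⁻¹ = ⁅y, x⁆ := commutatorElement_inv
  -- sums over `U`
  have hU0 : ∀ h : H, (h : G) ∉ Z → ∑ x : U, χ ⁅(x : G), (h : G)⁆ = 0 := by
    intro h hh
    obtain ⟨y, hy, hy1⟩ := nd h (hHU h.2) hh
    refine sum_hom_zero (fun x : U => χ ⁅(x : G), (h : G)⁆) ?_ (a0 := ⟨y, hy⟩) ?_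
    · intro a b
      show χ ⁅(a : G) * b, (h : G)⁆ = χ ⁅(a : G), (h : G)⁆ * χ ⁅(b : G), (h : G)⁆
      rw [cl _ a.2 _ b.2 _ (hHU h.2), hχ _ (cmt _ b.2 _ (hHU h.2)) _ (cmt _ a.2 _ (hHU h.2)),
        mul_comm]
    · apply χ2
      rw [← inv_of]
      intro h2
      exact hy1 (by rwa [inv_mem_iff] at h2)
  have hU1 : ∀ h : H, (h : G) ∈ Z → ∑ x : U, χ ⁅(x : G), (h : G)⁆ = (Nat.card U : ℤ) := by
    intro h hh
    have h1 : ∀ x : U, χ ⁅(x : G), (h : G)⁆ = 1 := by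
      intro x
      have h2 : ⁅(x : G), (h : G)⁆ = 1 := by
        rw [commutatorElement_eq_one_iff_mul_comm]; exact Zc _ x.2 _ hh
      rw [h2]; exact χ1 (one_mem _)
    rw [Finset.sum_congr rfl (fun x _ => h1 x), Finset.sum_const, Finset.card_univ,
      Nat.card_eq_fintype_card]
    simp
  -- sums over `H`
  have hH0 : ∀ x : U, 0 ≤ ∑ h : H, χ ⁅(x : G), (h : G)⁆ := by
    intro x
    by_cases hx : ∀ h : H, ⁅(x : G), (h : G)⁆ ∈ Z1
    · apply Finset.sum_nonneg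
      intro h _
      rw [χ1 (hx h)]; norm_num
    · push Not at hx
      obtain ⟨h0, hh0⟩ := hx
      rw [sum_hom_zero (fun h : H => χ ⁅(x : G), (h : G)⁆) ?_ (a0 := h0) (χ2 hh0)]
      intro a b
      show χ ⁅(x : G), (a : G) * b⁆ = χ ⁅(x : G), (a : G)⁆ * χ ⁅(x : G), (b : G)⁆
      rw [cr _ x.2 _ (hHU a.2) _ (hHU b.2), hχ _ (cmt _ x.2 _ (hHU a.2)) _ (cmt _ x.2 _ (hHU b.2))]
  have hH1 : ∀ x : U, (x : G) ∈ H → ∑ h : H, χ ⁅(x : G), (h : G)⁆ = (Nat.card H : ℤ) := by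
    intro x hx
    rw [Finset.sum_congr rfl (fun h _ => χ1 (hH _ hx _ h.2)), Finset.sum_const, Finset.card_univ,
      Nat.card_eq_fintype_card]
    simp
  -- the total sum
  have h1 : ∑ x : U, ∑ h : H, χ ⁅(x : G), (h : G)⁆ = ∑ h : H, ∑ x : U, χ ⁅(x : G), (h : G)⁆ :=
    Finset.sum_comm
  have h2 : ∑ h : H, ∑ x : U, χ ⁅(x : G), (h : G)⁆ ≤ (Nat.card U : ℤ) * Nat.card Z := by
    have h3 : ∀ h : H, ∑ x : U, χ ⁅(x : G), (h : G)⁆ =
        if (h : G) ∈ Z then (Nat.card U : ℤ) else 0 := by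
      intro h
      by_cases hh : (h : G) ∈ Z
      · rw [if_pos hh]; exact hU1 h hh
      · rw [if_neg hh]; exact hU0 h hh
    rw [Finset.sum_congr rfl (fun h _ => h3 h), Finset.sum_ite, Finset.sum_const_zero, add_zero,
      Finset.sum_const, nsmul_eq_mul, mul_comm]
    have h4 : (Finset.univ.filter (fun h : H => (h : G) ∈ Z)).card ≤ Nat.card Z := by
      rw [Nat.card_eq_fintype_card, ← Finset.card_univ]
      refine Finset.card_le_card_of_injOn (fun h : H => if hh : (h : G) ∈ Z then ⟨h, hh⟩ else 1)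
        (fun _ _ => Finset.mem_univ _) ?_
      intro a ha b hb hab
      have ha' := (Finset.mem_filter.mp ha).2
      have hb' := (Finset.mem_filter.mp hb).2
      simp only [dif_pos ha', dif_pos hb'] at hab
      exact Subtype.ext (congrArg (Subtype.val : Z → G) hab)
    have h5 : ((Finset.univ.filter (fun h : H => (h : G) ∈ Z)).card : ℤ) ≤ Nat.card Z := by
      exact_mod_cast h4
    exact mul_le_mul_of_nonneg_left h5 (by positivity)
  have h3 : (Nat.card H : ℤ) * Nat.card H ≤ ∑ x : U, ∑ h : H, χ ⁅(x : G), (h : G)⁆ := by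
    have h4 : ∑ x ∈ Finset.univ.filter (fun x : U => (x : G) ∈ H),
        ∑ h : H, χ ⁅(x : G), (h : G)⁆ ≤ ∑ x : U, ∑ h : H, χ ⁅(x : G), (h : G)⁆ :=
      Finset.sum_le_sum_of_subset_of_nonneg (Finset.filter_subset _ _) (fun x _ _ => hH0 x)
    refine le_trans (le_of_eq ?_) h4
    rw [Finset.sum_congr rfl (fun x hx => hH1 x (Finset.mem_filter.mp hx).2), Finset.sum_const,
      nsmul_eq_mul]
    congr 1
    norm_cast
    rw [Nat.card_eq_fintype_card, ← Finset.card_univ]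
    refine Finset.card_bij' (fun (h : H) _ => (⟨h, hHU h.2⟩ : U))
      (fun (x : U) hx => (⟨x, (Finset.mem_filter.mp hx).2⟩ : H)) ?_ ?_ ?_ ?_
    · intro h _
      exact Finset.mem_filter.mpr ⟨Finset.mem_univ _, h.2⟩
    · intro x hx
      exact Finset.mem_univ _
    · intro h _; rfl
    · intro x hx; rfl
  have h4 : (Nat.card H : ℤ) * Nat.card H ≤ (Nat.card U : ℤ) * Nat.card Z := h3.trans (h1 ▸ h2)
  exact_mod_cast h4

end Cfsg.Agent.StdU3.IsoCard
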