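import Mathlib
import Cfsg.Agent.StdU3.GOneLDef
import Cfsg.Agent.StdU3.IsoCard
import Cfsg.Agent.StdU3.Card
import Cfsg.Agent.StdU3.Fuse

/-!
# Type `g1` with `[P, P_e] ≠ 1`: `Z` is strongly closed
-/

set_option autoImplicit false
set_option linter.unusedSectionVars false
set_option linter.dupNamespace false

namespace Cfsg.Agent.StdU3.GOneL

open Subgroup Cfsg.Agent.StdU3.Field Cfsg.Agent.StdU3.PreDef Cfsg.Agent.StdU3.GOneLDef
open Cfsg.Agent.StdU3.LevelOne (z_zero z_self z_inv z_comm z_eq t_inv)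
open Cfsg.Agent.StdU3.Fuse (Mx)
open scoped commutatorElement

section General

variable {G : Type*} [Group G] [Finite G]

/-- `S ∩ N` is a maximal 2-subgroup of `N ∩ C(z)` for `z` central in `S`. -/
theorem mx_inf (S : Sylow 2 G) (N : Subgroup G) (hN : N.Normal) {z : G}
    (hz : ∀ x ∈ S, x * z = z * x) :
    Mx (N ⊓ centralizer ({z} : Set G)) ((S : Subgroup G) ⊓ N) := by
  have : Fact (Nat.Prime 2) := ⟨Nat.prime_two⟩
  refine ⟨S.isPGroup'.to_le inf_le_left, ?_, ?_⟩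
  · rintro x ⟨hx, hxN⟩
    exact ⟨hxN, mem_centralizer_singleton_iff.mpr (hz x hx)⟩
  · intro Y hY hYC hle
    symm
    apply Subgroup.eq_of_le_of_card_ge hle
    obtain ⟨P, hP⟩ := hY.exists_le_sylow
    obtain ⟨g, hg⟩ := MulAction.exists_smul_eq G P S
    have h1 : Y.map (MulAut.conj g).toMonoidHom ≤ (S : Subgroup G) ⊓ N := by
      rintro _ ⟨y, hy, rfl⟩
      refine ⟨?_, hN.conj_mem _ (hYC hy).1 g⟩
      rw [← hg, Sylow.smul_def, Sylow.pointwise_smul_def]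
      exact Subgroup.smul_mem_pointwise_smul _ _ _ (hP hy)
    calc Nat.card Y = Nat.card (Y.map (MulAut.conj g).toMonoidHom) :=
          (Subgroup.card_map_of_injective (MulAut.conj g).injective).symm
      _ ≤ Nat.card ↥((S : Subgroup G) ⊓ N) := Subgroup.card_le_of_le h1

/-- fusion into a central element of `S`: change the conjugating element. -/
theorem exists_conj_into (S : Sylow 2 G) (N : Subgroup G) (hN : N.Normal) {z : G}
    (hz : ∀ x ∈ S, x * z = z * x) {y h : G} (hh : h ∈ N) (hyz : h * y * h⁻¹ = z) {X : Subgroup G}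
    (hX : IsPGroup 2 X) (hXN : X ≤ N) (hXy : ∀ x ∈ X, x * y = y * x) :
    ∃ g ∈ N, g * y * g⁻¹ = z ∧ ∀ x ∈ X, g * x * g⁻¹ ∈ S := by
  obtain ⟨c, hc, h1⟩ := (mx_inf S N hN hz).exists_conj
    (Y := X.map (MulAut.conj h).toMonoidHom) (hX.map _) (by
      rintro _ ⟨x, hx, rfl⟩
      have h1 : h * x * h⁻¹ ∈ centralizer ({z} : Set G) := by
        rw [mem_centralizer_singleton_iff, ← hyz]
        have e1 : h * x * h⁻¹ * (h * y * h⁻¹) = h * (x * y) * h⁻¹ := by group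
        have e2 : h * y * h⁻¹ * (h * x * h⁻¹) = h * (y * x) * h⁻¹ := by group
        rw [e1, e2, hXy x hx]
      exact ⟨hN.conj_mem _ (hXN hx) h, h1⟩)
  refine ⟨c⁻¹ * h, mul_mem (inv_mem hc.1) hh, ?_, ?_⟩
  · have h2 : c * z = z * c := mem_centralizer_singleton_iff.mp hc.2
    have e1 : c⁻¹ * h * y * (c⁻¹ * h)⁻¹ = c⁻¹ * (h * y * h⁻¹) * c := by group
    rw [e1, hyz, mul_assoc, ← h2]; group
  · intro x hx
    have h2 := (h1 (h * x * h⁻¹) ⟨x, hx, rfl⟩).1
    have e1 : c⁻¹ * h * x * (c⁻¹ * h)⁻¹ = c⁻¹ * (h * x * h⁻¹) * c := by group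
    rw [e1]; exact h2

/-- a proper subgroup of an elementary abelian 2-group lies in a subgroup of index two. -/
theorem exists_hyper {Z Z0 : Subgroup G} (hZ : ∀ z ∈ Z, z * z = 1)
    (hc : ∀ z ∈ Z, ∀ w ∈ Z, z * w = w * z) (h0 : Z0 ≤ Z)
    (hne : Z0 ≠ Z) : ∃ Z1 : Subgroup G, Z0 ≤ Z1 ∧ Z1 ≤ Z ∧ Z1 ≠ Z ∧
      ∀ z ∈ Z, ∀ w ∈ Z, z ∉ Z1 → w ∉ Z1 → z * w ∈ Z1 := by
  classical
  -- a maximal proper subgroup
  have hfin : {X : Subgroup G | Z0 ≤ X ∧ X ≤ Z ∧ X ≠ Z}.Finite := Set.toFinite _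
  obtain ⟨Z1, hZ1⟩ := hfin.exists_maximal ⟨Z0, le_rfl, h0, hne⟩
  obtain ⟨h1, h2, h3⟩ := hZ1.prop
  refine ⟨Z1, h1, h2, h3, ?_⟩
  intro z hz w hw hz1 hw1
  -- the group `Z1 ∪ z Z1`
  let X : Subgroup G :=
    { carrier := {x | x ∈ Z ∧ (x ∈ Z1 ∨ z * x ∈ Z1)}
      one_mem' := ⟨one_mem _, Or.inl (one_mem _)⟩
      mul_mem' := by
        rintro a b ⟨ha, ha'⟩ ⟨hb, hb'⟩
        refine ⟨mul_mem ha hb, ?_⟩
        rcases ha' with ha' | ha'
        · rcases hb' with hb' | hb'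
          · exact Or.inl (mul_mem ha' hb')
          · right
            rw [← mul_assoc, hc z hz a ha, mul_assoc]
            exact mul_mem ha' hb'
        · rcases hb' with hb' | hb'
          · right
            rw [← mul_assoc]
            exact mul_mem ha' hb'
          · left
            have h4 := mul_mem ha' hb'
            have h5 : z * a * (z * b) = a * b := by
              calc z * a * (z * b) = z * (a * z) * b := by group
                _ = z * (z * a) * b := by rw [hc a ha z hz]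
                _ = (z * z) * (a * b) := by group
                _ = a * b := by rw [hZ z hz, one_mul]
            rwa [h5] at h4
      inv_mem' := by
        rintro a ⟨ha, ha'⟩
        have : a⁻¹ = a := by rw [inv_eq_iff_mul_eq_one, hZ a ha]
        rw [this]
        exact ⟨ha, ha'⟩ }
  have hX0 : Z0 ≤ X := fun x hx => ⟨h0 hx, Or.inl (h1 hx)⟩
  have hXZ : X ≤ Z := fun x hx => hx.1
  have hlt : Z1 ≤ X := fun x hx => ⟨h2 hx, Or.inl hx⟩
  have hXeq : X = Z := by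
    by_contra hX
    have h4 := hZ1.le_of_ge ⟨hX0, hXZ, hX⟩ hlt
    have h5 : z ∈ X := ⟨hz, Or.inr (by rw [hZ z hz]; exact one_mem _)⟩
    exact hz1 (h4 h5)
  have hwX : w ∈ X := by rw [hXeq]; exact hw
  rcases hwX.2 with h4 | h4
  · exact absurd h4 hw1
  · exact h4

end General

variable {G : Type*} [Group G] [Finite G] {K : Type*} [Field K] [Fintype K] [CharP K 2]
  {n : ℕ} {D : Pre G K n} {E : Subgroup G} {S : Sylow 2 G} {U R : Subgroup G} {e : G}
  {τ k : G → K} (H : GOneL D E S U R e τ k)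

include H

theorem z_mem_U {b : K} : D.z b ∈ U := H.P_le (D.z_mem b)

theorem z_mem_S {b : K} : D.z b ∈ S := H.U_le (z_mem_U H)

theorem P_e {p : G} (hp : p ∈ D.P) : D.t * p = p * D.t := D.t_P p hp

theorem e_inv : e⁻¹ = e := by rw [inv_eq_iff_mul_eq_one, H.ee]

theorem ss : (D.t * e) * (D.t * e) = 1 := by
  calc (D.t * e) * (D.t * e) = D.t * (e * D.t) * e := by group
    _ = (D.t * D.t) * (e * e) := by rw [← H.te]; group
    _ = 1 := by rw [D.t_sq, H.ee, one_mul]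

theorem s_inv : (D.t * e)⁻¹ = D.t * e := by rw [inv_eq_iff_mul_eq_one, ss H]

theorem cmtz {x y : G} (hx : x ∈ U) (hy : y ∈ U) : ⁅x, y⁆ ∈ Card.Z D := by
  rw [commutatorElement_def]; exact H.cmt x hx y hy

theorem s_not : D.t * e ∉ U := by
  intro h
  -- `s` would commute with `t`, so `s ∈ P`, `e ∈ P t`
  have h1 : D.t * e * D.t = D.t * (D.t * e) := by rw [mul_assoc, ← H.te]
  have h2 : D.t * e ∈ D.P := H.P_t _ h h1
  have h3 : e * (D.t * e) = D.t * e * e := by rw [← mul_assoc, ← H.te]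
  have h4 : D.t * e ∈ R := H.R_e _ h h3.symm
  obtain ⟨b, hb, h5⟩ := H.inf _ h2 h4
  exact H.fusC 1 (by rw [one_mul, mul_one]) b hb (by rw [one_mul, inv_one, mul_one, h5])

/-- involutions of `s U` are conjugate to `s = t e` -/
theorem s_cls {u : G} (hu : u ∈ U) (h : (u * (D.t * e)) * (u * (D.t * e)) = 1) :
    ∃ v ∈ U, u * (D.t * e) = v * (D.t * e) * v⁻¹ := by
  obtain ⟨p, hp, r, hr, rfl⟩ := H.PR u hu
  set s := D.t * e with hs
  have hsp : s * p * s⁻¹ = e * p * e⁻¹ := by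
    have h1 := D.t_P _ (H.e_P p hp)
    calc s * p * s⁻¹ = D.t * (e * p * e⁻¹) * D.t⁻¹ := by rw [hs]; group
      _ = _ := by rw [h1]; group
  have hsr : s * r * s⁻¹ = D.t * r * D.t⁻¹ := by
    calc s * r * s⁻¹ = D.t * (e * r) * e⁻¹ * D.t⁻¹ := by rw [hs]; group
      _ = _ := by rw [H.e_R r hr]; group
  set p' := e * p * e⁻¹ with hp'
  set r' := D.t * r * D.t⁻¹ with hr'
  have hp'P : p' ∈ D.P := H.e_P p hp
  have hr'R : r' ∈ R := H.t_R r hr
  obtain ⟨b, hb, hcm⟩ := H.cmt r (H.R_le hr) p' (H.P_le hp'P)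
  have hcm' : r * p' = D.z b * p' * r := by rw [← hcm]; group
  have hzp : p * D.z b = D.z b * p := H.Zc _ (H.U_le (H.P_le hp)) b hb
  -- `p p' r r' ∈ Z`
  have h1 : D.z b * (p * p') * (r * r') = 1 := by
    calc D.z b * (p * p') * (r * r') = (D.z b * p) * p' * r * r' := by group
      _ = p * (D.z b * p' * r) * r' := by rw [← hzp]; group
      _ = p * r * p' * r' := by rw [← hcm']; group
      _ = (p * r) * ((s * p * s⁻¹) * (s * r * s⁻¹)) := by rw [hsp, hsr]; group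
      _ = (p * r * s) * (p * r * s) * (s * s)⁻¹ := by group
      _ = 1 := by rw [h, ss H, inv_one, mul_one]
  have h2 : p * p' ∈ R := by
    have : p * p' = (D.z b)⁻¹ * (r * r')⁻¹ :=
      eq_inv_mul_iff_mul_eq.mpr (eq_inv_of_mul_eq_one_left h1)
    rw [this]
    exact mul_mem (inv_mem (H.Z_R b hb)) (inv_mem (mul_mem hr hr'R))
  obtain ⟨c, hc, h3⟩ := H.inf _ (mul_mem hp hp'P) h2
  have h4 : r * r' = D.z (b + c) := by
    rw [h3, ← D.z_add] at h1
    have := eq_inv_of_mul_eq_one_right h1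
    rw [this, z_inv]
  obtain ⟨d, hd, hd'⟩ := H.sqU p (H.P_le hp)
  obtain ⟨f, hf, hf'⟩ := H.sqU r (H.R_le hr)
  have h5 : e * p * e⁻¹ * p⁻¹ = D.z (c + d) := by
    have e1 : p⁻¹ = p * (D.z d)⁻¹ := by rw [← hd']; group
    have e2 : p⁻¹ * D.z c = D.z c * p⁻¹ := H.Zc _ (inv_mem (H.U_le (H.P_le hp))) c hc
    have e3 : p' = D.z c * p⁻¹ := by rw [← e2, ← h3]; group
    rw [← hp', e3, D.z_add, mul_assoc, ← _root_.mul_inv_rev, hd', z_inv]
  have h6 : D.t * r * D.t⁻¹ * r⁻¹ = D.z (b + c + f) := by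
    have e2 : r⁻¹ * D.z (b + c) = D.z (b + c) * r⁻¹ :=
      H.Zc _ (inv_mem (H.U_le (H.R_le hr))) _ (fixed_add hb hc)
    have e3 : r' = D.z (b + c) * r⁻¹ := by rw [← e2, ← h4]; group
    rw [← hr', e3, D.z_add (b + c), mul_assoc, ← _root_.mul_inv_rev, hf', z_inv]
  obtain ⟨hi1, hτ, v, hv, hve⟩ := H.inv_P p hp _ (fixed_add hc hd) h5
  obtain ⟨hi2, hk, v', hv', hvt⟩ := H.inv_R r hr _ (fixed_add (fixed_add hb hc) hf) h6
  refine ⟨v * v', mul_mem (H.P_le hv) (H.R_le hv'), ?_⟩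
  have e1 : v' * s * v'⁻¹ = r * s := by
    calc v' * s * v'⁻¹ = (v' * D.t * v'⁻¹) * (v' * e) * v'⁻¹ := by rw [hs]; group
      _ = (r * D.t) * (e * v') * v'⁻¹ := by rw [hvt, H.e_R v' hv']
      _ = r * s := by rw [hs]; group
  have e2 : v * s * v⁻¹ = p * s := by
    calc v * s * v⁻¹ = (v * D.t) * e * v⁻¹ := by rw [hs]; group
      _ = D.t * (v * e * v⁻¹) := by rw [← D.t_P v hv]; group
      _ = (D.t * p) * e := by rw [hve]; group
      _ = p * s := by rw [D.t_P p hp, hs]; group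
  have e3 : v * r * v⁻¹ = r := by
    have h7 := H.cmt_PR v hv r hr
    rw [hk, mul_zero, z_zero, mul_inv_eq_one] at h7
    exact h7
  have e4 : p * r = r * p := by
    have h7 := H.cmt_PR p hp r hr
    rw [hτ, zero_mul, z_zero, mul_inv_eq_one, mul_inv_eq_iff_eq_mul] at h7
    exact h7
  calc p * r * s = r * p * s := by rw [e4]
    _ = r * (v * s * v⁻¹) := by rw [e2]; group
    _ = (v * r * v⁻¹) * (v * s * v⁻¹) := by rw [e3]
    _ = v * (r * s) * v⁻¹ := by group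
    _ = v * (v' * s * v'⁻¹) * v⁻¹ := by rw [e1]
    _ = v * v' * s * (v * v')⁻¹ := by group

/-- (ii) involutions of `U s` are not fused into `Z` -/
theorem not_s {u : G} (hu : u ∈ U) (h : (u * (D.t * e)) * (u * (D.t * e)) = 1) (g : G) {b : K}
    (hb : bar n b = b) : g * (u * (D.t * e)) * g⁻¹ ≠ D.z b := by
  intro hg
  obtain ⟨v, hv, h1⟩ := s_cls H hu h
  rw [h1] at hg
  have hz : ∀ x ∈ S, x * D.z b = D.z b * x := fun x hx => H.Zc x hx b hb
  have hX : IsPGroup 2 (zpowers D.t) := by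
    intro x
    obtain ⟨x, hx⟩ := x
    obtain ⟨i, rfl⟩ := mem_zpowers_iff.mp hx
    refine ⟨1, Subtype.ext ?_⟩
    show (D.t ^ i) ^ 2 ^ 1 = 1
    rw [← zpow_natCast, ← zpow_mul, mul_comm, zpow_mul, zpow_natCast, pow_one, pow_two, D.t_sq,
      one_zpow]
  obtain ⟨g', -, h2, h3⟩ := exists_conj_into S ⊤ inferInstance hz (y := D.t * e) (h := g * v)
    (mem_top _) (by rw [← hg]; group) hX le_top (by
      intro x hx
      obtain ⟨i, rfl⟩ := mem_zpowers_iff.mp hx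
      have : Commute D.t (D.t * e) := (Commute.refl _).mul_right H.te
      exact (this.zpow_left i).eq)
  obtain ⟨x, hx, h4⟩ := H.fus g' (h3 _ (mem_zpowers _))
  refine H.fusC (x⁻¹ * g') ?_ b hb ?_
  · have e1 : x⁻¹ * g' * D.t = x⁻¹ * (g' * D.t * g'⁻¹) * g' := by group
    rw [e1, h4]; group
  · have e1 : x⁻¹ * g' * (D.t * e) * (x⁻¹ * g')⁻¹ = x⁻¹ * (g' * (D.t * e) * g'⁻¹) * x := by group
    rw [e1, h2, mul_assoc, ← hz x hx]; group

/-- `|S ∩ E| ≤ 4 q^5` -/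
theorem card_T : Nat.card ↥((S : Subgroup G) ⊓ E) ≤ 4 * (2 ^ n) ^ 5 := by
  have h1 : Nat.card (E.subgroupOf (S : Subgroup G)) * (E.subgroupOf (S : Subgroup G)).index =
      Nat.card S := Subgroup.card_mul_index _
  have h2 : (E.subgroupOf (S : Subgroup G)).index ≠ 1 := by
    rw [ne_eq, Subgroup.index_eq_one]
    intro h
    have : (⟨D.t, H.tS⟩ : (S : Subgroup G)) ∈ E.subgroupOf (S : Subgroup G) := by
      rw [h]; exact mem_top _
    exact H.t_E (mem_subgroupOf.mp this)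
  have h3 : (E.subgroupOf (S : Subgroup G)).index ≠ 0 := Subgroup.index_ne_zero_of_finite
  have h4 : 2 ≤ (E.subgroupOf (S : Subgroup G)).index := by omega
  have h5 : Nat.card (E.subgroupOf (S : Subgroup G)) = Nat.card ↥((S : Subgroup G) ⊓ E) := by
    rw [← Subgroup.card_map_of_injective (S : Subgroup G).subtype_injective,
      Subgroup.subgroupOf_map_subtype, inf_comm]
  rw [h5] at h1
  have h6 := H.cardS
  rw [← h1] at h6
  have h7 : Nat.card ↥((S : Subgroup G) ⊓ E) * 2 ≤ 8 * (2 ^ n) ^ 5 :=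
    (Nat.mul_le_mul_left _ h4).trans h6
  omega

theorem card_cent {u : G} (hu : u ∈ U) :
    (2 ^ n) ^ 4 ≤ Nat.card ↥(U ⊓ centralizer ({u} : Set G)) := by
  have h1 := Card.card_le_cent U (Card.Z D) u (fun x hx => H.cmt x hx u hu)
  rw [H.cardU, Card.card_Z] at h1
  have h2 : (2 ^ n) ^ 5 = (2 ^ n) ^ 4 * 2 ^ n := by ring
  rw [h2] at h1
  exact Nat.le_of_mul_le_mul_right h1 (by positivity)

theorem card_iso {X Z0 : Subgroup G} (hX : X ≤ U) (hZ0 : Z0 ≤ Card.Z D) (hne : Z0 ≠ Card.Z D)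
    (hc : ∀ x ∈ X, ∀ y ∈ X, ⁅x, y⁆ ∈ Z0) : Nat.card X ≤ (2 ^ n) ^ 3 := by
  have hsq : ∀ z ∈ Card.Z D, z * z = 1 := by
    rintro _ ⟨b, -, rfl⟩; exact z_self D b
  have hcc : ∀ z ∈ Card.Z D, ∀ w ∈ Card.Z D, z * w = w * z := by
    rintro _ ⟨b, -, rfl⟩ _ ⟨c, -, rfl⟩; exact z_comm D b c
  obtain ⟨Z1, h1, h2, h3, h4⟩ := exists_hyper hsq hcc hZ0 hne
  have h5 := IsoCard.card_sq_le (U := U) (H := X) (Z := Card.Z D) (Z1 := Z1) hX
    (fun x hx y hy => cmtz H hx hy) (by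
      rintro x hx _ ⟨b, hb, rfl⟩
      exact H.Zc x (H.U_le hx) b hb) h2 h4 (fun x hx y hy => h1 (hc x hx y hy)) (by
      intro v hv hvZ
      -- an element of `Z` outside `Z1`
      have h6 : ∃ z ∈ Card.Z D, z ∉ Z1 := by
        by_contra hcon
        push Not at hcon
        exact h3 (le_antisymm h2 hcon)
      obtain ⟨_, ⟨b, hb, rfl⟩, h7⟩ := h6
      obtain ⟨y, hy, h8⟩ := H.surj v hv (fun b hb h => hvZ ⟨b, hb, h⟩) b hb
      exact ⟨y, hy, by rw [commutatorElement_def, h8]; exact h7⟩)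
  rw [H.cardU, Card.card_Z] at h5
  have h6 : (2 ^ n) ^ 5 * 2 ^ n = (2 ^ n) ^ 3 * (2 ^ n) ^ 3 := by ring
  rw [h6] at h5
  exact Nat.mul_self_le_mul_self_iff.mp h5

/-- (i) involutions of `U - Z` are not fused into `Z` by elements of `E` -/
theorem not_U {u : G} (hu : u ∈ U) (huZ : u ∉ Card.Z D) {h : G} (hh : h ∈ E) {b : K}
    (hb : bar n b = b) : h * u * h⁻¹ ≠ D.z b := by
  intro hz
  have hzS : ∀ x ∈ S, x * D.z b = D.z b * x := fun x hx => H.Zc x hx b hb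
  set B := U ⊓ centralizer ({u} : Set G) with hB
  have hB2 : IsPGroup 2 B := (S.isPGroup'.to_le H.U_le).to_le inf_le_left
  obtain ⟨g, hgE, h1, h2⟩ := exists_conj_into S E H.E_normal hzS hh hz hB2
    (inf_le_left.trans H.U_E) (fun x hx => mem_centralizer_singleton_iff.mp hx.2)
  have hc4 := card_cent H hu
  rw [← hB] at hc4
  -- the image of `B`
  set X := B.map (MulAut.conj g).toMonoidHom with hX
  have hXcard : Nat.card X = Nat.card B :=
    Subgroup.card_map_of_injective (MulAut.conj g).injective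
  have hXT : X ≤ (S : Subgroup G) ⊓ E := by
    rintro _ ⟨x, hx, rfl⟩
    exact ⟨h2 x hx, H.E_normal.conj_mem _ (H.U_E hx.1) g⟩
  -- `|X ∩ U| ≥ |X| / 4`
  have h3 : Nat.card X ≤ Nat.card ↥(X ⊓ U) * 4 := by
    have h4 : (U.relIndex X) ≤ 4 := by
      have h5 : U.relIndex X ≤ U.relIndex ((S : Subgroup G) ⊓ E) :=
        Subgroup.relIndex_le_of_le_right hXT Subgroup.index_ne_zero_of_finite
      have h6 : Nat.card U * U.relIndex ((S : Subgroup G) ⊓ E) =
          Nat.card ↥((S : Subgroup G) ⊓ E) := by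
        have := Subgroup.relIndex_mul_relIndex (⊥ : Subgroup G) U ((S : Subgroup G) ⊓ E) bot_le
          (le_inf H.U_le H.U_E)
        rwa [Subgroup.relIndex_bot_left, Subgroup.relIndex_bot_left] at this
      have h7 := card_T H
      rw [← h6, H.cardU, mul_comm] at h7
      have h8 : U.relIndex ((S : Subgroup G) ⊓ E) ≤ 4 :=
        Nat.le_of_mul_le_mul_right h7 (by positivity)
      exact h5.trans h8
    have h5 : Nat.card ↥(X ⊓ U) * U.relIndex X = Nat.card X := by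
      have := Subgroup.relIndex_mul_relIndex (⊥ : Subgroup G) (U ⊓ X) X bot_le inf_le_right
      rwa [Subgroup.relIndex_bot_left, Subgroup.relIndex_bot_left, Subgroup.inf_relIndex_right,
        inf_comm] at this
    rw [← h5]
    exact Nat.mul_le_mul_left _ h4
  -- commutators of `X ∩ U`
  let Z' : Subgroup G := (Card.Z D).map (MulAut.conj g).toMonoidHom
  have hZ' : ∀ x ∈ X, ∀ y ∈ X, ⁅x, y⁆ ∈ Z' := by
    rintro _ ⟨x, hx, rfl⟩ _ ⟨y, hy, rfl⟩
    refine ⟨⁅x, y⁆, cmtz H hx.1 hy.1, ?_⟩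
    rw [map_commutatorElement]
  by_cases hne : Card.Z D ⊓ Z' = Card.Z D
  · -- then `Z' = Z`, so `u ∈ Z`
    have h5 : Card.Z D ≤ Z' := by rw [← hne]; exact inf_le_right
    have h6 : Card.Z D = Z' := Subgroup.eq_of_le_of_card_ge h5
      (Subgroup.card_map_of_injective (MulAut.conj g).injective).le
    have h7 : D.z b ∈ Z' := by rw [← h6]; exact ⟨b, hb, rfl⟩
    obtain ⟨w, hw, h8⟩ := h7
    have h9 : w = u := by
      apply (MulAut.conj g).injective
      rw [show (MulAut.conj g) w = D.z b from h8, MulAut.conj_apply, h1]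
    exact huZ (by rw [← h9]; exact hw)
  · have h5 := card_iso H (X := X ⊓ U) inf_le_right inf_le_left hne
      (fun x hx y hy => ⟨cmtz H hx.2 hy.2, hZ' x hx.1 y hy.1⟩)
    have h6 : (2 ^ n) ^ 4 ≤ (2 ^ n) ^ 3 * 4 := by
      calc (2 ^ n) ^ 4 ≤ Nat.card B := hc4
        _ = Nat.card X := hXcard.symm
        _ ≤ Nat.card ↥(X ⊓ U) * 4 := h3
        _ ≤ (2 ^ n) ^ 3 * 4 := Nat.mul_le_mul_right _ h5
    have h7 : (2 ^ n) ^ 4 = (2 ^ n) ^ 3 * 2 ^ n := by ring
    rw [h7] at h6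
    have h8 : 2 ^ n ≤ 4 := Nat.le_of_mul_le_mul_left h6 (by positivity)
    have h9 : 2 ^ 3 ≤ 2 ^ n := Nat.pow_le_pow_right (by norm_num) H.n3
    omega

/-- the elements of `S ∩ E`: in `U`, in `U s`, or swaps. -/
theorem cases_T {x : G} (hx : x ∈ S) (hxE : x ∈ E) : x ∈ U ∨ (∃ u ∈ U, x = u * (D.t * e)) ∨
    ∃ p ∈ D.P, x * D.t * x⁻¹ = p * e * p⁻¹ := by
  rcases H.cls x hx with ⟨u, hu, h⟩ | h
  · have h1 : u⁻¹ * x * D.t = D.t * (u⁻¹ * x) := by
      have e1 : u⁻¹ * x * D.t = u⁻¹ * (x * D.t * x⁻¹) * x := by group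
      rw [e1, h]; group
    have hS : u⁻¹ * x ∈ S := mul_mem (inv_mem (H.U_le hu)) hx
    have hE : u⁻¹ * x ∈ E := mul_mem (inv_mem (H.U_E hu)) hxE
    have hPE : ∀ {y}, y ∈ D.P → y ∈ E := fun hy => H.U_E (H.P_le hy)
    rcases H.Xi _ hS h1 with h2 | h2 | h2 | h2
    · left
      have : x = u * (u⁻¹ * x) := by group
      rw [this]; exact mul_mem hu (H.P_le h2)
    · exfalso
      have h3 := mul_mem (hPE h2) (inv_mem hE)
      rw [mul_inv_cancel_right] at h3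
      exact H.t_E h3
    · exfalso
      have h3 := mul_mem (hPE h2) (inv_mem hE)
      rw [mul_inv_cancel_right] at h3
      exact H.e_E h3
    · right; left
      -- `u⁻¹ x = s p`
      set s := D.t * e with hs
      set p := s * (u⁻¹ * x) with hp
      have h3 : s * p * s⁻¹ ∈ U := H.U_norm s (mul_mem H.tS H.eS) p (H.P_le h2)
      refine ⟨u * (s * p * s⁻¹), mul_mem hu h3, ?_⟩
      have h4 : u⁻¹ * x = s * p := by
        rw [hp, ← mul_assoc, ss H, one_mul]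
      calc x = u * (u⁻¹ * x) := by group
        _ = u * (s * p) := by rw [h4]
        _ = _ := by group
  · exact Or.inr (Or.inr h)

/-- a swap conjugates `P` to `R` -/
theorem swap_P {x : G} (hx : x ∈ S) {p : G} (hp : p ∈ D.P)
    (h : x * D.t * x⁻¹ = p * e * p⁻¹) {v : G} (hv : v ∈ D.P) : x * v * x⁻¹ ∈ R := by
  have hu : x * v * x⁻¹ ∈ U := H.U_norm x hx v (H.P_le hv)
  have h1 : x * v * x⁻¹ * (p * e * p⁻¹) = (p * e * p⁻¹) * (x * v * x⁻¹) := by
    rw [← h]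
    calc x * v * x⁻¹ * (x * D.t * x⁻¹) = x * (v * D.t) * x⁻¹ := by group
      _ = x * (D.t * v) * x⁻¹ := by rw [D.t_P v hv]
      _ = _ := by group
  set w := x * v * x⁻¹ with hw
  have h2 : p⁻¹ * w * p ∈ R := by
    apply H.R_e
    · exact mul_mem (mul_mem (inv_mem (H.P_le hp)) hu) (H.P_le hp)
    · calc p⁻¹ * w * p * e = p⁻¹ * (w * (p * e * p⁻¹)) * p := by group
        _ = p⁻¹ * ((p * e * p⁻¹) * w) * p := by rw [h1]
        _ = e * (p⁻¹ * w * p) := by group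
  -- `w = [w, p] ...` differs from `p⁻¹ w p` by an element of `Z`
  obtain ⟨b, hb, h3⟩ := H.cmt w hu p⁻¹ (inv_mem (H.P_le hp))
  rw [inv_inv] at h3
  have h4 : w = D.z b * (p⁻¹ * w * p) := by
    have h5 : w⁻¹ * D.z b = D.z b * w⁻¹ := H.Zc _ (inv_mem (H.U_le hu)) b hb
    have h6 : p⁻¹ * w⁻¹ * p = w⁻¹ * D.z b := by rw [← h3]; group
    have h7 : (p⁻¹ * w * p)⁻¹ = D.z b * w⁻¹ := by
      rw [← h5, ← h6]; group
    have h8 : p⁻¹ * w * p = w * (D.z b)⁻¹ := by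
      rw [← inv_inj, h7]; group
    rw [h8, z_inv, ← mul_assoc, ← H.Zc w (H.U_le hu) b hb, mul_assoc, z_self, mul_one]
  rw [h4]
  exact mul_mem (H.Z_R b hb) h2

/-- swaps are conjugate to their products with elements of `Z` -/
theorem swap_z {w : G} (hw : w ∈ S) (hw2 : w * w = 1) {p : G} (hp : p ∈ D.P)
    (h : w * D.t * w⁻¹ = p * e * p⁻¹) {b : K} (hb : bar n b = b) :
    ∃ u ∈ U, u⁻¹ * w * u = w * D.z b := by
  have hR : ∀ {v}, v ∈ D.P → w * v * w⁻¹ ∈ R := fun hv => swap_P H hw hp h hv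
  have hwi : w⁻¹ = w := by rw [inv_eq_iff_mul_eq_one, hw2]
  -- symmetry
  have hsym : ∀ v ∈ D.P, ∀ v' ∈ D.P, τ v * k (w * v' * w⁻¹) = τ v' * k (w * v * w⁻¹) := by
    intro v hv v' hv'
    have h1 := H.cmt_PR v hv _ (hR hv')
    have h2 := H.cmt_PR v' hv' _ (hR hv)
    have hf1 : bar n (τ v * k (w * v' * w⁻¹)) = τ v * k (w * v' * w⁻¹) :=
      fixed_mul (H.τ_fix v hv) (H.k_fix _ (hR hv'))
    have hf2 : bar n (τ v' * k (w * v * w⁻¹)) = τ v' * k (w * v * w⁻¹) :=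
      fixed_mul (H.τ_fix v' hv') (H.k_fix _ (hR hv))
    apply z_eq D hf1 hf2
    rw [← h1, ← z_inv D (τ v' * k (w * v * w⁻¹)), ← h2]
    -- conjugate the second one by `w`
    have h3 : w * (v' * (w * v * w⁻¹) * v'⁻¹ * (w * v * w⁻¹)⁻¹)⁻¹ * w⁻¹ =
        (v' * (w * v * w⁻¹) * v'⁻¹ * (w * v * w⁻¹)⁻¹)⁻¹ := by
      rw [h2, z_inv, H.Zc w hw _ hf2, mul_inv_cancel_right]
    rw [← h3]
    have h4 : w * (w * v * w⁻¹) * w⁻¹ = v := by
      calc w * (w * v * w⁻¹) * w⁻¹ = (w * w) * v * (w * w)⁻¹ := by group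
        _ = v := by rw [hw2]; group
    calc v * (w * v' * w⁻¹) * v⁻¹ * (w * v' * w⁻¹)⁻¹
        = (w * (w * v * w⁻¹) * w⁻¹) * (w * v' * w⁻¹) * (w * (w * v * w⁻¹) * w⁻¹)⁻¹ *
            (w * v' * w⁻¹)⁻¹ := by rw [h4]
      _ = w * (v' * (w * v * w⁻¹) * v'⁻¹ * (w * v * w⁻¹)⁻¹)⁻¹ * w⁻¹ := by group
  obtain ⟨v1, hv1, hτ1⟩ := H.τ_surj 1 (bar_one n)
  set c := k (w * v1 * w⁻¹) with hc
  have hcf : bar n c = c := H.k_fix _ (hR hv1)
  have hlin : ∀ v ∈ D.P, k (w * v * w⁻¹) = c * τ v := by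
    intro v hv
    have := hsym v1 hv1 v hv
    rw [hτ1, one_mul] at this
    rw [this, hc, mul_comm]
  -- `c ≠ 0`: `R` is the image of `P`
  have hc0 : c ≠ 0 := by
    intro h0
    obtain ⟨r, hr, hkr⟩ := H.k_ne
    apply hkr
    -- `w⁻¹ r w ∈ P`
    have h1 : w⁻¹ * r * w ∈ D.P := by
      have hu : w⁻¹ * r * w ∈ U := by
        have := H.U_norm _ (inv_mem hw) r (H.R_le hr)
        rwa [inv_inv] at this
      apply H.P_t _ hu
      -- `r` commutes with `p e p⁻¹`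
      have h2 : r * (p * e * p⁻¹) = (p * e * p⁻¹) * r := by
        obtain ⟨b', hb', h3⟩ := H.cmt p⁻¹ (inv_mem (H.P_le hp)) r (H.R_le hr)
        rw [inv_inv] at h3
        have h4 : p⁻¹ * r * p = D.z b' * r := by rw [← h3]; group
        have h5 : D.z b' * r ∈ R := mul_mem (H.Z_R b' hb') hr
        have h6 : e * (p⁻¹ * r * p) = (p⁻¹ * r * p) * e := by rw [h4]; exact H.e_R _ h5
        calc r * (p * e * p⁻¹) = p * ((p⁻¹ * r * p) * e) * p⁻¹ := by group
          _ = p * (e * (p⁻¹ * r * p)) * p⁻¹ := by rw [h6]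
          _ = _ := by group
      rw [← h] at h2
      calc w⁻¹ * r * w * D.t = w⁻¹ * (r * (w * D.t * w⁻¹)) * w := by group
        _ = w⁻¹ * ((w * D.t * w⁻¹) * r) * w := by rw [h2]
        _ = D.t * (w⁻¹ * r * w) := by group
    have h2 := hlin _ h1
    rw [h0, zero_mul] at h2
    have e1 : w * (w⁻¹ * r * w) * w⁻¹ = r := by group
    rwa [e1] at h2
  -- choose `v` with `c (τ v)² = b`
  obtain ⟨x0, hx0, hx0'⟩ : ∃ x : K, bar n x = x ∧ c * (x * x) = b := by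
    have hbc : bar n (b / c) = b / c := by
      rw [div_eq_mul_inv]; exact fixed_mul hb (fixed_inv hcf)
    -- square roots of fixed elements are fixed
    obtain ⟨x, hx⟩ : ∃ x : K, x * x = b / c := by
      obtain ⟨x, hx⟩ := FiniteField.isSquare_of_char_two (ringChar.eq K 2) (b / c)
      exact ⟨x, hx.symm⟩
    refine ⟨x, ?_, ?_⟩
    · have h1 : (bar n x) * (bar n x) = x * x := by rw [← bar_mul, hx, hbc]
      have h2 : (bar n x + x) * (bar n x + x) = 0 := by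
        have := add_self (K := K) (x * x)
        have h3 := add_self (K := K) (bar n x * x)
        linear_combination h1 + h3 + this
      have h3 := mul_self_eq_zero.mp h2
      exact Field.add_eq_zero.mp h3
    · rw [hx]; field_simp
  obtain ⟨v, hv, hτv⟩ := H.τ_surj x0 hx0
  refine ⟨v * (w * v * w⁻¹), mul_mem (H.P_le hv) (H.R_le (hR hv)), ?_⟩
  set v' := w * v * w⁻¹ with hv'
  have h1 := H.cmt_PR v⁻¹ (inv_mem hv) v'⁻¹ (inv_mem (hR hv))
  have hτi : τ v⁻¹ = τ v := by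
    have h2 := H.τ_mul v hv v⁻¹ (inv_mem hv)
    have h3 := H.τ_mul 1 (one_mem _) 1 (one_mem _)
    rw [one_mul] at h3
    rw [mul_inv_cancel, left_eq_add.mp h3] at h2
    exact (Field.add_eq_zero.mp h2.symm).symm
  have hki : k v'⁻¹ = k v' := by
    have h2 := H.k_mul v' (hR hv) v'⁻¹ (inv_mem (hR hv))
    have h3 := H.k_mul 1 (one_mem _) 1 (one_mem _)
    rw [one_mul] at h3
    rw [mul_inv_cancel, left_eq_add.mp h3] at h2
    exact (Field.add_eq_zero.mp h2.symm).symm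
  rw [hτi, hki, hlin v hv, hτv, inv_inv, inv_inv] at h1
  have h2 : x0 * (c * x0) = b := by rw [← hx0']; ring
  rw [h2] at h1
  have h3 : w * v' * w⁻¹ = v := by
    rw [hv']
    calc w * (w * v * w⁻¹) * w⁻¹ = (w * w) * v * (w * w)⁻¹ := by group
      _ = v := by rw [hw2]; group
  calc (v * v')⁻¹ * w * (v * v') = v'⁻¹ * v⁻¹ * (w * v * w⁻¹) * (w * v' * w⁻¹) * w := by group
    _ = v'⁻¹ * v⁻¹ * v' * v * w := by rw [h3]
    _ = D.z b * w := by
        have h4 : v'⁻¹ * v⁻¹ * v' * v = (v⁻¹ * v'⁻¹ * v * v')⁻¹ := by group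
        rw [h4, h1, z_inv]
    _ = w * D.z b := (H.Zc w hw b hb).symm

/-- (iii) swaps are not fused into `Z` by elements of `E` -/
theorem not_swap {y : G} (hy : y ∈ S) (hyE : y ∈ E) (hy2 : y * y = 1) {p : G} (hp : p ∈ D.P)
    (hsw : y * D.t * y⁻¹ = p * e * p⁻¹) {h : G} (hh : h ∈ E) {b : K} (hb : bar n b = b) :
    h * y * h⁻¹ ≠ D.z b := by
  intro hz
  have hyi : y⁻¹ = y := by rw [inv_eq_iff_mul_eq_one, hy2]
  have hti : D.t⁻¹ = D.t := t_inv D
  have hzS : ∀ x ∈ S, x * D.z b = D.z b * x := fun x hx => H.Zc x hx b hb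
  set y' := D.t * y * D.t⁻¹ with hy'
  have hy'2 : y' * y' = 1 := by
    calc y' * y' = D.t * (y * y) * D.t⁻¹ := by rw [hy']; group
      _ = 1 := by rw [hy2]; group
  have hy'i : y'⁻¹ = y' := by rw [inv_eq_iff_mul_eq_one, hy'2]
  have hy'S : y' ∈ S := mul_mem (mul_mem H.tS hy) (inv_mem H.tS)
  have hy'E : y' ∈ E := H.E_normal.conj_mem _ hyE D.t
  -- `y y' = u s`
  set u := p * (e * p⁻¹ * e⁻¹) with hu
  have huU : u ∈ U := mul_mem (H.P_le hp) (H.P_le (H.e_P _ (inv_mem hp)))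
  have hyy : y * y' = u * (D.t * e) := by
    calc y * y' = (y * D.t * y⁻¹) * (y * y) * D.t⁻¹ := by rw [hy']; group
      _ = (p * e * p⁻¹) * D.t := by rw [hsw, hy2, hti, mul_one]
      _ = (p * e) * (D.t * p⁻¹) := by rw [D.t_P _ (inv_mem hp)]; group
      _ = p * (D.t * e) * p⁻¹ := by rw [H.te]; group
      _ = (p * D.t) * e * p⁻¹ := by group
      _ = (D.t * p) * e * p⁻¹ := by rw [D.t_P p hp]
      _ = D.t * (p * (e * p⁻¹ * e⁻¹)) * e := by group
      _ = D.t * u * e := by rw [hu]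
      _ = u * D.t * e := by rw [D.t_P u (mul_mem hp (H.e_P _ (inv_mem hp)))]
      _ = u * (D.t * e) := by group
  have hinv : (y * y') * (y * y') = 1 := by
    -- `d = p e p⁻¹` commutes with `t`
    have h1 : (p * e * p⁻¹) * D.t = D.t * (p * e * p⁻¹) := by
      calc (p * e * p⁻¹) * D.t = p * e * (D.t * p⁻¹) := by rw [D.t_P _ (inv_mem hp)]; group
        _ = p * (D.t * e) * p⁻¹ := by rw [H.te]; group
        _ = (D.t * p) * e * p⁻¹ := by rw [D.t_P p hp]; group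
        _ = _ := by group
    have h2 : y * y' = (p * e * p⁻¹) * D.t := by
      calc y * y' = (y * D.t * y⁻¹) * (y * y) * D.t⁻¹ := by rw [hy']; group
        _ = (p * e * p⁻¹) * D.t := by rw [hsw, hy2, hti, mul_one]
    rw [h2]
    calc (p * e * p⁻¹) * D.t * ((p * e * p⁻¹) * D.t)
        = (p * e * p⁻¹) * (D.t * (p * e * p⁻¹)) * D.t := by group
      _ = (p * e * p⁻¹) * ((p * e * p⁻¹) * D.t) * D.t := by rw [h1]
      _ = p * (e * e) * p⁻¹ * (D.t * D.t) := by group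
      _ = 1 := by rw [H.ee, D.t_sq]; group
  have hcomm : y' * y = y * y' := by
    have : (y * y')⁻¹ = y * y' := by rw [inv_eq_iff_mul_eq_one, hinv]
    rw [← this, _root_.mul_inv_rev, hyi, hy'i]
  have hns : ∀ (g : G) {c : K}, bar n c = c → g * (y * y') * g⁻¹ ≠ D.z c := by
    intro g c hc
    rw [hyy]
    exact not_s H huU (by rw [← hyy]; exact hinv) g hc
  -- conjugate
  have hX : IsPGroup 2 (zpowers y') := by
    intro x
    obtain ⟨x, hx⟩ := x
    obtain ⟨i, rfl⟩ := mem_zpowers_iff.mp hx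
    refine ⟨1, Subtype.ext ?_⟩
    show (y' ^ i) ^ 2 ^ 1 = 1
    rw [← zpow_natCast, ← zpow_mul, mul_comm, zpow_mul, zpow_natCast, pow_one, pow_two, hy'2,
      one_zpow]
  obtain ⟨g, hgE, h1, h2⟩ := exists_conj_into S E H.E_normal hzS hh hz hX
    (by rw [zpowers_le]; exact hy'E) (by
      intro x hx
      obtain ⟨i, rfl⟩ := mem_zpowers_iff.mp hx
      exact (Commute.zpow_left (show Commute y' y from hcomm) i).eq)
  set w := g * y' * g⁻¹ with hw
  have hwS : w ∈ S := h2 _ (mem_zpowers _)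
  have hwE : w ∈ E := H.E_normal.conj_mem _ hy'E g
  have hw2 : w * w = 1 := by
    calc w * w = g * (y' * y') * g⁻¹ := by rw [hw]; group
      _ = 1 := by rw [hy'2]; group
  -- `w` is fused to `z b`
  set g1 := (D.t * h * D.t⁻¹) * g⁻¹ with hg1
  have hg1E : g1 ∈ E := mul_mem (H.E_normal.conj_mem _ hh D.t) (inv_mem hgE)
  have hwz : g1 * w * g1⁻¹ = D.z b := by
    calc g1 * w * g1⁻¹ = D.t * (h * y * h⁻¹) * D.t⁻¹ := by rw [hg1, hw, hy']; group
      _ = D.z b := by rw [hz, hzS _ H.tS, mul_inv_cancel_right]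
  have hzw : D.z b * w = g * (y * y') * g⁻¹ := by rw [← h1, hw]; group
  rcases cases_T H hwS hwE with h3 | ⟨v, hv, h3⟩ | ⟨p', hp', h3⟩
  · by_cases h4 : w ∈ Card.Z D
    · obtain ⟨c, hc, h5⟩ := h4
      rw [h5, ← D.z_add] at hzw
      exact hns g (fixed_add hb hc) hzw.symm
    · exact not_U H h3 h4 hg1E hb hwz
  · refine not_s H hv (by rw [← h3]; exact hw2) g1 hb ?_
    rw [← h3]; exact hwz
  · obtain ⟨v, hv, h4⟩ := swap_z H hwS hw2 hp' h3 hb
    rw [hzS w hwS, hzw] at h4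
    -- `v⁻¹ w v = g (y y') g⁻¹`
    refine hns (g1 * v * g) hb ?_
    calc g1 * v * g * (y * y') * (g1 * v * g)⁻¹ = g1 * v * (g * (y * y') * g⁻¹) * v⁻¹ * g1⁻¹ := by
          group
      _ = g1 * v * (v⁻¹ * w * v) * v⁻¹ * g1⁻¹ := by rw [h4]
      _ = g1 * w * g1⁻¹ := by group
      _ = D.z b := hwz

/-- **`Z` is strongly closed in `S ∩ E` with respect to `E`.** -/
theorem closed {x : G} (hx : x ∈ Card.Z D) {g : G} (hg : g ∈ E) (hS : g * x * g⁻¹ ∈ S) :
    g * x * g⁻¹ ∈ Card.Z D := by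
  obtain ⟨b, hb, rfl⟩ := hx
  by_contra hcon
  have hE : g * D.z b * g⁻¹ ∈ E := H.E_normal.conj_mem _ (H.U_E (z_mem_U H)) g
  have h2 : (g * D.z b * g⁻¹) * (g * D.z b * g⁻¹) = 1 := by
    calc (g * D.z b * g⁻¹) * (g * D.z b * g⁻¹) = g * (D.z b * D.z b) * g⁻¹ := by group
      _ = 1 := by rw [z_self]; group
  have hback : g⁻¹ * (g * D.z b * g⁻¹) * g⁻¹⁻¹ = D.z b := by group
  rcases cases_T H hS hE with h3 | ⟨v, hv, h3⟩ | ⟨p', hp', h3⟩
  · exact not_U H h3 hcon (inv_mem hg) hb hback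
  · refine not_s H hv (by rw [← h3]; exact h2) g⁻¹ hb ?_
    rw [← h3]; exact hback
  · exact not_swap H hS hE h2 hp' h3 (inv_mem hg) hb hback

end Cfsg.Agent.StdU3.GOneL
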