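import Mathlib

/-!
# Extension of stable homomorphisms from a Sylow 2-subgroup
-/

set_option autoImplicit false
set_option linter.unusedSectionVars false
set_option linter.dupNamespace false

namespace Cfsg.Agent.StdU3.StableExt

open Subgroup MulAction

theorem transfer_eq_pow_of_stable {C : Type*} [Group C] [Finite C] (Q : Subgroup C) {M : Type*}
    [CommGroup M] (θ : Q →* M)
    (hst : ∀ (x : Q) (c : C) (h : c * x * c⁻¹ ∈ Q), θ ⟨c * x * c⁻¹, h⟩ = θ x) (x : Q) :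
    MonoidHom.transfer θ (x : C) = θ x ^ Q.index := by
  classical
  let _ := Q.fintypeQuotientOfFiniteIndex
  rw [MonoidHom.transfer_eq_prod_quotient_orbitRel_zpowers_quot]
  rw [index_eq_sum_minimalPeriod Q (x : C), ← Finset.prod_pow_eq_pow_sum]
  apply Finset.prod_congr rfl
  intro q _
  have h1 := QuotientGroup.out_conj_pow_minimalPeriod_mem Q (x : C) q.out
  have h2 : θ ⟨q.out.out⁻¹ * (x : C) ^ Function.minimalPeriod ((x : C) • ·) q.out * q.out.out, h1⟩ =
      θ (x ^ Function.minimalPeriod ((x : C) • ·) q.out) := by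
    have h3 := hst (x ^ Function.minimalPeriod ((x : C) • ·) q.out) (q.out.out)⁻¹ (by
      rw [inv_inv]; exact h1)
    rw [← h3]
    congr 1
    apply Subtype.ext
    show _ = q.out.out⁻¹ * ((x ^ _ : Q) : C) * q.out.out⁻¹⁻¹
    rw [inv_inv]
    rfl
  rw [h2, map_pow]

/-- stable homomorphisms extend. -/
theorem exists_ext {C : Type*} [Group C] [Finite C] (Q : Subgroup C) (hQ2 : IsPGroup 2 Q)
    (hidx : Odd Q.index) {M : Type*} [CommGroup M] (θ : Q →* M)
    (hst : ∀ (x : Q) (c : C) (h : c * x * c⁻¹ ∈ Q), θ ⟨c * x * c⁻¹, h⟩ = θ x) :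
    ∃ χ : C →* M, ∀ x : Q, χ (x : C) = θ x := by
  classical
  have : Fact (Nat.Prime 2) := ⟨Nat.prime_two⟩
  obtain ⟨a, ha⟩ := IsPGroup.iff_card.mp hQ2
  have hcop : Nat.Coprime Q.index (2 ^ a) := (Nat.coprime_two_right.mpr hidx).pow_right a
  obtain ⟨N, hN⟩ : ∃ N : ℕ, Q.index * N ≡ 1 [MOD 2 ^ a] := by
    obtain ⟨N, h1, h2⟩ := Nat.chineseRemainder hcop 0 1
    obtain ⟨j, hj⟩ := (Nat.modEq_zero_iff_dvd).mp h1
    exact ⟨j, by rw [← hj]; exact h2⟩
  refine ⟨(powMonoidHom N).comp (MonoidHom.transfer θ), ?_⟩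
  intro x
  show (MonoidHom.transfer θ (x : C)) ^ N = θ x
  rw [transfer_eq_pow_of_stable Q θ hst, ← pow_mul]
  have h1 : orderOf (θ x) ∣ 2 ^ a := by
    apply orderOf_dvd_of_pow_eq_one
    rw [← map_pow, ← ha]
    have h2 : x ^ Nat.card Q = 1 := pow_card_eq_one'
    rw [h2, map_one]
  have h2 := pow_eq_pow_iff_modEq.mpr (Nat.ModEq.of_dvd h1 hN)
  rw [h2, pow_one]

end Cfsg.Agent.StdU3.StableExt
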