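import Cfsg.Agent.StdU3.FusC
import Cfsg.Agent.StdU3.StableExt

/-!
# Twisted transfer for `C_G(t)`, `t ∈ E` allowed

`E` perfect normal, `S` of odd index, every conjugate of `t` in `S` is conjugate to `t`
under `S ∩ E`.  A homomorphism `ψ` from `S ∩ E` to a commutative group, inverted by `t` and trivial
on `P`, is trivial on `Sg ∩ E`.
-/

set_option autoImplicit false
set_option linter.unusedSectionVars false
set_option linter.dupNamespace false

namespace Cfsg.Agent.StdU3.PsiTwo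

open Subgroup Cfsg.Agent.StdU3.Field Cfsg.Agent.StdU3.PreDef Cfsg.Agent.StdU3.FldDef
open Cfsg.Agent.StdU3.LevelOne Cfsg.Agent.StdU3.FieldAut Cfsg.Agent.StdU3.Rank
open Cfsg.Agent.StdU3.OutInv Cfsg.Agent.StdU3.LemC Cfsg.Agent.StdU3.EndN
open Cfsg.Agent.StdU3.NormQ hiding barE

variable {G : Type*} [Group G] [Finite G] {K : Type*} [Field K] [Fintype K] [CharP K 2] {n : ℕ}
variable {D : Pre G K n} (F : Fld D)

theorem psi_eq_one {E : Subgroup G} [hEn : E.Normal] (hE : commutator E = ⊤) {S : Subgroup G} (hSi : Odd S.index) (htS : D.t ∈ S) (hSgS : F.Sg ≤ S)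
    (hSc : ∀ x ∈ S, x ∈ E → x * D.t = D.t * x → x ∈ F.Sg)
    (hfus : ∀ y, y * D.t * y⁻¹ ∈ S → ∃ u ∈ S, u ∈ E ∧ u * D.t * u⁻¹ = y * D.t * y⁻¹)
    {M : Type*} [CommGroup M] (ψ : S.subgroupOf E →* M)
    (hpair : ∀ x y : S.subgroupOf E, ((y : E) : G) = D.t * (x : E) * D.t⁻¹ → ψ x * ψ y = 1)
    (hP : ∀ x : S.subgroupOf E, ((x : E) : G) ∈ D.P → ψ x = 1)
    {x : S.subgroupOf E} (hx : ((x : E) : G) ∈ F.Sg) : ψ x = 1 := by
  classical
  let τ : E ≃* E := MulAut.conjNormal D.t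
  have hτ' : ∀ x : E, ((τ x : E) : G) = D.t * x * D.t⁻¹ := fun x => rfl
  have hτ : ∀ x, τ (τ x) = x := by
    intro x
    apply Subtype.ext
    rw [hτ', hτ']
    have : D.t * (D.t * (x : G) * D.t⁻¹) * D.t⁻¹ = (D.t * D.t) * x * (D.t * D.t)⁻¹ := by group
    rw [this, D.t_sq]; group
  let H : Subgroup E := S.subgroupOf E
  have hHS : ∀ x : E, x ∈ H ↔ (x : G) ∈ S := fun x => Iff.rfl
  have hH : ∀ x ∈ H, τ x ∈ H := by
    intro x hx
    rw [hHS] at hx ⊢
    rw [hτ']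
    exact mul_mem (mul_mem htS hx) (inv_mem htS)
  have hidx : Odd H.index := TransferTE.odd_index_subgroupOf E S hSi
  have hrep : ∀ x, x⁻¹ * τ x ∈ H → ∃ h ∈ H, τ (x * h) = x * h := by
    intro x hx
    rw [hHS] at hx
    have h1 : (x : G)⁻¹ * D.t * x ∈ S := by
      have h2 := mul_mem hx htS
      have e : ((x⁻¹ * τ x : E) : G) * D.t = (x : G)⁻¹ * D.t * x := by
        show (x : G)⁻¹ * (D.t * x * D.t⁻¹) * D.t = _
        group
      rwa [e] at h2
    have e0 : (x : G)⁻¹ * D.t * (x : G)⁻¹⁻¹ = (x : G)⁻¹ * D.t * x := by group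
    obtain ⟨u, huS, huE, h2⟩ := hfus (x : G)⁻¹ (by rw [e0]; exact h1)
    rw [e0] at h2
    refine ⟨⟨u, huE⟩, huS, ?_⟩
    apply Subtype.ext
    rw [hτ']
    show D.t * ((x : G) * u) * D.t⁻¹ = x * u
    have e : D.t * ((x : G) * u) * D.t⁻¹ = x * ((x : G)⁻¹ * D.t * x) * u * D.t⁻¹ := by group
    rw [e, ← h2]; group
  let C : Subgroup E := fix D E
  have hC : ∀ x, x ∈ C ↔ τ x = x := by
    intro x
    rw [Subtype.ext_iff, hτ']
    show (x : G) * D.t = D.t * x ↔ _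
    rw [mul_inv_eq_iff_eq_mul]
    exact eq_comm
  have hmemH : ∀ {x : G} (hxE : x ∈ E), x ∈ F.Sg → (⟨x, hxE⟩ : E) ∈ H := fun hxE h => hSgS h
  -- `Q = Sg ∩ E` as a subgroup of `C = C_E(t)`
  let Q : Subgroup C := (F.Sg.subgroupOf E).subgroupOf C
  have hQ : ∀ x : C, x ∈ Q ↔ ((x : E) : G) ∈ F.Sg := fun x => Iff.rfl
  have hQ2 : IsPGroup 2 Q := by
    rintro ⟨x, hx⟩
    obtain ⟨k, hk⟩ := F.Sg_two ⟨((x : E) : G), hx⟩
    have hk' : ((x : E) : G) ^ 2 ^ k = 1 := congrArg Subtype.val hk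
    have h1 : x ^ 2 ^ k = 1 := Subtype.ext (Subtype.ext hk')
    exact ⟨k, Subtype.ext h1⟩
  have hQidx : Odd Q.index := by
    have : Fact (Nat.Prime 2) := ⟨Nat.prime_two⟩
    obtain ⟨P0, hP0⟩ := hQ2.exists_le_sylow
    let j : C →* G := E.subtype.comp C.subtype
    have hj : Function.Injective j := E.subtype_injective.comp C.subtype_injective
    have h1 : IsPGroup 2 ((P0 : Subgroup C).map j) := P0.isPGroup'.map _
    obtain ⟨g, hg, h2⟩ := F.Sg_conj _ h1 (by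
      rintro _ ⟨x, hx, rfl⟩
      exact x.2)
    have h3 : ((P0 : Subgroup C).map j).map (MulAut.conj g⁻¹).toMonoidHom ≤ Q.map j := by
      rintro _ ⟨_, ⟨x, hx, rfl⟩, rfl⟩
      have h4 : g⁻¹ * j x * g ∈ F.Sg := h2 _ ⟨x, hx, rfl⟩
      have h5 : g⁻¹ * j x * g ∈ E := by
        have := hEn.conj_mem (j x) (x : E).2 g⁻¹
        rwa [inv_inv] at this
      have h6 : (⟨g⁻¹ * j x * g, h5⟩ : E) ∈ C := F.Sg_t _ h4
      refine ⟨⟨⟨g⁻¹ * j x * g, h5⟩, h6⟩, h4, ?_⟩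
      show g⁻¹ * j x * g = g⁻¹ * j x * g⁻¹⁻¹
      rw [inv_inv]
    have h4 := Subgroup.card_le_of_le h3
    rw [Subgroup.card_map_of_injective (MulAut.conj g⁻¹).injective,
      Subgroup.card_map_of_injective hj, Subgroup.card_map_of_injective hj] at h4
    have h5 : Q = (P0 : Subgroup C) := Subgroup.eq_of_le_of_card_ge hP0 h4
    rw [h5]
    have h6 := P0.not_dvd_index
    rwa [← even_iff_two_dvd, Nat.not_even_iff_odd] at h6
  let θ : Q →* M :=
    { toFun := fun x => ψ ⟨((x : C) : E), hmemH ((x : C) : E).2 x.2⟩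
      map_one' := map_one ψ
      map_mul' := fun x y => map_mul ψ ⟨((x : C) : E), hmemH ((x : C) : E).2 x.2⟩
        ⟨((y : C) : E), hmemH ((y : C) : E).2 y.2⟩ }
  obtain ⟨χ, hχ0⟩ := StableExt.exists_ext Q hQ2 hQidx θ (by
    intro x c h
    have hx : (((x : C) : E) : G) ∈ F.Sg := x.2
    have hc : ((c : E) : G) * D.t = D.t * ((c : E) : G) := c.2
    have h' : ((c : E) : G) * (((x : C) : E) : G) * ((c : E) : G)⁻¹ ∈ F.Sg := h
    have h1 := FusC.fusC F F.Sg_norm hx hc h'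
    have h2 : θ (⟨c * x * c⁻¹, h⟩ * x⁻¹) = 1 := hP _ h1
    rw [map_mul, map_inv, mul_inv_eq_one] at h2
    exact h2)
  have hχ : ∀ y (hy : y ∈ C) (hyH : y ∈ H), χ ⟨y, hy⟩ = ψ ⟨y, hyH⟩ := by
    intro y hy hyH
    have hyS : (y : G) ∈ F.Sg := hSc _ hyH y.2 hy
    exact hχ0 ⟨⟨y, hy⟩, hyS⟩
  obtain ⟨m, hm, hmC⟩ := TwistedTransfer.transfer_eq_pow τ hτ H hH hidx hrep ψ
    (fun x hx => hpair ⟨x, hx⟩ ⟨τ x, hH x hx⟩ (hτ' x)) C hC χ hχ
  have htr : ∀ x, MonoidHom.transfer ψ x = 1 := by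
    intro x
    have h1 : commutator E ≤ (MonoidHom.transfer ψ).ker := by
      rw [_root_.commutator_def, Subgroup.commutator_le]
      intro a _ b _
      rw [MonoidHom.mem_ker, map_commutatorElement, commutatorElement_eq_one_iff_mul_comm]
      exact mul_comm _ _
    rw [hE] at h1
    exact h1 (Subgroup.mem_top x)
  have hxC : (x : E) ∈ C := F.Sg_t _ hx
  have h1 := hmC (x : E) hxC
  have h2 : ψ x ^ m = 1 := by
    have h3 : MonoidHom.transfer ψ (x : E) = 1 := htr _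
    rw [h3, hχ _ hxC x.2] at h1
    exact h1.symm
  obtain ⟨k, hk⟩ := F.Sg_two ⟨_, hx⟩
  have hk' : ((x : E) : G) ^ 2 ^ k = 1 := congrArg Subtype.val hk
  have hxk : x ^ 2 ^ k = 1 := Subtype.ext (Subtype.ext hk')
  have h3 : ψ x ^ 2 ^ k = 1 := by rw [← map_pow, hxk, map_one]
  have h4 : orderOf (ψ x) ∣ Nat.gcd m (2 ^ k) :=
    Nat.dvd_gcd (orderOf_dvd_of_pow_eq_one h2) (orderOf_dvd_of_pow_eq_one h3)
  have h5 : Nat.Coprime m (2 ^ k) := (Nat.coprime_two_right.mpr hm).pow_right k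
  rw [h5.gcd_eq_one, Nat.dvd_one, orderOf_eq_one_iff] at h4
  exact h4

/-- **squares**: elements of `Sg ∩ E` are in every subgroup of `S` containing `P` and the squares
of `S`. -/
theorem mem_of_sq {E : Subgroup G} [hEn : E.Normal] (hE : commutator E = ⊤) {S : Subgroup G} (hSi : Odd S.index) (htS : D.t ∈ S) (hSgS : F.Sg ≤ S)
    (hSc : ∀ x ∈ S, x ∈ E → x * D.t = D.t * x → x ∈ F.Sg)
    (hfus : ∀ y, y * D.t * y⁻¹ ∈ S → ∃ u ∈ S, u ∈ E ∧ u * D.t * u⁻¹ = y * D.t * y⁻¹)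
    {N : Subgroup G} (hPN : D.P ≤ N) (hsq : ∀ x ∈ S, x * x ∈ N) (hNS : N ≤ S)
    {x : G} (hx : x ∈ F.Sg) (hxE : x ∈ E) : x ∈ N := by
  classical
  let N' : Subgroup S := N.subgroupOf S
  have hN'n : N'.Normal := by
    refine ⟨fun m hm g => ?_⟩
    have hm' : (m : G) ∈ N := hm
    show (g : G) * m * (g : G)⁻¹ ∈ N
    have h1 := hsq _ (mul_mem g.2 (hNS hm'))
    have h2 := hsq _ g.2
    have e : (g : G) * m * (g : G)⁻¹ = ((g : G) * m * (g * m)) * (m : G)⁻¹ * ((g : G) * g)⁻¹ := by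
      group
    rw [e]
    exact mul_mem (mul_mem h1 (inv_mem hm')) (inv_mem h2)
  have hsq' : ∀ q : S ⧸ N', q * q = 1 := by
    intro q
    induction q using QuotientGroup.induction_on with
    | H z =>
      rw [← QuotientGroup.mk_mul, QuotientGroup.eq_one_iff]
      exact hsq z z.2
  let _ : CommGroup (S ⧸ N') :=
    { (inferInstance : Group (S ⧸ N')) with
      mul_comm := by
        intro a b
        have hi : ∀ q : S ⧸ N', q⁻¹ = q := fun q => inv_eq_of_mul_eq_one_left (hsq' q)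
        have h1 := hi (a * b)
        rw [mul_inv_rev, hi a, hi b] at h1
        exact h1.symm }
  let ι : S.subgroupOf E →* S :=
    { toFun := fun y => ⟨((y : E) : G), y.2⟩
      map_one' := rfl
      map_mul' := fun _ _ => rfl }
  let ψ : S.subgroupOf E →* S ⧸ N' := (QuotientGroup.mk' N').comp ι
  have h := psi_eq_one F hE hSi htS hSgS hSc hfus ψ
    (by
      intro a b hab
      show QuotientGroup.mk' N' (ι a) * QuotientGroup.mk' N' (ι b) = 1
      have e : ι b = ⟨D.t, htS⟩ * ι a * ⟨D.t, htS⟩⁻¹ := Subtype.ext hab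
      rw [e, map_mul, map_mul, map_inv, mul_comm (QuotientGroup.mk' N' ⟨D.t, htS⟩),
        mul_assoc (QuotientGroup.mk' N' (ι a)), mul_inv_cancel, mul_one]
      exact hsq' _)
    (by
      intro y hy
      show QuotientGroup.mk' N' (ι y) = 1
      rw [← MonoidHom.mem_ker, QuotientGroup.ker_mk']
      exact hPN hy)
    (x := ⟨⟨x, hxE⟩, hSgS hx⟩) hx
  have h' : QuotientGroup.mk' N' (ι ⟨⟨x, hxE⟩, hSgS hx⟩) = 1 := h
  rw [← MonoidHom.mem_ker, QuotientGroup.ker_mk'] at h'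
  exact h'

end Cfsg.Agent.StdU3.PsiTwo
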