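import Cfsg.Agent.StdU3.GOneSyl
import Cfsg.Agent.StdU3.GOneEnd
import Cfsg.Agent.StdU3.PsiTwo
import Cfsg.Agent.StdU3.MainDef

/-!
# Type `g1`: the instance of `GOne`

If `[P, P_e] = 1` the configuration of `GOneSyl` is an instance of `GOneDef.GOne`, which is
impossible.
-/

set_option autoImplicit false
set_option linter.unusedSectionVars false
set_option linter.dupNamespace false

namespace Cfsg.Agent.StdU3.GOneMkA

open Subgroup Cfsg.Agent.StdU3.Field Cfsg.Agent.StdU3.PreDef Cfsg.Agent.StdU3.FldDef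
open Cfsg.Agent.StdU3.LevelOne Cfsg.Agent.StdU3.FieldAut Cfsg.Agent.StdU3.Rank
open Cfsg.Agent.StdU3.OutInv Cfsg.Agent.StdU3.TermDef Cfsg.Agent.StdU3.LemC
open Cfsg.Agent.StdU3.Swap Cfsg.Agent.StdU3.EndN Cfsg.Agent.StdU3.GOneSyl
open Cfsg.Agent.StdU3.NormQ hiding barE

/-! ### Field automorphisms -/

section field

variable {K : Type*} [Field K] [Fintype K] [CharP K 2] {n : ℕ}

theorem two_mul_le (m : ℕ) : 2 * m ≤ 2 ^ m := by
  rcases m with _ | m
  · norm_num
  · induction m with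
    | zero => norm_num
    | succ m ih =>
      have h1 : 2 ^ (m + 1 + 1) = 2 * 2 ^ (m + 1) := by ring
      have h2 : 2 ≤ 2 ^ (m + 1) := by
        calc 2 = 2 ^ 1 := by norm_num
          _ ≤ 2 ^ (m + 1) := Nat.pow_le_pow_right (by norm_num) (by omega)
      omega

theorem card_aut_le (hq : Qd K n) : Nat.card (K ≃+* K) ≤ 2 ^ n := by
  have : Fact (Nat.Prime 2) := ⟨Nat.prime_two⟩
  let _ : Algebra (ZMod 2) K := ZMod.algebra K 2
  have hinj : Function.Injective (toGal (F := K) 2) := by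
    intro a b h
    ext x
    exact congrArg (fun f : K ≃ₐ[ZMod 2] K => f x) h
  have h1 := Nat.card_le_card_of_injective _ hinj
  have h2 : Nat.card (K ≃ₐ[ZMod 2] K) = Module.finrank (ZMod 2) K := IsGalois.card_aut_eq_finrank _ _
  have h3 : Fintype.card K = 2 ^ Module.finrank (ZMod 2) K := by
    rw [Module.card_eq_pow_finrank (K := ZMod 2) (V := K), ZMod.card]
  rw [hq.hK] at h3
  have h5 : Module.finrank (ZMod 2) K = 2 * n := by
    have h6 : (2 : ℕ) ^ (2 * n) = 2 ^ Module.finrank (ZMod 2) K := by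
      rw [← h3, ← pow_mul, mul_comm]
    exact (Nat.pow_right_injective (le_refl 2) h6).symm
  rw [h2, h5] at h1
  exact h1.trans (two_mul_le n)

/-- an automorphism fixing `F_q` is `1` or `bar`. -/
theorem eq_bar_of_fix (hq : Qd K n) {τ : K ≃+* K} (h : ∀ b, bar n b = b → τ b = b) (h1 : τ ≠ 1) :
    τ = barE hq := by
  apply eq_bar hq _ h1
  ext x
  show τ (τ x) = x
  have hb : ∀ x, τ (bar n x) = bar n (τ x) := by
    intro x
    rw [bar_def, bar_def, map_pow]
  have h2 : (τ x + x) * (τ x + bar n x) = 0 := by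
    have h3 := h _ (fixed_Tr hq x)
    have h4 := h _ (fixed_N hq x)
    have h5 : τ x + bar n (τ x) = x + bar n x := by
      have : τ (Tr n x) = τ x + bar n (τ x) := by rw [Tr_def, map_add, hb]
      rw [← this, h3, Tr_def]
    have h6 : τ x * bar n (τ x) = x * bar n x := by
      have : τ (N n x) = τ x * bar n (τ x) := by rw [N_def, map_mul, hb]
      rw [← this, h4, N_def]
    have h7 : bar n (τ x) = τ x + (x + bar n x) := by
      rw [← h5, ← add_assoc, Field.add_self, zero_add]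
    rw [h7] at h6
    calc (τ x + x) * (τ x + bar n x) = τ x * (τ x + (x + bar n x)) + x * bar n x := by ring
      _ = 0 := by rw [h6, Field.add_self]
  rcases mul_eq_zero.mp h2 with h3 | h3
  · have h4 := Field.add_eq_zero.mp h3
    rw [h4, h4]
  · have h4 := Field.add_eq_zero.mp h3
    rw [h4, hb, h4, bar_bar hq]

end field

variable {G : Type*} [Group G] [Finite G] {K : Type*} [Field K] [Fintype K] [CharP K 2] {n : ℕ}
variable {D : Pre G K n}

theorem card_Sg (F : Fld D) : Nat.card F.Sg ≤ 2 * 2 ^ n * (2 ^ n) ^ 3 := by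
  have h1 := card_le_mul F (B := F.Sg) le_rfl
  have h2 := card_ker F (B := F.Sg) le_rfl
  have h3 := card_aut_le D.hq
  have h4 : Nat.card (F.Sg ⊓ D.P : Subgroup G) ≤ (2 ^ n) ^ 3 := by
    rw [← Card.card_P D]
    exact Subgroup.card_le_of_le inf_le_right
  calc Nat.card F.Sg ≤ Nat.card (K ≃+* K) * Nat.card (ker F F.Sg (Sg_sub F le_rfl)) := h1
    _ ≤ 2 ^ n * (2 * (2 ^ n) ^ 3) := Nat.mul_le_mul h3 (h2.trans (Nat.mul_le_mul_left 2 h4))
    _ = _ := by ring

variable {F : Fld D} {T : Term D} {e y : G} (H : G1 F T e y)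

include H in
/-- `C_S(t) = Sg` -/
theorem comm_S {S : Subgroup G} (hS : G1.Syl H S) {x : G} (hx : x ∈ S)
    (hxt : x * D.t = D.t * x) : x ∈ F.Sg := by
  have h1 : x ∈ S2 F T H.hU := hS.fix x hx 1 (one_mem _) (by rw [hxt]; group)
  exact comm_S2 F T H.hU h1 hxt

include H in
/-- `M0` normalizes `Z`. -/
theorem M0_Z {g : G} (hg : g ∈ G1.M0 T e) {x : G} (hx : x ∈ Card.Z D) :
    g * x * g⁻¹ ∈ Card.Z D := by
  -- elements commuting with `t`
  have hc : ∀ c ∈ G1.M0 T e, c * D.t = D.t * c → ∀ x ∈ Card.Z D, c * x * c⁻¹ ∈ Card.Z D := by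
    rintro c hc hct _ ⟨b, hb, rfl⟩
    have hP : ∀ p ∈ D.P, c * p * c⁻¹ ∈ D.P := by
      intro p hp
      apply T.comm_t _ (G1.M0_U hc (T.P_le hp))
      exact comm_mul (comm_mul hct (P_t hp)) (comm_inv hct)
    obtain ⟨k, -, -, h2⟩ := ch_ca F hct hP
    rw [h2 b hb]
    exact Card.z_mem_Z D _
  have hu : ∀ u ∈ T.U, ∀ x ∈ Card.Z D, u * x * u⁻¹ = x := by
    rintro u hu _ ⟨b, hb, rfl⟩
    rw [H.z_cen hu b]; group
  rcases H.M0_t hg with ⟨u, hu', h⟩ | ⟨u, hu', h⟩
  · have h1 : (u⁻¹ * g) * D.t = D.t * (u⁻¹ * g) := by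
      have e1 : u⁻¹ * g * D.t = u⁻¹ * (g * D.t * g⁻¹) * g := by group
      rw [e1, ← h]; group
    have h2 := hc _ (mul_mem (inv_mem (G1.U_le_M0 hu')) hg) h1 x hx
    have h3 := hu u hu' _ h2
    have e1 : u * (u⁻¹ * g * x * (u⁻¹ * g)⁻¹) * u⁻¹ = g * x * g⁻¹ := by group
    rw [← e1, h3]; exact h2
  · have h1 : (y⁻¹ * u⁻¹ * g) * D.t = D.t * (y⁻¹ * u⁻¹ * g) := by
      have e1 : y⁻¹ * u⁻¹ * g * D.t = y⁻¹ * u⁻¹ * (g * D.t * g⁻¹) * g := by group
      rw [e1, ← h, ← H.hy.te]; group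
    have h2 := hc _ (mul_mem (mul_mem (inv_mem H.y_mem_M0) (inv_mem (G1.U_le_M0 hu'))) hg) h1 x hx
    have h3 : y * ((y⁻¹ * u⁻¹ * g) * x * (y⁻¹ * u⁻¹ * g)⁻¹) * y⁻¹ ∈ Card.Z D := by
      obtain ⟨b, hb, h4⟩ := h2
      rw [h4]
      exact H.hy.z b hb
    have h4 := hu u hu' _ h3
    have e1 : u * (y * ((y⁻¹ * u⁻¹ * g) * x * (y⁻¹ * u⁻¹ * g)⁻¹) * y⁻¹) * u⁻¹ = g * x * g⁻¹ := by
      group
    rw [← e1, h4]; exact h3

/-- **the instance**. -/
theorem gone {S : Sylow 2 G} (hS : G1.Syl H (S : Subgroup G)) {E : Subgroup G}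
    (hE : MainDef.Glob D.t E) (hUE : T.U ≤ E) (hcard : Nat.card T.U = (2 ^ n) ^ 5)
    (hPR : ∀ x ∈ D.P, ∀ r ∈ Pe D y, x * r = r * x) :
    GOneDef.GOne E S T.U D.P (Pe D y) (Card.Z D) D.t e (2 ^ n) where
  q4 := four_le D.hq
  E_normal := hE.normal
  E_gen := hE.gen
  E_perf := hE.perf
  U_le := fun u hu => hS.le (U_le_S2 F T H.hU hu)
  U_norm := fun x hx u hu => G1.M0_U (hS.M0 hx) hu
  U_E := hUE
  cardU := hcard
  Z_norm := fun x hx u hu => M0_Z H (hS.M0 hx) hu
  cardZ := Card.card_Z D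
  P_le := T.P_le
  R_le := H.Pe_le
  inf := fun x hx hx' => H.inf hx hx'
  PR := H.PPe
  PRc := hPR
  hP := H.half
  hR := SwapHalf.half_Pe H.he.toInv H.hy
  tS := hS.le (t_mem_S2 F T H.hU)
  tt := D.t_sq
  tP := fun x hx => (P_t hx).symm
  tU := fun h => U_not_conj F T h 1 (by group)
  eS := hS.le (Sg_le_S2 F T H.hU H.he.mem)
  ee := H.e_sq
  eR := fun x hx => (H.hy.Pe_e hx).symm
  te := H.e_t.symm
  e_conj := H.he.conj
  fus := fun g hg => hS.fus hg
  s_not := fun g hg => H.he.not g (by rw [hg, H.e_t])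
  Xc := fun x hx x' hx' hxt hxt' =>
    FusC.cmt_Sg F F.Sg_norm (comm_S H hS hx hxt) (comm_S H hS hx' hxt')
  Xi := by
    intro x hx hxt hxx
    have hxs := comm_S H hS hx hxt
    have h1 : ∀ x ∈ F.Sg, ch F x = 1 → x ∈ D.P ∨ D.t * x ∈ D.P := by
      intro x hx h
      rw [← F.Sg_t x hx]
      exact ch_ker F hx h
    by_cases hch : ch F x = 1
    · rcases h1 x hxs hch with h | h
      · exact Or.inl h
      · exact Or.inr (Or.inl h)
    · have hb := eq_bar D.hq (by rw [← ch_mul F hxt hxt, ch_P F hxx]) hch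
      rcases h1 (e * x) (mul_mem H.he.mem hxs) (by
        rw [ch_mul F H.he.t hxt, H.he.ch, hb]
        ext b
        show bar n (bar n b) = b
        exact bar_bar D.hq b) with h | h
      · exact Or.inr (Or.inr (Or.inl h))
      · exact Or.inr (Or.inr (Or.inr (by rwa [mul_assoc])))
  Xcyc := by
    obtain ⟨f, hf, h1, -⟩ := exists_f F F.Sg_norm
    refine ⟨f, hS.le (Sg_le_S2 F T H.hU hf), F.Sg_t f hf, ?_⟩
    intro x hx hxt
    have hxs := comm_S H hS hx hxt
    obtain ⟨k, h | h⟩ := h1 x hxs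
    · exact ⟨k, Or.inl h⟩
    · refine ⟨k, Or.inr ?_⟩
      rw [F.Sg_t _ (mul_mem hxs (zpow_mem hf k)), ← mul_assoc] at h
      exact h
  XZ := by
    intro x hx hxt hxZ
    have hxs := comm_S H hS hx hxt
    have h1 : ∀ x ∈ F.Sg, ch F x = 1 → x ∈ D.P ∨ D.t * x ∈ D.P := by
      intro x hx h
      rw [← F.Sg_t x hx]
      exact ch_ker F hx h
    by_cases hch : ch F x = 1
    · rcases h1 x hxs hch with h | h
      · exact Or.inl h
      · exact Or.inr (Or.inl h)
    · have hb : ch F x = barE D.hq := by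
        apply eq_bar_of_fix D.hq _ hch
        intro b hb
        obtain ⟨c, hc, -, h2⟩ := ch_ca F hxt (F.Sg_P x hxs)
        have h3 : ∀ b, bar n b = b → N n c * ch F x b = b := by
          intro b hb
          have h4 := hxZ _ (Card.z_mem_Z D b)
          have h5 := h2 b hb
          rw [h4, mul_inv_cancel_right] at h5
          have h6 : bar n (N n c * ch F x b) = N n c * ch F x b := by
            apply fixed_mul (fixed_N D.hq c)
            rw [bar_def, ← map_pow, ← bar_def, hb]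
          exact (z_eq D hb h6 h5).symm
        have h4 := h3 1 (bar_one n)
        rw [map_one, mul_one] at h4
        have h5 := h3 b hb
        rwa [h4, one_mul] at h5
      rcases h1 (e * x) (mul_mem H.he.mem hxs) (by
        rw [ch_mul F H.he.t hxt, H.he.ch, hb]
        ext b
        show bar n (bar n b) = b
        exact bar_bar D.hq b) with h | h
      · exact Or.inr (Or.inr (Or.inl h))
      · exact Or.inr (Or.inr (Or.inr (by rwa [mul_assoc])))
  Xcard := by
    refine le_trans ?_ (card_Sg F)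
    exact Nat.card_le_card_of_injective (fun x : {x : G // x ∈ S ∧ x * D.t = D.t * x} =>
      (⟨x.1, comm_S H hS x.2.1 x.2.2⟩ : F.Sg)) (fun x x' h =>
        Subtype.ext (congrArg (fun z : F.Sg => (z : G)) h))
  fusC := fun x hx hxt c hc hcx =>
    FusC.fusC F F.Sg_norm (comm_S H hS hx hxt) hc (comm_S H hS hcx
      (comm_mul (comm_mul hc hxt) (comm_inv hc)))
  sq := by
    intro x hx hxE hxt
    have hEn := hE.normal
    have htS : D.t ∈ (S : Subgroup G) := hS.le (t_mem_S2 F T H.hU)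
    have hSi : Odd (S : Subgroup G).index := by
      have : Fact (Nat.Prime 2) := ⟨Nat.prime_two⟩
      have h6 := S.not_dvd_index
      rwa [← even_iff_two_dvd, Nat.not_even_iff_odd] at h6
    refine PsiTwo.mem_of_sq F hE.perf hSi htS
      (fun s hs => hS.le (Sg_le_S2 F T H.hU hs)) (fun x hx _ hxt => comm_S H hS hx hxt) ?_ ?_ ?_ ?_
      (comm_S H hS hx hxt) hxE
    · intro g hg
      obtain ⟨u, hu, h1⟩ := hS.fus hg
      rcases hE.gen u with h2 | h2
      · exact ⟨u, hu, h2, h1.symm⟩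
      · refine ⟨u * D.t, mul_mem hu htS, ?_, ?_⟩
        · have := hEn.conj_mem _ h2 D.t⁻¹
          have e1 : D.t⁻¹ * (D.t * u) * D.t⁻¹⁻¹ = u * D.t := by group
          rwa [e1] at this
        · rw [h1]; group
    · exact fun p hp => le_sup_left (a := T.U) (T.P_le hp)
    · intro x hx
      exact le_sup_right (a := T.U) (subset_closure ⟨x, hx, rfl⟩)
    · rw [sup_le_iff, closure_le]
      refine ⟨fun u hu => hS.le (U_le_S2 F T H.hU hu), ?_⟩
      rintro _ ⟨g, hg, rfl⟩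
      exact mul_mem hg hg

include H in
/-- **the abelian-product case is impossible.** -/
theorem false_of_comm {E : Subgroup G} (hE : MainDef.Glob D.t E) (hUE : T.U ≤ E)
    (hcard : Nat.card T.U = (2 ^ n) ^ 5) (hPR : ∀ x ∈ D.P, ∀ r ∈ Pe D y, x * r = r * x) :
    False := by
  obtain ⟨S, hS⟩ := H.exists_sylow
  exact GOneEnd.false_of_gone (gone H hS hE hUE hcard hPR)

end Cfsg.Agent.StdU3.GOneMkA
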