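import Cfsg.Agent.StdU3.GOneSyl
import Cfsg.Agent.StdU3.AutOdd
import Cfsg.Agent.StdU3.PsiTwo
import Cfsg.Agent.StdU3.MainDef

/-!
# Type `g1`, `n` odd: the Sylow 2-subgroup `S`

`Sg = P ⟨t, e⟩`, `|S| ≤ 8 |U|`, the squares of `S` are in `U ⟨t e⟩`, `t ∉ E`.
-/

set_option autoImplicit false
set_option linter.unusedSectionVars false
set_option linter.dupNamespace false
set_option linter.style.haveILetI false

namespace Cfsg.Agent.StdU3.GOneOdd

open Subgroup Cfsg.Agent.StdU3.Field Cfsg.Agent.StdU3.PreDef Cfsg.Agent.StdU3.FldDef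
open Cfsg.Agent.StdU3.LevelOne Cfsg.Agent.StdU3.FieldAut Cfsg.Agent.StdU3.Rank
open Cfsg.Agent.StdU3.OutInv Cfsg.Agent.StdU3.TermDef Cfsg.Agent.StdU3.LemC
open Cfsg.Agent.StdU3.Swap Cfsg.Agent.StdU3.EndN Cfsg.Agent.StdU3.GOneSyl
open Cfsg.Agent.StdU3.GOneSyl.G1 Cfsg.Agent.StdU3.MainDef
open Cfsg.Agent.StdU3.NormQ hiding barE

variable {G : Type*} [Group G] [Finite G] {K : Type*} [Field K] [Fintype K] [CharP K 2] {n : ℕ}
variable {D : Pre G K n}

/-- `U ⟨s⟩` -/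
def adj (U : Subgroup G) (s : G) (hss : s * s = 1) (hs : ∀ u ∈ U, s * u * s⁻¹ ∈ U) :
    Subgroup G where
  carrier := {x | x ∈ U ∨ x * s ∈ U}
  one_mem' := Or.inl U.one_mem
  mul_mem' := by
    have hi : s⁻¹ = s := by rw [inv_eq_iff_mul_eq_one, hss]
    have key : ∀ u ∈ U, s * u * s ∈ U := by
      intro u hu
      have := hs u hu
      rwa [hi] at this
    rintro x y (hx | hx) (hy | hy)
    · exact Or.inl (mul_mem hx hy)
    · right
      rw [mul_assoc]; exact mul_mem hx hy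
    · right
      have e : x * y * s = (x * s) * (s * y * s) := by
        calc x * y * s = x * (s * s) * y * s := by rw [hss, mul_one]
          _ = _ := by group
      rw [e]; exact mul_mem hx (key y hy)
    · left
      have e : x * y = (x * s) * (s * (y * s) * s) := by
        calc x * y = x * (s * s) * y * (s * s) := by rw [hss, mul_one, mul_one]
          _ = _ := by group
      rw [e]; exact mul_mem hx (key _ hy)
  inv_mem' := by
    have hi : s⁻¹ = s := by rw [inv_eq_iff_mul_eq_one, hss]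
    rintro x (hx | hx)
    · exact Or.inl (inv_mem hx)
    · right
      have h1 := hs _ (inv_mem hx)
      have e : s * (x * s)⁻¹ * s⁻¹ = x⁻¹ * s := by
        calc s * (x * s)⁻¹ * s⁻¹ = (s * s⁻¹) * x⁻¹ * s⁻¹ := by group
          _ = x⁻¹ * s := by rw [mul_inv_cancel, one_mul, hi]
      rwa [e] at h1

theorem mem_adj {U : Subgroup G} {s : G} {hss : s * s = 1} {hs : ∀ u ∈ U, s * u * s⁻¹ ∈ U} {x : G} :
    x ∈ adj U s hss hs ↔ x ∈ U ∨ x * s ∈ U := Iff.rfl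

theorem ch_pow (F : Fld D) {s : G} (hs : s * D.t = D.t * s) (k : ℕ) :
    ch F (s ^ k) = ch F s ^ k := by
  induction k with
  | zero => rw [pow_zero, pow_zero, ch_one]
  | succ k ih =>
    have : s ^ k * D.t = D.t * s ^ k := (Commute.pow_left (show Commute s D.t from hs) k)
    rw [pow_succ, pow_succ, ch_mul F this hs, ih]

theorem ch_Sg (F : Fld D) (hn : Odd n) {s : G} (hs : s ∈ F.Sg) :
    ch F s = 1 ∨ ch F s = barE D.hq := by
  obtain ⟨k, hk⟩ := F.Sg_two ⟨s, hs⟩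
  have hk' : s ^ 2 ^ k = 1 := congrArg Subtype.val hk
  have h1 : ch F s ^ 2 ^ k = 1 := by rw [← ch_pow F (F.Sg_t s hs), hk', ch_one]
  have h2 := AutOdd.sq_eq_one hn D.hq h1
  by_cases h : ch F s = 1
  · exact Or.inl h
  · exact Or.inr (eq_bar D.hq h2 h)

variable {F : Fld D} {T : Term D} {e y : G} (H : G1 F T e y)
include H

theorem te_te : (D.t * e) * (D.t * e) = 1 := by
  calc (D.t * e) * (D.t * e) = D.t * (e * D.t) * e := by group
    _ = (D.t * D.t) * (e * e) := by rw [H.e_t]; group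
    _ = 1 := by rw [D.t_sq, H.e_sq, mul_one]

theorem t_U {u : G} (hu : u ∈ T.U) : D.t * u * D.t⁻¹ ∈ T.U := T.t_conj u hu

theorem e_U {u : G} (hu : u ∈ T.U) : e * u * e⁻¹ ∈ T.U := H.hU e H.he.mem u hu

theorem te_U {u : G} (hu : u ∈ T.U) : (D.t * e) * u * (D.t * e)⁻¹ ∈ T.U := by
  have h1 := T.t_conj _ (e_U H hu)
  have e1 : D.t * (e * u * e⁻¹) * D.t⁻¹ = (D.t * e) * u * (D.t * e)⁻¹ := by group
  rwa [e1] at h1

/-- `N = U ⟨t e⟩` -/
def NN : Subgroup G := adj T.U (D.t * e) (te_te H) (fun _ hu => te_U H hu)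

theorem te_not : D.t * e ∉ T.U := by
  intro h1
  have h2 := U_inf_Sg F T h1 (mul_mem F.t_Sg H.he.mem)
  have h3 := ch_P F h2
  rw [ch_mul F rfl H.he.t, ch_t, one_mul, H.he.ch] at h3
  exact barE_ne_one D.hq h3

theorem t_not_NN : D.t ∉ NN H := by
  rintro (h | h)
  · exact T.t_not h
  · have e1 : D.t * (D.t * e) = e := by rw [← mul_assoc, D.t_sq, one_mul]
    rw [e1] at h
    have h2 := T.comm_t e h H.he.t
    have h3 := ch_P F h2
    rw [H.he.ch] at h3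
    exact barE_ne_one D.hq h3

/-- `Sg = P ⟨t, e⟩` -/
theorem Sg_cases (hn : Odd n) {s : G} (hs : s ∈ F.Sg) :
    s ∈ D.P ∨ s * D.t ∈ D.P ∨ s * e ∈ D.P ∨ s * (D.t * e) ∈ D.P := by
  rcases ch_Sg F hn hs with h | h
  · rcases ch_ker F hs h with h1 | h1
    · exact Or.inl h1
    · exact Or.inr (Or.inl h1)
  · have hse : s * e ∈ F.Sg := mul_mem hs H.he.mem
    have h2 : ch F (s * e) = 1 := by
      rw [ch_mul F (F.Sg_t s hs) H.he.t, h, H.he.ch]
      ext x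
      show bar n (bar n x) = x
      exact bar_bar D.hq x
    rcases ch_ker F hse h2 with h1 | h1
    · exact Or.inr (Or.inr (Or.inl h1))
    · right; right; right
      rwa [← H.e_t, ← mul_assoc]

/-- the four cosets of `U` in `S2 = U Sg` -/
theorem S2_cases (hn : Odd n) {x : G} (hx : x ∈ S2 F T H.hU) :
    x ∈ T.U ∨ x * D.t ∈ T.U ∨ x * e ∈ T.U ∨ x * (D.t * e) ∈ T.U := by
  obtain ⟨u, hu, s, hs, rfl⟩ := hx
  rcases Sg_cases H hn hs with h | h | h | h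
  · exact Or.inl (mul_mem hu (T.P_le h))
  · right; left
    rw [mul_assoc]; exact mul_mem hu (T.P_le h)
  · right; right; left
    rw [mul_assoc]; exact mul_mem hu (T.P_le h)
  · right; right; right
    rw [mul_assoc]; exact mul_mem hu (T.P_le h)

omit [Finite G] H in
theorem conj_mem_of {U : Subgroup G} {s x : G} (hss : s * s = 1) (hs : ∀ u ∈ U, s * u * s⁻¹ ∈ U)
    (h : s * x * s⁻¹ ∈ U) : x ∈ U := by
  have h1 := hs _ h
  have e : s * (s * x * s⁻¹) * s⁻¹ = (s * s) * x * (s * s)⁻¹ := by group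
  rw [e, hss] at h1
  simpa using h1

omit [Finite G] H in
theorem sq_mem {U : Subgroup G} {s x : G} (hss : s * s = 1) (hs : ∀ u ∈ U, s * u * s⁻¹ ∈ U)
    (h : x * s ∈ U) : x * x ∈ U := by
  have hi : s⁻¹ = s := by rw [inv_eq_iff_mul_eq_one, hss]
  have h1 := mul_mem h (hs _ h)
  have e : x * s * (s * (x * s) * s⁻¹) = x * x := by
    rw [hi]
    calc x * s * (s * (x * s) * s) = x * (s * s) * x * (s * s) := by group
      _ = x * x := by rw [hss, mul_one, mul_one]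
  rwa [e] at h1

theorem sq_S2 (hn : Odd n) {x : G} (hx : x ∈ S2 F T H.hU) : x * x ∈ T.U := by
  rcases S2_cases H hn hx with h | h | h | h
  · exact mul_mem h h
  · exact sq_mem D.t_sq T.t_conj h
  · exact sq_mem H.e_sq (fun _ hu => e_U H hu) h
  · exact sq_mem (te_te H) (fun _ hu => te_U H hu) h

variable {H} {S : Subgroup G} (hS : Syl H S)
include hS

theorem tS : D.t ∈ S := hS.le (t_mem_S2 F T H.hU)

theorem eS : e ∈ S := hS.le (Sg_le_S2 F T H.hU H.he.mem)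

theorem US : T.U ≤ S := (U_le_S2 F T H.hU).trans hS.le

theorem S_U {x u : G} (hx : x ∈ S) (hu : u ∈ T.U) : x * u * x⁻¹ ∈ T.U := M0_U (hS.M0 hx) hu

theorem S_U' {x u : G} (hx : x ∈ S) (hu : u ∈ T.U) : x⁻¹ * u * x ∈ T.U := M0_U' (hS.M0 hx) hu

/-- the elements of `S` outside `U Sg` swap the classes -/
theorem swap {x : G} (hx : x ∈ S) (hx2 : x ∉ S2 F T H.hU) :
    (∃ u ∈ T.U, x * D.t * x⁻¹ = u * e * u⁻¹) ∧ ∃ v ∈ T.U, x * e * x⁻¹ = v * D.t * v⁻¹ := by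
  obtain ⟨u, hu, h1⟩ : ∃ u ∈ T.U, x * D.t * x⁻¹ = u * e * u⁻¹ := by
    rcases hS.cl x (mul_mem (mul_mem hx (tS hS)) (inv_mem hx)) with ⟨u, hu, h⟩ | ⟨u, hu, h⟩
    · exact absurd (hS.fix x hx u hu h.symm) hx2
    · exact ⟨u, hu, h.symm⟩
  refine ⟨⟨u, hu, h1⟩, ?_⟩
  obtain ⟨y1, hy1, h2⟩ := hS.y1
  have e1 : x * y1 * D.t * (x * y1)⁻¹ = x * e * x⁻¹ := by rw [← h2]; group
  have hmem : x * y1 * D.t * (x * y1)⁻¹ ∈ S := by
    rw [e1]; exact mul_mem (mul_mem hx (eS hS)) (inv_mem hx)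
  rcases hS.cl (x * y1) hmem with ⟨v, hv, h⟩ | ⟨v, hv, h⟩
  · exact ⟨v, hv, by rw [← e1, h]⟩
  · exfalso
    rw [e1] at h
    have hw : x⁻¹ * (u * v⁻¹) * x ∈ T.U := S_U' hS hx (mul_mem hu (inv_mem hv))
    apply H.not_conj (inv_mem hw)
    have h3 : D.t = (x⁻¹ * (u * v⁻¹) * x) * e * (x⁻¹ * (u * v⁻¹) * x)⁻¹ := by
      calc D.t = x⁻¹ * (x * D.t * x⁻¹) * x := by group
        _ = x⁻¹ * (u * v⁻¹ * (v * e * v⁻¹) * v * u⁻¹) * x := by rw [h1]; group
        _ = _ := by rw [h]; group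
    rw [inv_inv]
    calc (x⁻¹ * (u * v⁻¹) * x)⁻¹ * D.t * (x⁻¹ * (u * v⁻¹) * x) =
        (x⁻¹ * (u * v⁻¹) * x)⁻¹ * ((x⁻¹ * (u * v⁻¹) * x) * e * (x⁻¹ * (u * v⁻¹) * x)⁻¹) *
          (x⁻¹ * (u * v⁻¹) * x) := by rw [← h3]
      _ = e := by group

theorem swap_inv {x x' : G} (hx : x ∈ S) (hx2 : x ∉ S2 F T H.hU) (hx' : x' ∈ S)
    (hx2' : x' ∉ S2 F T H.hU) : x⁻¹ * x' ∈ S2 F T H.hU := by
  obtain ⟨⟨u, hu, h1⟩, -⟩ := swap hS hx hx2
  obtain ⟨⟨v, hv, h2⟩, -⟩ := swap hS hx' hx2'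
  apply hS.fix _ (mul_mem (inv_mem hx) hx') (x⁻¹ * (v * u⁻¹) * x)
    (S_U' hS hx (mul_mem hv (inv_mem hu)))
  calc x⁻¹ * x' * D.t * (x⁻¹ * x')⁻¹ = x⁻¹ * (x' * D.t * x'⁻¹) * x := by group
    _ = x⁻¹ * (v * u⁻¹ * (u * e * u⁻¹) * (v * u⁻¹)⁻¹) * x := by rw [h2]; group
    _ = x⁻¹ * (v * u⁻¹ * (x * D.t * x⁻¹) * (v * u⁻¹)⁻¹) * x := by rw [h1]
    _ = _ := by group

theorem swap_sq {x : G} (hx : x ∈ S) (hx2 : x ∉ S2 F T H.hU) : x * x ∈ S2 F T H.hU := by
  have h : x⁻¹ ∉ S2 F T H.hU := fun h => hx2 (by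
    have := inv_mem h
    rwa [inv_inv] at this)
  have := swap_inv hS (inv_mem hx) h hx hx2
  rwa [inv_inv] at this

/-- the squares of `S` are in `U ⟨t e⟩` -/
theorem sq_S (hn : Odd n) {x : G} (hx : x ∈ S) : x * x ∈ NN H := by
  by_cases hx2 : x ∈ S2 F T H.hU
  · exact Or.inl (sq_S2 H hn hx2)
  obtain ⟨⟨u, hu, h1⟩, v, hv, h2⟩ := swap hS hx hx2
  rcases S2_cases H hn (swap_sq hS hx hx2) with h | h | h | h
  · exact Or.inl h
  · exfalso
    have h3 := S_U hS hx h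
    have e1 : x * (x * x * D.t) * x⁻¹ = (x * x) * (x * D.t * x⁻¹) := by group
    rw [e1, h1] at h3
    have h4 : (x * x * D.t)⁻¹ * (x * x * (u * e * u⁻¹)) ∈ T.U := mul_mem (inv_mem h) h3
    have e2 : (x * x * D.t)⁻¹ * (x * x * (u * e * u⁻¹)) = (D.t⁻¹ * u * D.t⁻¹⁻¹) * (D.t⁻¹ * e) * u⁻¹ := by
      group
    have hti : D.t⁻¹ = D.t := by rw [inv_eq_iff_mul_eq_one, D.t_sq]
    rw [e2, hti] at h4
    have h5 : D.t * e ∈ T.U := by
      have h6 := mul_mem (mul_mem (inv_mem (T.t_conj u hu)) h4) hu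
      have e3 : (D.t * u * D.t⁻¹)⁻¹ * (D.t * u * D.t⁻¹ * (D.t * e) * u⁻¹) * u = D.t * e := by group
      rwa [e3] at h6
    exact te_not H h5
  · exfalso
    have h3 := S_U hS hx h
    have e1 : x * (x * x * e) * x⁻¹ = (x * x) * (x * e * x⁻¹) := by group
    rw [e1, h2] at h3
    have h4 : (x * x * e)⁻¹ * (x * x * (v * D.t * v⁻¹)) ∈ T.U := mul_mem (inv_mem h) h3
    have e2 : (x * x * e)⁻¹ * (x * x * (v * D.t * v⁻¹)) = (e⁻¹ * v * e⁻¹⁻¹) * (e⁻¹ * D.t) * v⁻¹ := by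
      group
    rw [e2, H.e_inv] at h4
    have h5 : D.t * e ∈ T.U := by
      have h6 := mul_mem (mul_mem (inv_mem (e_U H hv)) h4) hv
      have e3 : (e * v * e⁻¹)⁻¹ * (e * v * e⁻¹ * (e * D.t) * v⁻¹) * v = e * D.t := by group
      rwa [e3, H.e_t] at h6
    exact te_not H h5
  · exact Or.inr h

/-- `|S| ≤ 8 |U|` -/
theorem card_S (hn : Odd n) : Nat.card S ≤ 8 * Nat.card T.U := by
  have h1 : Nat.card S ≤ 2 * Nat.card (S2 F T H.hU) :=
    card_le_two (fun x hx hx' y hy hy' => swap_inv hS hx hx' hy hy')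
  have hti : D.t⁻¹ = D.t := by rw [inv_eq_iff_mul_eq_one, D.t_sq]
  have h2 : Nat.card (S2 F T H.hU) ≤ 2 * Nat.card (NN H) := by
    apply card_le_two
    intro x hx hx' y hy hy'
    have key : ∀ x ∈ S2 F T H.hU, x ∉ NN H → x * D.t ∈ T.U ∨ x * e ∈ T.U := by
      intro x hx hx'
      rcases S2_cases H hn hx with h | h | h | h
      · exact absurd (Or.inl h) hx'
      · exact Or.inl h
      · exact Or.inr h
      · exact absurd (Or.inr h) hx'
    rcases key x hx hx' with h | h <;> rcases key y hy hy' with h' | h'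
    · left
      apply conj_mem_of D.t_sq T.t_conj
      have h3 := mul_mem (inv_mem h) h'
      have e1 : (x * D.t)⁻¹ * (y * D.t) = D.t⁻¹ * (x⁻¹ * y) * D.t := by group
      rw [e1] at h3
      rwa [hti] at h3 ⊢
    · right
      apply conj_mem_of D.t_sq T.t_conj
      have h3 := mul_mem (inv_mem h) h'
      have e1 : (x * D.t)⁻¹ * (y * e) = D.t⁻¹ * (x⁻¹ * y) * e := by group
      rw [e1, hti] at h3
      have e2 : D.t * (x⁻¹ * y * (D.t * e)) * D.t⁻¹ = D.t * (x⁻¹ * y) * e := by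
        rw [← H.e_t]; group
      rwa [e2]
    · right
      apply conj_mem_of H.e_sq (fun _ hu => e_U H hu)
      have h3 := mul_mem (inv_mem h) h'
      have e1 : (x * e)⁻¹ * (y * D.t) = e⁻¹ * (x⁻¹ * y) * D.t := by group
      rw [e1, H.e_inv] at h3
      have e2 : e * (x⁻¹ * y * (D.t * e)) * e⁻¹ = e * (x⁻¹ * y) * D.t := by group
      rwa [e2]
    · left
      apply conj_mem_of H.e_sq (fun _ hu => e_U H hu)
      have h3 := mul_mem (inv_mem h) h'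
      have e1 : (x * e)⁻¹ * (y * e) = e⁻¹ * (x⁻¹ * y) * e := by group
      rw [e1] at h3
      rwa [H.e_inv] at h3 ⊢
  have h3 : Nat.card (NN H) ≤ 2 * Nat.card T.U := by
    apply card_le_two
    intro x hx hx' y hy hy'
    have h : x * (D.t * e) ∈ T.U := hx.resolve_left hx'
    have h' : y * (D.t * e) ∈ T.U := hy.resolve_left hy'
    apply conj_mem_of (te_te H) (fun _ hu => te_U H hu)
    have h4 := mul_mem (inv_mem h) h'
    have hi : (D.t * e)⁻¹ = D.t * e := by rw [inv_eq_iff_mul_eq_one, te_te H]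
    have e1 : (x * (D.t * e))⁻¹ * (y * (D.t * e)) = (D.t * e)⁻¹ * (x⁻¹ * y) * (D.t * e) := by group
    rw [e1] at h4
    rwa [hi] at h4 ⊢
  omega

/-- elements of `S` commuting with `t` are in `Sg` -/
theorem comm_Sg {x : G} (hx : x ∈ S) (h : x * D.t = D.t * x) : x ∈ F.Sg :=
  comm_S2 F T H.hU (hS.fix x hx 1 (one_mem _) (by rw [h]; group)) h

/-- **`t ∉ E`** -/
theorem t_not_E {E : Subgroup G} (hG : Glob D.t E) (hn : Odd n) (hodd : Odd S.index) :
    D.t ∉ E := by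
  intro htE
  haveI := hG.normal
  have hPN : D.P ≤ NN H := fun x hx => Or.inl (T.P_le hx)
  have hNS : NN H ≤ S := by
    rintro x (h | h)
    · exact US hS h
    · have h1 : D.t * e ∈ S := mul_mem (tS hS) (eS hS)
      have e1 : x = (x * (D.t * e)) * (D.t * e)⁻¹ := by group
      rw [e1]
      exact mul_mem (US hS h) (inv_mem h1)
  refine t_not_NN H (PsiTwo.mem_of_sq F hG.perf hodd (tS hS) ((Sg_le_S2 F T H.hU).trans hS.le)
    (fun x hx _ h => comm_Sg hS hx h) ?_ hPN (fun x hx => sq_S hS hn hx) hNS F.t_Sg htE)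
  intro y hy
  obtain ⟨x, hx, h1⟩ := hS.fus hy
  rcases hG.gen x with h | h
  · exact ⟨x, hx, h, h1.symm⟩
  · refine ⟨x * D.t, mul_mem hx (tS hS), ?_, ?_⟩
    · have h2 := hG.normal.conj_mem _ h D.t⁻¹
      have e1 : D.t⁻¹ * (D.t * x) * D.t⁻¹⁻¹ = x * D.t := by group
      rwa [e1] at h2
    · rw [h1]; group

end Cfsg.Agent.StdU3.GOneOdd
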