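import Cfsg.Agent.StdU3.GOneCore

/-!
# Type `g1`: the quotient `S / U`
-/

set_option autoImplicit false

namespace Cfsg.Agent.StdU3.GOneQuot

open Subgroup Cfsg.Agent.StdU3.GOneDef Cfsg.Agent.StdU3.GOneLem Cfsg.Agent.StdU3.GOneCore

variable {G : Type*} [Group G] [Finite G] {E : Subgroup G} {S : Sylow 2 G} {U P R Z : Subgroup G}
  {t e : G} {q : ℕ} (h : GOne E S U P R Z t e q)

include h

theorem ti : t⁻¹ = t := (core_of h).ti

theorem conjE {x : G} (g : G) (hx : x ∈ E) : g * x * g⁻¹ ∈ E := h.E_normal.conj_mem x hx g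

theorem U_norm' {x u : G} (hx : x ∈ S) (hu : u ∈ U) : x⁻¹ * u * x ∈ U := by
  have := h.U_norm x⁻¹ (inv_mem hx) u hu
  rwa [inv_inv] at this

theorem Z_norm' {x u : G} (hx : x ∈ S) (hu : u ∈ Z) : x⁻¹ * u * x ∈ Z := by
  have := h.Z_norm x⁻¹ (inv_mem hx) u hu
  rwa [inv_inv] at this

/-- an `S`-conjugate of `t` in `C_S(t) U` lies in `tU` or `eU`. -/
theorem cosets {c u y : G} (hc : c ∈ S) (hct : c * t = t * c) (hu : u ∈ U) (hy : y ∈ S)
    (hyt : y * t * y⁻¹ = u * c) : (∃ v ∈ U, y * t * y⁻¹ = t * v) ∨ ∃ v ∈ U, y * t * y⁻¹ = e * v := by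
  have C := core_of h
  have hsq : (u * c) * (u * c) = 1 := by
    rw [← hyt]
    calc y * t * y⁻¹ * (y * t * y⁻¹) = y * (t * t) * y⁻¹ := by group
      _ = 1 := by rw [h.tt]; group
  have hcc : c * c ∈ U := by
    have h1 : c * c = ((u * (c * u * c⁻¹)))⁻¹ := by
      have : u * (c * u * c⁻¹) * (c * c) = 1 := by rw [← hsq]; group
      exact (inv_eq_of_mul_eq_one_right this).symm
    rw [h1]
    exact inv_mem (mul_mem hu (h.U_norm c hc u hu))
  have hccP : c * c ∈ P := by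
    apply C.fixU hcc
    calc t * (c * c) = (t * c) * c := by group
      _ = (c * t) * c := by rw [hct]
      _ = c * (t * c) := by group
      _ = c * (c * t) := by rw [hct]
      _ = c * c * t := by group
  have hconj : ∀ d : G, d ∈ S → ∀ v ∈ U, ∃ w ∈ U, v * d = d * w := fun d hd v hv =>
    ⟨d⁻¹ * v * d, U_norm' h hd hv, by group⟩
  rcases h.Xi c hc hct hccP with h1 | h1 | h1 | h1
  · exfalso
    apply h.tU
    have h2 : t = y⁻¹ * (u * c) * y := by rw [← hyt]; group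
    rw [h2]
    exact U_norm' h hy (mul_mem hu (h.P_le h1))
  · left
    have h2 : c = t * (t * c) := by rw [← mul_assoc, h.tt, one_mul]
    obtain ⟨w, hw, h3⟩ := hconj t h.tS u hu
    exact ⟨w * (t * c), mul_mem hw (h.P_le h1), by rw [hyt, ← mul_assoc, ← h3, mul_assoc, ← h2]⟩
  · right
    have h2 : c = e * (e * c) := by rw [← mul_assoc, h.ee, one_mul]
    obtain ⟨w, hw, h3⟩ := hconj e h.eS u hu
    exact ⟨w * (e * c), mul_mem hw (h.P_le h1), by rw [hyt, ← mul_assoc, ← h3, mul_assoc, ← h2]⟩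
  · exfalso
    have h2 : c = (t * e) * (t * e * c) := by rw [← mul_assoc, C.te_te, one_mul]
    obtain ⟨w, hw, h3⟩ := hconj (t * e) (mul_mem h.tS h.eS) u hu
    have h4 : u * c = t * e * (w * (t * e * c)) := by
      rw [← mul_assoc, ← h3, mul_assoc, ← h2]
    have h5 : w * (t * e * c) ∈ U := mul_mem hw (h.P_le h1)
    obtain ⟨v, hv, h6⟩ := C.conj_teU h5 (by rw [← h4]; exact hsq)
    rw [← h4, ← hyt] at h6
    apply h.s_not (v⁻¹ * y)
    calc v⁻¹ * y * t * (v⁻¹ * y)⁻¹ = v⁻¹ * (y * t * y⁻¹) * v := by group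
      _ = t * e := by rw [← h6]; group

/-- if `x t x⁻¹ ∈ tU` then `x ∈ U C_S(t)` -/
theorem of_tU {x v : G} (_hx : x ∈ S) (hv : v ∈ U) (hxt : x * t * x⁻¹ = t * v) :
    ∃ u ∈ U, (u⁻¹ * x) * t = t * (u⁻¹ * x) := by
  have C := core_of h
  obtain ⟨r, hr, h1⟩ := C.conj_tU hv (by
    rw [← hxt]
    calc x * t * x⁻¹ * (x * t * x⁻¹) = x * (t * t) * x⁻¹ := by group
      _ = 1 := by rw [h.tt]; group)
  refine ⟨r, h.R_le hr, ?_⟩
  rw [← hxt] at h1
  calc (r⁻¹ * x) * t = r⁻¹ * (x * t * x⁻¹) * x := by group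
    _ = t * (r⁻¹ * x) := by rw [← h1]; group

/-- if `x t x⁻¹ ∈ eU` then `x` maps `P` into `R` -/
theorem of_eU {x v : G} (hx : x ∈ S) (hv : v ∈ U) (hxt : x * t * x⁻¹ = e * v) :
    ∀ p ∈ P, x * p * x⁻¹ ∈ R := by
  have C := core_of h
  obtain ⟨r, hr, h1⟩ := C.swap.conj_tU hv (by
    rw [← hxt]
    calc x * t * x⁻¹ * (x * t * x⁻¹) = x * (t * t) * x⁻¹ := by group
      _ = 1 := by rw [h.tt]; group)
  intro p hp
  have h2 : r⁻¹ * (x * p * x⁻¹) * r ∈ R := by
    apply C.swap.fixU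
    · have := mul_mem (mul_mem (inv_mem (h.P_le hr)) (h.U_norm x hx p (h.P_le hp))) (h.P_le hr)
      exact this
    · have h3 : e = r⁻¹ * (x * t * x⁻¹) * r := by rw [hxt, ← h1]; group
      have h4 : t * p = p * t := h.tP p hp
      rw [h3]
      calc r⁻¹ * (x * t * x⁻¹) * r * (r⁻¹ * (x * p * x⁻¹) * r) = r⁻¹ * x * (t * p) * x⁻¹ * r := by
            group
        _ = r⁻¹ * x * (p * t) * x⁻¹ * r := by rw [h4]
        _ = _ := by group
  have h5 := C.swap.P_norm (h.P_le hr) h2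
  have e1 : r * (r⁻¹ * (x * p * x⁻¹) * r) * r⁻¹ = x * p * x⁻¹ := by group
  rwa [e1] at h5

/-- a bijection: if `x` maps `P` into `R` then it maps `P` onto `R`. -/
theorem onto {x : G} (hx : ∀ p ∈ P, x * p * x⁻¹ ∈ R) : ∀ r ∈ R, x⁻¹ * r * x ∈ P := by
  have h1 : P.map (MulAut.conj x).toMonoidHom ≤ R := by
    rintro _ ⟨p, hp, rfl⟩
    exact hx p hp
  have h2 : P.map (MulAut.conj x).toMonoidHom = R := by
    apply Subgroup.eq_of_le_of_card_ge h1
    rw [Nat.card_congr (P.equivMapOfInjective _ (MulAut.conj x).injective).symm.toEquiv,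
      h.hP.card, h.hR.card]
  intro r hr
  rw [← h2] at hr
  obtain ⟨p, hp, rfl⟩ := hr
  have : x⁻¹ * ((MulAut.conj x).toMonoidHom p) * x = p := by
    simp only [MulEquiv.coe_toMonoidHom, MulAut.conj_apply]; group
  rw [this]; exact hp

/-- no `S`-conjugate of `t` interchanges `P` and `R` -/
theorem no_swap {m v : G} (hm : m ∈ S) (hv : v ∈ U)
    (hd : (m * t * m⁻¹) * t * (m * t * m⁻¹)⁻¹ = e * v) : False := by
  have C := core_of h
  set d := m * t * m⁻¹ with hdd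
  have hdS : d ∈ S := mul_mem (mul_mem hm h.tS) (inv_mem hm)
  have hdi : d⁻¹ = d := by rw [hdd]; simp [mul_assoc, C.ti]
  have hdP : ∀ p ∈ P, d * p * d⁻¹ ∈ R := of_eU h hdS hv hd
  have hdR : ∀ r ∈ R, d * r * d⁻¹ ∈ P := by
    intro r hr
    have := onto h hdP r hr
    rwa [hdi] at this ⊢
  -- conjugate by `m⁻¹`
  let P' : Subgroup G := P.map (MulAut.conj m⁻¹).toMonoidHom
  let R' : Subgroup G := R.map (MulAut.conj m⁻¹).toMonoidHom
  have memP' : ∀ x : G, x ∈ P' ↔ m * x * m⁻¹ ∈ P := by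
    intro x
    constructor
    · rintro ⟨p, hp, rfl⟩
      have : m * ((MulAut.conj m⁻¹).toMonoidHom p) * m⁻¹ = p := by
        simp only [MulEquiv.coe_toMonoidHom, MulAut.conj_apply]; group
      rw [this]; exact hp
    · intro hx
      refine ⟨_, hx, ?_⟩
      simp only [MulEquiv.coe_toMonoidHom, MulAut.conj_apply]; group
  have memR' : ∀ x : G, x ∈ R' ↔ m * x * m⁻¹ ∈ R := by
    intro x
    constructor
    · rintro ⟨p, hp, rfl⟩
      have : m * ((MulAut.conj m⁻¹).toMonoidHom p) * m⁻¹ = p := by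
        simp only [MulEquiv.coe_toMonoidHom, MulAut.conj_apply]; group
      rw [this]; exact hp
    · intro hx
      refine ⟨_, hx, ?_⟩
      simp only [MulEquiv.coe_toMonoidHom, MulAut.conj_apply]; group
  have e1 : ∀ x : G, m * (t * x * t⁻¹) * m⁻¹ = d * (m * x * m⁻¹) * d⁻¹ := by
    intro x; rw [hdd]; group
  have tR' : ∀ x ∈ R', t * x * t⁻¹ ∈ P' := by
    intro x hx
    rw [memP', e1]
    exact hdR _ ((memR' x).1 hx)
  have hZm : ∀ z : G, m * z * m⁻¹ ∈ Z → z ∈ Z := by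
    intro z hz
    have := Z_norm' h hm hz
    have e2 : m⁻¹ * (m * z * m⁻¹) * m = z := by group
    rwa [e2] at this
  have hPR' : ∀ x : G, x ∈ P' → x ∈ R' → x ∈ Z := by
    intro x h1 h2
    exact hZm x (h.inf _ ((memP' x).1 h1) ((memR' x).1 h2))
  have hPR : ∀ x ∈ P, x ∈ R' → x ∈ Z := by
    intro x hx hx'
    have h1 := tR' x hx'
    rw [C.tPc hx] at h1
    exact hPR' x h1 hx'
  -- `P R' = U`
  have hR'U : R' ≤ U := by
    intro x hx
    have h1 := (memR' x).1 hx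
    have := U_norm' h hm (h.R_le h1)
    have e2 : m⁻¹ * (m * x * m⁻¹) * m = x := by group
    rwa [e2] at this
  have hcard : Nat.card R' = q ^ 3 := by
    rw [Nat.card_congr (R.equivMapOfInjective _ (MulAut.conj m⁻¹).injective).symm.toEquiv, h.hR.card]
  have hfact : ∀ u ∈ U, ∃ a ∈ P, ∃ b ∈ R', u = a * b := by
    by_contra hcon
    push Not at hcon
    obtain ⟨u0, hu0, hne⟩ := hcon
    -- count
    let f : P × R' → U := fun p => ⟨p.1 * p.2, mul_mem (h.P_le p.1.2) (hR'U p.2.2)⟩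
    have hf : ∀ d : U, Nat.card {p : P × R' // f p = d} ≤ q := by
      intro d
      rw [← h.cardZ]
      by_cases hne' : ∃ p, f p = d
      · obtain ⟨p, hp⟩ := hne'
        refine Nat.card_le_card_of_injective
          (fun r : {p : P × R' // f p = d} => (⟨(p.1 : G)⁻¹ * r.1.1, hPR _
            (mul_mem (inv_mem p.1.2) r.1.1.2) (by
              have h1 : (p.1 : G) * p.2 = r.1.1 * r.1.2 := by
                have := hp.trans r.2.symm
                exact congrArg Subtype.val this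
              have h2 : (p.1 : G)⁻¹ * r.1.1 = p.2 * (r.1.2 : G)⁻¹ := by
                rw [eq_mul_inv_iff_mul_eq, mul_assoc, ← h1, inv_mul_cancel_left]
              rw [h2]
              exact mul_mem p.2.2 (inv_mem r.1.2.2))⟩ : Z)) ?_
        intro r r' hrr
        have h3 : (p.1 : G)⁻¹ * r.1.1 = (p.1 : G)⁻¹ * r'.1.1 := congrArg (fun z : Z => (z : G)) hrr
        have h4 : (r.1.1 : G) = r'.1.1 := mul_left_cancel h3
        have h5 : (r.1.1 : G) * r.1.2 = r'.1.1 * r'.1.2 :=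
          congrArg Subtype.val (r.2.trans r'.2.symm)
        rw [h4] at h5
        have h6 := mul_left_cancel h5
        exact Subtype.ext (Prod.ext (Subtype.ext h4) (Subtype.ext h6))
      · have : IsEmpty {p : P × R' // f p = d} := ⟨fun p => hne' ⟨p.1, p.2⟩⟩
        rw [Nat.card_of_isEmpty]
        exact Nat.zero_le _
    have h0 : Nat.card {p : P × R' // f p = ⟨u0, hu0⟩} = 0 := by
      have : IsEmpty {p : P × R' // f p = ⟨u0, hu0⟩} :=
        ⟨fun p => hne p.1.1 p.1.1.2 p.1.2 p.1.2.2 (congrArg Subtype.val p.2).symm⟩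
      exact Nat.card_of_isEmpty
    have hq := C.q_pos
    have := Fintype.ofFinite U
    have h1 : Nat.card (P × R') < q * Nat.card U := by
      rw [Nat.card_congr (Equiv.sigmaFiberEquiv f).symm, Nat.card_sigma]
      calc ∑ d : U, Nat.card {p : P × R' // f p = d} < ∑ _d : U, q :=
            Finset.sum_lt_sum (fun d _ => hf d) ⟨⟨u0, hu0⟩, Finset.mem_univ _, by rw [h0]; exact hq⟩
        _ = q * Nat.card U := by
            rw [Finset.sum_const, Finset.card_univ, smul_eq_mul, Nat.card_eq_fintype_card (α := U),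
              mul_comm]
    rw [Nat.card_prod, h.hP.card, hcard, h.cardU] at h1
    have h2 : q ^ 3 * q ^ 3 = q * q ^ 5 := by ring
    omega
  -- `R₀ ≤ Z`
  have hR0 : ∀ r ∈ R, t * r * t⁻¹ * r⁻¹ ∈ Z → r ∈ Z := by
    intro r hr hrt
    obtain ⟨a, ha, b, hb, hab⟩ := hfact r (h.R_le hr)
    have h1 : t * b * t⁻¹ * b⁻¹ ∈ Z := by
      have h2 : a * (t * b * t⁻¹ * b⁻¹) * a⁻¹ ∈ Z := by
        have e2 : a * (t * b * t⁻¹ * b⁻¹) * a⁻¹ = t * r * t⁻¹ * r⁻¹ := by
          rw [hab]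
          calc a * (t * b * t⁻¹ * b⁻¹) * a⁻¹ = (a * t) * b * t⁻¹ * b⁻¹ * a⁻¹ := by group
            _ = (t * a) * b * t⁻¹ * b⁻¹ * a⁻¹ := by rw [h.tP a ha]
            _ = _ := by group
        rw [e2]; exact hrt
      have h3 := C.conjZ (inv_mem (h.P_le ha)) h2
      have e3 : a⁻¹ * (a * (t * b * t⁻¹ * b⁻¹) * a⁻¹) * a⁻¹⁻¹ = t * b * t⁻¹ * b⁻¹ := by group
      rw [e3] at h3
      rw [h3]; exact h2
    have h4 : t * b * t⁻¹ ∈ Z := by
      apply hPR' _ (tR' b hb)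
      have : t * b * t⁻¹ = (t * b * t⁻¹ * b⁻¹) * b := by group
      rw [this]
      refine mul_mem ?_ hb
      rw [memR']
      exact h.hR.Z_le (h.Z_norm m hm _ h1)
    have h5 : b ∈ Z := by
      have := Z_norm' h h.tS h4
      have e4 : t⁻¹ * (t * b * t⁻¹) * t = b := by group
      rwa [e4] at this
    have h6 : r ∈ P := by rw [hab]; exact mul_mem ha (h.hP.Z_le h5)
    exact h.inf r h6 hr
  have h7 : Nat.card {x : G // x ∈ R ∧ t * x * t⁻¹ * x⁻¹ ∈ Z} ≤ Nat.card Z :=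
    Nat.card_le_card_of_injective
      (fun x : {x : G // x ∈ R ∧ t * x * t⁻¹ * x⁻¹ ∈ Z} => (⟨x, hR0 x x.2.1 x.2.2⟩ : Z))
      (fun x y hxy => Subtype.ext (Subtype.mk.inj hxy))
  rw [h.hR.card0, h.cardZ] at h7
  have h8 := h.q4
  nlinarith

/-- `U` as a subgroup of `S` -/
def N (_h : GOne E S U P R Z t e q) : Subgroup (S : Subgroup G) := U.subgroupOf (S : Subgroup G)

theorem N_normal : (N h).Normal := by
  constructor
  intro u hu x
  exact h.U_norm x x.2 u hu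

theorem mk_eq_iff [(N h).Normal] (a b : (S : Subgroup G)) :
    (QuotientGroup.mk' (N h)) a = (QuotientGroup.mk' (N h)) b ↔ ∃ v ∈ U, (b : G) = a * v := by
  rw [QuotientGroup.mk'_apply, QuotientGroup.mk'_apply, QuotientGroup.eq]
  constructor
  · intro h1
    exact ⟨(a : G)⁻¹ * b, h1, by group⟩
  · rintro ⟨v, hv, h1⟩
    show ((a⁻¹ * b : (S : Subgroup G)) : G) ∈ U
    have : ((a⁻¹ * b : (S : Subgroup G)) : G) = v := by
      show (a : G)⁻¹ * b = v
      rw [h1]; group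
    rw [this]; exact hv

/-- the swapping element -/
theorem exists_y0 : ∃ y ∈ S, e = y * t * y⁻¹ := by
  obtain ⟨g, hg⟩ := h.e_conj
  obtain ⟨x, hx, h1⟩ := h.fus g (by rw [hg]; exact h.eS)
  exact ⟨x, hx, by rw [← hg, h1]⟩

theorem decomp {x : G} (hx : x ∈ S) (hxt : ∃ v ∈ U, x * t * x⁻¹ = t * v) :
    ∃ u ∈ U, ∃ c ∈ S, c * t = t * c ∧ x = u * c := by
  obtain ⟨v, hv, h1⟩ := hxt
  obtain ⟨u, hu, h2⟩ := of_tU h hx hv h1
  exact ⟨u, hu, u⁻¹ * x, mul_mem (inv_mem (h.U_le hu)) hx, h2, by group⟩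

/-- elements of `S` commuting with `t` modulo `U` commute modulo `U`. -/
theorem comm_mod {x y : G} (hx : x ∈ S) (hy : y ∈ S) (hxt : ∃ v ∈ U, x * t * x⁻¹ = t * v)
    (hyt : ∃ v ∈ U, y * t * y⁻¹ = t * v) : ∃ v ∈ U, y * x = x * y * v := by
  obtain ⟨u, hu, c, hc, hct, rfl⟩ := decomp h hx hxt
  obtain ⟨w, hw, d, hd, hdt, rfl⟩ := decomp h hy hyt
  have := N_normal h
  let a : (S : Subgroup G) := ⟨u, h.U_le hu⟩
  let c' : (S : Subgroup G) := ⟨c, hc⟩
  let b : (S : Subgroup G) := ⟨w, h.U_le hw⟩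
  let d' : (S : Subgroup G) := ⟨d, hd⟩
  have ha : (QuotientGroup.mk' (N h)) a = 1 := by
    rw [QuotientGroup.mk'_apply, QuotientGroup.eq_one_iff]; exact hu
  have hb : (QuotientGroup.mk' (N h)) b = 1 := by
    rw [QuotientGroup.mk'_apply, QuotientGroup.eq_one_iff]; exact hw
  have hcd : (QuotientGroup.mk' (N h)) (c' * d') = (QuotientGroup.mk' (N h)) (d' * c') := by
    rw [mk_eq_iff]
    refine ⟨(d * c)⁻¹ * (c * d * c⁻¹ * d⁻¹)⁻¹ * (d * c), ?_, ?_⟩
    · have h1 := h.P_le (inv_mem (h.Xc c hc d hd hct hdt))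
      have h2 := U_norm' h (mul_mem hd hc) h1
      exact h2
    · show d * c = c * d * ((d * c)⁻¹ * (c * d * c⁻¹ * d⁻¹)⁻¹ * (d * c))
      group
  have hfin : (QuotientGroup.mk' (N h)) (a * c' * (b * d')) =
      (QuotientGroup.mk' (N h)) (b * d' * (a * c')) := by
    rw [map_mul, map_mul, map_mul, map_mul, map_mul, map_mul, ha, hb, one_mul, one_mul, ← map_mul,
      ← map_mul, hcd]
  exact (mk_eq_iff h _ _).1 hfin

/-- **`|S : U C_S(t)| = 2`.** -/
theorem dich_S {x : G} (hx : x ∈ S) :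
    (∃ v ∈ U, x * t * x⁻¹ = t * v) ∨ ∃ v ∈ U, x * t * x⁻¹ = e * v := by
  have := N_normal h
  let π := QuotientGroup.mk' (N h)
  have hπ : Function.Surjective π := QuotientGroup.mk'_surjective _
  have mk_eq := mk_eq_iff h
  obtain ⟨y, hy, hye⟩ := exists_y0 h
  let t' : (S : Subgroup G) := ⟨t, h.tS⟩
  let e' : (S : Subgroup G) := ⟨e, h.eS⟩
  let y' : (S : Subgroup G) := ⟨y, hy⟩
  have hY : IsPGroup 2 ((S : Subgroup G) ⧸ (N h)) := S.isPGroup'.to_quotient _
  -- commuting with `t` modulo `U`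
  have hcomm : ∀ a : (S : Subgroup G), π a * π t' = π t' * π a ↔
      ∃ v ∈ U, (a : G) * t * (a : G)⁻¹ = t * v := by
    intro a
    rw [← map_mul, ← map_mul, eq_comm, mk_eq]
    constructor
    · rintro ⟨v, hv, h1⟩
      have h1 : (a : G) * t = t * a * v := h1
      refine ⟨a * v * (a : G)⁻¹, h.U_norm a a.2 v hv, ?_⟩
      rw [h1]; group
    · rintro ⟨v, hv, h1⟩
      refine ⟨(a : G)⁻¹ * v * a, U_norm' h a.2 hv, ?_⟩
      show (a : G) * t = t * a * ((a : G)⁻¹ * v * a)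
      calc (a : G) * t = ((a : G) * t * (a : G)⁻¹) * a := by group
        _ = _ := by rw [h1]; group
  have hconj : ∀ a b : (S : Subgroup G), π a * π t' * (π a)⁻¹ = π b ↔
      ∃ v ∈ U, (a : G) * t * (a : G)⁻¹ = b * v := by
    intro a b
    rw [← map_inv, ← map_mul, ← map_mul, eq_comm, mk_eq]
    rfl
  have hconj2 : ∀ a : (S : Subgroup G), π a * π t' * (π a)⁻¹ * π t' = π t' * (π a * π t' * (π a)⁻¹) →
      ∃ v ∈ U, (a * t' * a⁻¹ : (S : Subgroup G)) * t * ((a * t' * a⁻¹ : (S : Subgroup G)) : G)⁻¹ = t * v := by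
    intro a ha
    rw [← hcomm, map_mul, map_mul, map_inv]
    exact ha
  have main := dich (Y := (S : Subgroup G) ⧸ (N h)) hY (τ := π t') (ε := π e') (y0 := π y')
    (by
      rw [hconj]
      exact ⟨1, one_mem _, by rw [mul_one]; exact hye.symm⟩)
    (by
      intro x y hx hy
      obtain ⟨a, rfl⟩ := hπ x
      obtain ⟨b, rfl⟩ := hπ y
      have h1 := comm_mod h a.2 b.2 ((hcomm a).1 hx) ((hcomm b).1 hy)
      rw [← map_mul, ← map_mul, mk_eq]
      exact h1)
    (by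
      rw [← map_mul, ← map_mul]
      congr 1
      exact Subtype.ext h.te.symm)
    (by
      intro g hg
      obtain ⟨a, rfl⟩ := hπ g
      obtain ⟨u, hu, c, hc, hct, h1⟩ := decomp h (a * t' * a⁻¹).2 (hconj2 a hg)
      rcases cosets h hc hct hu a.2 h1 with h2 | h2
      · left; rw [hconj]; exact h2
      · right; rw [hconj]; exact h2)
    (by
      intro m hm
      obtain ⟨a, rfl⟩ := hπ m
      have h1 : π (a * t' * a⁻¹) * π t' * (π (a * t' * a⁻¹))⁻¹ = π e' := by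
        rw [map_mul, map_mul, map_inv]; exact hm
      obtain ⟨v, hv, h2⟩ := (hconj _ _).1 h1
      exact no_swap h a.2 hv h2)
    (π ⟨x, hx⟩)
  rcases main with h1 | h1
  · left; exact (hconj _ _).1 h1
  · right; exact (hconj _ _).1 h1

/-- `t` and `e` are different modulo `U` -/
theorem te_not_U : t * e ∉ U := by
  have C := core_of h
  apply C.not_mem h.q4
  intro x hx
  calc t * e * x * (t * e)⁻¹ = t * (e * x * e⁻¹) * t⁻¹ := by group
    _ = _ := by rw [C.eRc hx]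

end Cfsg.Agent.StdU3.GOneQuot
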