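import Cfsg.Agent.StdU3.Rank
import Cfsg.Agent.StdU3.GOneFieldD

/-!
# A conjugate of `t` does not swap

`d` is a conjugate of `t` which normalises a 2-group `U = P P^d`, `P ∩ P^d = Z`, `[P, P^d] ≤ Z ≤ Z(U)`:
this is impossible.
-/

set_option autoImplicit false
set_option linter.unusedSectionVars false
set_option linter.dupNamespace false

namespace Cfsg.Agent.StdU3.GOneSwapD

open Subgroup Cfsg.Agent.StdU3.Field Cfsg.Agent.StdU3.PreDef Cfsg.Agent.StdU3.FldDef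
open Cfsg.Agent.StdU3.LevelOne Cfsg.Agent.StdU3.FieldAut Cfsg.Agent.StdU3.Rank
open Cfsg.Agent.StdU3.Card (Fq mem_Fq card_Fq)

variable {G : Type*} [Group G] {K : Type*} [Field K] [Fintype K] [CharP K 2] {n : ℕ}

/-- the setting -/
structure Sw (D : Pre G K n) (U : Subgroup G) (d : G) : Prop where
  two : IsPGroup 2 U
  P_le : D.P ≤ U
  P_le' : ∀ x ∈ D.P, d * x * d⁻¹ ∈ U
  cen : ∀ u ∈ U, ∀ b, u * D.z b = D.z b * u
  PP : ∀ u ∈ U, ∃ x ∈ D.P, ∃ y ∈ D.P, u = x * (d * y * d⁻¹)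
  cmt : ∀ x ∈ D.P, ∀ y ∈ D.P, ∃ b, bar n b = b ∧
    x * (d * y * d⁻¹) = D.z b * ((d * y * d⁻¹) * x)
  inf : ∀ x ∈ D.P, ∀ y ∈ D.P, x = d * y * d⁻¹ → D.ca x = 0
  dd : d * d = 1
  z : ∀ b, bar n b = b → ∃ c, bar n c = c ∧ d * D.z b * d⁻¹ = D.z c

variable {D : Pre G K n} {U : Subgroup G} {d : G}

namespace Sw

variable (h : Sw D U d)
include h

theorem inv : d⁻¹ = d := by rw [inv_eq_iff_mul_eq_one, h.dd]

theorem conj_conj (x : G) : d * (d * x * d⁻¹) * d⁻¹ = x := by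
  rw [h.inv]
  have : d * (d * x * d) * d = (d * d) * x * (d * d) := by group
  rw [this, h.dd]; group

/-- the action on `Z` -/
noncomputable def th (b : Fq K n) : Fq K n := ⟨(h.z b.1 b.2).choose, (h.z b.1 b.2).choose_spec.1⟩

theorem th_spec (b : Fq K n) : d * D.z b.1 * d⁻¹ = D.z (h.th b).1 := (h.z b.1 b.2).choose_spec.2

theorem th_eq {b c : Fq K n} (hc : d * D.z b.1 * d⁻¹ = D.z c.1) : h.th b = c := by
  apply Subtype.ext
  apply z_eq D (h.th b).2 c.2
  rw [← h.th_spec, hc]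

theorem th_add (b c : Fq K n) : h.th (b + c) = h.th b + h.th c := by
  apply h.th_eq
  show d * D.z (b.1 + c.1) * d⁻¹ = D.z ((h.th b).1 + (h.th c).1)
  rw [D.z_add, D.z_add, ← h.th_spec, ← h.th_spec]; group

theorem th_th (b : Fq K n) : h.th (h.th b) = b := by
  apply h.th_eq
  rw [← h.th_spec, h.conj_conj]

/-- `b + θ b` -/
noncomputable def de : Fq K n →+ Fq K n where
  toFun b := b + h.th b
  map_zero' := by
    have : h.th 0 = 0 := by
      have h1 := h.th_add 0 0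
      rw [add_zero] at h1
      exact left_eq_add.mp h1
    rw [this, add_zero]
  map_add' b c := by rw [h.th_add]; abel

theorem de_apply (b : Fq K n) : h.de b = b + h.th b := rfl

theorem add_self' (b : Fq K n) : b + b = 0 := Subtype.ext (Field.add_self b.1)

theorem de_de (b : Fq K n) : h.de (h.de b) = 0 := by
  rw [de_apply, de_apply, h.th_add, h.th_th]
  have : b + h.th b + (h.th b + b) = (b + b) + (h.th b + h.th b) := by abel
  rw [this, add_self' h, add_self' h, add_zero]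

theorem range_le : h.de.range ≤ h.de.ker := by
  rintro _ ⟨b, rfl⟩
  exact h.de_de b

theorem card_ker_range : Nat.card h.de.ker * Nat.card h.de.range = 2 ^ n := by
  rw [← card_Fq D.hq, ← AddSubgroup.index_ker, AddSubgroup.card_mul_index]

/-- the commutator of `x` and `y ^ d` -/
noncomputable def c (x y : D.P) : Fq K n :=
  ⟨(h.cmt x.1 x.2 y.1 y.2).choose, (h.cmt x.1 x.2 y.1 y.2).choose_spec.1⟩

theorem c_spec (x y : D.P) :
    (x : G) * (d * y * d⁻¹) = D.z (h.c x y).1 * ((d * y * d⁻¹) * x) :=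
  (h.cmt x.1 x.2 y.1 y.2).choose_spec.2

theorem c_eq {x y : D.P} {b : Fq K n}
    (hb : (x : G) * (d * y * d⁻¹) = D.z b.1 * ((d * y * d⁻¹) * x)) : h.c x y = b := by
  apply Subtype.ext
  apply z_eq D (h.c x y).2 b.2
  have h1 := h.c_spec x y
  rw [hb] at h1
  exact (mul_right_cancel h1).symm

theorem c_mul_left (x x' y : D.P) : h.c (x * x') y = h.c x y + h.c x' y := by
  apply h.c_eq
  have h1 := h.c_spec x y
  have h2 := h.c_spec x' y
  have h3 := h.cen x (h.P_le x.2) (h.c x' y).1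
  show (x : G) * x' * (d * y * d⁻¹) = D.z ((h.c x y).1 + (h.c x' y).1) * ((d * y * d⁻¹) * (x * x'))
  rw [D.z_add]
  calc (x : G) * x' * (d * y * d⁻¹) = x * (x' * (d * y * d⁻¹)) := by group
    _ = (x * D.z (h.c x' y).1) * ((d * y * d⁻¹) * x') := by rw [h2]; group
    _ = D.z (h.c x' y).1 * (x * (d * y * d⁻¹)) * x' := by rw [h3]; group
    _ = (D.z (h.c x' y).1 * D.z (h.c x y).1) * ((d * y * d⁻¹) * (x * x')) := by rw [h1]; group
    _ = _ := by rw [z_comm]

/-- `c (y, x) = θ (c (x, y))` -/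
theorem c_symm (x y : D.P) : h.c y x = h.th (h.c x y) := by
  apply h.c_eq
  have h1 := h.c_spec x y
  have h2 : (d * x * d⁻¹) * y = D.z (h.th (h.c x y)).1 * (y * (d * x * d⁻¹)) := by
    rw [← h.th_spec]
    calc (d * x * d⁻¹) * y = (d * x * d⁻¹) * (d * (d * y * d⁻¹) * d⁻¹) := by rw [h.conj_conj]
      _ = d * (x * (d * y * d⁻¹)) * d⁻¹ := by group
      _ = d * (D.z (h.c x y).1 * ((d * y * d⁻¹) * x)) * d⁻¹ := by rw [h1]
      _ = (d * D.z (h.c x y).1 * d⁻¹) * ((d * (d * y * d⁻¹) * d⁻¹) * (d * x * d⁻¹)) := by group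
      _ = _ := by rw [h.conj_conj]
  rw [h2, ← mul_assoc (D.z _) (D.z _), z_self, one_mul]

theorem c_mul_right (x y y' : D.P) : h.c x (y * y') = h.c x y + h.c x y' := by
  have e1 := h.c_symm (y * y') x
  rw [h.c_mul_left] at e1
  have e2 := h.c_symm y x
  have e3 := h.c_symm y' x
  rw [e1, h.th_add, ← e2, ← e3]

/-- `β x = [x, x ^ d]`, modulo `[Z, d]`, as a homomorphism -/
noncomputable def beta : D.P →* Multiplicative (Fq K n ⧸ h.de.range) :=
  MonoidHom.mk' (fun x => Multiplicative.ofAdd (QuotientAddGroup.mk (h.c x x))) (fun x y => by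
    have h1 : h.c (x * y) (x * y) = (h.c x x + h.c y y) + h.de (h.c x y) := by
      rw [h.c_mul_left, h.c_mul_right, h.c_mul_right, h.c_symm x y, de_apply]
      abel
    rw [h1, ← ofAdd_add]
    congr 1
    rw [← QuotientAddGroup.mk_add]
    apply (QuotientAddGroup.eq).mpr
    have : -(h.c x x + h.c y y + h.de (h.c x y)) + (h.c x x + h.c y y) = - h.de (h.c x y) := by abel
    rw [this]
    exact neg_mem ⟨_, rfl⟩)

theorem mem_ker_beta {x : D.P} : x ∈ h.beta.ker ↔ ∃ b, h.c x x = h.de b := by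
  rw [MonoidHom.mem_ker]
  have h1 : h.beta x = 1 ↔ (QuotientAddGroup.mk (h.c x x) : Fq K n ⧸ h.de.range) = 0 := Iff.rfl
  rw [h1, QuotientAddGroup.eq_zero_iff]
  constructor
  · rintro ⟨b, hb⟩; exact ⟨b, hb.symm⟩
  · rintro ⟨b, hb⟩; exact ⟨b, hb.symm⟩

theorem card_beta_range : Nat.card h.beta.range * Nat.card h.de.range ≤ Nat.card h.de.ker := by
  -- the image of the kernel of `δ` in the quotient
  let φ : h.de.ker →+ (Fq K n ⧸ h.de.range) := (QuotientAddGroup.mk' h.de.range).comp h.de.ker.subtype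
  have h1 : Nat.card φ.range * Nat.card h.de.range ≤ Nat.card h.de.ker := by
    have h2 := AddSubgroup.card_mul_index φ.ker
    rw [AddSubgroup.index_ker] at h2
    rw [← h2, mul_comm]
    apply Nat.mul_le_mul_right
    apply Nat.card_le_card_of_injective
      (fun b : h.de.range => (⟨⟨b.1, h.range_le b.2⟩, by
        rw [AddMonoidHom.mem_ker]
        exact (QuotientAddGroup.eq_zero_iff _).mpr b.2⟩ : φ.ker))
    intro b c hbc
    have : b.1 = c.1 := congrArg (fun z : φ.ker => (z.1 : Fq K n)) hbc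
    exact Subtype.ext this
  refine le_trans (Nat.mul_le_mul_right _ ?_) h1
  have h3 : ∀ y : h.beta.range, Multiplicative.toAdd y.1 ∈ φ.range := by
    rintro ⟨_, x, rfl⟩
    refine ⟨⟨h.c x x, ?_⟩, rfl⟩
    rw [AddMonoidHom.mem_ker, de_apply, ← h.c_symm, add_self' h]
  apply Nat.card_le_card_of_injective (fun y : h.beta.range => (⟨_, h3 y⟩ : φ.range))
  intro y y' hy
  have h4 : Multiplicative.toAdd y.1 = Multiplicative.toAdd y'.1 := congrArg (fun z : φ.range => z.1) hy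
  exact Subtype.ext (Multiplicative.toAdd.injective h4)

theorem card_ker_beta : (2 ^ n) ^ 3 * Nat.card h.de.range ≤ Nat.card h.beta.ker * Nat.card h.de.ker := by
  have h1 := Subgroup.card_mul_index h.beta.ker
  rw [Subgroup.index_ker] at h1
  have h2 : Nat.card D.P = (2 ^ n) ^ 3 := Card.card_P D
  rw [← h2, ← h1]
  have h3 := h.card_beta_range
  calc Nat.card h.beta.ker * Nat.card h.beta.range * Nat.card h.de.range
      = Nat.card h.beta.ker * (Nat.card h.beta.range * Nat.card h.de.range) := by ring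
    _ ≤ _ := Nat.mul_le_mul_left _ h3

/-! ### the centraliser of `d` -/

omit h in
/-- `B = C_U(d)` -/
def B (U : Subgroup G) (d : G) : Subgroup G := U ⊓ centralizer ({d} : Set G)

omit h in
theorem mem_B {u : G} : u ∈ B U d ↔ u ∈ U ∧ u * d = d * u := by
  rw [B, mem_inf, mem_centralizer_singleton_iff]

/-- the elements of `B` -/
theorem mem_B' (x : D.P) (b : Fq K n) :
    (x : G) * (d * x * d⁻¹) * D.z b.1 ∈ B U d ↔ h.c x x = h.de b := by
  have hz : D.z b.1 ∈ U := h.P_le (D.z_mem _)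
  have hu : (x : G) * (d * x * d⁻¹) * D.z b.1 ∈ U :=
    mul_mem (mul_mem (h.P_le x.2) (h.P_le' x x.2)) hz
  have h1 : d * ((x : G) * (d * x * d⁻¹) * D.z b.1) * d⁻¹ =
      (d * x * d⁻¹) * x * D.z (h.th b).1 := by
    rw [← h.th_spec]
    calc d * ((x : G) * (d * x * d⁻¹) * D.z b.1) * d⁻¹ =
        (d * x * d⁻¹) * (d * (d * x * d⁻¹) * d⁻¹) * (d * D.z b.1 * d⁻¹) := by group
      _ = _ := by rw [h.conj_conj]
  rw [mem_B]
  have h2 : (x : G) * (d * x * d⁻¹) * D.z b.1 * d = d * (x * (d * x * d⁻¹) * D.z b.1) ↔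
      (x : G) * (d * x * d⁻¹) * D.z b.1 = (d * x * d⁻¹) * x * D.z (h.th b).1 := by
    rw [← h1, eq_mul_inv_iff_mul_eq]
  rw [h2]
  have h3 := h.c_spec x x
  have hcen := h.cen ((d * x * d⁻¹) * x) (mul_mem (h.P_le' x x.2) (h.P_le x.2))
  constructor
  · rintro ⟨_, h4⟩
    rw [h3, mul_assoc, hcen b.1, hcen (h.th b).1, ← mul_assoc] at h4
    have h5 := mul_right_cancel h4
    rw [← D.z_add] at h5
    have h6 := z_eq D (fixed_add (h.c x x).2 b.2) (h.th b).2 h5
    rw [de_apply]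
    apply Subtype.ext
    show (h.c x x).1 = b.1 + (h.th b).1
    rw [← h6]
    have : b.1 + ((h.c x x).1 + b.1) = (h.c x x).1 + (b.1 + b.1) := by ring
    rw [this, Field.add_self, add_zero]
  · intro h4
    refine ⟨hu, ?_⟩
    rw [h3, mul_assoc, hcen b.1, hcen (h.th b).1, ← mul_assoc, h4, de_apply]
    congr 1
    show D.z (b.1 + (h.th b).1) * D.z b.1 = D.z (h.th b).1
    rw [← D.z_add]
    congr 1
    have : b.1 + (h.th b).1 + b.1 = (h.th b).1 + (b.1 + b.1) := by ring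
    rw [this, Field.add_self, add_zero]

theorem exists_of_mem_B {u : G} (hu : u ∈ B U d) :
    ∃ (x : D.P) (b : Fq K n), u = x * (d * x * d⁻¹) * D.z b.1 := by
  rw [mem_B] at hu
  obtain ⟨hu, hud⟩ := hu
  obtain ⟨x, hx, y, hy, rfl⟩ := h.PP u hu
  have h1 : d * (x * (d * y * d⁻¹)) * d⁻¹ = x * (d * y * d⁻¹) := by
    rw [← hud]; group
  have h2 : d * (x * (d * y * d⁻¹)) * d⁻¹ = (d * x * d⁻¹) * y := by
    calc d * (x * (d * y * d⁻¹)) * d⁻¹ = (d * x * d⁻¹) * (d * (d * y * d⁻¹) * d⁻¹) := by group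
      _ = _ := by rw [h.conj_conj]
  rw [h2] at h1
  obtain ⟨b, hb, h3⟩ := h.cmt y hy x hx
  -- `z b (d x d⁻¹) y = y (d x d⁻¹)`
  have h4 : (d * x * d⁻¹) * y = D.z b * (y * (d * x * d⁻¹)) := by
    rw [h3, ← mul_assoc, z_self, one_mul]
  rw [h4] at h1
  have hzx : D.z b * (y * (d * x * d⁻¹)) = y * D.z b * (d * x * d⁻¹) := by
    rw [← mul_assoc, ← h.cen y (h.P_le hy)]
  rw [hzx] at h1
  have h5 : x⁻¹ * (y * D.z b) = d * (y * x⁻¹) * d⁻¹ := by
    calc x⁻¹ * (y * D.z b) = x⁻¹ * (y * D.z b * (d * x * d⁻¹)) * (d * x * d⁻¹)⁻¹ := by group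
      _ = d * (y * x⁻¹) * d⁻¹ := by rw [h1]; group
  have h6 := h.inf _ (mul_mem (inv_mem hx) (mul_mem hy (D.z_mem b))) _ (mul_mem hy (inv_mem hx)) h5
  rw [D.ca_mul _ (inv_mem hx) _ (mul_mem hy (D.z_mem b)), D.ca_mul _ hy _ (D.z_mem b), D.ca_z,
    add_zero, ca_inv D hx] at h6
  obtain ⟨b', hb', h7⟩ := eq_z_mul D hy hx (Field.add_eq_zero.mp h6).symm
  refine ⟨⟨x, hx⟩, h.th ⟨b', hb'⟩, ?_⟩
  rw [← h.th_spec, h7]
  have h8 := h.cen x (h.P_le hx) b'
  calc x * (d * (D.z b' * x) * d⁻¹) = x * (d * (x * D.z b') * d⁻¹) := by rw [h8]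
    _ = _ := by group

/-- squares of elements of `B` -/
theorem sq_B {u : G} (hu : u ∈ B U d) : ∃ b, u * u = D.z (h.de b).1 := by
  obtain ⟨x, b, rfl⟩ := h.exists_of_mem_B hu
  obtain hc := (h.mem_B' x b).mp hu
  have h1 := h.c_spec x x
  have hx1 := h.P_le x.2
  have hx2 := h.P_le' x x.2
  have hc1 := h.cen _ hx1
  have hc2 := h.cen _ hx2
  have hN := D.P_sq x x.2
  let ν : Fq K n := ⟨N n (D.ca x), fixed_N D.hq _⟩
  have hN2 : (d * (x : G) * d⁻¹) * (d * x * d⁻¹) = D.z (h.th ν).1 := by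
    rw [← h.th_spec]
    show _ = d * D.z (N n (D.ca x)) * d⁻¹
    rw [← hN]; group
  have h2 : (d * (x : G) * d⁻¹) * x = D.z (h.c x x).1 * (x * (d * x * d⁻¹)) := by
    rw [h1, ← mul_assoc, z_self, one_mul]
  refine ⟨b + ν, ?_⟩
  have e1 : (x : G) * (d * x * d⁻¹) * D.z b.1 * (x * (d * x * d⁻¹) * D.z b.1) =
      x * ((d * x * d⁻¹) * x) * (d * x * d⁻¹) := by
    have h3 := h.cen _ (mul_mem hx1 hx2) b.1
    calc (x : G) * (d * x * d⁻¹) * D.z b.1 * (x * (d * x * d⁻¹) * D.z b.1) =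
        (x : G) * (d * x * d⁻¹) * (D.z b.1 * (x * (d * x * d⁻¹))) * D.z b.1 := by group
      _ = (x : G) * (d * x * d⁻¹) * (x * (d * x * d⁻¹)) * (D.z b.1 * D.z b.1) := by
          rw [← h3]; group
      _ = _ := by rw [z_self]; group
  have e2 : (x : G) * (D.z (h.c x x).1 * (x * (d * x * d⁻¹))) * (d * x * d⁻¹) =
      D.z (h.c x x).1 * (x * x) * ((d * x * d⁻¹) * (d * x * d⁻¹)) := by
    calc (x : G) * (D.z (h.c x x).1 * (x * (d * x * d⁻¹))) * (d * x * d⁻¹) =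
        (x * D.z (h.c x x).1) * x * ((d * x * d⁻¹) * (d * x * d⁻¹)) := by group
      _ = _ := by rw [hc1]; group
  rw [e1, h2, e2, hN, hN2, map_add, ← hc, ← D.z_add, ← D.z_add]
  congr 1
  show (h.c x x).1 + ν.1 + (h.th ν).1 = (h.c x x).1 + (ν.1 + (h.th ν).1)
  rw [add_assoc]

/-- `|B|` is large. -/
theorem card_B [Finite G] :
    Nat.card h.beta.ker * Nat.card h.de.ker ≤ Nat.card (B U d) * 2 ^ n := by
  classical
  have hx : ∀ x : h.beta.ker, ∃ b : Fq K n, h.c x.1 x.1 = h.de b := fun x => h.mem_ker_beta.mp x.2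
  choose bb hbb using hx
  -- the elements of `C_Z(d)`
  have hzB : ∀ w : h.de.ker, D.z w.1.1 ∈ B U d := by
    intro w
    rw [mem_B]
    refine ⟨h.P_le (D.z_mem _), ?_⟩
    have h1 : h.th w.1 = w.1 := by
      have h2 := w.2
      rw [AddMonoidHom.mem_ker, de_apply] at h2
      have h3 : h.th w.1 = (w.1 + w.1) + h.th w.1 := by rw [add_self' h, zero_add]
      rw [h3, add_assoc, h2, add_zero]
    have h2 := h.th_spec w.1
    rw [h1] at h2
    rw [mul_inv_eq_iff_eq_mul] at h2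
    exact h2.symm
  let uu : h.beta.ker × h.de.ker → B U d := fun p =>
    ⟨(p.1.1 : G) * (d * p.1.1 * d⁻¹) * D.z (bb p.1).1 * D.z p.2.1.1,
      mul_mem ((h.mem_B' p.1.1 (bb p.1)).mpr (hbb p.1)) (hzB p.2)⟩
  -- a canonical `P`-component
  have hcomp : ∀ u : B U d, ∃ (x : D.P) (b : Fq K n), (u : G) = x * (d * x * d⁻¹) * D.z b.1 :=
    fun u => h.exists_of_mem_B u.2
  choose cx cb hcx using hcomp
  have key : ∀ (x y : D.P) (b b' : Fq K n), (x : G) * (d * x * d⁻¹) * D.z b.1 =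
      y * (d * y * d⁻¹) * D.z b'.1 → ((y : G)⁻¹ * x) ∈ Card.Z D := by
    intro x y b b' hxy
    have hcb := h.cen _ (h.P_le' x x.2) b.1
    have hcb' := h.cen _ (h.P_le' y y.2) b'.1
    have h1 : D.z b'.1 * ((y : G)⁻¹ * x) * D.z b.1 = d * ((y : G) * (x : G)⁻¹) * d⁻¹ := by
      have h2 := h.cen _ (h.P_le (mul_mem (inv_mem y.2) x.2)) b'.1
      calc D.z b'.1 * ((y : G)⁻¹ * x) * D.z b.1 =
          (y : G)⁻¹ * (x * (D.z b.1 * (d * x * d⁻¹))) * (d * x * d⁻¹)⁻¹ * D.z b'.1 := by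
            rw [← h2]
            have h4 := h.cen _ (h.P_le' x x.2) b'.1
            have h5 := z_comm D b'.1 b.1
            calc (y : G)⁻¹ * x * D.z b'.1 * D.z b.1 = (y : G)⁻¹ * x * (D.z b'.1 * D.z b.1) := by group
              _ = _ := by rw [h5]; group
        _ = (y : G)⁻¹ * (x * (d * x * d⁻¹) * D.z b.1) * (d * x * d⁻¹)⁻¹ * D.z b'.1 := by
            rw [← hcb]; group
        _ = (y : G)⁻¹ * (y * (d * y * d⁻¹) * D.z b'.1) * (d * x * d⁻¹)⁻¹ * D.z b'.1 := by rw [hxy]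
        _ = (d * y * d⁻¹) * (D.z b'.1 * (d * (x : G)⁻¹ * d⁻¹)) * D.z b'.1 := by group
        _ = (d * y * d⁻¹) * (d * (x : G)⁻¹ * d⁻¹) * (D.z b'.1 * D.z b'.1) := by
            rw [← h.cen _ (h.P_le' _ (inv_mem x.2)) b'.1]; group
        _ = _ := by rw [z_self]; group
    have h2 := h.inf _ (mul_mem (mul_mem (D.z_mem b'.1) (mul_mem (inv_mem y.2) x.2)) (D.z_mem b.1)) _
      (mul_mem y.2 (inv_mem x.2)) h1
    have hyx := mul_mem (inv_mem y.2) x.2
    rw [D.ca_mul _ (mul_mem (D.z_mem b'.1) hyx) _ (D.z_mem b.1), D.ca_mul _ (D.z_mem b'.1) _ hyx,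
      D.ca_z, D.ca_z, zero_add, add_zero] at h2
    exact D.exists_z _ hyx h2
  have hzz : ∀ p : h.beta.ker × h.de.ker, ((p.1.1 : G)⁻¹ * cx (uu p)) ∈ Card.Z D := by
    intro p
    have h1 := hcx (uu p)
    have h2 : (uu p : G) = p.1.1 * (d * p.1.1 * d⁻¹) * D.z (bb p.1 + p.2.1).1 := by
      show (p.1.1 : G) * (d * p.1.1 * d⁻¹) * D.z (bb p.1).1 * D.z p.2.1.1 = _
      rw [mul_assoc, ← D.z_add]; rfl
    exact key _ _ (cb (uu p)) (bb p.1 + p.2.1) (h1.symm.trans h2)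
  have hZ : Nat.card (Card.Z D) = 2 ^ n := Card.card_Z D
  rw [← hZ, ← Nat.card_prod, ← Nat.card_prod]
  apply Nat.card_le_card_of_injective (fun p => (uu p, (⟨_, hzz p⟩ : Card.Z D)))
  rintro ⟨x, w⟩ ⟨x', w'⟩ hp
  have h1 : uu (x, w) = uu (x', w') := congrArg Prod.fst hp
  have h2 : (x.1 : G)⁻¹ * cx (uu (x, w)) = (x'.1 : G)⁻¹ * cx (uu (x', w')) :=
    congrArg (fun z => ((z : _ × Card.Z D).2 : G)) hp
  rw [h1] at h2
  have h3 : (x.1 : G) = x'.1 := inv_injective (mul_right_cancel h2)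
  have h4 : x = x' := Subtype.ext (Subtype.ext h3)
  subst h4
  have h5 : (x.1 : G) * (d * x.1 * d⁻¹) * D.z (bb x).1 * D.z w.1.1 =
      (x.1 : G) * (d * x.1 * d⁻¹) * D.z (bb x).1 * D.z w'.1.1 := congrArg Subtype.val h1
  have h6 := z_eq D w.1.2 w'.1.2 (mul_left_cancel h5)
  have h7 : w = w' := Subtype.ext (Subtype.ext h6)
  rw [h7]

end Sw

open Sw

/-- **(D)**: a conjugate of `t` does not swap. -/
theorem false_of_sw [Finite G] (F : Fld D) (h : Sw D U d) {y : G} (hy : y * D.t * y⁻¹ = d)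
    (hdU : d ∉ U) : False := by
  classical
  have hB2 : IsPGroup 2 (B U d) := h.two.to_le inf_le_left
  obtain ⟨g, hgd, hg⟩ := exists_conj_Sg F hB2 (y := y) (by
    rw [hy]; intro c hc; exact (mem_B.mp hc).2)
  rw [hy] at hgd
  set B' : Subgroup G := (B U d).map (MulAut.conj g).toMonoidHom with hB'
  have hmB' : ∀ x, x ∈ B' ↔ ∃ u ∈ B U d, x = g * u * g⁻¹ := by
    intro x
    constructor
    · rintro ⟨u, hu, rfl⟩; exact ⟨u, hu, rfl⟩
    · rintro ⟨u, hu, rfl⟩; exact ⟨u, hu, rfl⟩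
  have hcB' : Nat.card B' = Nat.card (B U d) :=
    Nat.card_congr ((B U d).equivMapOfInjective _ (MulAut.conj g).injective).toEquiv.symm
  have hB'Sg : B' ≤ F.Sg := by
    intro x hx
    obtain ⟨u, hu, rfl⟩ := (hmB' x).mp hx
    exact hg u hu
  have htB' : D.t ∉ B' := by
    intro ht
    obtain ⟨u, hu, hu'⟩ := (hmB' _).mp ht
    rw [← hgd] at hu'
    have : d = u := mul_left_cancel (mul_right_cancel hu')
    exact hdU (this ▸ (mem_B.mp hu).1)
  have hBt := Sg_sub F hB'Sg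
  set H : Subgroup G := Rank.ker F B' hBt with hH
  have hmH : ∀ x, x ∈ H ↔ x ∈ B' ∧ ch F x = 1 := fun x => Iff.rfl
  -- `Z1`
  let Z1 : Subgroup G :=
    { carrier := {x | ∃ b ∈ h.de.range, x = g * D.z b.1 * g⁻¹}
      one_mem' := ⟨0, zero_mem _, by
        show (1 : G) = g * D.z 0 * g⁻¹
        rw [z_zero]; group⟩
      mul_mem' := by
        rintro _ _ ⟨b, hb, rfl⟩ ⟨c, hc, rfl⟩
        refine ⟨b + c, add_mem hb hc, ?_⟩
        show _ = g * D.z (b.1 + c.1) * g⁻¹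
        rw [D.z_add]; group
      inv_mem' := by
        rintro _ ⟨b, hb, rfl⟩
        refine ⟨b, hb, ?_⟩
        rw [mul_inv_rev, mul_inv_rev, inv_inv, z_inv]; group }
  have hmZ1 : ∀ x, x ∈ Z1 ↔ ∃ b ∈ h.de.range, x = g * D.z b.1 * g⁻¹ := fun x => Iff.rfl
  have hcZ1 : Nat.card Z1 = Nat.card h.de.range := by
    symm
    apply Nat.card_congr
    refine Equiv.ofBijective (fun b : h.de.range => (⟨g * D.z b.1.1 * g⁻¹, b.1, b.2, rfl⟩ : Z1)) ⟨?_, ?_⟩
    · intro b c hbc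
      have h1 : g * D.z b.1.1 * g⁻¹ = g * D.z c.1.1 * g⁻¹ := congrArg Subtype.val hbc
      have h2 := z_eq D b.1.2 c.1.2 (mul_left_cancel (mul_right_cancel h1))
      exact Subtype.ext (Subtype.ext h2)
    · rintro ⟨_, b, hb, rfl⟩
      exact ⟨⟨b, hb⟩, rfl⟩
  have hZ1B : Z1 ≤ B' := by
    rintro _ ⟨b, hb, rfl⟩
    refine (hmB' _).mpr ⟨D.z b.1, ?_, rfl⟩
    rw [mem_B]
    refine ⟨h.P_le (D.z_mem _), ?_⟩
    have h1 : h.th b = b := by
      have h2 := h.range_le hb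
      rw [AddMonoidHom.mem_ker, de_apply] at h2
      have h3 : h.th b = (b + b) + h.th b := by rw [add_self' h, zero_add]
      rw [h3, add_assoc, h2, add_zero]
    have h2 := h.th_spec b
    rw [h1, mul_inv_eq_iff_eq_mul] at h2
    exact h2.symm
  have hsq : ∀ x ∈ B', x * x ∈ Z1 := by
    intro x hx
    obtain ⟨u, hu, rfl⟩ := (hmB' x).mp hx
    obtain ⟨b, hb⟩ := h.sq_B hu
    refine ⟨h.de b, ⟨b, rfl⟩, ?_⟩
    rw [← hb]; group
  set Z1H : Subgroup G := Z1 ⊓ H with hZ1H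
  -- the coordinate on `H`
  have hHP : ∀ x ∈ H, x ∈ D.P ∨ x * D.t ∈ D.P := by
    intro x hx
    exact ch_ker F (hB'Sg hx.1) hx.2
  have hHt : ∀ x ∈ H, x * D.t = D.t * x := fun x hx => hBt x hx.1
  have hHQ : ∀ x ∈ H, x ∈ D.Q := by
    intro x hx
    rcases hHP x hx with h1 | h1
    · exact D.P_le h1
    · have : x = x * D.t * D.t := by rw [mul_assoc, D.t_sq, mul_one]
      rw [this]
      exact mul_mem (D.P_le h1) D.Q_t
  have hHa : ∀ x ∈ H, x * x = D.z (N n (a D x)) := by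
    intro x hx
    rcases hHP x hx with h1 | h1
    · rw [a_P D h1]; exact D.P_sq x h1
    · have h2 : a D x = D.ca (x * D.t) := by
        rw [← a_P D h1, a_mul D (hHQ x hx) D.Q_t, a_t, add_zero]
      rw [h2, ← D.P_sq _ h1]
      have h3 := hHt x hx
      calc x * x = x * (x * (D.t * D.t)) := by rw [D.t_sq, mul_one]
        _ = x * (x * D.t) * D.t := by group
        _ = x * (D.t * x) * D.t := by rw [h3]
        _ = x * D.t * (x * D.t) := by group
  let A0 : AddSubgroup K :=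
    { carrier := {α | ∃ x ∈ H, a D x = α}
      zero_mem' := ⟨1, one_mem _, a_one D⟩
      add_mem' := by
        rintro _ _ ⟨x, hx, rfl⟩ ⟨x', hx', rfl⟩
        exact ⟨x * x', mul_mem hx hx', a_mul D (hHQ x hx) (hHQ x' hx')⟩
      neg_mem' := by
        rintro _ ⟨x, hx, rfl⟩
        exact ⟨x⁻¹, inv_mem hx, by rw [a_inv D (hHQ x hx), CharTwo.neg_eq]⟩ }
  let M1 : AddSubgroup K :=
    { carrier := {b | bar n b = b ∧ D.z b ∈ Z1H}
      zero_mem' := ⟨bar_zero n, by rw [z_zero]; exact one_mem _⟩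
      add_mem' := by
        rintro b c ⟨hb, hb'⟩ ⟨hc, hc'⟩
        exact ⟨fixed_add hb hc, by rw [D.z_add]; exact mul_mem hb' hc'⟩
      neg_mem' := by
        rintro b ⟨hb, hb'⟩
        have : -b = b := CharTwo.neg_eq b
        rw [this]; exact ⟨hb, hb'⟩ }
  have hAN : ∀ α ∈ A0, N n α ∈ M1 := by
    rintro _ ⟨x, hx, rfl⟩
    refine ⟨fixed_N D.hq _, ?_⟩
    rw [← hHa x hx]
    exact ⟨hsq x hx.1, mul_mem hx hx⟩
  have hM1 : Nat.card M1 ≤ Nat.card Z1H := by
    apply Nat.card_le_card_of_injective (fun b : M1 => (⟨D.z b.1, b.2.2⟩ : Z1H))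
    intro b c hbc
    exact Subtype.ext (z_eq D b.2.1 c.2.1 (congrArg Subtype.val hbc))
  -- `|H| ≤ q |A0|`
  have hHA : Nat.card H ≤ 2 ^ n * Nat.card A0 := by
    let Nk : Subgroup G :=
      { carrier := {x | x ∈ H ∧ a D x = 0}
        one_mem' := ⟨one_mem _, a_one D⟩
        mul_mem' := by
          rintro x x' ⟨hx, hx0⟩ ⟨hx', hx0'⟩
          exact ⟨mul_mem hx hx', by rw [a_mul D (hHQ x hx) (hHQ x' hx'), hx0, hx0', add_zero]⟩
        inv_mem' := by
          rintro x ⟨hx, hx0⟩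
          exact ⟨inv_mem hx, by rw [a_inv D (hHQ x hx), hx0]⟩ }
    have h1 := Card.card_le_of_hom H Nk (a D) A0 (fun x hx x' hx' => a_mul D (hHQ x hx) (hHQ x' hx'))
      (fun x hx h0 => ⟨hx, h0⟩) (fun x hx => ⟨x, hx, rfl⟩)
    refine h1.trans (Nat.mul_le_mul_right _ ?_)
    rw [← Card.card_Z D]
    have h2 : ∀ x : Nk, (if (x : G) ∈ D.P then (x : G) else x * D.t) ∈ Card.Z D := by
      rintro ⟨x, hx, hx0⟩
      rcases hHP x hx with h3 | h3
      · have : (if x ∈ D.P then x else x * D.t) = x := if_pos h3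
        show (if x ∈ D.P then x else x * D.t) ∈ Card.Z D
        rw [this]
        exact D.exists_z x h3 (by rw [← a_P D h3]; exact hx0)
      · have h4 : x ∉ D.P := by
          intro h4
          apply D.t_not
          have : D.t = x⁻¹ * (x * D.t) := by group
          rw [this]; exact mul_mem (inv_mem h4) h3
        have : (if x ∈ D.P then x else x * D.t) = x * D.t := if_neg h4
        show (if x ∈ D.P then x else x * D.t) ∈ Card.Z D
        rw [this]
        exact D.exists_z _ h3 (by rw [← a_P D h3, a_mul D (hHQ x hx) D.Q_t, a_t, hx0, add_zero])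
    apply Nat.card_le_card_of_injective (fun x : Nk => (⟨_, h2 x⟩ : Card.Z D))
    intro x x' hxx
    have h3 : (if (x : G) ∈ D.P then (x : G) else x * D.t) =
        (if (x' : G) ∈ D.P then (x' : G) else x' * D.t) := congrArg Subtype.val hxx
    apply Subtype.ext
    by_cases hx : (x : G) ∈ D.P <;> by_cases hx' : (x' : G) ∈ D.P
    · rw [if_pos hx, if_pos hx'] at h3; exact h3
    · rw [if_pos hx, if_neg hx'] at h3
      exfalso
      apply htB'
      have : D.t = (x' : G)⁻¹ * x := by rw [h3]; group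
      rw [this]
      exact mul_mem (inv_mem x'.2.1.1) x.2.1.1
    · rw [if_neg hx, if_pos hx'] at h3
      exfalso
      apply htB'
      have : D.t = (x : G)⁻¹ * x' := by rw [← h3]; group
      rw [this]
      exact mul_mem (inv_mem x.2.1.1) x'.2.1.1
    · rw [if_neg hx, if_neg hx'] at h3
      exact mul_right_cancel h3
  -- `H2 = H Z1`
  let H2 : Subgroup G :=
    { carrier := {u | u ∈ B' ∧ ∃ z1 ∈ Z1, ch F u = ch F z1}
      one_mem' := ⟨one_mem _, 1, one_mem _, rfl⟩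
      mul_mem' := by
        rintro u u' ⟨hu, z1, hz1, h1⟩ ⟨hu', z1', hz1', h1'⟩
        refine ⟨mul_mem hu hu', z1 * z1', mul_mem hz1 hz1', ?_⟩
        rw [ch_mul F (hBt u hu) (hBt u' hu'), ch_mul F (hBt _ (hZ1B hz1)) (hBt _ (hZ1B hz1')), h1, h1']
      inv_mem' := by
        rintro u ⟨hu, z1, hz1, h1⟩
        refine ⟨inv_mem hu, z1⁻¹, inv_mem hz1, ?_⟩
        rw [ch_inv F (hBt u hu), ch_inv F (hBt _ (hZ1B hz1)), h1] }
  have hB'H2 : Nat.card B' ≤ 2 * Nat.card H2 := by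
    apply card_le_two
    intro x hx hxH y hy hyH
    let C1 : Subgroup (K ≃+* K) :=
      { carrier := {τ | ∃ z1 ∈ Z1, τ = ch F z1}
        one_mem' := ⟨1, one_mem _, (ch_one F).symm⟩
        mul_mem' := by
          rintro _ _ ⟨z1, hz1, rfl⟩ ⟨z2, hz2, rfl⟩
          exact ⟨z1 * z2, mul_mem hz1 hz2, (ch_mul F (hBt _ (hZ1B hz1)) (hBt _ (hZ1B hz2))).symm⟩
        inv_mem' := by
          rintro _ ⟨z1, hz1, rfl⟩
          exact ⟨z1⁻¹, inv_mem hz1, (ch_inv F (hBt _ (hZ1B hz1))).symm⟩ }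
    have hcyc : IsCyclic (K ≃+* K) := FieldAut.isCyclic
    have hfin : Finite (K ≃+* K) := FieldAut.finite_aut
    letI : CommGroup (K ≃+* K) := hcyc.commGroup
    have hnorm : C1.Normal := inferInstance
    have hcyc2 : IsCyclic ((K ≃+* K) ⧸ C1) :=
      isCyclic_of_surjective (QuotientGroup.mk' C1) (QuotientGroup.mk'_surjective C1)
    have h1 : ∀ u ∈ B', u ∉ H2 → (QuotientGroup.mk (ch F u) : (K ≃+* K) ⧸ C1) ≠ 1 ∧
        (QuotientGroup.mk (ch F u) : (K ≃+* K) ⧸ C1) * QuotientGroup.mk (ch F u) = 1 := by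
      intro u hu huH
      constructor
      · intro h2
        obtain ⟨z1, hz1, h3⟩ := (QuotientGroup.eq_one_iff _).mp h2
        exact huH ⟨hu, z1, hz1, h3⟩
      · rw [← QuotientGroup.mk_mul, QuotientGroup.eq_one_iff]
        exact ⟨u * u, hsq u hu, (ch_mul F (hBt u hu) (hBt u hu)).symm⟩
    obtain ⟨hx1, hx2⟩ := h1 x hx hxH
    obtain ⟨hy1, hy2⟩ := h1 y hy hyH
    have h3 := unique_of_cyclic hx2 hy2 hx1 hy1
    rw [QuotientGroup.eq] at h3
    obtain ⟨z1, hz1, h4⟩ := h3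
    refine ⟨mul_mem (inv_mem hx) hy, z1, hz1, ?_⟩
    rw [ch_mul F (comm_inv (hBt x hx)) (hBt y hy), ch_inv F (hBt x hx)]
    exact h4
  have hH2 : Nat.card H2 * Nat.card Z1H ≤ Nat.card H * Nat.card Z1 := by
    have h1 : ∀ u : H2, ∃ z1 ∈ Z1, ch F u = ch F z1 := fun u => u.2.2
    choose zz hzz1 hzz2 using h1
    have h2 : ∀ u : H2, (u : G) * (zz u)⁻¹ ∈ H := by
      intro u
      refine ⟨mul_mem u.2.1 (inv_mem (hZ1B (hzz1 u))), ?_⟩
      rw [ch_mul F (hBt _ u.2.1) (comm_inv (hBt _ (hZ1B (hzz1 u)))), ch_inv F (hBt _ (hZ1B (hzz1 u))),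
        hzz2 u, mul_inv_cancel]
    rw [← Nat.card_prod, ← Nat.card_prod]
    apply Nat.card_le_card_of_injective (fun p : H2 × Z1H =>
      ((⟨(p.1 : G) * (zz p.1)⁻¹ * p.2, mul_mem (h2 p.1) p.2.2.2⟩ : H),
        (⟨(p.2 : G)⁻¹ * zz p.1, mul_mem (inv_mem p.2.2.1) (hzz1 p.1)⟩ : Z1)))
    rintro ⟨u, w⟩ ⟨u', w'⟩ hp
    have h3 : (u : G) * (zz u)⁻¹ * w = u' * (zz u')⁻¹ * w' :=
      congrArg (fun z => ((z : H × Z1).1 : G)) hp
    have h4 : (w : G)⁻¹ * zz u = (w' : G)⁻¹ * zz u' := congrArg (fun z => ((z : H × Z1).2 : G)) hp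
    have h5 : (u : G) = u' := by
      calc (u : G) = ((u : G) * (zz u)⁻¹ * w) * ((w : G)⁻¹ * zz u) := by group
        _ = (u' * (zz u')⁻¹ * w') * ((w' : G)⁻¹ * zz u') := by rw [h3, h4]
        _ = u' := by group
    have h6 : u = u' := Subtype.ext h5
    subst h6
    have h7 : (w : G) = w' := inv_injective (mul_right_cancel h4)
    rw [Subtype.ext h7]
  -- numbers
  have n1 := h.card_ker_beta
  have n2 := h.card_B
  have n3 := h.card_ker_range
  have n4 : Nat.card h.de.range ≤ Nat.card h.de.ker :=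
    Nat.card_le_card_of_injective _ (AddSubgroup.inclusion_injective h.range_le)
  have n5 : Nat.card Z1H ≤ Nat.card Z1 := Subgroup.card_le_of_le inf_le_left
  rw [hcB'] at hB'H2
  rw [hcZ1] at hH2 n5
  have hRpos : 0 < Nat.card h.de.range := Nat.card_pos
  have hqpos : 0 < 2 ^ n := by positivity
  set q := 2 ^ n with hq
  set R := Nat.card h.de.range
  set Kd := Nat.card h.de.ker
  set β := Nat.card h.beta.ker
  set b := Nat.card (B U d)
  set η := Nat.card H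
  set η2 := Nat.card H2
  set m := Nat.card Z1H
  set α := Nat.card A0
  have m1 : q ^ 2 * R ≤ b := by
    have : q * (q ^ 2 * R) ≤ q * b := by
      calc q * (q ^ 2 * R) = q ^ 3 * R := by ring
        _ ≤ β * Kd := n1
        _ ≤ b * q := n2
        _ = q * b := by ring
    exact Nat.le_of_mul_le_mul_left this hqpos
  have m2 : q * m ≤ 2 * α := by
    have : (q * R) * (q * m) ≤ (q * R) * (2 * α) := by
      calc (q * R) * (q * m) = (q ^ 2 * R) * m := by ring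
        _ ≤ b * m := Nat.mul_le_mul_right _ m1
        _ ≤ (2 * η2) * m := Nat.mul_le_mul_right _ hB'H2
        _ = 2 * (η2 * m) := by ring
        _ ≤ 2 * (η * R) := Nat.mul_le_mul_left _ hH2
        _ ≤ 2 * ((q * α) * R) := Nat.mul_le_mul_left _ (Nat.mul_le_mul_right _ hHA)
        _ = _ := by ring
    exact Nat.le_of_mul_le_mul_left this (Nat.mul_pos hqpos hRpos)
  apply GOneFieldD.field_lem D.hq A0 M1 (fun b hb => hb.1) hAN
  · exact (Nat.mul_le_mul_left _ hM1).trans m2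
  · calc Nat.card M1 * Nat.card M1 ≤ m * m := Nat.mul_le_mul hM1 hM1
      _ ≤ Kd * R := Nat.mul_le_mul (n5.trans n4) n5
      _ = 2 ^ n := n3

end Cfsg.Agent.StdU3.GOneSwapD
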