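import Cfsg.Agent.StdU3.LevelTwo

/-!
# Equivariant extension of additive maps

`U` a group, `B ≤ U`, `f : B → F` additive, `F` of characteristic two, the squares of the elements
of `U` are in the kernel of `f`; a group `ι` of odd order acts on `U` and `B`, `f` transforms by a
character.  Then `f` extends to `U`, additively and equivariantly.

Applications (type `g0`): `a : V → K` extends to `U`, and `z b ↦ b` extends to `W`.
-/

set_option autoImplicit false
set_option linter.unusedSectionVars false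
set_option linter.style.haveILetI false

namespace Cfsg.Agent.StdU3.GZeroAvg

open Cfsg.Agent.StdU3.Field Cfsg.Agent.StdU3.PreDef Cfsg.Agent.StdU3.LevelOne
open Cfsg.Agent.StdU3.LevelOneW Cfsg.Agent.StdU3.NormQ Cfsg.Agent.StdU3.Kernel
open Cfsg.Agent.StdU3.Next Cfsg.Agent.StdU3.LevelTwo

section extend

variable {G : Type*} [Group G] {F : Type*} [AddCommGroup F]

/-- extension of additive maps -/
theorem exists_extend (h2 : ∀ x : F, x + x = 0) (U B : Subgroup G) (hBU : B ≤ U) (f : G → F)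
    (f_mul : ∀ x ∈ B, ∀ y ∈ B, f (x * y) = f x + f y)
    (sq : ∀ x ∈ U, x * x ∈ B ∧ f (x * x) = 0) :
    ∃ f0 : G → F, (∀ x ∈ U, ∀ y ∈ U, f0 (x * y) = f0 x + f0 y) ∧ ∀ x ∈ B, f0 x = f x := by
  classical
  have f_one : f 1 = 0 := by
    have := f_mul 1 B.one_mem 1 B.one_mem
    rw [mul_one] at this
    exact left_eq_add.mp this
  have f_inv : ∀ x ∈ B, f x⁻¹ = f x := by
    intro x hx
    have h1 := f_mul x⁻¹ (inv_mem hx) x hx
    rw [inv_mul_cancel, f_one] at h1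
    have h3 : f x⁻¹ + f x + f x = f x := by rw [← h1, zero_add]
    rwa [add_assoc, h2, add_zero] at h3
  -- the kernel
  let N0 : Subgroup G :=
    { carrier := {x | x ∈ B ∧ f x = 0}
      one_mem' := ⟨B.one_mem, f_one⟩
      mul_mem' := by
        rintro x y ⟨hx, hx'⟩ ⟨hy, hy'⟩
        exact ⟨mul_mem hx hy, by rw [f_mul x hx y hy, hx', hy', add_zero]⟩
      inv_mem' := by
        rintro x ⟨hx, hx'⟩
        exact ⟨inv_mem hx, by rw [f_inv x hx, hx']⟩ }
  have hN0 : ∀ x, x ∈ N0 ↔ x ∈ B ∧ f x = 0 := fun x => Iff.rfl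
  have hsq : ∀ x ∈ U, x * x ∈ N0 := sq
  have hcmt : ∀ s ∈ U, ∀ r ∈ U, s * r * s⁻¹ * r⁻¹ ∈ N0 := by
    intro s hs r hr
    have h3 : s * r * s⁻¹ * r⁻¹ =
        (s * r * (s * r)) * (r * r)⁻¹ * ((r * s * r⁻¹) * (r * s * r⁻¹))⁻¹ := by group
    rw [h3]
    exact mul_mem (mul_mem (hsq _ (mul_mem hs hr)) (inv_mem (hsq _ hr)))
      (inv_mem (hsq _ (mul_mem (mul_mem hr hs) (inv_mem hr))))
  have hNU : N0 ≤ U := fun x hx => hBU hx.1
  let N : Subgroup U := N0.subgroupOf U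
  haveI : N.Normal := ⟨by
    intro x hx g
    rw [Subgroup.mem_subgroupOf] at hx ⊢
    have h3 : ((g * x * g⁻¹ : U) : G) = ((g : G) * x * (g : G)⁻¹ * (x : G)⁻¹) * x := by
      push_cast; group
    rw [h3]
    exact mul_mem (hcmt _ g.2 _ x.2) hx⟩
  letI : CommGroup (U ⧸ N) :=
    { (inferInstance : Group (U ⧸ N)) with
      mul_comm := by
        intro a b
        induction a using QuotientGroup.induction_on with
        | H a =>
          induction b using QuotientGroup.induction_on with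
          | H b =>
            rw [← QuotientGroup.mk_mul, ← QuotientGroup.mk_mul, QuotientGroup.eq,
              Subgroup.mem_subgroupOf]
            have h3 : (((a * b)⁻¹ * (b * a) : U) : G) =
                (b : G)⁻¹ * (a : G)⁻¹ * ((b : G)⁻¹)⁻¹ * ((a : G)⁻¹)⁻¹ := by
              push_cast; group
            rw [h3]
            exact hcmt _ (inv_mem b.2) _ (inv_mem a.2) }
  letI : Module (ZMod 2) (Additive (U ⧸ N)) := AddCommGroup.zmodModule (by
    intro x
    rw [two_nsmul]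
    change Additive.ofMul (x.toMul * x.toMul) = Additive.ofMul 1
    congr 1
    generalize x.toMul = a
    induction a using QuotientGroup.induction_on with
    | H a =>
      rw [← QuotientGroup.mk_mul, QuotientGroup.eq_one_iff, Subgroup.mem_subgroupOf]
      exact hsq _ a.2)
  letI : Module (ZMod 2) F := AddCommGroup.zmodModule (by intro x; rw [two_nsmul, h2])
  -- the image of `B`
  let B' : Subgroup (U ⧸ N) := (B.subgroupOf U).map (QuotientGroup.mk' N)
  let p : Submodule (ZMod 2) (Additive (U ⧸ N)) :=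
    AddSubgroup.toZModSubmodule 2 (Subgroup.toAddSubgroup B')
  have hp : ∀ x : p, ∃ b : U, (b : G) ∈ B ∧ Additive.ofMul (b : U ⧸ N) = (x : Additive (U ⧸ N)) := by
    rintro ⟨x, hx⟩
    obtain ⟨b, hb, hbx⟩ := Subgroup.mem_map.mp (show x.toMul ∈ B' from hx)
    exact ⟨b, Subgroup.mem_subgroupOf.mp hb, congrArg Additive.ofMul hbx⟩
  have hwd : ∀ b c : U, (b : G) ∈ B → (c : G) ∈ B → (b : U ⧸ N) = (c : U ⧸ N) →
      f b = f c := by
    intro b c hb hc h3
    rw [QuotientGroup.eq, Subgroup.mem_subgroupOf] at h3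
    have h4 : f ((b : G)⁻¹ * c) = 0 := h3.2
    have h5 : (c : G) = b * ((b : G)⁻¹ * c) := by group
    rw [h5, f_mul _ hb _ (show (b : G)⁻¹ * c ∈ B from h3.1), h4, add_zero]
  choose r hr hrx using hp
  let f1 : p →+ F :=
    AddMonoidHom.mk' (fun x => f (r x)) (by
      intro x y
      rw [← f_mul _ (hr x) _ (hr y)]
      apply hwd (r (x + y)) (r x * r y) (hr _) (mul_mem (hr x) (hr y))
      apply Additive.ofMul.injective
      rw [hrx, QuotientGroup.mk_mul, ofMul_mul, hrx, hrx]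
      rfl)
  obtain ⟨g, hg⟩ := LinearMap.exists_extend (AddMonoidHom.toZModLinearMap 2 f1)
  refine ⟨fun x => if h : x ∈ U then g (Additive.ofMul ((⟨x, h⟩ : U) : U ⧸ N)) else 0, ?_, ?_⟩
  · intro x hx y hy
    beta_reduce
    rw [dif_pos hx, dif_pos hy, dif_pos (mul_mem hx hy), ← map_add, ← ofMul_mul,
      ← QuotientGroup.mk_mul]
    rfl
  · intro x hx
    beta_reduce
    rw [dif_pos (hBU hx)]
    let y : p := ⟨Additive.ofMul ((⟨x, hBU hx⟩ : U) : U ⧸ N), by
      change ((⟨x, hBU hx⟩ : U) : U ⧸ N) ∈ B'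
      exact Subgroup.mem_map.mpr ⟨⟨x, hBU hx⟩, Subgroup.mem_subgroupOf.mpr hx, rfl⟩⟩
    have h3 : g (y : Additive (U ⧸ N)) = f1 y := LinearMap.congr_fun hg y
    rw [h3]
    exact hwd (r y) ⟨x, hBU hx⟩ (hr y) hx (Additive.ofMul.injective (hrx y))

end extend

/-- **Equivariant extension.** -/
theorem exists_equivariant {G : Type*} [Group G] {F : Type*} [Field F] [CharP F 2]
    {ι : Type*} [CommGroup ι] [Finite ι] (odd : Odd (Nat.card ι)) (χ : ι → F)
    (χ_mul : ∀ l m, χ (l * m) = χ l * χ m) (χ_ne : ∀ l, χ l ≠ 0) (U B : Subgroup G) (hBU : B ≤ U)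
    (h : ι → G) (h_U : ∀ l, ∀ x ∈ U, h l * x * (h l)⁻¹ ∈ U)
    (h_B : ∀ l, ∀ x ∈ B, h l * x * (h l)⁻¹ ∈ B)
    (h_mul : ∀ l m, ∀ x ∈ U,
      h (l * m) * x * (h (l * m))⁻¹ = h l * (h m * x * (h m)⁻¹) * (h l)⁻¹) (f : G → F)
    (f_mul : ∀ x ∈ B, ∀ y ∈ B, f (x * y) = f x + f y)
    (f_h : ∀ l, ∀ x ∈ B, f (h l * x * (h l)⁻¹) = χ l * f x)
    (sq : ∀ x ∈ U, x * x ∈ B ∧ f (x * x) = 0) :
    ∃ f0 : G → F, (∀ x ∈ U, ∀ y ∈ U, f0 (x * y) = f0 x + f0 y) ∧ (∀ x ∈ B, f0 x = f x) ∧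
      ∀ l, ∀ x ∈ U, f0 (h l * x * (h l)⁻¹) = χ l * f0 x := by
  classical
  letI := Fintype.ofFinite ι
  rw [Nat.card_eq_fintype_card] at odd
  obtain ⟨f1, f1_mul, f1_B⟩ := exists_extend (CharTwo.add_self_eq_zero) U B hBU f f_mul sq
  refine ⟨fun x => ∑ l : ι, (χ l)⁻¹ * f1 (h l * x * (h l)⁻¹), ?_, ?_, ?_⟩
  · intro x hx y hy
    rw [← Finset.sum_add_distrib]
    apply Finset.sum_congr rfl
    intro l _
    have h1 : h l * (x * y) * (h l)⁻¹ = (h l * x * (h l)⁻¹) * (h l * y * (h l)⁻¹) := by group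
    rw [h1, f1_mul _ (h_U l x hx) _ (h_U l y hy), mul_add]
  · intro x hx
    have h1 : ∀ l : ι, (χ l)⁻¹ * f1 (h l * x * (h l)⁻¹) = f x := by
      intro l
      rw [f1_B _ (h_B l x hx), f_h l x hx, inv_mul_cancel_left₀ (χ_ne l)]
    beta_reduce
    rw [Finset.sum_congr rfl (fun l _ => h1 l), Finset.sum_const, Finset.card_univ]
    obtain ⟨j, hj⟩ := odd
    rw [hj, add_nsmul, one_nsmul, mul_nsmul, two_nsmul, CharTwo.add_self_eq_zero, nsmul_zero,
      zero_add]
  · intro m x hx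
    change ∑ l : ι, (χ l)⁻¹ * f1 (h l * (h m * x * (h m)⁻¹) * (h l)⁻¹) =
      χ m * ∑ l : ι, (χ l)⁻¹ * f1 (h l * x * (h l)⁻¹)
    rw [Finset.mul_sum, ← Equiv.sum_comp (Equiv.mulRight m)
      (fun l => χ m * ((χ l)⁻¹ * f1 (h l * x * (h l)⁻¹)))]
    apply Finset.sum_congr rfl
    intro l _
    have e1 : (Equiv.mulRight m) l = l * m := rfl
    have h3 := χ_ne m
    rw [← h_mul l m x hx, e1, χ_mul, mul_inv]
    field_simp

section applications

variable {G : Type*} [Group G] {K : Type*} [Field K] [Fintype K] [CharP K 2] {n : ℕ}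

theorem w_mul (l m : Kˣ) : w n (l * m) = w n l * w n m := by
  unfold w
  rw [Units.val_mul, bar_mul, mul_pow, mul_inv]
  ring

theorem odd_card_units (h : Qd K n) : Odd (Nat.card Kˣ) := by
  classical
  rw [Nat.card_units, Nat.card_eq_fintype_card, h.hK]
  have h4 := four_le h
  have h2 : Even ((2 ^ n) ^ 2) := by
    have h1 : Even (2 ^ n) := (Nat.even_pow.mpr ⟨even_two, by have := h.hn; omega⟩)
    exact h1.pow_of_ne_zero (by norm_num)
  exact Nat.Even.sub_odd (by nlinarith) h2 odd_one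

variable (D : Pre G K n) {O : Subgroup G}

/-- `a` extends from `V` to `U`. -/
theorem exists_x [Finite G] (hg0 : gam D = 0) (hO : Amb D O) (X : Next D O) :
    ∃ x : G → K, (∀ s ∈ U D X, ∀ r ∈ U D X, x (s * r) = x s + x r) ∧ (∀ g ∈ V D, x g = a D g) ∧
      ∀ l, ∀ s ∈ U D X, x (X.h' l * s * (X.h' l)⁻¹) = w n l * x s := by
  have hn : ∀ l, Norm D (X.h' l) := fun l => norm_of_fwd D (fun g hg => by
    rw [X.h'_Q l g hg]; exact D.Q_h l g hg)
  apply exists_equivariant (odd_card_units D.hq) (w n) w_mul (fun l => w_ne_zero l) (U D X) (V D)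
    (V_le_U D X) X.h' (fun l s hs => conj_U D X (hn l) (X.h'_S l) hs)
    (fun l g hg => conj_V D (hn l) hg) (fun l m s hs => X.h'_mul l m s (U_le D X hs)) (a D)
    (fun x hx y hy => a_mul D (V_le D hx) (V_le D hy))
  · intro l x hx
    rw [X.h'_Q l x (V_le D hx), a_h D l (V_le D hx)]
  · intro x hx
    have h1 := sq_mem_W D hg0 hO X hx
    exact ⟨W_le_V D h1, a_W D h1⟩

/-- the subgroup `Z`. -/
def Z : Subgroup G where
  carrier := {x | ∃ b, bar n b = b ∧ x = D.z b}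
  one_mem' := ⟨0, bar_zero n, (z_zero D).symm⟩
  mul_mem' := by
    rintro x y ⟨b, hb, rfl⟩ ⟨c, hc, rfl⟩
    exact ⟨b + c, fixed_add hb hc, (D.z_add b c).symm⟩
  inv_mem' := by
    rintro x ⟨b, hb, rfl⟩
    exact ⟨b, hb, z_inv D b⟩

/-- `z b ↦ b` extends from `Z` to `W`. -/
theorem exists_f (hg0 : gam D = 0) :
    ∃ f : G → K, (∀ s ∈ W D, ∀ r ∈ W D, f (s * r) = f s + f r) ∧
      (∀ b, bar n b = b → f (D.z b) = b) ∧ (∀ y ∈ W D, bar n (f y) = f y) ∧
      ∀ l, ∀ y ∈ W D, f (D.h l * y * (D.h l)⁻¹) = N n (l : K) * f y := by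
  classical
  let f0 : G → K := fun x => if h : ∃ b, bar n b = b ∧ x = D.z b then Classical.choose h else 0
  have hf0 : ∀ b, bar n b = b → f0 (D.z b) = b := by
    intro b hb
    have h : ∃ c, bar n c = c ∧ D.z b = D.z c := ⟨b, hb, rfl⟩
    change (if h : ∃ c, bar n c = c ∧ D.z b = D.z c then Classical.choose h else 0) = b
    rw [dif_pos h]
    obtain ⟨h1, h2⟩ := Classical.choose_spec h
    exact (z_eq D hb h1 h2).symm
  obtain ⟨f1, h1, h2, h3⟩ := exists_equivariant (odd_card_units D.hq)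
    (fun l : Kˣ => N n (l : K)) (fun l m => by rw [Units.val_mul, N_mul])
    (fun l => N_ne_zero l.ne_zero) (W D) (Z D)
    (by rintro x ⟨b, -, rfl⟩; exact z_mem_W D b) D.h (fun l s hs => W_h D l hs)
    (by rintro l x ⟨b, hb, rfl⟩; exact ⟨N n (l : K) * b, fixed_mul (fixed_N D.hq _) hb, h_z D l hb⟩)
    (fun l m s hs => D.h_mul l m s (W_le D hs)) f0
    (by
      rintro x ⟨b, hb, rfl⟩ y ⟨c, hc, rfl⟩
      rw [← D.z_add, hf0 _ (fixed_add hb hc), hf0 _ hb, hf0 _ hc])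
    (by
      rintro l x ⟨b, hb, rfl⟩
      rw [h_z D l hb, hf0 _ (fixed_mul (fixed_N D.hq _) hb), hf0 _ hb])
    (by
      intro x hx
      have h : x * x = 1 := by rw [W_sq D hx, hg0, zero_mul, z_zero]
      rw [h]
      refine ⟨(Z D).one_mem, ?_⟩
      rw [← z_zero D, hf0 0 (bar_zero n)])
  obtain ⟨e, he⟩ := exists_Tr_one D.hq
  refine ⟨fun y => Tr n (e * f1 y), ?_, ?_, ?_, ?_⟩
  · intro s hs r hr
    change Tr n (e * f1 (s * r)) = Tr n (e * f1 s) + Tr n (e * f1 r)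
    rw [h1 s hs r hr, mul_add, Tr_add]
  · intro b hb
    change Tr n (e * f1 (D.z b)) = b
    rw [h2 _ ⟨b, hb, rfl⟩, hf0 b hb, mul_comm, Tr_mul_fixed hb, he, mul_one]
  · intro y _
    exact fixed_Tr D.hq _
  · intro l y hy
    change Tr n (e * f1 (D.h l * y * (D.h l)⁻¹)) = N n (l : K) * Tr n (e * f1 y)
    rw [h3 l y hy, ← Tr_mul_fixed (fixed_N D.hq _)]
    congr 1; ring

end applications

end Cfsg.Agent.StdU3.GZeroAvg
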