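import Cfsg.Agent.StdU3.GZeroDef
import Cfsg.Agent.StdU3.FieldAut

/-!
# Type `g0`: basic facts
-/

set_option autoImplicit false
set_option linter.unusedSectionVars false

namespace Cfsg.Agent.StdU3.GZeroBase

open Cfsg.Agent.StdU3.Field Cfsg.Agent.StdU3.PreDef Cfsg.Agent.StdU3.FieldAut
open Cfsg.Agent.StdU3.GZeroDef

variable {G : Type*} [Group G] {K : Type*} [Field K] [Fintype K] [CharP K 2] {n : ℕ}
variable (D : GZero G K n)

/-! ### Coordinates -/

theorem a_one (i : Bool) : D.a i 1 = 0 := by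
  have := D.a_mul i 1 D.U.one_mem 1 D.U.one_mem
  rw [mul_one] at this
  exact left_eq_add.mp this

theorem a_inv (i : Bool) {x : G} (hx : x ∈ D.U) : D.a i x⁻¹ = D.a i x := by
  have := D.a_mul i x⁻¹ (inv_mem hx) x hx
  rw [inv_mul_cancel, a_one] at this
  exact Field.add_eq_zero.mp this.symm

theorem z_zero (i : Bool) : D.z i 0 = 1 := by
  have := D.z_add i 0 0
  rw [add_zero] at this
  exact left_eq_mul.mp this

theorem z_sq (i : Bool) (b : K) : D.z i b * D.z i b = 1 := by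
  rw [← D.z_add, Field.add_self, z_zero]

theorem z_inv (i : Bool) (b : K) : (D.z i b)⁻¹ = D.z i b := inv_eq_of_mul_eq_one_left (z_sq D i b)

theorem z_comm (i j : Bool) (b c : K) : D.z i b * D.z j c = D.z j c * D.z i b :=
  D.z_cen j c _ (D.z_mem i b)

/-- the centre of `U` -/
def W : Subgroup G where
  carrier := {x | x ∈ D.U ∧ ∀ i, D.a i x = 0}
  one_mem' := ⟨D.U.one_mem, fun i => a_one D i⟩
  mul_mem' := by
    rintro x y ⟨hx, hx'⟩ ⟨hy, hy'⟩
    exact ⟨mul_mem hx hy, fun i => by rw [D.a_mul i x hx y hy, hx' i, hy' i, add_zero]⟩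
  inv_mem' := by
    rintro x ⟨hx, hx'⟩
    exact ⟨inv_mem hx, fun i => by rw [a_inv D i hx, hx' i]⟩

theorem mem_W {x : G} : x ∈ W D ↔ x ∈ D.U ∧ ∀ i, D.a i x = 0 := Iff.rfl

theorem W_le : W D ≤ D.U := fun _ h => h.1

theorem z_mem_W (i : Bool) (b : K) : D.z i b ∈ W D := ⟨D.z_mem i b, fun j => D.a_z j i b⟩

theorem exists_zW {x : G} (hx : x ∈ W D) :
    ∃ b c, bar n b = b ∧ bar n c = c ∧ x = D.z false b * D.z true c := D.exists_z x hx.1 hx.2

theorem W_cen {x w : G} (hx : x ∈ D.U) (hw : w ∈ W D) : x * w = w * x := by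
  obtain ⟨b, c, -, -, rfl⟩ := exists_zW D hw
  rw [← mul_assoc, D.z_cen _ _ x hx, mul_assoc, D.z_cen _ _ x hx, mul_assoc]

theorem W_sq {w : G} (hw : w ∈ W D) : w * w = 1 := by
  rw [D.U_sq w hw.1, hw.2, hw.2, N_zero, z_zero, z_zero, mul_one]

theorem W_inv {w : G} (hw : w ∈ W D) : w⁻¹ = w := inv_eq_of_mul_eq_one_left (W_sq D hw)

theorem mem_W_of_sq {x : G} (hx : x ∈ D.U) (h : x * x = 1) : x ∈ W D := by
  rw [D.U_sq x hx] at h
  obtain ⟨h1, h2⟩ := D.z_inj _ _ (fixed_N D.hq _) (fixed_N D.hq _) h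
  refine ⟨hx, ?_⟩
  rintro (_ | _)
  · exact N_eq_zero h1
  · exact N_eq_zero h2

theorem mem_W_iff {x : G} : x ∈ W D ↔ x ∈ D.U ∧ x * x = 1 :=
  ⟨fun h => ⟨h.1, W_sq D h⟩, fun h => mem_W_of_sq D h.1 h.2⟩

theorem z_inj' (i : Bool) {b c : K} (hb : bar n b = b) (hc : bar n c = c)
    (h : D.z i b = D.z i c) : b = c := by
  have h1 : D.z i (b + c) = 1 := by rw [D.z_add, h, z_sq]
  have h2 := fixed_add hb hc
  rcases i with _ | _
  · have := (D.z_inj (b + c) 0 h2 (bar_zero n) (by rw [h1, z_zero, mul_one])).1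
    exact Field.add_eq_zero.mp this
  · have := (D.z_inj 0 (b + c) (bar_zero n) h2 (by rw [h1, z_zero, mul_one])).2
    exact Field.add_eq_zero.mp this

/-- coordinates on `W` -/
theorem zz_inj (i : Bool) {b c b' c' : K} (hb : bar n b = b) (hc : bar n c = c)
    (hb' : bar n b' = b') (hc' : bar n c' = c')
    (h : D.z i b * D.z (!i) c = D.z i b' * D.z (!i) c') : b = b' ∧ c = c' := by
  have h1 : D.z i (b + b') * D.z (!i) (c + c') = 1 := by
    rw [D.z_add, D.z_add, z_comm D i i b b', mul_assoc, ← mul_assoc (D.z i b), h, ← mul_assoc,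
      ← mul_assoc, z_sq, one_mul, z_sq]
  rcases i with _ | _
  · obtain ⟨h2, h3⟩ := D.z_inj _ _ (fixed_add hb hb') (fixed_add hc hc') h1
    exact ⟨Field.add_eq_zero.mp h2, Field.add_eq_zero.mp h3⟩
  · change D.z true (b + b') * D.z false (c + c') = 1 at h1
    rw [z_comm] at h1
    obtain ⟨h2, h3⟩ := D.z_inj _ _ (fixed_add hc hc') (fixed_add hb hb') h1
    exact ⟨Field.add_eq_zero.mp h3, Field.add_eq_zero.mp h2⟩

theorem exists_zW' (i : Bool) {x : G} (hx : x ∈ W D) :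
    ∃ b c, bar n b = b ∧ bar n c = c ∧ x = D.z i b * D.z (!i) c := by
  obtain ⟨b, c, hb, hc, rfl⟩ := exists_zW D hx
  rcases i with _ | _
  · exact ⟨b, c, hb, hc, rfl⟩
  · exact ⟨c, b, hc, hb, z_comm D _ _ _ _⟩

/-! ### The factors -/

/-- the elements of `U` supported on the factor `i`: `P_i W` -/
def R (i : Bool) : Subgroup G where
  carrier := {x | x ∈ D.U ∧ D.a (!i) x = 0}
  one_mem' := ⟨D.U.one_mem, a_one D _⟩
  mul_mem' := by
    rintro x y ⟨hx, hx'⟩ ⟨hy, hy'⟩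
    exact ⟨mul_mem hx hy, by rw [D.a_mul _ x hx y hy, hx', hy', add_zero]⟩
  inv_mem' := by
    rintro x ⟨hx, hx'⟩
    exact ⟨inv_mem hx, by rw [a_inv D _ hx, hx']⟩

theorem mem_R {i : Bool} {x : G} : x ∈ R D i ↔ x ∈ D.U ∧ D.a (!i) x = 0 := Iff.rfl

theorem R_le (i : Bool) : R D i ≤ D.U := fun _ h => h.1

theorem W_le_R (i : Bool) : W D ≤ R D i := fun _ h => ⟨h.1, h.2 _⟩

theorem mem_W_of_R {i : Bool} {x : G} (hx : x ∈ R D i) (h : D.a i x = 0) : x ∈ W D := by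
  refine ⟨hx.1, fun j => ?_⟩
  rcases Bool.eq_or_eq_not j i with rfl | rfl
  · exact h
  · exact hx.2

theorem mem_W_of_RR {i : Bool} {x : G} (hx : x ∈ R D i) (hx' : x ∈ R D (!i)) : x ∈ W D :=
  mem_W_of_R D hx (by have := hx'.2; rwa [Bool.not_not] at this)

theorem U_sq' (i : Bool) {x : G} (hx : x ∈ D.U) :
    x * x = D.z i (N n (D.a i x)) * D.z (!i) (N n (D.a (!i) x)) := by
  rw [D.U_sq x hx]
  rcases i with _ | _
  · rfl
  · exact z_comm D _ _ _ _

theorem U_comm' (i : Bool) {x y : G} (hx : x ∈ D.U) (hy : y ∈ D.U) :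
    x * y = D.z i (Tr n (D.a i x * bar n (D.a i y))) *
      D.z (!i) (Tr n (D.a (!i) x * bar n (D.a (!i) y))) * (y * x) := by
  rw [D.U_comm x hx y hy]
  rcases i with _ | _
  · rfl
  · rw [z_comm D false true]; rfl

theorem R_sq {i : Bool} {x : G} (hx : x ∈ R D i) : x * x = D.z i (N n (D.a i x)) := by
  rw [U_sq' D i hx.1, hx.2, N_zero, z_zero, mul_one]

theorem R_comm {i : Bool} {x y : G} (hx : x ∈ R D i) (hy : y ∈ D.U) :
    x * y = D.z i (Tr n (D.a i x * bar n (D.a i y))) * (y * x) := by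
  rw [U_comm' D i hx.1 hy, hx.2, zero_mul, Tr_zero, z_zero, mul_one]

theorem R_cmt {i : Bool} {x y : G} (hx : x ∈ R D i) (hy : y ∈ D.U) :
    x * y * x⁻¹ * y⁻¹ = D.z i (Tr n (D.a i x * bar n (D.a i y))) := by
  rw [R_comm D hx hy]; group

theorem RR_comm {i : Bool} {x y : G} (hx : x ∈ R D i) (hy : y ∈ R D (!i)) : x * y = y * x := by
  have h : D.a i y = 0 := by have := hy.2; rwa [Bool.not_not] at this
  rw [R_comm D hx hy.1, h, bar_zero, mul_zero, Tr_zero, z_zero, one_mul]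

theorem exists_R (i : Bool) (r : K) : ∃ x ∈ R D i, D.a i x = r := by
  obtain ⟨x, hx, h⟩ := D.a_surj (fun j => if j = i then r else 0)
  refine ⟨x, ⟨hx, ?_⟩, ?_⟩
  · rw [h, if_neg (by cases i <;> decide)]
  · rw [h, if_pos rfl]

/-- the decomposition `U = R i * R (!i)` -/
theorem exists_RR (i : Bool) {x : G} (hx : x ∈ D.U) :
    ∃ y ∈ R D i, ∃ y' ∈ R D (!i), x = y * y' ∧ D.a i y = D.a i x ∧ D.a (!i) y' = D.a (!i) x := by
  obtain ⟨y, hy, h⟩ := exists_R D i (D.a i x)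
  refine ⟨y, hy, y⁻¹ * x, ⟨mul_mem (inv_mem hy.1) hx, ?_⟩, by group, h, ?_⟩
  · rw [Bool.not_not, D.a_mul i _ (inv_mem hy.1) _ hx, a_inv D i hy.1, h, Field.add_self]
  · rw [D.a_mul _ _ (inv_mem hy.1) _ hx, a_inv D _ hy.1, hy.2, zero_add]

/-- `y⁻¹ x ∈ W` if the coordinates agree -/
theorem mem_W_of_eq {x y : G} (hx : x ∈ D.U) (hy : y ∈ D.U) (h : ∀ i, D.a i x = D.a i y) :
    y⁻¹ * x ∈ W D := by
  refine ⟨mul_mem (inv_mem hy) hx, fun i => ?_⟩
  rw [D.a_mul i _ (inv_mem hy) _ hx, a_inv D i hy, h i, Field.add_self]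

theorem mem_W_of_R_eq {i : Bool} {x y : G} (hx : x ∈ R D i) (hy : y ∈ R D i)
    (h : D.a i x = D.a i y) : y⁻¹ * x ∈ W D :=
  mem_W_of_eq D hx.1 hy.1 (fun j => by
    rcases Bool.eq_or_eq_not j i with rfl | rfl
    · exact h
    · rw [hx.2, hy.2])

/-- the centralizer of `R i` in `U` is `R (!i)` -/
theorem mem_R_of_comm {i : Bool} {x : G} (hx : x ∈ D.U) (h : ∀ y ∈ R D i, x * y = y * x) :
    x ∈ R D (!i) := by
  refine ⟨hx, ?_⟩
  rw [Bool.not_not]
  apply eq_zero_of_Tr D.hq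
  intro r
  obtain ⟨y, hy, rfl⟩ := exists_R D i r
  have h1 := R_cmt D hy hx
  rw [← h y hy] at h1
  have h2 : x * y * y⁻¹ * x⁻¹ = 1 := by group
  rw [h2] at h1
  have h3 := z_inj' D i (fixed_Tr D.hq _) (bar_zero n) (h1.symm.trans (z_zero D i).symm)
  rw [Tr_comm D.hq]
  exact h3

/-! ### The normalizer of `U` -/

/-- the normalizer of `U` -/
def NN : Subgroup G where
  carrier := {g | (∀ x ∈ D.U, g * x * g⁻¹ ∈ D.U) ∧ ∀ x ∈ D.U, g⁻¹ * x * g ∈ D.U}
  one_mem' := ⟨fun x hx => by simpa using hx, fun x hx => by simpa using hx⟩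
  mul_mem' := by
    rintro g k ⟨hg, hg'⟩ ⟨hk, hk'⟩
    refine ⟨fun x hx => ?_, fun x hx => ?_⟩
    · have := hg _ (hk x hx)
      rwa [show g * (k * x * k⁻¹) * g⁻¹ = g * k * x * (g * k)⁻¹ by group] at this
    · have := hk' _ (hg' x hx)
      rwa [show k⁻¹ * (g⁻¹ * x * g) * k = (g * k)⁻¹ * x * (g * k) by group] at this
  inv_mem' := by
    rintro g ⟨hg, hg'⟩
    exact ⟨fun x hx => by simpa using hg' x hx, fun x hx => by simpa using hg x hx⟩

theorem NN_conj {g x : G} (hg : g ∈ NN D) (hx : x ∈ D.U) : g * x * g⁻¹ ∈ D.U := hg.1 x hx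

theorem NN_conj' {g x : G} (hg : g ∈ NN D) (hx : x ∈ D.U) : g⁻¹ * x * g ∈ D.U := hg.2 x hx

theorem mem_NN [Finite G] {g : G} (h : ∀ x ∈ D.U, g * x * g⁻¹ ∈ D.U) : g ∈ NN D := by
  refine ⟨h, ?_⟩
  have hpow : ∀ k : ℕ, ∀ x ∈ D.U, g ^ k * x * (g ^ k)⁻¹ ∈ D.U := by
    intro k
    induction k with
    | zero => intro x hx; simpa using hx
    | succ k ih =>
      intro x hx
      have := h _ (ih x hx)
      rwa [show g * (g ^ k * x * (g ^ k)⁻¹) * g⁻¹ = g ^ (k + 1) * x * (g ^ (k + 1))⁻¹ by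
        rw [pow_succ']; group] at this
  intro x hx
  have hpos : 0 < orderOf g := orderOf_pos g
  have h1 : g⁻¹ = g ^ (orderOf g - 1) := by
    apply inv_eq_of_mul_eq_one_left
    rw [← pow_succ, Nat.sub_add_cancel hpos, pow_orderOf_eq_one]
  have h2 := hpow (orderOf g - 1) x hx
  rw [← h1, inv_inv] at h2
  exact h2

theorem U_le_NN : D.U ≤ NN D := fun _ hu =>
  ⟨fun _ hx => mul_mem (mul_mem hu hx) (inv_mem hu), fun _ hx => mul_mem (mul_mem (inv_mem hu) hx) hu⟩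

theorem t_mem_NN [Finite G] : D.t ∈ NN D := mem_NN D D.t_U

theorem s_mem_NN [Finite G] : D.s ∈ NN D := mem_NN D D.s_U

theorem h_mem_NN [Finite G] (l : Kˣ) : D.h l ∈ NN D := mem_NN D (D.h_U l)

theorem O_le_NN : D.O ≤ NN D := fun k hk => by
  refine ⟨fun x hx => ?_, fun x hx => ?_⟩
  · rw [D.O_U k hk x hx]; simpa using hx
  · have : k⁻¹ * x * k = x := by rw [mul_assoc, ← D.O_U k hk x hx]; group
    rw [this]; exact hx

theorem W_conj {g w : G} (hg : g ∈ NN D) (hw : w ∈ W D) : g * w * g⁻¹ ∈ W D := by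
  apply mem_W_of_sq D (NN_conj D hg hw.1)
  calc g * w * g⁻¹ * (g * w * g⁻¹) = g * (w * w) * g⁻¹ := by group
    _ = 1 := by rw [W_sq D hw]; group

theorem W_conj' {g w : G} (hg : g ∈ NN D) (hw : w ∈ W D) : g⁻¹ * w * g ∈ W D := by
  have := W_conj D (inv_mem hg) hw
  rwa [inv_inv] at this

/-- straight elements: they preserve both factors -/
def St : Subgroup G where
  carrier := {g | g ∈ NN D ∧ (∀ i, ∀ x ∈ R D i, g * x * g⁻¹ ∈ R D i) ∧
    ∀ i, ∀ x ∈ R D i, g⁻¹ * x * g ∈ R D i}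
  one_mem' := ⟨one_mem _, fun i x hx => by simpa using hx, fun i x hx => by simpa using hx⟩
  mul_mem' := by
    rintro g k ⟨hg0, hg, hg'⟩ ⟨hk0, hk, hk'⟩
    refine ⟨mul_mem hg0 hk0, fun i x hx => ?_, fun i x hx => ?_⟩
    · have := hg i _ (hk i x hx)
      rwa [show g * (k * x * k⁻¹) * g⁻¹ = g * k * x * (g * k)⁻¹ by group] at this
    · have := hk' i _ (hg' i x hx)
      rwa [show k⁻¹ * (g⁻¹ * x * g) * k = (g * k)⁻¹ * x * (g * k) by group] at this
  inv_mem' := by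
    rintro g ⟨hg0, hg, hg'⟩
    exact ⟨inv_mem hg0, fun i x hx => by simpa using hg' i x hx,
      fun i x hx => by simpa using hg i x hx⟩

theorem St_le : St D ≤ NN D := fun _ h => h.1

theorem St_R {g x : G} {i : Bool} (hg : g ∈ St D) (hx : x ∈ R D i) : g * x * g⁻¹ ∈ R D i :=
  hg.2.1 i x hx

theorem St_R' {g x : G} {i : Bool} (hg : g ∈ St D) (hx : x ∈ R D i) : g⁻¹ * x * g ∈ R D i :=
  hg.2.2 i x hx

/-- swapping elements -/
def Sw (g : G) : Prop := g ∈ NN D ∧ ∀ i, ∀ x ∈ R D i, g * x * g⁻¹ ∈ R D (!i)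

theorem act_cases {g : G} (hg : g ∈ NN D) :
    (g ∈ St D ∧ ∃ (c : Bool → K) (φ : Bool → (K ≃+* K)), (∀ i, c i ≠ 0) ∧
      ∀ i, ∀ x ∈ D.U, D.a i (g * x * g⁻¹) = c i * φ i (D.a i x)) ∨
    (Sw D g ∧ ∃ (c : Bool → K) (φ : Bool → (K ≃+* K)), (∀ i, c i ≠ 0) ∧
      ∀ i, ∀ x ∈ D.U, D.a i (g * x * g⁻¹) = c i * φ i (D.a (!i) x)) := by
  obtain ⟨c, φ, hc, h | h⟩ := D.act g hg.1
  · left
    refine ⟨⟨hg, fun i x hx => ⟨hg.1 x hx.1, ?_⟩, fun i x hx => ⟨hg.2 x hx.1, ?_⟩⟩, c, φ, hc, h⟩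
    · rw [h _ x hx.1, hx.2, map_zero, mul_zero]
    · have h1 := h (!i) _ (hg.2 x hx.1)
      rw [show g * (g⁻¹ * x * g) * g⁻¹ = x by group, hx.2] at h1
      rcases mul_eq_zero.mp h1.symm with h2 | h2
      · exact absurd h2 (hc _)
      · exact (map_eq_zero _).mp h2
  · right
    refine ⟨⟨hg, fun i x hx => ⟨hg.1 x hx.1, ?_⟩⟩, c, φ, hc, h⟩
    rw [h _ x hx.1, Bool.not_not, hx.2, map_zero, mul_zero]

theorem not_St_of_Sw {g : G} (hg : Sw D g) : g ∉ St D := by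
  intro h
  obtain ⟨x, hx, h1⟩ := exists_R D false 1
  have h2 := mem_W_of_RR D (St_R D h hx) (hg.2 false x hx)
  have h3 := W_conj' D h.1 h2
  rw [show g⁻¹ * (g * x * g⁻¹) * g = x by group] at h3
  have := h3.2 false
  rw [h1] at this
  exact one_ne_zero this

theorem St_act {g : G} (hg : g ∈ St D) : ∃ (c : Bool → K) (φ : Bool → (K ≃+* K)),
    (∀ i, c i ≠ 0) ∧ ∀ i, ∀ x ∈ D.U, D.a i (g * x * g⁻¹) = c i * φ i (D.a i x) := by
  rcases act_cases D hg.1 with h | h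
  · exact h.2
  · exact absurd hg (not_St_of_Sw D h.1)

theorem Sw_of_not {g : G} (hg : g ∈ NN D) (h : g ∉ St D) : Sw D g := by
  rcases act_cases D hg with h' | h'
  · exact absurd h'.1 h
  · exact h'.1

theorem Sw_act {g : G} (hg : Sw D g) : ∃ (c : Bool → K) (φ : Bool → (K ≃+* K)),
    (∀ i, c i ≠ 0) ∧ ∀ i, ∀ x ∈ D.U, D.a i (g * x * g⁻¹) = c i * φ i (D.a (!i) x) := by
  rcases act_cases D hg.1 with h | h
  · exact absurd h.1 (not_St_of_Sw D hg)
  · exact h.2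

/-- `St` has index at most two in `NN` -/
theorem St_of_mul {g k : G} (hg : g ∈ NN D) (hk : k ∈ NN D) (hg' : g ∉ St D) (hk' : k ∉ St D) :
    g * k ∈ St D := by
  by_contra h
  have h1 := Sw_of_not D hg hg'
  have h2 := Sw_of_not D hk hk'
  have h3 := Sw_of_not D (mul_mem hg hk) h
  obtain ⟨x, hx, hx1⟩ := exists_R D false 1
  have h4 := h1.2 _ _ (h2.2 _ x hx)
  rw [Bool.not_not, show g * (k * x * k⁻¹) * g⁻¹ = g * k * x * (g * k)⁻¹ by group] at h4
  have h5 := mem_W_of_RR D h4 (h3.2 _ x hx)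
  have h6 := W_conj' D (mul_mem hg hk) h5
  rw [show (g * k)⁻¹ * (g * k * x * (g * k)⁻¹) * (g * k) = x by group] at h6
  have := h6.2 false
  rw [hx1] at this
  exact one_ne_zero this

theorem U_le_St : D.U ≤ St D := by
  intro u hu
  refine ⟨U_le_NN D hu, fun i x hx => ?_, fun i x hx => ?_⟩
  · refine ⟨mul_mem (mul_mem hu hx.1) (inv_mem hu), ?_⟩
    rw [D.a_mul _ _ (mul_mem hu hx.1) _ (inv_mem hu), D.a_mul _ _ hu _ hx.1, a_inv D _ hu, hx.2,
      add_zero, Field.add_self]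
  · refine ⟨mul_mem (mul_mem (inv_mem hu) hx.1) hu, ?_⟩
    rw [D.a_mul _ _ (mul_mem (inv_mem hu) hx.1) _ hu, D.a_mul _ _ (inv_mem hu) _ hx.1,
      a_inv D _ hu, hx.2, add_zero, Field.add_self]

theorem a_conj_U {u x : G} (i : Bool) (hu : u ∈ D.U) (hx : x ∈ D.U) :
    D.a i (u * x * u⁻¹) = D.a i x := by
  rw [D.a_mul _ _ (mul_mem hu hx) _ (inv_mem hu), D.a_mul _ _ hu _ hx, a_inv D _ hu, add_comm,
    ← add_assoc, Field.add_self, zero_add]

theorem t_Sw [Finite G] : Sw D D.t := by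
  refine ⟨t_mem_NN D, fun i x hx => ⟨D.t_U x hx.1, ?_⟩⟩
  rw [D.t_a _ x hx.1, Bool.not_not, hx.2]

theorem t_not_St [Finite G] : D.t ∉ St D := not_St_of_Sw D (t_Sw D)

theorem s_mem_St [Finite G] : D.s ∈ St D := by
  obtain ⟨c, hc⟩ := D.s_a
  rcases act_cases D (s_mem_NN D) with h | h
  · exact h.1
  · exfalso
    obtain ⟨x, hx, hx1⟩ := exists_R D false 1
    have h1 := h.1.2 _ x hx
    have h2 : D.s * x * D.s⁻¹ ∈ R D false :=
      ⟨D.s_U x hx.1, by rw [hc _ x hx.1, hx.2, bar_zero, mul_zero]⟩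
    have h3 := W_conj' D (s_mem_NN D) (mem_W_of_RR D h2 h1)
    rw [show D.s⁻¹ * (D.s * x * D.s⁻¹) * D.s = x by group] at h3
    have := h3.2 false
    rw [hx1] at this
    exact one_ne_zero this

/-! ### Action on the centre -/

theorem map_bar (φ : K ≃+* K) (x : K) : φ (bar n x) = bar n (φ x) := map_pow φ x _

theorem map_N (φ : K ≃+* K) (x : K) : φ (N n x) = N n (φ x) := by
  rw [N_def, map_mul, map_bar, N_def]

theorem fixed_map (φ : K ≃+* K) {x : K} (hx : bar n x = x) : bar n (φ x) = φ x := by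
  rw [← map_bar, hx]

theorem z_conj {g : G} {c : K} {φ : K ≃+* K} {i j : Bool}
    (hR : ∀ x ∈ R D i, g * x * g⁻¹ ∈ R D j)
    (h : ∀ x ∈ R D i, D.a j (g * x * g⁻¹) = c * φ (D.a i x)) {b : K} (hb : bar n b = b) :
    g * D.z i b * g⁻¹ = D.z j (N n c * φ b) := by
  obtain ⟨r, rfl⟩ := exists_norm D.hq hb
  obtain ⟨x, hx, rfl⟩ := exists_R D i r
  rw [← R_sq D hx, map_N, ← N_mul, ← h x hx, ← R_sq D (hR x hx)]
  group

theorem St_z {g : G} (hg : g ∈ St D) {c : Bool → K} {φ : Bool → (K ≃+* K)}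
    (h : ∀ i, ∀ x ∈ D.U, D.a i (g * x * g⁻¹) = c i * φ i (D.a i x)) (i : Bool) {b : K}
    (hb : bar n b = b) : g * D.z i b * g⁻¹ = D.z i (N n (c i) * φ i b) :=
  z_conj D (fun _ hx => St_R D hg hx) (fun x hx => h i x hx.1) hb

theorem Sw_z {g : G} (hg : Sw D g) {c : Bool → K} {φ : Bool → (K ≃+* K)}
    (h : ∀ i, ∀ x ∈ D.U, D.a i (g * x * g⁻¹) = c i * φ i (D.a (!i) x)) (i : Bool) {b : K}
    (hb : bar n b = b) : g * D.z i b * g⁻¹ = D.z (!i) (N n (c (!i)) * φ (!i) b) :=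
  z_conj D (fun _ hx => hg.2 i _ hx) (fun x hx => by
    have := h (!i) x hx.1
    rwa [Bool.not_not] at this) hb

include D in
theorem fixed_Nφ (c : K) (φ : K ≃+* K) {b : K} (hb : bar n b = b) :
    bar n (N n c * φ b) = N n c * φ b := fixed_mul (fixed_N D.hq _) (fixed_map φ hb)

/-- an element centralizing `U / W` centralizes `W` -/
theorem comm_W_of_a [Finite G] {g w : G} (hg : g ∈ NN D)
    (h : ∀ i, ∀ x ∈ D.U, D.a i (g * x * g⁻¹) = D.a i x) (hw : w ∈ W D) : g * w = w * g := by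
  have hR : ∀ i, ∀ x ∈ R D i, g * x * g⁻¹ ∈ R D i := fun i x hx =>
    ⟨NN_conj D hg hx.1, by rw [h _ x hx.1, hx.2]⟩
  have h1 : ∀ i b, bar n b = b → g * D.z i b * g⁻¹ = D.z i b := by
    intro i b hb
    have := z_conj D (c := 1) (φ := RingEquiv.refl K) (hR i)
      (fun x hx => by rw [h i x hx.1, one_mul]; rfl) hb
    rwa [N_one, one_mul] at this
  obtain ⟨b, c, hb, hc, rfl⟩ := exists_zW D hw
  have h2 : g * (D.z false b * D.z true c) * g⁻¹ = D.z false b * D.z true c := by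
    calc g * (D.z false b * D.z true c) * g⁻¹ = (g * D.z false b * g⁻¹) * (g * D.z true c * g⁻¹) := by
          group
      _ = _ := by rw [h1 _ b hb, h1 _ c hc]
  calc g * (D.z false b * D.z true c) = g * (D.z false b * D.z true c) * g⁻¹ * g := by group
    _ = _ := by rw [h2]

/-! ### Semilinear action on one factor -/

/-- `g` acts on the factor `i` modulo `W` as `x ↦ c φ(x)` -/
def Act (i : Bool) (g : G) (c : K) (φ : K ≃+* K) : Prop :=
  ∀ x ∈ D.U, D.a i (g * x * g⁻¹) = c * φ (D.a i x)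

theorem Act.mul {i : Bool} {g k : G} {c c' : K} {φ φ' : K ≃+* K} (h : Act D i g c φ)
    (h' : Act D i k c' φ') (hk : k ∈ NN D) : Act D i (g * k) (c * φ c') (φ * φ') := by
  intro x hx
  rw [show g * k * x * (g * k)⁻¹ = g * (k * x * k⁻¹) * g⁻¹ by group, h _ (NN_conj D hk hx), h' x hx,
    map_mul, mul_assoc]
  rfl

theorem Act.inv {i : Bool} {g : G} {c : K} {φ : K ≃+* K} (h : Act D i g c φ) (hc : c ≠ 0)
    (hg : g ∈ NN D) : Act D i g⁻¹ (φ⁻¹ c⁻¹) φ⁻¹ := by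
  intro x hx
  rw [inv_inv]
  have h1 := h _ (NN_conj' D hg hx)
  rw [show g * (g⁻¹ * x * g) * g⁻¹ = x by group] at h1
  rw [h1, map_mul, ← mul_assoc, ← map_mul, inv_mul_cancel₀ hc, map_one, one_mul]
  exact (φ.symm_apply_apply _).symm

theorem Act.of_U {i : Bool} {u : G} (hu : u ∈ D.U) : Act D i u 1 1 := by
  intro x hx
  rw [a_conj_U D i hu hx, one_mul]; rfl

theorem Act.unique {i : Bool} {g : G} {c c' : K} {φ φ' : K ≃+* K} (h : Act D i g c φ)
    (h' : Act D i g c' φ') (hc : c ≠ 0) : c = c' ∧ φ = φ' := by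
  have h1 : ∀ r, c * φ r = c' * φ' r := by
    intro r
    obtain ⟨x, hx, rfl⟩ := exists_R D i r
    rw [← h x hx.1, ← h' x hx.1]
  have h2 : c = c' := by
    have := h1 1
    rwa [map_one, map_one, mul_one, mul_one] at this
  refine ⟨h2, ?_⟩
  ext r
  have := h1 r
  rw [← h2] at this
  exact mul_left_cancel₀ hc this

theorem Act.ne_zero [Finite G] {i : Bool} {g : G} {c : K} {φ : K ≃+* K} (h : Act D i g c φ)
    (hg : g ∈ St D) : c ≠ 0 := by
  rintro rfl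
  obtain ⟨c', φ', hc', h'⟩ := St_act D hg
  obtain ⟨x, hx, hx1⟩ := exists_R D i 1
  have h1 := h x hx.1
  rw [h' i x hx.1, hx1, map_one, mul_one, zero_mul] at h1
  exact hc' i h1

/-- the commutator of two straight elements acts by scalars -/
theorem Act.cmt {i : Bool} {g k : G} {c c' : K} {φ φ' : K ≃+* K} (h : Act D i g c φ)
    (h' : Act D i k c' φ') (hc : c ≠ 0) (hc' : c' ≠ 0) (hg : g ∈ NN D) (hk : k ∈ NN D) :
    ∃ c'', Act D i (g * k * g⁻¹ * k⁻¹) c'' 1 := by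
  have h1 := ((h.mul D h' hk).mul D (h.inv D hc hg) (inv_mem hg)).mul D (h'.inv D hc' hk)
    (inv_mem hk)
  have h2 : φ * φ' * φ⁻¹ * φ'⁻¹ = 1 := by rw [comm φ φ']; group
  rw [h2] at h1
  exact ⟨_, h1⟩

/-- an element of 2-power order acting by a scalar acts trivially -/
theorem scalar_one {i : Bool} {g : G} {c : K} (hg : g ∈ NN D) (h : Act D i g c 1) {k : ℕ}
    (hk : g ^ 2 ^ k = 1) : c = 1 := by
  have hpow : ∀ m : ℕ, Act D i (g ^ m) (c ^ m) 1 := by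
    intro m
    induction m with
    | zero =>
      rw [pow_zero, pow_zero]
      exact Act.of_U D D.U.one_mem
    | succ m ih =>
      have h1 := ih.mul D h hg
      rw [← pow_succ, mul_one] at h1
      rw [pow_succ c m]
      exact h1
  obtain ⟨x, hx, hx1⟩ := exists_R D i 1
  have h1 := hpow (2 ^ k) x hx.1
  rw [hk, hx1, map_one, mul_one, one_mul, inv_one, mul_one, hx1] at h1
  have h2 : (c + 1) ^ 2 ^ k = 0 := by
    rw [add_pow_char_pow, one_pow, ← h1, Field.add_self]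
  have h3 : c + 1 = 0 := (pow_eq_zero_iff (by positivity)).mp h2
  exact Field.add_eq_zero.mp h3

/-- the 2-subgroups of the normalizer which contain `U` -/
structure Two (T : Subgroup G) : Prop where
  two : IsPGroup 2 T
  U_le : D.U ≤ T
  le : T ≤ NN D

variable {D}

theorem Two.pow {T : Subgroup G} (hT : Two D T) {x : G} (hx : x ∈ T) : ∃ k : ℕ, x ^ 2 ^ k = 1 := by
  obtain ⟨k, hk⟩ := hT.two ⟨x, hx⟩
  exact ⟨k, congrArg Subtype.val hk⟩

/-- `T ∩ O = 1` -/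
theorem Two.O_eq {T : Subgroup G} (hT : Two D T) {x : G} (hx : x ∈ T) (hO : x ∈ D.O) : x = 1 := by
  obtain ⟨k, hk⟩ := hT.pow hx
  have h1 : orderOf x ∣ 2 ^ k := orderOf_dvd_of_pow_eq_one hk
  have h2 : orderOf x ∣ Nat.card D.O := by
    rw [← Subgroup.orderOf_mk x hO]; exact orderOf_dvd_natCard _
  have h3 : Nat.Coprime (2 ^ k) (Nat.card D.O) :=
    Nat.Coprime.pow_left k (Nat.coprime_two_left.mpr D.O_odd)
  rw [← orderOf_eq_one_iff]
  exact Nat.eq_one_of_dvd_coprimes h3 h1 h2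

theorem Two.mem_U {T : Subgroup G} (hT : Two D T) {x : G} (hx : x ∈ T)
    (h : ∀ i, ∃ c, Act D i x c 1) : x ∈ D.U := by
  have h1 : ∀ i, ∀ y ∈ D.U, D.a i (x * y * x⁻¹) = D.a i y := by
    intro i y hy
    obtain ⟨c, hc⟩ := h i
    obtain ⟨k, hk⟩ := hT.pow hx
    have h2 := scalar_one D (hT.le hx) hc hk
    rw [hc y hy, h2, one_mul]; rfl
  obtain ⟨u, hu, k, hk, rfl⟩ := D.ker x (hT.le hx).1 h1
  have h2 : k ∈ T := (Subgroup.mul_mem_cancel_left T (hT.U_le hu)).mp hx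
  rw [hT.O_eq h2 hk, mul_one]
  exact hu

/-- **(w1)** -/
theorem Two.cmt_mem {T : Subgroup G} (hT : Two D T) {x y : G} (hx : x ∈ T) (hy : y ∈ T)
    (hx' : x ∈ St D) (hy' : y ∈ St D) : x * y * x⁻¹ * y⁻¹ ∈ D.U := by
  obtain ⟨c, φ, hc, h⟩ := St_act D hx'
  obtain ⟨c', φ', hc', h'⟩ := St_act D hy'
  exact hT.mem_U (mul_mem (mul_mem (mul_mem hx hy) (inv_mem hx)) (inv_mem hy))
    (fun i => Act.cmt D (h i) (h' i) (hc i) (hc' i) (hT.le hx) (hT.le hy))

/-- the Galois components of a straight element whose square is in `U` -/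
theorem type_cases {g : G} {i : Bool} {c : K} {φ : K ≃+* K} (hg : g ∈ NN D) (h : Act D i g c φ)
    (hc : c ≠ 0) (hgg : g * g ∈ D.U) : N n c = 1 ∧ ((φ = 1 ∧ c = 1) ∨ φ = barE D.hq) := by
  obtain ⟨h1, h2⟩ := (h.mul D h hg).unique D (Act.of_U D hgg)
    (mul_ne_zero hc (fun h0 => hc ((map_eq_zero φ).mp h0)))
  by_cases hφ : φ = 1
  · rw [hφ] at h1
    have h3 : c * c = 1 := h1
    have h4 : (c + 1) * (c + 1) = 0 := by
      have : (c + 1) * (c + 1) = c * c + 1 + (c + c) := by ring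
      rw [this, Field.add_self, add_zero, h3, Field.add_self]
    have h5 : c = 1 := Field.add_eq_zero.mp (mul_self_eq_zero.mp h4)
    exact ⟨by rw [h5, N_one], Or.inl ⟨hφ, h5⟩⟩
  · have h3 := eq_bar D.hq h2 hφ
    rw [h3] at h1
    exact ⟨h1, Or.inr h3⟩

/-- a straight element whose square is in `U` centralizes `W` -/
theorem comm_W [Finite G] {g w : G} (hg : g ∈ St D) (hgg : g * g ∈ D.U) (hw : w ∈ W D) :
    g * w = w * g := by
  obtain ⟨c, φ, hc, h⟩ := St_act D hg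
  have h1 : ∀ i b, bar n b = b → g * D.z i b * g⁻¹ = D.z i b := by
    intro i b hb
    obtain ⟨h2, h3⟩ := type_cases hg.1 (h i) (hc i) hgg
    rw [St_z D hg h i hb, h2, one_mul]
    rcases h3 with ⟨h3, -⟩ | h3
    · rw [h3]; rfl
    · rw [h3, barE_apply, hb]
  obtain ⟨b, c, hb, hc, rfl⟩ := exists_zW D hw
  have h2 : g * (D.z false b * D.z true c) * g⁻¹ = D.z false b * D.z true c := by
    calc g * (D.z false b * D.z true c) * g⁻¹ = (g * D.z false b * g⁻¹) * (g * D.z true c * g⁻¹) := by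
          group
      _ = _ := by rw [h1 _ b hb, h1 _ c hc]
  calc g * (D.z false b * D.z true c) = g * (D.z false b * D.z true c) * g⁻¹ * g := by group
    _ = _ := by rw [h2]

/-! ### Inverted elements -/

/-- elements inverted by an element of type `bar` on the factor `i` -/
theorem exists_inverted {g : G} {i : Bool} {c : K} (hg : g ∈ St D)
    (h : Act D i g c (barE D.hq)) (hgg : ∀ x ∈ R D i, g * g * x = x * (g * g)) {r : K}
    (hr : c * bar n r = r) : ∃ x ∈ R D i, D.a i x = r ∧ g * x * g⁻¹ = x⁻¹ := by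
  obtain ⟨e, he⟩ := exists_Tr_one D.hq
  obtain ⟨p, hp, hpa⟩ := exists_R D i (e * r)
  have h1 : g * p * g⁻¹ ∈ R D i := St_R D hg hp
  refine ⟨p * (g * p * g⁻¹)⁻¹, mul_mem hp (inv_mem h1), ?_, ?_⟩
  · rw [D.a_mul _ _ hp.1 _ (inv_mem h1.1), a_inv D _ h1.1, h p hp.1, hpa, barE_apply, bar_mul]
    calc e * r + c * (bar n e * bar n r) = e * r + bar n e * (c * bar n r) := by ring
      _ = (e + bar n e) * r := by rw [hr]; ring
      _ = r := by rw [← Tr_def, he, one_mul]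
  · have h2 : g * g * p * (g * g)⁻¹ = p := by rw [hgg p hp]; group
    calc g * (p * (g * p * g⁻¹)⁻¹) * g⁻¹ = (g * p * g⁻¹) * (g * g * p * (g * g)⁻¹)⁻¹ := by group
      _ = (p * (g * p * g⁻¹)⁻¹)⁻¹ := by rw [h2]; group

/-- the line `{r | c * bar r = r}` is not zero -/
theorem exists_line {c : K} (hc : N n c = 1) : ∃ r, r ≠ 0 ∧ c * bar n r = r := by
  by_cases h1 : c = 1
  · exact ⟨1, one_ne_zero, by rw [h1, bar_one, mul_one]⟩
  · refine ⟨1 + c, fun h => h1 (Field.add_eq_zero.mp h).symm, ?_⟩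
    rw [bar_add, bar_one, mul_add, mul_one, ← N_def, hc, add_comm]

/-- an inverted element with given square -/
theorem exists_inverted_sq {g : G} {i : Bool} {c : K} (hg : g ∈ St D)
    (h : Act D i g c (barE D.hq)) (hc : N n c = 1)
    (hgg : ∀ x ∈ R D i, g * g * x = x * (g * g)) {b : K} (hb : bar n b = b) :
    ∃ x ∈ R D i, x * x = D.z i b ∧ g * x * g⁻¹ = x⁻¹ := by
  obtain ⟨r, hr0, hr⟩ := exists_line hc
  have hN0 := N_ne_zero (n := n) hr0
  obtain ⟨m, hm⟩ : ∃ m : K, m ^ 2 = b * (N n r)⁻¹ := by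
    obtain ⟨m, hm⟩ := (FiniteField.isSquare_of_char_two (ringChar.eq K 2) (b * (N n r)⁻¹))
    exact ⟨m, by rw [hm, sq]⟩
  have hmf : bar n m = m := by
    have h1 : (bar n m + m) ^ 2 = 0 := by
      have h2 : (bar n m + m) ^ 2 = bar n (m ^ 2) + m ^ 2 := by
        rw [CharTwo.add_sq, bar_pow]
      rw [h2, hm, bar_mul, fixed_inv (fixed_N D.hq r), hb, Field.add_self]
    exact Field.add_eq_zero.mp ((pow_eq_zero_iff two_ne_zero).mp h1)
  obtain ⟨x, hx, hxa, hx'⟩ := exists_inverted hg h hgg (r := m * r) (by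
    rw [bar_mul, hmf]
    calc c * (m * bar n r) = m * (c * bar n r) := by ring
      _ = m * r := by rw [hr])
  refine ⟨x, hx, ?_, hx'⟩
  rw [R_sq D hx, hxa, N_mul, N_of_fixed hmf, hm, inv_mul_cancel_right₀ hN0]

/-- if `(g u g⁻¹) u` is in `W` then it is `1` -/
theorem conj_mul_self [Finite G] {g u : G} {i : Bool} {c : K} (hg : g ∈ St D)
    (h : Act D i g c (barE D.hq)) (hgg : ∀ x ∈ R D i, g * g * x = x * (g * g))
    (hgW : ∀ w ∈ W D, g * w = w * g) (hu : u ∈ R D i)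
    (hr : c * bar n (D.a i u) = D.a i u) : g * u * g⁻¹ * u = 1 := by
  obtain ⟨x, hx, hxa, hx'⟩ := exists_inverted hg h hgg hr
  have h1 := mem_W_of_R_eq D hu hx hxa.symm
  obtain ⟨w, hw, rfl⟩ : ∃ w ∈ W D, u = x * w := ⟨_, h1, by group⟩
  have h2 : g * w * g⁻¹ = w := by rw [hgW w hw]; group
  calc g * (x * w) * g⁻¹ * (x * w) = (g * x * g⁻¹) * (g * w * g⁻¹) * (x * w) := by group
    _ = x⁻¹ * (w * x) * w := by rw [hx', h2]; group
    _ = x⁻¹ * x * (w * w) := by rw [← W_cen D hx.1 hw]; group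
    _ = 1 := by rw [W_sq D hw]; group

/-! ### Commutators of subgroups of index two -/

/-- **(w2)** -/
theorem exists_cmt (i : Bool) (P : G → Prop)
    (h2 : ∀ x ∈ R D i, ∀ y ∈ R D i, ¬ P x → ¬ P y → P (x * y)) {b : K} (hb : bar n b = b) :
    ∃ x ∈ R D i, P x ∧ ∃ y ∈ R D i, P y ∧ x * y * x⁻¹ * y⁻¹ = D.z i b := by
  suffices ∃ x ∈ R D i, P x ∧ ∃ y ∈ R D i, P y ∧ Tr n (D.a i x * bar n (D.a i y)) = b by
    obtain ⟨x, hx, hPx, y, hy, hPy, h⟩ := this
    exact ⟨x, hx, hPx, y, hy, hPy, by rw [R_cmt D hx hy.1, h]⟩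
  by_cases hall : ∀ x ∈ R D i, P x
  · obtain ⟨y, hy⟩ := exists_Tr_eq D.hq (one_ne_zero (α := K)) hb
    obtain ⟨x', hx', hx1⟩ := exists_R D i 1
    obtain ⟨y', hy', hy1⟩ := exists_R D i y
    exact ⟨x', hx', hall _ hx', y', hy', hall _ hy', by rw [hx1, hy1, hy]⟩
  · push Not at hall
    obtain ⟨x0, hx0, hPx0⟩ := hall
    obtain ⟨x, hx, hPx, hxa, hxx0⟩ : ∃ x ∈ R D i, P x ∧ D.a i x ≠ 0 ∧
        Tr n (D.a i x * bar n (D.a i x0)) = 0 := by
      by_cases h0 : D.a i x0 = 0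
      · obtain ⟨x', hx', hx1⟩ := exists_R D i 1
        by_cases hP : P x'
        · exact ⟨x', hx', hP, by rw [hx1]; exact one_ne_zero, by
            rw [h0, bar_zero, mul_zero, Tr_zero]⟩
        · exact ⟨x' * x0, mul_mem hx' hx0, h2 _ hx' _ hx0 hP hPx0, by
            rw [D.a_mul _ _ hx'.1 _ hx0.1, h0, add_zero, hx1]; exact one_ne_zero, by
            rw [h0, bar_zero, mul_zero, Tr_zero]⟩
      · obtain ⟨l, hl, hl1⟩ := exists_fixed_ne D.hq
        have hTr : ∀ m : K, bar n m = m → Tr n (m * D.a i x0 * bar n (D.a i x0)) = 0 := by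
          intro m hm
          rw [mul_assoc, Tr_mul_fixed hm, Tr_self D.hq, mul_zero]
        obtain ⟨x', hx', hx1⟩ := exists_R D i (l * D.a i x0)
        by_cases hP : P x'
        · exact ⟨x', hx', hP, by rw [hx1]; exact mul_ne_zero l.ne_zero h0, by
            rw [hx1]; exact hTr l hl⟩
        · have h3 : D.a i (x' * x0) = (l + 1) * D.a i x0 := by
            rw [D.a_mul _ _ hx'.1 _ hx0.1, hx1]; ring
          exact ⟨x' * x0, mul_mem hx' hx0, h2 _ hx' _ hx0 hP hPx0, by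
            rw [h3]; exact mul_ne_zero (fun h => hl1 (Field.add_eq_zero.mp h)) h0, by
            rw [h3]; exact hTr _ (fixed_add hl (bar_one n))⟩
    obtain ⟨r, hr⟩ := exists_Tr_eq D.hq hxa hb
    obtain ⟨y, hy, rfl⟩ := exists_R D i r
    by_cases hP : P y
    · exact ⟨x, hx, hPx, y, hy, hP, hr⟩
    · refine ⟨x, hx, hPx, y * x0, mul_mem hy hx0, h2 _ hy _ hx0 hP hPx0, ?_⟩
      rw [D.a_mul _ _ hy.1 _ hx0.1, bar_add, mul_add, Tr_add, hr, hxx0, add_zero]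

end Cfsg.Agent.StdU3.GZeroBase
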