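import Cfsg.Agent.StdU3.Kernel

/-!
# Torus-invariant forms

Biadditive `β : K × K → F_q` with `β (w l x, w l y) = N l β (x, y)` is `Tr (η x ȳ)`; symmetric or
alternating ones have `η ∈ F_q`; quadratic maps `Q` with `Q (w l x) = N l Q x` are `η N x`,
`η ∈ F_q`.
-/

set_option autoImplicit false
set_option linter.unusedSectionVars false

namespace Cfsg.Agent.StdU3.GZeroSesq

open Cfsg.Agent.StdU3.Field Cfsg.Agent.StdU3.PreDef Cfsg.Agent.StdU3.LevelOne
open Cfsg.Agent.StdU3.Kernel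

variable {K : Type*} [Field K] [Fintype K] [CharP K 2] {n : ℕ}

/-- additive maps invariant under a multiplication are zero. -/
theorem add_zero_of {F : Type*} [AddCommGroup F] {g : K → F}
    (g_add : ∀ x y, g (x + y) = g x + g y) {k : K} (hk : k ≠ 1)
    (h : ∀ x, g (k * x) = g x) (x : K) : g x = 0 := by
  have h0 : g 0 = 0 := by
    have := g_add 0 0
    rw [add_zero] at this
    exact left_eq_add.mp this
  have hk' : k + 1 ≠ 0 := fun h' => hk (Field.add_eq_zero.mp h')
  have h1 := h ((k + 1)⁻¹ * x)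
  have h2 : x = k * ((k + 1)⁻¹ * x) + (k + 1)⁻¹ * x := by
    field_simp
  have h3 := g_add (k * ((k + 1)⁻¹ * x)) ((k + 1)⁻¹ * x)
  rw [← h2, h1] at h3
  have h4 := g_add ((k + 1)⁻¹ * x) ((k + 1)⁻¹ * x)
  rw [Field.add_self, h0] at h4
  rw [h3, ← h4]

theorem N_w' (h : Qd K n) (l : Kˣ) : N n (w n l) = N n (l : K) := by
  have h1 : N n (l : K) ≠ 0 := N_ne_zero l.ne_zero
  unfold w
  rw [N_mul, N_inv, N_bar h, sq, N_mul, mul_assoc, mul_inv_cancel₀ h1, mul_one]

/-- the torus element `κ`. -/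
theorem exists_kappa (h : Qd K n) : ∃ k : Kˣ, N n (k : K) = 1 ∧ w n k ≠ 1 ∧
    N n (w n k) = 1 ∧ w n k + bar n (w n k) ≠ 0 := by
  obtain ⟨k, hk, hk3, -⟩ := exists_norm_one h
  have h1 : w n k ≠ 1 := by rw [w_of_norm_one hk]; exact hk3
  have h2 : N n (w n k) = 1 := by rw [N_w' h, hk]
  refine ⟨k, hk, h1, h2, fun h3 => h1 ?_⟩
  have h4 : bar n (w n k) = w n k := (Field.add_eq_zero.mp h3).symm
  rw [N_of_fixed h4] at h2
  have h5 : (w n k + 1) ^ 2 = 0 := by
    rw [add_sq, h2, one_pow, mul_one]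
    have : (2 : K) = 0 := CharTwo.two_eq_zero
    rw [this, zero_mul, add_zero, Field.add_self]
  exact Field.add_eq_zero.mp (pow_eq_zero_iff (by norm_num) |>.mp h5)

section form

variable {β : K → K → K}

theorem fixed_sqrt (h : Qd K n) {m : K} (hm : bar n m = m) : ∃ l, bar n l = l ∧ l * l = m := by
  obtain ⟨l, hl⟩ : ∃ l : K, l * l = m := by
    obtain ⟨l, hl⟩ := FiniteField.isSquare_of_char_two (ringChar.eq K 2) m
    exact ⟨l, hl.symm⟩
  refine ⟨l, ?_, hl⟩
  have h1 : bar n l * bar n l = l * l := by rw [← bar_mul, hl, hm]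
  have h2 : (bar n l + l) ^ 2 = 0 := by
    have h3 : (2 : K) = 0 := CharTwo.two_eq_zero
    rw [add_sq, sq, sq, h1, h3, zero_mul, zero_mul, add_zero, Field.add_self]
  exact Field.add_eq_zero.mp (pow_eq_zero_iff (by norm_num) |>.mp h2)

/-- `F_q`-bilinearity -/
theorem lin (h : Qd K n) (hl : ∀ x x' y, β (x + x') y = β x y + β x' y)
    (hr : ∀ x y y', β x (y + y') = β x y + β x y')
    (hw : ∀ l : Kˣ, ∀ x y, β (w n l * x) (w n l * y) = N n (l : K) * β x y) {m : K}
    (hm : bar n m = m) (x y : K) : β (m * x) y = m * β x y ∧ β x (m * y) = m * β x y := by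
  have h0l : ∀ y, β 0 y = 0 := fun y => by
    have := hl 0 0 y
    rw [add_zero] at this
    exact left_eq_add.mp this
  have h0r : ∀ x, β x 0 = 0 := fun x => by
    have := hr x 0 0
    rw [add_zero] at this
    exact left_eq_add.mp this
  have key : ∀ l : K, bar n l = l → ∀ x y, β (l * x) (l * y) = l * l * β x y := by
    intro l hlf x y
    by_cases hl0 : l = 0
    · rw [hl0, zero_mul, zero_mul, zero_mul, zero_mul, h0l]
    have h1 := hw (Units.mk0 l hl0) x y
    rw [w_of_fixed (by rw [Units.val_mk0]; exact hlf), N_of_fixed (by rw [Units.val_mk0]; exact hlf),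
      Units.val_mk0, sq] at h1
    exact h1
  have swap : ∀ l : K, bar n l = l → ∀ x y, β (l * x) y = β x (l * y) := by
    intro l hlf x y
    have h1 := key (l + 1) (fixed_add hlf (bar_one n)) x y
    rw [add_mul l 1 x, add_mul l 1 y, one_mul, one_mul, hl, hr, hr, key l hlf] at h1
    have h2 : (l + 1) * (l + 1) = l * l + 1 := by
      have h3 : (2 : K) = 0 := CharTwo.two_eq_zero
      linear_combination l * h3
    rw [h2] at h1
    apply Field.add_eq_zero.mp
    linear_combination h1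
  obtain ⟨l, hlf, rfl⟩ := fixed_sqrt h hm
  constructor
  · rw [mul_assoc, swap l hlf, key l hlf]
  · rw [mul_assoc, ← swap l hlf, key l hlf]

/-- `β (x, y) = β (1, x̄ y)`. -/
theorem one_form (h : Qd K n) (hl : ∀ x x' y, β (x + x') y = β x y + β x' y)
    (hr : ∀ x y y', β x (y + y') = β x y + β x y')
    (hw : ∀ l : Kˣ, ∀ x y, β (w n l * x) (w n l * y) = N n (l : K) * β x y) (x y : K) :
    β x y = β 1 (bar n x * y) := by
  obtain ⟨k, hk, hk1, hkN, hkT⟩ := exists_kappa h
  set κ := w n k with hκ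
  have hκ0 : κ ≠ 0 := w_ne_zero k
  have hTf : bar n (κ + bar n κ) = κ + bar n κ := fixed_Tr h κ
  -- `β (κ x, y) = β (x, κ̄ y)`
  have h1 : β κ y = β 1 (bar n κ * y) := by
    have h2 := hw k 1 (bar n κ * y)
    have h3 : κ * (bar n κ * y) = y := by rw [← mul_assoc, ← N_def, hkN, one_mul]
    rw [← hκ, h3, mul_one, hk, one_mul] at h2
    exact h2
  -- `x = p + q κ`
  obtain ⟨p, q, hp, hq, hx⟩ : ∃ p q, bar n p = p ∧ bar n q = q ∧ x = p * 1 + q * κ := by
    have hq : bar n ((x + bar n x) / (κ + bar n κ)) = (x + bar n x) / (κ + bar n κ) := by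
      rw [div_eq_mul_inv, bar_mul, bar_inv, hTf, fixed_Tr h x |> fun h => (show bar n (x + bar n x) = x + bar n x from h)]
    refine ⟨x + (x + bar n x) / (κ + bar n κ) * κ, (x + bar n x) / (κ + bar n κ), ?_, hq, ?_⟩
    · rw [bar_add, bar_mul, hq]
      apply Field.add_eq_zero.mp
      have h3 : (2 : K) = 0 := CharTwo.two_eq_zero
      field_simp
      linear_combination (x + bar n x) * (κ + bar n κ) * h3
    · rw [mul_one, add_add_self]
  have e1 : β x y = p * β 1 y + q * β κ y := by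
    conv_lhs => rw [hx]
    rw [hl, (lin h hl hr hw hp 1 y).1, (lin h hl hr hw hq κ y).1]
  have e2 : bar n x * y = p * y + q * (bar n κ * y) := by
    conv_lhs => rw [hx]
    rw [bar_add, bar_mul, bar_mul, hp, hq, bar_one]; ring
  rw [e1, e2, hr, (lin h hl hr hw hp 1 y).2, (lin h hl hr hw hq 1 (bar n κ * y)).2, h1]

/-- **The sesquilinear form.** -/
theorem exists_eta (h : Qd K n) (hl : ∀ x x' y, β (x + x') y = β x y + β x' y)
    (hr : ∀ x y y', β x (y + y') = β x y + β x y') (hf : ∀ x y, bar n (β x y) = β x y)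
    (hw : ∀ l : Kˣ, ∀ x y, β (w n l * x) (w n l * y) = N n (l : K) * β x y) :
    ∃ η, ∀ x y, β x y = Tr n (η * (x * bar n y)) := by
  obtain ⟨k, hk, hk1, hkN, hkT⟩ := exists_kappa h
  set κ := w n k with hκ
  have hTf : bar n (κ + bar n κ) = κ + bar n κ := fixed_Tr h κ
  -- `β 1 v = Tr (θ v)`
  set θ := (β 1 κ + β 1 1 * bar n κ) / (κ + bar n κ) with hθ
  have hθb : bar n θ = (β 1 κ + β 1 1 * κ) / (κ + bar n κ) := by
    rw [hθ, div_eq_mul_inv, bar_mul, bar_inv, hTf, bar_add, bar_mul, hf, hf, bar_bar h,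
      div_eq_mul_inv]
  have h3 : (2 : K) = 0 := CharTwo.two_eq_zero
  have h1 : ∀ v, β 1 v = Tr n (θ * v) := by
    intro v
    obtain ⟨p, q, hp, hq, hx⟩ : ∃ p q, bar n p = p ∧ bar n q = q ∧ v = p * 1 + q * κ := by
      have hq : bar n ((v + bar n v) / (κ + bar n κ)) = (v + bar n v) / (κ + bar n κ) := by
        rw [div_eq_mul_inv, bar_mul, bar_inv, hTf, fixed_Tr h v |> fun h => (show bar n (v + bar n v) = v + bar n v from h)]
      refine ⟨v + (v + bar n v) / (κ + bar n κ) * κ, (v + bar n v) / (κ + bar n κ), ?_, hq, ?_⟩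
      · rw [bar_add, bar_mul, hq]
        apply Field.add_eq_zero.mp
        field_simp
        linear_combination (v + bar n v) * (κ + bar n κ) * h3
      · rw [mul_one, add_add_self]
    have e1 : β 1 v = p * β 1 1 + q * β 1 κ := by
      conv_lhs => rw [hx]
      rw [hr, (lin h hl hr hw hp 1 1).2, (lin h hl hr hw hq 1 κ).2]
    rw [e1, hx, Tr_def, bar_mul, bar_add, bar_mul, bar_mul, bar_one, hp, hq, hθb, hθ]
    have hN : κ * bar n κ = 1 := hkN
    field_simp
    linear_combination (-(p * β 1 κ + q * β 1 1 * κ * bar n κ)) * h3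
  refine ⟨bar n θ, fun x y => ?_⟩
  rw [one_form h hl hr hw, h1, ← Tr_bar h]
  congr 1
  rw [bar_mul, bar_mul, bar_bar h]

/-- symmetric forms -/
theorem exists_eta_fixed (h : Qd K n) (hl : ∀ x x' y, β (x + x') y = β x y + β x' y)
    (hr : ∀ x y y', β x (y + y') = β x y + β x y') (hf : ∀ x y, bar n (β x y) = β x y)
    (hw : ∀ l : Kˣ, ∀ x y, β (w n l * x) (w n l * y) = N n (l : K) * β x y)
    (hs : ∀ x, β x x = 0) :
    ∃ η, bar n η = η ∧ ∀ x y, β x y = η * Tr n (x * bar n y) := by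
  obtain ⟨η, hη⟩ := exists_eta h hl hr hf hw
  have h1 : bar n η = η := by
    apply fixed_of_Tr
    have h2 := hη 1 1
    rwa [hs, bar_one, mul_one, mul_one, eq_comm] at h2
  exact ⟨η, h1, fun x y => by rw [hη, Tr_mul_fixed h1]⟩

end form

/-- quadratic maps -/
theorem exists_quad (h : Qd K n) {Q : K → K} {β : K → K → K}
    (hQ : ∀ x y, Q (x + y) = Q x + Q y + β x y) (hl : ∀ x x' y, β (x + x') y = β x y + β x' y)
    (hr : ∀ x y y', β x (y + y') = β x y + β x y') (hf : ∀ x, bar n (Q x) = Q x)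
    (hw : ∀ l : Kˣ, ∀ x, Q (w n l * x) = N n (l : K) * Q x) :
    ∃ η, bar n η = η ∧ (∀ x, Q x = η * N n x) ∧ ∀ x y, β x y = η * Tr n (x * bar n y) := by
  have hβ : ∀ x y, β x y = Q (x + y) + Q x + Q y := by
    intro x y
    rw [hQ]
    have h3 : (2 : K) = 0 := CharTwo.two_eq_zero
    linear_combination -(Q x + Q y) * h3
  have hQ0 : Q 0 = 0 := by
    have h0 : β 0 0 = 0 := by
      have := hl 0 0 0
      rw [add_zero] at this
      exact left_eq_add.mp this
    have := hQ 0 0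
    rw [add_zero, h0, add_zero] at this
    exact left_eq_add.mp this
  obtain ⟨η, hη, h1⟩ := exists_eta_fixed h hl hr
    (fun x y => by rw [hβ, bar_add, bar_add, hf, hf, hf])
    (fun l x y => by rw [hβ, hβ, ← mul_add, hw, hw, hw]; ring)
    (fun x => by rw [hβ, Field.add_self, hQ0, zero_add, Field.add_self])
  refine ⟨η, hη, ?_, h1⟩
  obtain ⟨k, hk, hk1, hkN, hkT⟩ := exists_kappa h
  have h2 : ∀ x, Q x + η * N n x = 0 := by
    apply add_zero_of (k := w n k) _ hk1
    · intro x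
      rw [hw, hk, N_mul, hkN, one_mul, one_mul]
    · intro x y
      have h3 : (2 : K) = 0 := CharTwo.two_eq_zero
      rw [hQ, h1, N_add' h]
      linear_combination (η * Tr n (x * bar n y)) * h3
  exact fun x => Field.add_eq_zero.mp (h2 x)

end Cfsg.Agent.StdU3.GZeroSesq
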