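import Cfsg.Agent.StdU3.GZeroCDef
import Cfsg.Agent.StdU3.GZeroAvg
import Cfsg.Agent.StdU3.GZeroSesq

/-!
# Level two, `gam = 0`: coordinates on `U / W` and on `W`

`exists_coord`: from an equivariant extension `f` of `a : V → K` to `U` and an equivariant retraction
`rho : W → F_q`, and the form of the equivariant biadditive maps, the squares of `U` are
`rho (s²) = N x + Tr (γ x ȳ) + η N y`, `u (s²) = Tr (x ȳ) + η' N y`; normalise `η' = 0`; the action
of `t` gives `Tr γ = 1`; `Om = rho + γ u`.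
-/

set_option autoImplicit false
set_option linter.unusedSectionVars false

namespace Cfsg.Agent.StdU3.GZeroC1

open Cfsg.Agent.StdU3.Field Cfsg.Agent.StdU3.PreDef Cfsg.Agent.StdU3.LevelOne
open Cfsg.Agent.StdU3.LevelOneW Cfsg.Agent.StdU3.NormQ Cfsg.Agent.StdU3.Kernel
open Cfsg.Agent.StdU3.Next Cfsg.Agent.StdU3.LevelTwo Cfsg.Agent.StdU3.GZeroCDef

variable {G : Type*} [Group G] {K : Type*} [Field K] [Fintype K] [CharP K 2] {n : ℕ}
variable {D : Pre G K n} {O : Subgroup G} {X : Next D O}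

/-- equivariant extension of `a` to `U`. -/
structure Ext (D : Pre G K n) {O : Subgroup G} (X : Next D O) (f : G → K) : Prop where
  mul : ∀ s ∈ U D X, ∀ r ∈ U D X, f (s * r) = f s + f r
  on_V : ∀ v ∈ V D, f v = a D v
  h : ∀ l, ∀ s ∈ U D X, f (X.h' l * s * (X.h' l)⁻¹) = w n l * f s

/-- equivariant additive functions `W → F_q`. -/
structure Fn (D : Pre G K n) {O : Subgroup G} (X : Next D O) (p : G → K) : Prop where
  mul : ∀ x ∈ W D, ∀ y ∈ W D, p (x * y) = p x + p y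
  fix : ∀ x ∈ W D, bar n (p x) = p x
  h : ∀ l : Kˣ, ∀ x ∈ W D, p (X.h' l * x * (X.h' l)⁻¹) = N n (l : K) * p x

theorem fn_u (D : Pre G K n) {O : Subgroup G} (X : Next D O) : Fn D X (u D) where
  mul x hx y hy := u_mul D (W_le D hx) (W_le D hy)
  fix x hx := u_fixed D (W_le D hx)
  h l x hx := by rw [X.h'_Q l x (W_le D hx), u_h D l (W_le D hx)]

theorem h_U [Finite G] (l : Kˣ) {s : G} (hs : s ∈ U D X) :
    X.h' l * s * (X.h' l)⁻¹ ∈ U D X := by
  apply conj_U D X (norm_of_fwd D fun g hg => ?_) (X.h'_S l) hs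
  rw [X.h'_Q l g hg]
  exact D.Q_h l g hg

/-! ### Elements of `U` by coordinates -/

section ext
variable {f : G → K} (hf : Ext D X f)
include hf

theorem Ext.inv {s : G} (hs : s ∈ U D X) : f s⁻¹ = f s := by
  have h1 := hf.mul s hs s⁻¹ (inv_mem hs)
  rw [mul_inv_cancel, hf.on_V 1 (V D).one_mem, a_one] at h1
  exact (Field.add_eq_zero.mp h1.symm).symm

theorem Ext.mem_W (hg0 : gam D = 0) (hO : Amb D O) {s : G} (hs : s ∈ U D X) (h1 : f s = 0)
    (h2 : b D s = 0) : s ∈ W D := by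
  have hQ := mem_Q_of_b D hg0 hO X (U_le D X hs) h2
  have hV := U_Q D hs hQ
  exact W_of_ae D hQ (by rw [← hf.on_V s hV, h1]) (e_zero D hV)

theorem Ext.of_W {s : G} (hs : s ∈ W D) : f s = 0 := by
  rw [hf.on_V s (W_le_V D hs), a_W D hs]

/-- elements with the same coordinates differ by `W`. -/
theorem Ext.eq_mul (hg0 : gam D = 0) (hO : Amb D O) {s r : G} (hs : s ∈ U D X) (hr : r ∈ U D X)
    (h1 : f s = f r) (h2 : b D s = b D r) : ∃ y ∈ W D, s = r * y := by
  refine ⟨r⁻¹ * s, hf.mem_W hg0 hO (mul_mem (inv_mem hr) hs) ?_ ?_, by group⟩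
  · rw [hf.mul _ (inv_mem hr) _ hs, hf.inv hr, h1, add_self]
  · rw [b_mul D (inv_mem (X.S_N2 (U_le D X hr))) (X.S_N2 (U_le D X hs)),
      b_inv D (X.S_N2 (U_le D X hr)), h2, add_self]

theorem Ext.exists_sec (hg0 : gam D = 0) (hO : Amb D O)
    (hsurj : ∀ c, ∃ s ∈ X.S, a D (s * D.t * s⁻¹) = c) (c d : K) :
    ∃ s ∈ U D X, f s = c ∧ b D s = d := by
  obtain ⟨s, hs, hsd⟩ := U_surj D hg0 hO X hsurj d
  obtain ⟨p, hp, hpc⟩ := D.ca_surj (c + f s)
  have hpV := P_le_V D hp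
  have hpU := V_le_U D X hpV
  refine ⟨p * s, mul_mem hpU hs, ?_, ?_⟩
  · rw [hf.mul p hpU s hs, hf.on_V p hpV, a_P D hp, hpc, add_add_self]
  · rw [b_mul D (X.S_N2 (U_le D X hpU)) (X.S_N2 (U_le D X hs)), b_Q D (D.P_le hp), hsd, zero_add]

end ext

/-! ### Commutators -/

/-- the value of `p` on the commutator. -/
def cm (p : G → K) (s r : G) : K := p (s * r * s⁻¹ * r⁻¹)

section fn
variable {p : G → K} (hp : Fn D X p)
include hp

theorem Fn.one : p 1 = 0 := by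
  have h1 := hp.mul 1 (W D).one_mem 1 (W D).one_mem
  rw [mul_one] at h1
  have h2 := add_self (p 1)
  rw [← h1] at h2
  exact h2

theorem Fn.inv {x : G} (hx : x ∈ W D) : p x⁻¹ = p x := by
  have h1 := hp.mul x hx x⁻¹ (inv_mem hx)
  rw [mul_inv_cancel, hp.one] at h1
  exact (Field.add_eq_zero.mp h1.symm).symm

omit hp in
theorem W_U_comm {x s : G} (hx : x ∈ W D) (hs : s ∈ U D X) : x * s = s * x :=
  ((mem_U D).mp hs).2 x hx

theorem cm_mul_left (hg0 : gam D = 0) (hO : Amb D O) {r r' s : G} (hr : r ∈ U D X)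
    (hr' : r' ∈ U D X) (hs : s ∈ U D X) : cm p (r * r') s = cm p r s + cm p r' s := by
  unfold cm
  have h1 := cmt_mem_W D hg0 hO X hr hs
  have h2 := cmt_mem_W D hg0 hO X hr' hs
  have h3 : r * r' * s * (r * r')⁻¹ * s⁻¹ =
      (r * (r' * s * r'⁻¹ * s⁻¹)) * r⁻¹ * (r * s * r⁻¹ * s⁻¹) := by group
  rw [h3, ← W_U_comm h2 hr, mul_inv_cancel_right, hp.mul _ h2 _ h1, add_comm]

theorem cm_comm (hg0 : gam D = 0) (hO : Amb D O) {r s : G} (hr : r ∈ U D X)
    (hs : s ∈ U D X) : cm p r s = cm p s r := by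
  unfold cm
  have h1 := cmt_mem_W D hg0 hO X hr hs
  rw [← hp.inv h1]
  congr 1; group

theorem cm_mul_right (hg0 : gam D = 0) (hO : Amb D O) {r s s' : G} (hr : r ∈ U D X)
    (hs : s ∈ U D X) (hs' : s' ∈ U D X) : cm p r (s * s') = cm p r s + cm p r s' := by
  rw [cm_comm hp hg0 hO hr (mul_mem hs hs'), cm_mul_left hp hg0 hO hs hs' hr,
    cm_comm hp hg0 hO hs hr, cm_comm hp hg0 hO hs' hr]

theorem cm_W {y s : G} (hy : y ∈ W D) (hs : s ∈ U D X) : cm p y s = 0 := by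
  unfold cm
  have : y * s * y⁻¹ * s⁻¹ = 1 := by rw [W_U_comm hy hs]; group
  rw [this, hp.one]

theorem cm_self (s : G) : cm p s s = 0 := by
  unfold cm
  have : s * s * s⁻¹ * s⁻¹ = 1 := by group
  rw [this, hp.one]

theorem sq_mul (hg0 : gam D = 0) (hO : Amb D O) {s r : G} (hs : s ∈ U D X) (hr : r ∈ U D X) :
    p (s * r * (s * r)) = p (s * s) + p (r * r) + cm p r s := by
  unfold cm
  have h1 := cmt_mem_W D hg0 hO X hr hs
  have h2 := sq_mem_W D hg0 hO X hs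
  have h3 := sq_mem_W D hg0 hO X hr
  have h4 : s * r * (s * r) = s * (r * s * r⁻¹ * s⁻¹) * s * (r * r) := by group
  rw [h4, ← W_U_comm h1 hs, mul_assoc (r * s * r⁻¹ * s⁻¹) s s,
    hp.mul _ (mul_mem h1 h2) _ h3, hp.mul _ h1 _ h2]
  ring

theorem sq_W (hg0 : gam D = 0) {y : G} (hy : y ∈ W D) : p (y * y) = 0 := by
  rw [W_sq D hy, hg0, zero_mul, z_zero, hp.one]

theorem cm_congr {f : G → K} (hf : Ext D X f) (hg0 : gam D = 0) (hO : Amb D O) {s s' r r' : G}
    (hs : s ∈ U D X) (hs' : s' ∈ U D X) (hr : r ∈ U D X) (hr' : r' ∈ U D X)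
    (h1 : f s = f s') (h2 : b D s = b D s') (h3 : f r = f r') (h4 : b D r = b D r') :
    cm p s r = cm p s' r' := by
  obtain ⟨y, hy, rfl⟩ := hf.eq_mul hg0 hO hs hs' h1 h2
  obtain ⟨y', hy', rfl⟩ := hf.eq_mul hg0 hO hr hr' h3 h4
  have hyU := W_le_U D X hy
  have hyU' := W_le_U D X hy'
  rw [cm_mul_left hp hg0 hO hs' hyU hr, cm_W hp hy hr, add_zero,
    cm_mul_right hp hg0 hO hs' hr' hyU', cm_comm hp hg0 hO hs' hyU', cm_W hp hy' hs', add_zero]

theorem sq_congr {f : G → K} (hf : Ext D X f) (hg0 : gam D = 0) (hO : Amb D O) {s s' : G}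
    (hs : s ∈ U D X) (hs' : s' ∈ U D X) (h1 : f s = f s') (h2 : b D s = b D s') :
    p (s * s) = p (s' * s') := by
  obtain ⟨y, hy, rfl⟩ := hf.eq_mul hg0 hO hs hs' h1 h2
  have hyU := W_le_U D X hy
  rw [sq_mul hp hg0 hO hs' hyU, sq_W hp hg0 hy, cm_W hp hy hs', add_zero, add_zero]

theorem cm_h [Finite G] (hg0 : gam D = 0) (hO : Amb D O) (l : Kˣ) {s r : G} (hs : s ∈ U D X)
    (hr : r ∈ U D X) : cm p (X.h' l * s * (X.h' l)⁻¹) (X.h' l * r * (X.h' l)⁻¹) =
      N n (l : K) * cm p s r := by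
  unfold cm
  rw [← hp.h l _ (cmt_mem_W D hg0 hO X hs hr)]
  congr 1; group

theorem sq_h [Finite G] (hg0 : gam D = 0) (hO : Amb D O) (l : Kˣ) {s : G} (hs : s ∈ U D X) :
    p ((X.h' l * s * (X.h' l)⁻¹) * (X.h' l * s * (X.h' l)⁻¹)) = N n (l : K) * p (s * s) := by
  rw [← hp.h l _ (sq_mem_W D hg0 hO X hs)]
  congr 1; group

end fn

/-! ### The form of the equivariant biadditive maps -/

/-- the statement about biadditive maps. -/
def Sesq (K : Type*) [Field K] [Fintype K] [CharP K 2] (n : ℕ) : Prop :=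
  ∀ β : K → K → K, (∀ x x' y, β (x + x') y = β x y + β x' y) →
    (∀ x y y', β x (y + y') = β x y + β x y') → (∀ x y, bar n (β x y) = β x y) →
    (∀ l : Kˣ, ∀ x y, β (w n l * x) (w n l * y) = N n (l : K) * β x y) →
    ∃ η, ∀ x y, β x y = Tr n (η * x * bar n y)

/-- the additive maps `g` with `g (w l y) = N l * g y` are zero. -/
theorem add_zero_of (hq : Qd K n) {g : K → K} (hg : ∀ x y, g (x + y) = g x + g y)
    (hw : ∀ l : Kˣ, ∀ y, g (w n l * y) = N n (l : K) * g y) (y : K) : g y = 0 := by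
  obtain ⟨k, hk, hk3, -⟩ := exists_norm_one hq
  have h1 : (k : K) ^ 3 + 1 ≠ 0 := fun h => hk3 (Field.add_eq_zero.mp h)
  have h2 : g (((k : K) ^ 3 + 1) * (((k : K) ^ 3 + 1)⁻¹ * y)) = 0 := by
    rw [add_mul, hg, ← w_of_norm_one hk, hw, hk, one_mul, one_mul, add_self]
  rwa [mul_inv_cancel_left₀ h1] at h2

section form

variable {f p : G → K} {ep : K} (hf : Ext D X f) (hp : Fn D X p)

include hf hp in
theorem exists_gamma [Finite G] (hq : Sesq K n) (hg0 : gam D = 0) (hO : Amb D O)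
    (hsurj : ∀ c, ∃ s ∈ X.S, a D (s * D.t * s⁻¹) = c) :
    ∃ γ : K, ∀ s ∈ U D X, f s = 0 → ∀ v ∈ D.P, cm p s v = Tr n (γ * D.ca v * bar n (b D s)) := by
  choose sec hsec hsec0 hsecb using fun d => hf.exists_sec hg0 hO hsurj 0 d
  choose pc hpc hpca using D.ca_surj
  have hpU : ∀ v ∈ D.P, v ∈ U D X := fun v hv => V_le_U D X (P_le_V D hv)
  have hfp : ∀ v ∈ D.P, f v = D.ca v := fun v hv => by rw [hf.on_V v (P_le_V D hv), a_P D hv]
  have hbp : ∀ v ∈ D.P, b D v = 0 := fun v hv => b_Q D (D.P_le hv)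
  have hN : ∀ s ∈ U D X, s ∈ N2 D := fun s hs => X.S_N2 (U_le D X hs)
  -- reduction
  have red : ∀ s ∈ U D X, f s = 0 → ∀ v ∈ D.P, ∀ x y, D.ca v = x → b D s = y →
      cm p s v = cm p (sec y) (pc x) := by
    rintro s hs h0 v hv x y rfl rfl
    refine cm_congr hp hf hg0 hO hs (hsec _) (hpU v hv) (hpU _ (hpc _)) ?_ ?_ ?_ ?_
    · rw [h0, hsec0]
    · rw [hsecb]
    · rw [hfp v hv, hfp _ (hpc _), hpca]
    · rw [hbp v hv, hbp _ (hpc _)]
  obtain ⟨γ, hγ⟩ := hq (fun x y => cm p (sec y) (pc x)) (by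
      intro x x' y
      rw [← cm_mul_right hp hg0 hO (hsec y) (hpU _ (hpc x)) (hpU _ (hpc x'))]
      exact (red _ (hsec y) (hsec0 y) _ (mul_mem (hpc x) (hpc x')) _ _
        (by rw [D.ca_mul _ (hpc x) _ (hpc x'), hpca, hpca]) (hsecb y)).symm) (by
      intro x y y'
      rw [← cm_mul_left hp hg0 hO (hsec y) (hsec y') (hpU _ (hpc x))]
      exact (red _ (mul_mem (hsec y) (hsec y'))
        (by rw [hf.mul _ (hsec y) _ (hsec y'), hsec0, hsec0, add_zero]) _ (hpc x) _ _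
        (hpca x) (by rw [b_mul D (hN _ (hsec y)) (hN _ (hsec y')), hsecb, hsecb])).symm) (by
      intro x y
      exact hp.fix _ (cmt_mem_W D hg0 hO X (hsec y) (hpU _ (hpc x)))) (by
      intro l x y
      rw [← cm_h hp hg0 hO l (hsec y) (hpU _ (hpc x))]
      have e1 : X.h' l * pc x * (X.h' l)⁻¹ = D.h l * pc x * (D.h l)⁻¹ := X.h'_Q l _ (D.P_le (hpc x))
      refine (red _ (h_U l (hsec y)) (by rw [hf.h l _ (hsec y), hsec0, mul_zero]) _
        (by rw [e1]; exact D.h_P l _ (hpc x)) _ _ (by rw [e1, D.h_ca l _ (hpc x), hpca]) ?_).symm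
      rw [b_h D X l (U_le D X (hsec y)), hsecb])
  refine ⟨γ, fun s hs h0 v hv => ?_⟩
  rw [red s hs h0 v hv _ _ rfl rfl, hγ]

include hf hp in
theorem sq_form [Finite G] (hq : Sesq K n) (hg0 : gam D = 0) (hO : Amb D O)
    (hsurj : ∀ c, ∃ s ∈ X.S, a D (s * D.t * s⁻¹) = c)
    (hz : ∀ b, bar n b = b → p (D.z b) = ep * b) {γ : K}
    (hγ : ∀ s ∈ U D X, f s = 0 → ∀ v ∈ D.P, cm p s v = Tr n (γ * D.ca v * bar n (b D s))) :
    ∃ η : K, bar n η = η ∧ ∀ s ∈ U D X, p (s * s) =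
      ep * N n (f s) + Tr n (γ * f s * bar n (b D s)) + η * N n (b D s) := by
  choose sec hsec hsec0 hsecb using fun d => hf.exists_sec hg0 hO hsurj 0 d
  have hN : ∀ s ∈ U D X, s ∈ N2 D := fun s hs => X.S_N2 (U_le D X hs)
  have red : ∀ s ∈ U D X, f s = 0 → ∀ r ∈ U D X, f r = 0 → ∀ x y, b D s = x → b D r = y →
      cm p s r = cm p (sec x) (sec y) := by
    rintro s hs h0 r hr h0' x y rfl rfl
    refine cm_congr hp hf hg0 hO hs (hsec _) hr (hsec _) ?_ ?_ ?_ ?_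
    · rw [h0, hsec0]
    · rw [hsecb]
    · rw [h0', hsec0]
    · rw [hsecb]
  have redq : ∀ s ∈ U D X, f s = 0 → ∀ x, b D s = x → p (s * s) = p (sec x * sec x) := by
    rintro s hs h0 x rfl
    refine sq_congr hp hf hg0 hO hs (hsec _) ?_ ?_
    · rw [h0, hsec0]
    · rw [hsecb]
  have fmul : ∀ x y, f (sec x * sec y) = 0 := fun x y => by
    rw [hf.mul _ (hsec x) _ (hsec y), hsec0, hsec0, add_zero]
  have bmul : ∀ x y, b D (sec x * sec y) = x + y := fun x y => by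
    rw [b_mul D (hN _ (hsec x)) (hN _ (hsec y)), hsecb, hsecb]
  obtain ⟨η, hη⟩ := hq (fun x y => cm p (sec x) (sec y)) (by
      intro x x' y
      rw [← cm_mul_left hp hg0 hO (hsec x) (hsec x') (hsec y)]
      exact (red _ (mul_mem (hsec x) (hsec x')) (fmul x x') _ (hsec y) (hsec0 y) _ _
        (bmul x x') (hsecb y)).symm) (by
      intro x y y'
      rw [← cm_mul_right hp hg0 hO (hsec x) (hsec y) (hsec y')]
      exact (red _ (hsec x) (hsec0 x) _ (mul_mem (hsec y) (hsec y')) (fmul y y') _ _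
        (hsecb x) (bmul y y')).symm) (by
      intro x y
      exact hp.fix _ (cmt_mem_W D hg0 hO X (hsec x) (hsec y))) (by
      intro l x y
      rw [← cm_h hp hg0 hO l (hsec x) (hsec y)]
      refine (red _ (h_U l (hsec x)) (by rw [hf.h l _ (hsec x), hsec0, mul_zero]) _
        (h_U l (hsec y)) (by rw [hf.h l _ (hsec y), hsec0, mul_zero]) _ _ ?_ ?_).symm
      · rw [b_h D X l (U_le D X (hsec x)), hsecb]
      · rw [b_h D X l (U_le D X (hsec y)), hsecb])
  -- `η` is fixed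
  have hηf : bar n η = η := by
    have h1 := hη 1 1

    rw [cm_self hp, bar_one, mul_one, mul_one] at h1
    exact fixed_of_Tr h1.symm
  -- the squares of the `sec y`
  have hadd : ∀ x y, p (sec (x + y) * sec (x + y)) + η * N n (x + y) =
      (p (sec x * sec x) + η * N n x) + (p (sec y * sec y) + η * N n y) := by
    intro x y
    rw [← redq _ (mul_mem (hsec x) (hsec y)) (fmul x y) _ (bmul x y),
      sq_mul hp hg0 hO (hsec x) (hsec y)]
    have h1 := hη y x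

    rw [h1, N_add' D.hq, Tr_comm D.hq x y, mul_assoc, Tr_mul_fixed hηf]
    have h2 := add_self (η * Tr n (y * bar n x))
    linear_combination h2
  have hz0 : ∀ y, p (sec y * sec y) = η * N n y := by
    intro y
    have h1 := add_zero_of D.hq (g := fun y => p (sec y * sec y) + η * N n y) hadd (by
      intro l y
      rw [← redq _ (h_U l (hsec y)) (by rw [hf.h l _ (hsec y), hsec0, mul_zero]) (w n l * y)
        (by rw [b_h D X l (U_le D X (hsec y)), hsecb]), sq_h hp hg0 hO l (hsec y), N_mul, N_w D]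
      ring) y
    exact Field.add_eq_zero.mp h1
  refine ⟨η, hηf, fun s hs => ?_⟩
  obtain ⟨v, hv, hvc⟩ := D.ca_surj (f s)
  have hvU := V_le_U D X (P_le_V D hv)
  have hfv : f v = f s := by rw [hf.on_V v (P_le_V D hv), a_P D hv, hvc]
  have hbv : b D v = 0 := b_Q D (D.P_le hv)
  have h1 : p (s * s) = p (v * sec (b D s) * (v * sec (b D s))) := by
    refine sq_congr hp hf hg0 hO hs (mul_mem hvU (hsec _)) ?_ ?_
    · rw [hf.mul _ hvU _ (hsec _), hsec0, hfv, add_zero]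
    · rw [b_mul D (hN _ hvU) (hN _ (hsec _)), hbv, hsecb, zero_add]
  rw [h1, sq_mul hp hg0 hO hvU (hsec _), D.P_sq v hv, hz _ (fixed_N D.hq _), hz0,
    hγ _ (hsec _) (hsec0 _) v hv, hsecb, hvc]
  ring

end form

/-! ### Normalisation -/

/-- `t s t⁻¹ = v⁻¹ s` with `v ∈ V`, `a v = b s`. -/
theorem t_conj_U {s : G} (hs : s ∈ U D X) :
    ∃ v ∈ V D, a D v = b D s ∧ D.t * s * D.t⁻¹ = v * s := by
  have hsN := X.S_N2 (U_le D X hs)
  have htQ := hsN.1.fwd _ D.Q_t
  have hvQ : D.t * (s * D.t * s⁻¹)  ∈ D.Q := mul_mem D.Q_t htQ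
  refine ⟨D.t * (s * D.t * s⁻¹), ?_, ?_, ?_⟩
  · rw [← e_eq_zero_iff D, e_mul D D.Q_t htQ, e_conj D hsN.1, add_self]
  · rw [a_mul D D.Q_t htQ, a_t, zero_add]; rfl
  · rw [t_inv]; group

theorem exists_coord_of [Finite G] (hq : Sesq K n) (hg0 : gam D = 0) (hO : Amb D O)
    (hsurj : ∀ c, ∃ s ∈ X.S, a D (s * D.t * s⁻¹) = c) {f rho : G → K} (hf : Ext D X f)
    (hr : Fn D X rho) (hz : ∀ b, bar n b = b → rho (D.z b) = b) :
    ∃ (al Om : G → K) (ep : K), Coord D X al Om ep := by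
  have hN : ∀ s ∈ U D X, s ∈ N2 D := fun s hs => X.S_N2 (U_le D X hs)
  obtain ⟨γ, hγ⟩ := exists_gamma hf hr hq hg0 hO hsurj
  obtain ⟨η, hηf, hη⟩ := sq_form hf hr hq hg0 hO hsurj (ep := 1)
    (fun b hb => by rw [hz b hb, one_mul]) hγ
  obtain ⟨η', hηf', hη'⟩ := sq_form hf (fn_u D X) hq hg0 hO hsurj (ep := 0) (γ := 1)
    (fun b hb => by rw [u_z, zero_mul]) (by
      intro s hs h0 v hv
      unfold cm
      have hvQ := D.P_le hv
      rw [u_mul D ((hN s hs).1.fwd v hvQ) (inv_mem hvQ), u_conj_N2 D hg0 (hN s hs) hvQ,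
        u_inv D hvQ, u_P D hv, e_P D hv, a_P D hv, one_mul, Tr_comm D.hq]
      ring)
  obtain ⟨th, hth⟩ := exists_Tr_one D.hq
  -- the normalisation
  set lam := η' * th with hlam
  have hTl : Tr n lam = η' := by rw [hlam, Tr_mul_fixed hηf', hth, mul_one]
  set γ' := γ + bar n lam with hγ'
  set ep := N n lam + Tr n (γ * lam) + η with hep
  have hepf : bar n ep = ep :=
    fixed_add (fixed_add (fixed_N D.hq _) (fixed_Tr D.hq _)) hηf
  obtain ⟨al, hal⟩ : ∃ al : G → K, ∀ s, al s = f s + lam * b D s :=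
    ⟨fun s => f s + lam * b D s, fun _ => rfl⟩
  have hfal : ∀ s, f s = al s + lam * b D s := fun s => by rw [hal]; exact (add_add_self _ _).symm
  have hu : ∀ s ∈ U D X, u D (s * s) = Tr n (al s * bar n (b D s)) := by
    intro s hs
    have e1 : lam * b D s * bar n (b D s) = N n (b D s) * lam := by rw [N_def]; ring
    rw [hη' s hs, hfal s, zero_mul, zero_add, one_mul, add_mul, Tr_add, e1,
      Tr_mul_fixed (fixed_N D.hq _), hTl, mul_comm (N n (b D s)) η', add_add_self]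
  have hrho : ∀ s ∈ U D X, rho (s * s) =
      N n (al s) + Tr n (γ' * al s * bar n (b D s)) + ep * N n (b D s) := by
    intro s hs
    rw [hη s hs, hfal s, one_mul, N_add' D.hq, N_mul]
    have e1 : Tr n (γ * (al s + lam * b D s) * bar n (b D s)) =
        Tr n (γ * al s * bar n (b D s)) + N n (b D s) * Tr n (γ * lam) := by
      rw [← Tr_mul_fixed (fixed_N D.hq _), ← Tr_add]
      congr 1
      rw [N_def]; ring
    have e2 : Tr n (al s * bar n (lam * b D s)) = Tr n (bar n lam * al s * bar n (b D s)) := by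
      congr 1
      rw [bar_mul]; ring
    have e3 : Tr n (γ' * al s * bar n (b D s)) =
        Tr n (γ * al s * bar n (b D s)) + Tr n (bar n lam * al s * bar n (b D s)) := by
      rw [← Tr_add, hγ']; congr 1; ring
    rw [e1, e2, e3, hep]; ring
  have al_mul : ∀ s ∈ U D X, ∀ r ∈ U D X, al (s * r) = al s + al r := by
    intro s hs r hr
    rw [hal, hal, hal, hf.mul s hs r hr, b_mul D (hN s hs) (hN r hr)]; ring
  have al_V : ∀ v ∈ V D, al v = a D v := by
    intro v hv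
    rw [hal, hf.on_V v hv, b_Q D (V_le D hv), mul_zero, add_zero]
  have al_t : ∀ s ∈ U D X, al (D.t * s * D.t⁻¹) = al s + b D s := by
    intro s hs
    obtain ⟨v, hv, hav, he⟩ := t_conj_U (X := X) hs
    rw [he, al_mul v (V_le_U D X hv) s hs, al_V v hv, hav, add_comm]
  have b_t : ∀ s ∈ U D X, b D (D.t * s * D.t⁻¹) = b D s := by
    intro s hs
    obtain ⟨v, hv, hav, he⟩ := t_conj_U (X := X) hs
    rw [he, b_mul D (hN v (V_le_U D X hv)) (hN s hs), b_Q D (V_le D hv), zero_add]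
  have t_U : ∀ s ∈ U D X, D.t * s * D.t⁻¹ ∈ U D X := fun s hs =>
    conj_U_S D X (X.Q_le D.Q_t) hs
  -- `Tr γ' = 1`
  have hTg : Tr n γ' = 1 := by
    obtain ⟨s, hs, hs0, hs1⟩ := hf.exists_sec hg0 hO hsurj 0 1
    have h1 := hrho _ (t_U s hs)
    have h2 : D.t * s * D.t⁻¹ * (D.t * s * D.t⁻¹) = D.t * (s * s) * D.t⁻¹ := by group
    have hW := sq_mem_W D hg0 hO X hs
    rw [h2, t_conj D (W_le D hW), hr.mul _ (z_mem_W D _) _ hW, hz _ (u_fixed D (W_le D hW)),
      hu s hs, hrho s hs, al_t s hs, b_t s hs, hs1, N_add' D.hq, bar_one, N_one, mul_one, mul_one,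
      mul_one, mul_one, mul_add, Tr_add, mul_one] at h1
    have h3 := add_self (1 : K)
    linear_combination -h1 - h3
  obtain ⟨Om, hOm⟩ : ∃ Om : G → K, ∀ x, Om x = rho x + γ' * u D x :=
    ⟨fun x => rho x + γ' * u D x, fun _ => rfl⟩
  refine ⟨al, Om, ep, al_mul, al_V, ?_, al_t, ?_, ?_, ?_, hepf, ?_⟩
  · intro l s hs
    rw [hal, hal, hf.h l s hs, b_h D X l (U_le D X hs)]; ring
  · intro x hx y hy
    rw [hOm, hOm, hOm, hr.mul x hx y hy, u_mul D (W_le D hx) (W_le D hy)]; ring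
  · intro c hc
    rw [hOm, hz c hc, u_z, mul_zero, add_zero]
  · intro x hx
    rw [hOm, Tr_add, Tr_of_fixed (hr.fix x hx), zero_add, mul_comm,
      Tr_mul_fixed (u_fixed D (W_le D hx)), hTg, mul_one]
  · intro s hs
    rw [hOm, hrho s hs, hu s hs]
    have e1 : bar n γ' = γ' + 1 := by
      have := hTg
      rw [Tr_def] at this
      have h3 := add_self γ'
      linear_combination this - h3
    rw [mul_assoc, Tr_def, Tr_def, bar_mul n γ', e1, bar_mul n (al s), bar_bar D.hq]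
    have h3 := add_self (γ' * (al s * bar n (b D s)))
    have h4 := add_self (γ' * (bar n (al s) * b D s))
    linear_combination h3 + h4

theorem sesq (h : Qd K n) : Sesq K n := by
  intro β hl hr hf hw
  obtain ⟨η, hη⟩ := GZeroSesq.exists_eta h hl hr hf hw
  exact ⟨η, fun x y => by rw [hη, mul_assoc]⟩

/-- **coordinates of `U`**. -/
theorem exists_coord [Finite G] (hg0 : gam D = 0) (hO : Amb D O) (X : Next D O)
    (hsurj : ∀ c, ∃ s ∈ X.S, a D (s * D.t * s⁻¹) = c) :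
    ∃ (al Om : G → K) (ep : K), Coord D X al Om ep := by
  obtain ⟨f, h1, h2, h3⟩ := GZeroAvg.exists_x D hg0 hO X
  obtain ⟨rho, h4, h5, h6, h7⟩ := GZeroAvg.exists_f D hg0
  exact exists_coord_of (sesq D.hq) hg0 hO hsurj ⟨h1, h2, h3⟩
    ⟨h4, h6, fun l x hx => by rw [X.h'_Q l x (W_le D hx), h7 l x hx]⟩ h5

end Cfsg.Agent.StdU3.GZeroC1
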