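import Cfsg.Agent.StdU3.LevelTwo

/-!
# Level two: coordinates on `U / W` and on `W` (interface)

`(al, b) : U / W ≃ K × K`, `Om : W ≃ K`, `Om (s²) = N (al s) + bar (al s) * b s + ep * N (b s)`.
-/

set_option autoImplicit false

namespace Cfsg.Agent.StdU3.GZeroCDef

open Cfsg.Agent.StdU3.Field Cfsg.Agent.StdU3.PreDef Cfsg.Agent.StdU3.LevelOne
open Cfsg.Agent.StdU3.LevelOneW Cfsg.Agent.StdU3.Next Cfsg.Agent.StdU3.LevelTwo

variable {G : Type*} [Group G] {K : Type*} [Field K] [Fintype K] [CharP K 2] {n : ℕ}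

/-- coordinates of the level two group `U = U D X`. -/
structure Coord (D : Pre G K n) {O : Subgroup G} (X : Next D O) (al Om : G → K) (ep : K) :
    Prop where
  al_mul : ∀ s ∈ U D X, ∀ r ∈ U D X, al (s * r) = al s + al r
  al_V : ∀ v ∈ V D, al v = a D v
  al_h : ∀ l, ∀ s ∈ U D X, al (X.h' l * s * (X.h' l)⁻¹) = w n l * al s
  al_t : ∀ s ∈ U D X, al (D.t * s * D.t⁻¹) = al s + b D s
  Om_mul : ∀ x ∈ W D, ∀ y ∈ W D, Om (x * y) = Om x + Om y
  Om_z : ∀ b, bar n b = b → Om (D.z b) = b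
  Om_Tr : ∀ x ∈ W D, Tr n (Om x) = u D x
  ep_fixed : bar n ep = ep
  sq : ∀ s ∈ U D X, Om (s * s) = N n (al s) + bar n (al s) * b D s + ep * N n (b D s)

end Cfsg.Agent.StdU3.GZeroCDef
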