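import Cfsg.Agent.StdU3.PreDef

/-!
# The first wreath-like type (`g0`): data

`U` is the direct product of two groups of order `q³` (type: Sylow 2-subgroup of `SU₃(q)`), with
coordinates `a i : U → K = F_{q²}` modulo the centre `W = z false (F_q) × z true (F_q)`, swapped
by the involution `t`; the elements of the normalizer of `U` act semilinearly on the factors, up to
a swap, and those acting trivially on `U / W` are in `U O`, `O` of odd order centralizing `U`.
`s` is an involution commuting with `t` which acts as the field automorphism of order two on both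
factors.
-/

set_option autoImplicit false

namespace Cfsg.Agent.StdU3.GZeroDef

open Cfsg.Agent.StdU3.Field Cfsg.Agent.StdU3.PreDef

/-- **Type `g0`.** -/
structure GZero (G : Type*) [Group G] (K : Type*) [Field K] [Fintype K] [CharP K 2]
    (n : ℕ) where
  hq : Qd K n
  U : Subgroup G
  U_two : IsPGroup 2 U
  /-- coordinates modulo the centre, for the two factors -/
  a : Bool → G → K
  a_mul : ∀ i, ∀ x ∈ U, ∀ y ∈ U, a i (x * y) = a i x + a i y
  a_surj : ∀ f : Bool → K, ∃ x ∈ U, ∀ i, a i x = f i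
  /-- the centres of the two factors; only the values on `F_q` matter (compose with
  `b ↦ Tr (ε b)`, `Tr ε = 1`) -/
  z : Bool → K → G
  z_mem : ∀ i b, z i b ∈ U
  z_add : ∀ i b c, z i (b + c) = z i b * z i c
  z_cen : ∀ i b, ∀ x ∈ U, x * z i b = z i b * x
  z_inj : ∀ b c, bar n b = b → bar n c = c → z false b * z true c = 1 → b = 0 ∧ c = 0
  a_z : ∀ i j b, a i (z j b) = 0
  exists_z : ∀ x ∈ U, (∀ i, a i x = 0) →
    ∃ b c, bar n b = b ∧ bar n c = c ∧ x = z false b * z true c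
  U_sq : ∀ x ∈ U, x * x = z false (N n (a false x)) * z true (N n (a true x))
  U_comm : ∀ x ∈ U, ∀ y ∈ U, x * y =
    z false (Tr n (a false x * bar n (a false y))) * z true (Tr n (a true x * bar n (a true y))) *
      (y * x)
  t : G
  t_sq : t * t = 1
  t_U : ∀ x ∈ U, t * x * t⁻¹ ∈ U
  t_a : ∀ i, ∀ x ∈ U, a i (t * x * t⁻¹) = a (!i) x
  /-- the normalizer of `U`: semilinear on both factors, up to a swap -/
  act : ∀ g : G, (∀ x ∈ U, g * x * g⁻¹ ∈ U) → ∃ (c : Bool → K) (φ : Bool → (K ≃+* K)),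
    (∀ i, c i ≠ 0) ∧ ((∀ i, ∀ x ∈ U, a i (g * x * g⁻¹) = c i * φ i (a i x)) ∨
      (∀ i, ∀ x ∈ U, a i (g * x * g⁻¹) = c i * φ i (a (!i) x)))
  /-- `O` is the largest odd order subgroup of `C_G(U)` -/
  O : Subgroup G
  O_odd : Odd (Nat.card O)
  O_U : ∀ k ∈ O, ∀ x ∈ U, k * x = x * k
  O_conj : ∀ g : G, (∀ x ∈ U, g * x * g⁻¹ ∈ U) → ∀ k ∈ O, g * k * g⁻¹ ∈ O
  /-- the elements of the normalizer of `U` acting trivially on `U / W` -/
  ker : ∀ g : G, (∀ x ∈ U, g * x * g⁻¹ ∈ U) → (∀ i, ∀ x ∈ U, a i (g * x * g⁻¹) = a i x) →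
    ∃ x ∈ U, ∃ k ∈ O, g = x * k
  /-- the torus -/
  h : Kˣ → G
  h_U : ∀ l, ∀ x ∈ U, h l * x * (h l)⁻¹ ∈ U
  h_a : ∀ l i, ∀ x ∈ U, a i (h l * x * (h l)⁻¹) = w n l * a i x
  /-- the field automorphism -/
  s : G
  s_sq : s * s = 1
  s_t : s * t = t * s
  s_U : ∀ x ∈ U, s * x * s⁻¹ ∈ U
  s_a : ∃ c : K, ∀ i, ∀ x ∈ U, a i (s * x * s⁻¹) = c * bar n (a i x)
  /-- the Galois component on `C_G(t)` -/
  ch : G → (K ≃+* K)
  ch_mul : ∀ x y, x * t = t * x → y * t = t * y → ch (x * y) = ch x * ch y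
  ch_s : ch s ≠ 1
  /-- the rank of the centralizer of `t` -/
  rank : ∀ B : Subgroup G, (∀ b ∈ B, b * b = 1) → (∀ b ∈ B, b * t = t * b) →
    Nat.card B ≤ 4 * 2 ^ n
  /-- no conjugate of `t` is in `U` -/
  t_fus : ∀ g : G, g * t * g⁻¹ ∉ U

end Cfsg.Agent.StdU3.GZeroDef
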