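import Cfsg.Agent.StdU3.LevelTwo
import Cfsg.Agent.StdU3.GZeroDef

/-!
# Coordinates of the terminal group `U` of level two, `gam = 0`

`Co D X`: output of the averaging step; `CoE C e c`: the action of the outer involution `e`, and the
root `lam` of `X² + X + eps`.
-/

set_option autoImplicit false
set_option linter.unusedSectionVars false

namespace Cfsg.Agent.StdU3.GZeroCo

open Cfsg.Agent.StdU3.Field Cfsg.Agent.StdU3.PreDef Cfsg.Agent.StdU3.LevelOne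
open Cfsg.Agent.StdU3.LevelOneW Cfsg.Agent.StdU3.NormQ Cfsg.Agent.StdU3.Kernel
open Cfsg.Agent.StdU3.Next Cfsg.Agent.StdU3.LevelTwo

variable {G : Type*} [Group G] {K : Type*} [Field K] [Fintype K] [CharP K 2] {n : ℕ}

/-- coordinates `x, b` on `U / W` and `u, f` on `W`. -/
structure Co (D : Pre G K n) {O : Subgroup G} (X : Next D O) where
  x : G → K
  f : G → K
  eps : K
  x_mul : ∀ s ∈ U D X, ∀ r ∈ U D X, x (s * r) = x s + x r
  x_V : ∀ v ∈ V D, x v = a D v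
  x_h : ∀ l, ∀ s ∈ U D X, x (X.h' l * s * (X.h' l)⁻¹) = w n l * x s
  f_mul : ∀ y ∈ W D, ∀ y' ∈ W D, f (y * y') = f y + f y'
  f_fixed : ∀ y ∈ W D, bar n (f y) = f y
  f_z : ∀ b, bar n b = b → f (D.z b) = b
  f_h : ∀ l, ∀ y ∈ W D, f (X.h' l * y * (X.h' l)⁻¹) = N n (l : K) * f y
  eps_fixed : bar n eps = eps
  cmt_u : ∀ s ∈ U D X, ∀ r ∈ U D X, u D (s * r * s⁻¹ * r⁻¹) =
    Tr n (b D s * bar n (x r)) + Tr n (x s * bar n (b D r)) + Tr n (b D s * bar n (b D r))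
  cmt_f : ∀ s ∈ U D X, ∀ r ∈ U D X, f (s * r * s⁻¹ * r⁻¹) =
    Tr n (x s * bar n (x r)) + eps * Tr n (b D s * bar n (b D r))
  sq_u : ∀ s ∈ U D X, u D (s * s) = Tr n (x s * bar n (b D s)) + N n (b D s)
  sq_f : ∀ s ∈ U D X, f (s * s) = N n (x s) + eps * N n (b D s)
  x_t : ∀ s ∈ U D X, x (D.t * s * D.t⁻¹) = x s + b D s
  f_t : ∀ y ∈ W D, f (D.t * y * D.t⁻¹) = f y + u D y

/-- the action of `e`, and the root of `X² + X + eps` in `F_q`. -/
structure CoE {D : Pre G K n} {O : Subgroup G} {X : Next D O} (C : Co D X) (e : G) (c : K) where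
  lam : K
  lam_fixed : bar n lam = lam
  lam_eq : lam * lam + lam = C.eps
  e_U : ∀ s ∈ U D X, e * s * e⁻¹ ∈ U D X
  x_e : ∀ s ∈ U D X, C.x (e * s * e⁻¹) = c * bar n (C.x s + b D s)
  b_e : ∀ s ∈ U D X, b D (e * s * e⁻¹) = c * bar n (b D s)

end Cfsg.Agent.StdU3.GZeroCo
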