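import Cfsg.Agent.StdU3.GZeroK1

/-!
# Type `g0`: `W` is strongly closed, modulo (K3) and (AB)
-/

set_option autoImplicit false
set_option linter.unusedSectionVars false

namespace Cfsg.Agent.StdU3.GZeroFus

open Cfsg.Agent.StdU3.Field Cfsg.Agent.StdU3.PreDef Cfsg.Agent.StdU3.FieldAut
open Cfsg.Agent.StdU3.GZeroDef Cfsg.Agent.StdU3.GZeroBase Cfsg.Agent.StdU3.GZeroWeak
open Cfsg.Agent.StdU3.GZeroK1

variable {G : Type*} [Group G] [Finite G] {K : Type*} [Field K] [Fintype K] [CharP K 2] {n : ℕ}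
variable (D : GZero G K n)

/-- fused into `W` -/
def Fus (x : G) : Prop := ∃ g : G, g * x * g⁻¹ ∈ W D

theorem Fus.conj {x : G} (h : Fus D x) (g : G) : Fus D (g * x * g⁻¹) := by
  obtain ⟨k, hk⟩ := h
  exact ⟨k * g⁻¹, by rwa [show k * g⁻¹ * (g * x * g⁻¹) * (k * g⁻¹)⁻¹ = k * x * k⁻¹ by group]⟩

theorem Fus.of_conj {x : G} {g : G} (h : Fus D (g * x * g⁻¹)) : Fus D x := by
  have := Fus.conj D h g⁻¹
  rwa [show g⁻¹ * (g * x * g⁻¹) * g⁻¹⁻¹ = x by group] at this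

theorem not_fus_s : ¬ Fus D D.s := by
  rintro ⟨g, hg⟩
  exact D.ch_s (ch_eq_one D D.s_t hg)

theorem act_s : ∃ c, N n c = 1 ∧ ∀ i, Act D i D.s c (barE D.hq) := by
  obtain ⟨c, hc⟩ := D.s_a
  have h : ∀ i, Act D i D.s c (barE D.hq) := fun i x hx => hc i x hx
  refine ⟨c, ?_, h⟩
  exact (type_cases (s_mem_NN D) (h false) ((h false).ne_zero D (s_mem_St D))
    (by rw [D.s_sq]; exact D.U.one_mem)).1

variable {D}

/-- all involutions of `s U` are conjugate to `s` -/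
theorem exists_conj_s {S : Sylow 2 G} (hS : Two D S) (hs : D.s ∈ S) {y : G} (hy : y ∈ S)
    (hyy : y * y = 1) {c : Bool → K} (h : ∀ i, Act D i y (c i) (barE D.hq)) :
    ∃ u ∈ D.U, y = u * D.s * u⁻¹ := by
  obtain ⟨cs, hcs, hact⟩ := act_s D
  have hcs0 : cs ≠ 0 := (hact false).ne_zero D (s_mem_St D)
  have hsN := s_mem_NN D
  have hsSt := s_mem_St D
  have hss : ∀ i, ∀ x ∈ R D i, D.s * D.s * x = x * (D.s * D.s) := fun i x _ => by
    rw [D.s_sq, one_mul, mul_one]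
  have hsW : ∀ w ∈ W D, D.s * w = w * D.s := fun w hw =>
    comm_W hsSt (by rw [D.s_sq]; exact D.U.one_mem) hw
  have hsinv : D.s⁻¹ = D.s := inv_eq_of_mul_eq_one_left D.s_sq
  have hu : y * D.s⁻¹ ∈ D.U := by
    apply hS.mem_U (mul_mem hy (inv_mem hs))
    intro i
    have h1 := (h i).mul D ((hact i).inv D hcs0 hsN) (inv_mem hsN)
    rw [mul_inv_cancel] at h1
    exact ⟨_, h1⟩
  obtain ⟨u, hu', hyu⟩ : ∃ u ∈ D.U, y = u * D.s := ⟨_, hu, by group⟩
  have hline : ∀ i, cs * bar n (D.a i u) = D.a i u := by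
    intro i
    have h1 : u * (D.s * u * D.s⁻¹) = 1 := by
      have h2 : u * (D.s * u * D.s⁻¹) = y * y := by
        rw [hyu]
        calc u * (D.s * u * D.s⁻¹) = u * D.s * (u * D.s⁻¹) := by group
          _ = u * D.s * (u * D.s) := by rw [hsinv]
      rw [h2, hyy]
    have h2 := congrArg (D.a i) h1
    rw [D.a_mul _ _ hu' _ (D.s_U u hu'), hact i u hu', a_one, Field.add_eq_zero] at h2
    exact h2.symm
  -- first step: modulo `W`
  obtain ⟨e, he⟩ := exists_Tr_one D.hq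
  obtain ⟨p, hp, hpa⟩ := D.a_surj (fun i => e * D.a i u)
  have hx0 : p * (D.s * p⁻¹ * D.s⁻¹) ∈ D.U := mul_mem hp (D.s_U _ (inv_mem hp))
  have hw : (p * (D.s * p⁻¹ * D.s⁻¹))⁻¹ * u ∈ W D := by
    apply mem_W_of_eq D hu' hx0
    intro i
    rw [D.a_mul _ _ hp _ (D.s_U _ (inv_mem hp)), hact i _ (inv_mem hp), a_inv D i hp, hpa,
      barE_apply, bar_mul]
    calc D.a i u = (e + bar n e) * D.a i u := by rw [← Tr_def, he, one_mul]
      _ = e * D.a i u + bar n e * (cs * bar n (D.a i u)) := by rw [hline]; ring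
      _ = _ := by ring
  obtain ⟨b, b', hb, hb', hwz⟩ := exists_zW D hw
  obtain ⟨v, hv, hvv, hv'⟩ := exists_inverted_sq hsSt (hact false) hcs (hss false) hb
  obtain ⟨v', hv1, hvv', hv1'⟩ := exists_inverted_sq hsSt (hact true) hcs (hss true) hb'
  have e1 : ∀ {x : G} {w : G}, x * x = w → D.s * x * D.s⁻¹ = x⁻¹ → x * D.s * x⁻¹ = w * D.s := by
    intro x w hx hx'
    calc x * D.s * x⁻¹ = x * (D.s * x * D.s⁻¹)⁻¹ * D.s := by group
      _ = x * x * D.s := by rw [hx', inv_inv]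
      _ = w * D.s := by rw [hx]
  have e2 := e1 hvv hv'
  have e3 := e1 hvv' hv1'
  refine ⟨p * (v * v'), mul_mem hp (mul_mem hv.1 hv1.1), ?_⟩
  have e4 : v * v' * D.s * (v * v')⁻¹ = D.z false b * D.z true b' * D.s := by
    calc v * v' * D.s * (v * v')⁻¹ = v * (v' * D.s * v'⁻¹) * v⁻¹ := by group
      _ = (v * D.z true b') * D.s * v⁻¹ := by rw [e3]; group
      _ = D.z true b' * (v * D.s * v⁻¹) := by rw [W_cen D hv.1 (z_mem_W D _ _)]; group
      _ = D.z false b * D.z true b' * D.s := by rw [e2, ← mul_assoc, z_comm D true false]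
  rw [← hwz] at e4
  have e5 : p * (v * v') * D.s * (p * (v * v'))⁻¹ =
      p * ((p * (D.s * p⁻¹ * D.s⁻¹))⁻¹ * u * D.s) * p⁻¹ := by
    rw [← e4]; group
  rw [e5, hyu]
  have e6 := W_cen D hp hw
  calc u * D.s = (p * (D.s * p⁻¹ * D.s⁻¹)) * ((p * (D.s * p⁻¹ * D.s⁻¹))⁻¹ * u) * D.s := by group
    _ = ((p * (D.s * p⁻¹ * D.s⁻¹))⁻¹ * u) * (p * (D.s * p⁻¹ * D.s⁻¹)) * D.s := by
        rw [W_cen D hx0 hw]
    _ = ((p * (D.s * p⁻¹ * D.s⁻¹))⁻¹ * u * p) * D.s * p⁻¹ := by group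
    _ = p * ((p * (D.s * p⁻¹ * D.s⁻¹))⁻¹ * u * D.s) * p⁻¹ := by rw [← e6]; group

theorem not_fus_of_bar {S : Sylow 2 G} (hS : Two D S) (hs : D.s ∈ S) {y : G} (hy : y ∈ S)
    (hyy : y * y = 1) {c : Bool → K} (h : ∀ i, Act D i y (c i) (barE D.hq)) :
    ¬ Fus D y := by
  obtain ⟨u, -, rfl⟩ := exists_conj_s hS hs hy hyy h
  intro hf
  exact not_fus_s D (Fus.of_conj D hf)

/-- extremal conjugate of a fused element of `S` -/
theorem exists_extremal {S : Sylow 2 G} (hS : Two D S) {y : G} (hf : Fus D y) :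
    ∃ g, g * y * g⁻¹ ∈ W D ∧ ∀ b ∈ S, b * y = y * b → g * b * g⁻¹ ∈ S := by
  obtain ⟨g0, hg0⟩ := hf
  obtain ⟨g, hg, h⟩ := extremal D S hS.U_le hg0
    ((S : Subgroup G) ⊓ Subgroup.centralizer {y}) (S.isPGroup'.to_le inf_le_left) (by
      rintro b ⟨-, hb⟩
      exact (Subgroup.mem_centralizer_singleton_iff.mp hb))
  exact ⟨g, hg, fun b hb hby => h b ⟨hb, Subgroup.mem_centralizer_singleton_iff.mpr hby⟩⟩

section main

variable {S : Sylow 2 G} (hS : Two D S) (ht : D.t ∈ S) (hs : D.s ∈ S)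
  (hK3 : ∀ y ∈ S, y ∉ St D → y * y = 1 → ∀ g, g * y * g⁻¹ ∈ W D → False)
  (hAB : ∀ (i : Bool) (c : K), ∀ y ∈ S, y ∈ St D → y * y = 1 → Act D i y c (barE D.hq) →
    Act D (!i) y 1 1 → ∀ x ∈ R D (!i), y * x = x * y)

include hS hAB in
/-- **Steps C, D** -/
theorem fus_mul {i : Bool} {c : K} {y : G} (hy : y ∈ S) (hySt : y ∈ St D) (hyy : y * y = 1)
    (h : Act D i y c (barE D.hq)) (h' : Act D (!i) y 1 1) (hf : Fus D y) {w : G}
    (hw : w ∈ W D) : Fus D (y * w) := by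
  have hcomm := hAB i c y hy hySt hyy h h'
  have hyW : ∀ w ∈ W D, y * w = w * y := fun w hw =>
    comm_W hySt (by rw [hyy]; exact D.U.one_mem) hw
  have hc0 : c ≠ 0 := h.ne_zero D hySt
  have hc : N n c = 1 := (type_cases (hS.le hy) h hc0 (by rw [hyy]; exact D.U.one_mem)).1
  obtain ⟨b, b', hb, hb', rfl⟩ := exists_zW' D i hw
  obtain ⟨g, hg, hgS⟩ := exists_extremal hS hf
  -- Step C
  have hmemS : ∀ x ∈ R D (!i), g * x * g⁻¹ ∈ S := fun x hx =>
    hgS x (hS.U_le hx.1) (hcomm x hx).symm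
  obtain ⟨x, hx, hPx, x', hx', hPx', hxx⟩ := exists_cmt (D := D) (!i) (fun x => g * x * g⁻¹ ∈ St D)
    (fun x hx y hy hPx hPy => by
      have := St_of_mul D (hS.le (hmemS x hx)) (hS.le (hmemS y hy)) hPx hPy
      rwa [show g * x * g⁻¹ * (g * y * g⁻¹) = g * (x * y) * g⁻¹ by group] at this) hb'
  have h1 := hS.cmt_mem (hmemS x hx) (hmemS x' hx') hPx hPx'
  rw [show g * x * g⁻¹ * (g * x' * g⁻¹) * (g * x * g⁻¹)⁻¹ * (g * x' * g⁻¹)⁻¹ =
    g * (x * x' * x⁻¹ * x'⁻¹) * g⁻¹ by group, hxx] at h1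
  have h2 : g * D.z (!i) b' * g⁻¹ ∈ W D := by
    apply mem_W_of_sq D h1
    calc g * D.z (!i) b' * g⁻¹ * (g * D.z (!i) b' * g⁻¹) = g * (D.z (!i) b' * D.z (!i) b') * g⁻¹ := by
          group
      _ = 1 := by rw [z_sq]; group
  have h3 : Fus D (y * D.z (!i) b') := ⟨g, by
    rw [show g * (y * D.z (!i) b') * g⁻¹ = (g * y * g⁻¹) * (g * D.z (!i) b' * g⁻¹) by group]
    exact mul_mem hg h2⟩
  -- Step D
  obtain ⟨v, hv, hvv, hv'⟩ := exists_inverted_sq hySt h hc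
    (fun x _ => by rw [hyy, one_mul, mul_one]) hb
  have h4 : v * (y * D.z (!i) b') * v⁻¹ = y * (D.z i b * D.z (!i) b') := by
    calc v * (y * D.z (!i) b') * v⁻¹ = v * (y * v * y⁻¹)⁻¹ * y * (v * D.z (!i) b' * v⁻¹) := by group
      _ = v * v * y * D.z (!i) b' := by
          rw [hv', inv_inv, W_cen D hv.1 (z_mem_W D (!i) b')]; group
      _ = y * (D.z i b * D.z (!i) b') := by
          rw [hvv, ← hyW _ (z_mem_W D i b), mul_assoc]
  rw [← h4]
  exact Fus.conj D h3 v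

include hS ht hs hAB in
/-- **Step E** -/
theorem step_E {i : Bool} {c : K} {y : G} (hy : y ∈ S) (hySt : y ∈ St D) (hyy : y * y = 1)
    (h : Act D i y c (barE D.hq)) (h' : Act D (!i) y 1 1) :
    ∃ y' ∈ S, y' * y' = 1 ∧ y' * y = y * y' ∧ (Fus D y → Fus D y') ∧ ¬ Fus D (y * y') := by
  have hc0 : c ≠ 0 := h.ne_zero D hySt
  have htN := t_mem_NN D
  have htSw := t_Sw D
  have htinv : D.t⁻¹ = D.t := inv_eq_of_mul_eq_one_left D.t_sq
  set y' := D.t * y * D.t⁻¹ with hy'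
  have hy'S : y' ∈ S := mul_mem (mul_mem ht hy) (inv_mem ht)
  have hy'y' : y' * y' = 1 := by
    rw [hy', show D.t * y * D.t⁻¹ * (D.t * y * D.t⁻¹) = D.t * (y * y) * D.t⁻¹ by group, hyy]; group
  have ht' : ∀ i, ∀ x ∈ D.U, D.a i (D.t⁻¹ * x * D.t) = D.a (!i) x := by
    intro i x hx
    have := D.t_a i x hx
    rw [htinv] at this ⊢
    exact this
  have hconj : ∀ i, ∀ x ∈ D.U, D.a i (y' * x * y'⁻¹) = D.a (!i) (y * (D.t⁻¹ * x * D.t) * y⁻¹) := by
    intro i x hx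
    rw [show y' * x * y'⁻¹ = D.t * (y * (D.t⁻¹ * x * D.t) * y⁻¹) * D.t⁻¹ by rw [hy']; group,
      D.t_a _ _ (NN_conj D (hS.le hy) (NN_conj' D htN hx))]
  have g1 : Act D (!i) y' c (barE D.hq) := by
    intro x hx
    rw [hconj _ x hx, Bool.not_not, h _ (NN_conj' D htN hx), ht' _ x hx]
  have g2 : Act D (!(!i)) y' 1 1 := by
    intro x hx
    rw [hconj _ x hx, Bool.not_not, h' _ (NN_conj' D htN hx), ht' _ x hx, Bool.not_not]
  have hy'St : y' ∈ St D := by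
    refine ⟨hS.le hy'S, fun j x hx => ?_, fun j x hx => ?_⟩
    · have e1 := St_R D hySt (i := !j) (x := D.t⁻¹ * x * D.t) ⟨NN_conj' D htN hx.1, by
        rw [ht' _ x hx.1]; rw [Bool.not_not]; exact hx.2⟩
      have e2 := htSw.2 _ _ e1
      rw [Bool.not_not] at e2
      rwa [show D.t * (y * (D.t⁻¹ * x * D.t) * y⁻¹) * D.t⁻¹ = y' * x * y'⁻¹ by rw [hy']; group] at e2
    · have e1 := St_R' D hySt (i := !j) (x := D.t⁻¹ * x * D.t) ⟨NN_conj' D htN hx.1, by
        rw [ht' _ x hx.1]; rw [Bool.not_not]; exact hx.2⟩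
      have e2 := htSw.2 _ _ e1
      rw [Bool.not_not] at e2
      rwa [show D.t * (y⁻¹ * (D.t⁻¹ * x * D.t) * y) * D.t⁻¹ = y'⁻¹ * x * y' by rw [hy']; group] at e2
  have hcy := hAB i c y hy hySt hyy h h'
  have hcy' : ∀ x ∈ R D i, y' * x = x * y' := by
    have := hAB (!i) c y' hy'S hy'St hy'y' g1 g2
    rwa [Bool.not_not] at this
  have hyW : ∀ w ∈ W D, y * w = w * y := fun w hw =>
    comm_W hySt (by rw [hyy]; exact D.U.one_mem) hw
  have hy'W : ∀ w ∈ W D, y' * w = w * y' := fun w hw =>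
    comm_W hy'St (by rw [hy'y']; exact D.U.one_mem) hw
  have hyinv : y⁻¹ = y := inv_eq_of_mul_eq_one_left hyy
  have hy'inv : y'⁻¹ = y' := inv_eq_of_mul_eq_one_left hy'y'
  rw [Bool.not_not] at g2
  -- the product
  have hprod : ∀ j, Act D j (y * y') c (barE D.hq) := by
    intro j
    rcases Bool.eq_or_eq_not j i with rfl | rfl
    · intro x hx
      have := h.mul D g2 (hS.le hy'S) x hx
      rw [this, map_one, mul_one, mul_one]
    · intro x hx
      have := h'.mul D g1 (hS.le hy'S) x hx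
      rw [this, one_mul]
      rfl
  have hyy'S : y * y' ∈ S := mul_mem hy hy'S
  have hyy'St : y * y' ∈ St D := mul_mem hySt hy'St
  -- the commutator
  have hκU : y' * y * y'⁻¹ * y⁻¹ ∈ D.U := hS.cmt_mem hy'S hy hy'St hySt
  have hκW : y' * y * y'⁻¹ * y⁻¹ ∈ W D := by
    apply mem_W_of_RR D (i := i)
    · have := mem_R_of_comm D (i := !i) hκU (fun x hx => by
        have f1 : y⁻¹ * x = x * y⁻¹ := by rw [hyinv]; exact hcy x hx
        have f2 : y'⁻¹ * x * y' ∈ R D (!i) := St_R' D hy'St hx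
        have f3 := hcy _ f2
        calc y' * y * y'⁻¹ * y⁻¹ * x = y' * y * y'⁻¹ * (y⁻¹ * x) := by group
          _ = y' * (y * (y'⁻¹ * x * y')) * y'⁻¹ * y⁻¹ := by rw [f1]; group
          _ = x * (y' * y * y'⁻¹ * y⁻¹) := by rw [f3]; group)
      rwa [Bool.not_not] at this
    · exact mem_R_of_comm D hκU (fun x hx => by
        have f2 : y⁻¹ * x * y ∈ R D i := St_R' D hySt hx
        have f3 := hcy' _ f2
        have f4 : y'⁻¹ * (y⁻¹ * x * y) = (y⁻¹ * x * y) * y'⁻¹ := by rw [hy'inv]; exact f3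
        calc y' * y * y'⁻¹ * y⁻¹ * x = y' * y * (y'⁻¹ * (y⁻¹ * x * y)) * y⁻¹ := by group
          _ = (y' * x) * y * y'⁻¹ * y⁻¹ := by rw [f4]; group
          _ = x * (y' * y * y'⁻¹ * y⁻¹) := by rw [hcy' x hx]; group)
  set κ := y' * y * y'⁻¹ * y⁻¹ with hκ
  -- `s = y y' u`
  obtain ⟨cs, hcs, hact⟩ := act_s D
  have hu : (y * y')⁻¹ * D.s ∈ D.U := by
    apply hS.mem_U (mul_mem (inv_mem hyy'S) hs)
    intro j
    have e1 := ((hprod j).inv D hc0 (hS.le hyy'S)).mul D (hact j) (s_mem_NN D)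
    rw [inv_mul_cancel] at e1
    exact ⟨_, e1⟩
  obtain ⟨v, hv, v', hv', hvv', -, -⟩ := exists_RR D i hu
  have hs1 : D.s = (y * v) * (y' * v') := by
    calc D.s = y * y' * ((y * y')⁻¹ * D.s) := by group
      _ = y * (y' * v) * v' := by rw [hvv']; group
      _ = (y * v) * (y' * v') := by rw [hcy' v hv]; group
  have hvc : v * v' = v' * v := RR_comm D hv hv'
  have hκ' : y' * y = κ * (y * y') := by rw [hκ]; group
  have hβα : (y' * v') * (y * v) = κ * ((y * v) * (y' * v')) := by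
    calc (y' * v') * (y * v) = y' * (v' * y) * v := by group
      _ = y' * (y * v') * v := by rw [hcy v' hv']
      _ = (y' * y) * (v' * v) := by group
      _ = κ * (y * (y' * v) * v') := by rw [hκ', ← hvc]; group
      _ = κ * ((y * v) * (y' * v')) := by rw [hcy' v hv]; group
  have hακ : (y * v) * κ = κ * (y * v) := by
    rw [mul_assoc, W_cen D hv.1 hκW, ← mul_assoc, hyW κ hκW, mul_assoc]
  have hα : (y * v) * (y * v) = y * v * y⁻¹ * v := by
    rw [hyinv]; group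
  have hβ : (y' * v') * (y' * v') = y' * v' * y'⁻¹ * v' := by
    rw [hy'inv]; group
  have hαR : y * v * y⁻¹ * v ∈ R D i := mul_mem (St_R D hySt hv) hv
  have hβR : y' * v' * y'⁻¹ * v' ∈ R D (!i) := mul_mem (St_R D hy'St hv') hv'
  have hone : κ * ((y * v * y⁻¹ * v) * (y' * v' * y'⁻¹ * v')) = 1 := by
    rw [← hα, ← hβ, ← D.s_sq]
    calc κ * ((y * v) * (y * v) * ((y' * v') * (y' * v')))
        = (κ * (y * v)) * (y * v) * (y' * v') * (y' * v') := by group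
      _ = (y * v) * (κ * ((y * v) * (y' * v'))) * (y' * v') := by rw [← hακ]; group
      _ = (y * v) * ((y' * v') * (y * v)) * (y' * v') := by rw [hβα]
      _ = D.s * D.s := by rw [hs1]; group
  have hl1 : c * bar n (D.a i v) = D.a i v := by
    have e1 := congrArg (D.a i) hone
    rw [D.a_mul _ _ hκU _ (mul_mem hαR.1 hβR.1), hκW.2, zero_add, D.a_mul _ _ hαR.1 _ hβR.1,
      a_one] at e1
    have e2 : D.a i (y' * v' * y'⁻¹ * v') = 0 := by
      have := hβR.2; rwa [Bool.not_not] at this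
    rw [e2, add_zero, D.a_mul _ _ (NN_conj D (hS.le hy) hv.1) _ hv.1, h v hv.1,
      Field.add_eq_zero] at e1
    exact e1
  have hl2 : c * bar n (D.a (!i) v') = D.a (!i) v' := by
    have e1 := congrArg (D.a (!i)) hone
    rw [D.a_mul _ _ hκU _ (mul_mem hαR.1 hβR.1), hκW.2, zero_add, D.a_mul _ _ hαR.1 _ hβR.1,
      a_one, hαR.2, zero_add, D.a_mul _ _ (NN_conj D (hS.le hy'S) hv'.1) _ hv'.1, g1 v' hv'.1,
      Field.add_eq_zero] at e1
    exact e1
  have hα1 := conj_mul_self hySt h (fun x _ => by rw [hyy, one_mul, mul_one]) hyW hv hl1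
  have hβ1 := conj_mul_self hy'St g1 (fun x _ => by rw [hy'y', one_mul, mul_one]) hy'W hv' hl2
  rw [hα1, hβ1, mul_one, mul_one] at hone
  have hcomm : y' * y = y * y' := by rw [hκ', hone, one_mul]
  refine ⟨y', hy'S, hy'y', hcomm, fun hf => Fus.conj D hf D.t, ?_⟩
  apply not_fus_of_bar hS hs hyy'S _ (c := fun _ => c) hprod
  calc y * y' * (y * y') = y * (y' * y) * y' := by group
    _ = (y * y) * (y' * y') := by rw [hcomm]; group
    _ = 1 := by rw [hyy, hy'y', one_mul]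

include hS ht hs hK3 hAB in
/-- **(K2)**: involutions of `S` fused into `W` are in `W` -/
theorem fus_cases {y : G} (hy : y ∈ S) (hyy : y * y = 1) (hf : Fus D y) :
    y ∈ W D ∨ (y ∈ St D ∧ ∃ i c, Act D i y c (barE D.hq) ∧ Act D (!i) y 1 1) := by
  by_cases hySt : y ∈ St D
  · obtain ⟨c, φ, hc, h⟩ := St_act D hySt
    have hyyU : y * y ∈ D.U := by rw [hyy]; exact D.U.one_mem
    have h1 := fun i => (type_cases (hS.le hy) (h i) (hc i) hyyU).2
    have htriv : ∀ i, φ i = 1 ∧ c i = 1 → Act D i y 1 1 := by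
      rintro i ⟨e1, e2⟩
      have := h i
      rw [e1, e2] at this
      exact this
    have hbar : ∀ i, φ i = barE D.hq → Act D i y (c i) (barE D.hq) := by
      intro i e1
      have := h i
      rw [e1] at this
      exact this
    rcases h1 false with e1 | e1 <;> rcases h1 true with e2 | e2
    · left
      apply mem_W_of_sq D _ hyy
      apply hS.mem_U hy
      rintro (_ | _)
      · exact ⟨1, htriv _ e1⟩
      · exact ⟨1, htriv _ e2⟩
    · exact Or.inr ⟨hySt, true, _, hbar _ e2, htriv _ e1⟩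
    · exact Or.inr ⟨hySt, false, _, hbar _ e1, htriv _ e2⟩
    · exfalso
      refine not_fus_of_bar hS hs hy hyy (c := c) ?_ hf
      rintro (_ | _)
      · exact hbar _ e1
      · exact hbar _ e2
  · obtain ⟨g, hg⟩ := hf
    exact (hK3 y hy hySt hyy g hg).elim

include hS ht hs hK3 hAB in
theorem mem_W_of_fus {y : G} (hy : y ∈ S) (hyy : y * y = 1) (hf : Fus D y) : y ∈ W D := by
  rcases fus_cases hS ht hs hK3 hAB hy hyy hf with h | ⟨hySt, i, c, h, h'⟩
  · exact h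
  exfalso
  obtain ⟨y', hy'S, hy'y', hcomm, hf', hnf⟩ := step_E hS ht hs hAB hy hySt hyy h h'
  obtain ⟨g, hg, hgS⟩ := exists_extremal hS hf
  have h1 := hgS y' hy'S hcomm
  have h2 : g * y' * g⁻¹ * (g * y' * g⁻¹) = 1 := by
    rw [show g * y' * g⁻¹ * (g * y' * g⁻¹) = g * (y' * y') * g⁻¹ by group, hy'y']; group
  have h3 : Fus D (g * y' * g⁻¹) := Fus.conj D (hf' hf) g
  rcases fus_cases hS ht hs hK3 hAB h1 h2 h3 with h4 | ⟨hSt', j, c', h4, h4'⟩
  · apply hnf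
    refine ⟨g, ?_⟩
    rw [show g * (y * y') * g⁻¹ = (g * y * g⁻¹) * (g * y' * g⁻¹) by group]
    exact mul_mem hg h4
  · have h5 := fus_mul hS hAB h1 hSt' h2 h4 h4' h3 hg
    rw [show g * y' * g⁻¹ * (g * y * g⁻¹) = g * (y' * y) * g⁻¹ by group, hcomm] at h5
    exact hnf (Fus.of_conj D h5)

include hS ht hs hK3 hAB in
/-- **`W` is strongly closed in `S`.** -/
theorem strongly_closed {w g : G} (hw : w ∈ W D) (hg : g * w * g⁻¹ ∈ S) : g * w * g⁻¹ ∈ W D := by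
  apply mem_W_of_fus hS ht hs hK3 hAB hg
  · rw [show g * w * g⁻¹ * (g * w * g⁻¹) = g * (w * w) * g⁻¹ by group, W_sq D hw]; group
  · exact ⟨g⁻¹, by rwa [show g⁻¹ * (g * w * g⁻¹) * g⁻¹⁻¹ = w by group]⟩

end main

end Cfsg.Agent.StdU3.GZeroFus
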