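import Cfsg.Agent.StdU3.GZeroWeak

/-!
# Type `g0`: elements of `C_G(t)` with nontrivial Galois component are not fused into `W`
-/

set_option autoImplicit false
set_option linter.unusedSectionVars false

namespace Cfsg.Agent.StdU3.GZeroK1

open Cfsg.Agent.StdU3.Field Cfsg.Agent.StdU3.PreDef Cfsg.Agent.StdU3.FieldAut
open Cfsg.Agent.StdU3.GZeroDef Cfsg.Agent.StdU3.GZeroBase Cfsg.Agent.StdU3.GZeroWeak

variable {G : Type*} [Group G] [Finite G] {K : Type*} [Field K] [Fintype K] [CharP K 2] {n : ℕ}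
variable (D : GZero G K n)

theorem card_W : Nat.card (W D) = 2 ^ n * 2 ^ n := by
  have h : Nat.card (Card.Fq K n × Card.Fq K n) = 2 ^ n * 2 ^ n := by
    rw [Nat.card_prod, Card.card_Fq D.hq]
  rw [← h]
  symm
  apply Nat.card_congr
  refine Equiv.ofBijective (fun p : Card.Fq K n × Card.Fq K n =>
    (⟨D.z false p.1.1 * D.z true p.2.1, mul_mem (z_mem_W D _ _) (z_mem_W D _ _)⟩ : W D)) ⟨?_, ?_⟩
  · rintro ⟨⟨b, hb⟩, ⟨c, hc⟩⟩ ⟨⟨b', hb'⟩, ⟨c', hc'⟩⟩ h
    have h1 := zz_inj D false hb hc hb' hc' (congrArg Subtype.val h)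
    rw [Prod.mk.injEq, Subtype.mk.injEq, Subtype.mk.injEq]
    exact h1
  · rintro ⟨x, hx⟩
    obtain ⟨b, c, hb, hc, rfl⟩ := exists_zW D hx
    exact ⟨(⟨b, hb⟩, ⟨c, hc⟩), rfl⟩

/-! ### The Galois component -/

theorem ch_one : D.ch 1 = 1 := by
  have h : (1 : G) * D.t = D.t * 1 := by rw [one_mul, mul_one]
  have h1 := D.ch_mul 1 1 h h
  rw [mul_one] at h1
  exact left_eq_mul.mp h1

theorem comm_inv {x d : G} (hx : x * d = d * x) : x⁻¹ * d = d * x⁻¹ := by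
  rw [inv_mul_eq_iff_eq_mul, ← mul_assoc, hx, mul_assoc, mul_inv_cancel, mul_one]

theorem comm_mul {x y d : G} (hx : x * d = d * x) (hy : y * d = d * y) :
    (x * y) * d = d * (x * y) := by
  rw [mul_assoc, hy, ← mul_assoc, hx, mul_assoc]

theorem ch_cmt {x y : G} (hx : x * D.t = D.t * x) (hy : y * D.t = D.t * y) :
    D.ch (x * y * x⁻¹ * y⁻¹) = 1 := by
  have hx' := comm_inv hx
  have hy' := comm_inv hy
  have h1 := D.ch_mul x x⁻¹ hx hx'
  have h2 := D.ch_mul y y⁻¹ hy hy'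
  rw [mul_inv_cancel, ch_one] at h1 h2
  rw [D.ch_mul _ _ (comm_mul (comm_mul hx hy) hx') hy', D.ch_mul _ _ (comm_mul hx hy) hx',
    D.ch_mul _ _ hx hy, comm (D.ch x) (D.ch y), mul_assoc (D.ch y), ← h1, mul_one, ← h2]

/-- a conjugate of `t` normalizing `U` swaps the factors -/
theorem Sw_of_conj {g : G} (hg : g * D.t * g⁻¹ ∈ NN D) : Sw D (g * D.t * g⁻¹) := by
  apply Sw_of_not D hg
  intro hSt
  set d := g * D.t * g⁻¹ with hd
  have hdd : d * d = 1 := by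
    rw [hd, show g * D.t * g⁻¹ * (g * D.t * g⁻¹) = g * (D.t * D.t) * g⁻¹ by group, D.t_sq]; group
  have hdW : ∀ w ∈ W D, d * w = w * d := fun w hw =>
    comm_W hSt (by rw [hdd]; exact D.U.one_mem) hw
  have hdU : d ∉ D.U := D.t_fus g
  have hdinv : d⁻¹ = d := inv_eq_of_mul_eq_one_left hdd
  let B : Subgroup G :=
    { carrier := {x | ∃ w ∈ W D, x = w ∨ x = w * d}
      one_mem' := ⟨1, one_mem _, Or.inl rfl⟩
      mul_mem' := by
        rintro x y ⟨w, hw, h | h⟩ ⟨w', hw', h' | h'⟩ <;> rw [h, h']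
        · exact ⟨w * w', mul_mem hw hw', Or.inl rfl⟩
        · exact ⟨w * w', mul_mem hw hw', Or.inr (by group)⟩
        · exact ⟨w * w', mul_mem hw hw', Or.inr (by rw [mul_assoc, hdW w' hw']; group)⟩
        · exact ⟨w * w', mul_mem hw hw', Or.inl (by
            rw [mul_assoc, ← mul_assoc d, hdW w' hw', mul_assoc w', hdd, mul_one])⟩
      inv_mem' := by
        rintro x ⟨w, hw, h | h⟩ <;> rw [h]
        · exact ⟨w⁻¹, inv_mem hw, Or.inl rfl⟩
        · exact ⟨w⁻¹, inv_mem hw, Or.inr (by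
            rw [mul_inv_rev, hdinv, hdW _ (inv_mem hw)])⟩ }
  have hBd : ∀ b ∈ B, b * d = d * b := by
    rintro b ⟨w, hw, rfl | rfl⟩
    · exact (hdW _ hw).symm
    · rw [← mul_assoc d, hdW _ hw]
  have hBB : ∀ b ∈ B, b * b = 1 := by
    rintro b ⟨w, hw, rfl | rfl⟩
    · exact W_sq D hw
    · rw [mul_assoc, ← mul_assoc d, hdW w hw, mul_assoc w, hdd, mul_one, W_sq D hw]
  have hcard : 2 * Nat.card (W D) ≤ Nat.card B := by
    have h1 : Nat.card (W D ⊕ W D) = 2 * Nat.card (W D) := by rw [Nat.card_sum, two_mul]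
    rw [← h1]
    apply Nat.card_le_card_of_injective (fun p : W D ⊕ W D => Sum.elim
      (fun w => (⟨w.1, w.1, w.2, Or.inl rfl⟩ : B)) (fun w => (⟨w.1 * d, w.1, w.2, Or.inr rfl⟩ : B)) p)
    rintro (⟨w, hw⟩ | ⟨w, hw⟩) (⟨w', hw'⟩ | ⟨w', hw'⟩) h
    · have h2 : w = w' := congrArg Subtype.val h
      subst h2; rfl
    · exfalso
      have h2 : w = w' * d := congrArg Subtype.val h
      apply hdU
      have h3 : d = w'⁻¹ * w := by rw [h2]; group
      rw [h3]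
      exact W_le D (mul_mem (inv_mem hw') hw)
    · exfalso
      have h2 : w * d = w' := congrArg Subtype.val h
      apply hdU
      have h3 : d = w⁻¹ * w' := by rw [← h2]; group
      rw [h3]
      exact W_le D (mul_mem (inv_mem hw) hw')
    · have h2 : w * d = w' * d := congrArg Subtype.val h
      have h3 := mul_right_cancel h2
      subst h3; rfl
  let B' : Subgroup G := B.map (MulAut.conj g⁻¹).toMonoidHom
  have hB' : Nat.card B' = Nat.card B :=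
    Nat.card_congr (B.equivMapOfInjective _ (MulAut.conj g⁻¹).injective).toEquiv.symm
  have hconj : ∀ b, (MulAut.conj g⁻¹).toMonoidHom b = g⁻¹ * b * g := by intro b; simp
  have h1 := D.rank B' (by
    rintro _ ⟨b, hb, rfl⟩
    rw [← map_mul, hBB b hb, map_one]) (by
    rintro _ ⟨b, hb, rfl⟩
    rw [hconj]
    have h2 := hBd b hb
    calc g⁻¹ * b * g * D.t = g⁻¹ * (b * d) * g := by rw [hd]; group
      _ = D.t * (g⁻¹ * b * g) := by rw [h2, hd]; group)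
  rw [hB'] at h1
  have h2 := card_W D
  have h4 := four_le D.hq
  have h5 : 2 * (2 ^ n * 2 ^ n) ≤ 4 * 2 ^ n := by rw [← h2]; exact hcard.trans h1
  have h6 : (2 * 2 ^ n) * 2 ^ n ≤ 4 * 2 ^ n := by rw [mul_assoc]; exact h5
  have h7 := Nat.le_of_mul_le_mul_right h6 (by positivity)
  omega

theorem cmt_mul_cmt {x1 x2 y1 y2 : G} (c1 : Commute x1 x2) (c2 : Commute x1 y2)
    (c3 : Commute y1 x2) (c4 : Commute y1 y2) :
    x1 * y1 * x1⁻¹ * y1⁻¹ * (x2 * y2 * x2⁻¹ * y2⁻¹) =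
      (x1 * x2) * (y1 * y2) * (x1 * x2)⁻¹ * (y1 * y2)⁻¹ := by
  have e1 : (x1 * x2) * (y1 * y2) = (x1 * y1) * (x2 * y2) := c3.symm.mul_mul_mul_comm _ _
  have e2 : (x1 * x2)⁻¹ * (y1 * y2)⁻¹ = (x1⁻¹ * y1⁻¹) * (x2⁻¹ * y2⁻¹) := by
    rw [c1.eq, c4.eq, mul_inv_rev, mul_inv_rev]
    exact c3.symm.inv_inv.mul_mul_mul_comm _ _
  have f2 : Commute (x2 * y2) (x1⁻¹ * y1⁻¹) :=
    ((c1.inv_left.mul_right c2.inv_left).mul_left (c3.inv_left.mul_right c4.inv_left)).symm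
  rw [mul_assoc ((x1 * x2) * (y1 * y2)), e1, e2, f2.mul_mul_mul_comm]
  group

/-- **(K1)** -/
theorem ch_eq_one {x g : G} (hx : x * D.t = D.t * x) (hw : g * x * g⁻¹ ∈ W D) : D.ch x = 1 := by
  obtain ⟨S, hS, -, -⟩ := exists_sylow D
  have hz : IsPGroup 2 (Subgroup.zpowers D.t) := by
    rintro ⟨_, k, rfl⟩
    refine ⟨1, Subtype.ext ?_⟩
    change (D.t ^ k) ^ 2 ^ 1 = 1
    rw [pow_one, pow_two, ← zpow_add, ← two_mul, zpow_mul, zpow_two, D.t_sq, one_zpow]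
  obtain ⟨h, hw', hB⟩ := extremal D S hS.U_le hw (Subgroup.zpowers D.t) hz (by
    rintro _ ⟨k, rfl⟩
    exact (((show Commute x D.t from hx).zpow_right k).symm).eq)
  have hd := Sw_of_conj D (hS.le (hB _ (Subgroup.mem_zpowers D.t)))
  set d := h * D.t * h⁻¹ with hd'
  set w := h * x * h⁻¹ with hw''
  have hdw : d * w = w * d := by
    rw [hd', hw'']
    calc h * D.t * h⁻¹ * (h * x * h⁻¹) = h * (D.t * x) * h⁻¹ := by group
      _ = h * x * h⁻¹ * (h * D.t * h⁻¹) := by rw [← hx]; group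
  obtain ⟨c, φ, hc, hact⟩ := Sw_act D hd
  obtain ⟨b, b', hb, hb', hwz⟩ := exists_zW D hw'
  have h1 := Sw_z D hd hact false hb
  have h2 := Sw_z D hd hact true hb'
  have h3 : w = d * w * d⁻¹ := by rw [hdw]; group
  have h4 : D.z false b * D.z true b' =
      D.z false (N n (c false) * φ false b') * D.z true (N n (c true) * φ true b) := by
    calc D.z false b * D.z true b' = w := hwz.symm
      _ = d * w * d⁻¹ := h3
      _ = (d * D.z false b * d⁻¹) * (d * D.z true b' * d⁻¹) := by rw [hwz]; group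
      _ = _ := by rw [h1, h2]; exact z_comm D _ _ _ _
  have h5 := (zz_inj D false hb hb' (fixed_Nφ D _ _ hb') (fixed_Nφ D _ _ hb) h4).2
  have h6 : w = D.z false b * (d * D.z false b * d⁻¹) := by
    rw [hwz, h1, h5]; rfl
  obtain ⟨x1, hx1, -, y1, hy1, -, hxy⟩ := exists_cmt (D := D) false (fun _ => True)
    (fun _ _ _ _ _ _ => trivial) hb
  have hx1' := hd.2 _ x1 hx1
  have hy1' := hd.2 _ y1 hy1
  have c1 : Commute x1 (d * x1 * d⁻¹) := RR_comm D hx1 hx1'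
  have c2 : Commute x1 (d * y1 * d⁻¹) := RR_comm D hx1 hy1'
  have c3 : Commute y1 (d * x1 * d⁻¹) := RR_comm D hy1 hx1'
  have c4 : Commute y1 (d * y1 * d⁻¹) := RR_comm D hy1 hy1'
  have hdd : d * d = 1 := by
    rw [hd', show h * D.t * h⁻¹ * (h * D.t * h⁻¹) = h * (D.t * D.t) * h⁻¹ by group, D.t_sq]; group
  have hX : ∀ v, Commute v (d * v * d⁻¹) → (v * (d * v * d⁻¹)) * d = d * (v * (d * v * d⁻¹)) := by
    intro v hv
    have e1 : d * (v * (d * v * d⁻¹)) = (d * v * d⁻¹) * (d * d * v * (d * d)⁻¹) * d := by group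
    rw [e1, hdd, inv_one, mul_one, one_mul, hv.eq]
  have hcm : w = (x1 * (d * x1 * d⁻¹)) * (y1 * (d * y1 * d⁻¹)) * (x1 * (d * x1 * d⁻¹))⁻¹ *
      (y1 * (d * y1 * d⁻¹))⁻¹ := by
    have e1 : d * D.z false b * d⁻¹ = (d * x1 * d⁻¹) * (d * y1 * d⁻¹) * (d * x1 * d⁻¹)⁻¹ *
        (d * y1 * d⁻¹)⁻¹ := by rw [← hxy]; group
    rw [h6, e1, ← hxy]
    generalize d * x1 * d⁻¹ = x2 at c1 c3 ⊢
    generalize d * y1 * d⁻¹ = y2 at c2 c4 ⊢
    exact cmt_mul_cmt c1 c2 c3 c4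
  have hx0 : x = h⁻¹ * w * h := by rw [hw'']; group
  have hconj : ∀ v, v * d = d * v → (h⁻¹ * v * h) * D.t = D.t * (h⁻¹ * v * h) := by
    intro v hv
    calc (h⁻¹ * v * h) * D.t = h⁻¹ * (v * d) * h := by rw [hd']; group
      _ = D.t * (h⁻¹ * v * h) := by rw [hv, hd']; group
  have hfin := ch_cmt D (hconj _ (hX x1 c1)) (hconj _ (hX y1 c4))
  rw [hx0, hcm]
  rw [← hfin]
  congr 1
  group

end Cfsg.Agent.StdU3.GZeroK1
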