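import Cfsg.Agent.StdU3.GZeroBase

/-!
# Type `g0`: (K2), steps A and B

An involution `y` which preserves the two factors, acts with type `bar` on the factor `i` and
trivially on the factor `!i` modulo `W`, centralizes `R (!i)`.
-/

set_option autoImplicit false
set_option linter.unusedSectionVars false

namespace Cfsg.Agent.StdU3.GZeroKTwoA

open Cfsg.Agent.StdU3.Field Cfsg.Agent.StdU3.PreDef Cfsg.Agent.StdU3.FieldAut
open Cfsg.Agent.StdU3.GZeroDef Cfsg.Agent.StdU3.GZeroBase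

variable {G : Type*} [Group G] {K : Type*} [Field K] [Fintype K] [CharP K 2] {n : ℕ}
variable {D : GZero G K n}

/-- an element of the normalizer with a semilinear action on one factor is straight -/
theorem St_of_act {g : G} (hg : g ∈ NN D) {i : Bool} {c : K} {φ : K ≃+* K}
    (h : Act D i g c φ) : g ∈ St D := by
  by_contra hn
  have h1 := Sw_of_not D hg hn
  obtain ⟨x, hx, hx1⟩ := exists_R D (!i) 1
  have h2 := h1.2 _ x hx
  have hx0 : D.a i x = 0 := by have := hx.2; rwa [Bool.not_not] at this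
  rw [Bool.not_not] at h2
  have h3 : g * x * g⁻¹ ∈ W D := mem_W_of_R D h2 (by rw [h x hx.1, hx0, map_zero, mul_zero])
  have h4 := W_conj' D hg h3
  rw [show g⁻¹ * (g * x * g⁻¹) * g = x by group] at h4
  have := h4.2 (!i)
  rw [hx1] at this
  exact one_ne_zero this

theorem act_h (l : Kˣ) (i : Bool) : Act D i (D.h l) (w n l) 1 := fun x hx => D.h_a l i x hx

theorem h_mem_St [Finite G] (l : Kˣ) : D.h l ∈ St D :=
  St_of_act (h_mem_NN D l) (act_h l false)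

theorem w_ne_zero (l : Kˣ) : w n l ≠ 0 :=
  mul_ne_zero (pow_ne_zero 2 l.ne_zero) (inv_ne_zero (fun h => l.ne_zero (bar_eq_zero h)))

/-- the torus on the centre -/
theorem h_z [Finite G] (l : Kˣ) (i : Bool) {b : K} (hb : bar n b = b) :
    D.h l * D.z i b * (D.h l)⁻¹ = D.z i (N n (w n l) * b) :=
  z_conj D (φ := 1) (fun _ hx => St_R D (h_mem_St l) hx) (fun x hx => act_h l i x hx.1) hb

theorem inv_z_form {i : Bool} {x u : G} (hx : x ∈ R D i) (hu : u ∈ D.U) :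
    u * x * u⁻¹ * x⁻¹ = D.z i (Tr n (D.a i u * bar n (D.a i x))) := by
  have h := R_cmt D hx hu
  rw [Tr_comm D.hq, ← z_inv D, ← h]
  group

/-- an element whose odd power is in `U O` acts on `R j` as an element of `U` -/
theorem inner_of_pow {g : G} {j : Bool} (hg : g ∈ St D) (h1 : Act D j g 1 1)
    (hW : ∀ w ∈ W D, g * w = w * g) {m : ℕ} (hm : Odd m) (h2 : ∀ i, Act D i (g ^ m) 1 1) :
    ∃ u ∈ D.U, ∀ x ∈ R D j, g * x * g⁻¹ = u * x * u⁻¹ := by
  obtain ⟨u, hu, k, hk, huk⟩ := D.ker (g ^ m) (pow_mem (St_le D hg) m).1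
    (fun i x hx => by rw [h2 i x hx, one_mul]; rfl)
  refine ⟨u, hu, fun x hx => ?_⟩
  have hw : g * x * g⁻¹ * x⁻¹ ∈ W D := by
    have h4 := mem_W_of_R_eq D (inv_mem hx) (inv_mem (St_R D hg hx))
      (by rw [a_inv D _ (St_R D hg hx).1, a_inv D _ hx.1, h1 x hx.1, one_mul]; rfl)
    have h9 : g * x * g⁻¹ * x⁻¹ = (g * x * g⁻¹)⁻¹⁻¹ * x⁻¹ := by group
    rw [h9]
    exact h4
  set v := g * x * g⁻¹ * x⁻¹ with hv
  have hvx : g * x * g⁻¹ = v * x := by rw [hv]; group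
  have hpow : ∀ k : ℕ, g ^ k * x * (g ^ k)⁻¹ = v ^ k * x := by
    intro k
    induction k with
    | zero => simp
    | succ k ih =>
      have hvk : g * v ^ k * g⁻¹ = v ^ k := by rw [hW _ (pow_mem hw k)]; group
      calc g ^ (k + 1) * x * (g ^ (k + 1))⁻¹ = g * (g ^ k * x * (g ^ k)⁻¹) * g⁻¹ := by
            rw [pow_succ']; group
        _ = (g * v ^ k * g⁻¹) * (g * x * g⁻¹) := by rw [ih]; group
        _ = v ^ k * (v * x) := by rw [hvk, hvx]
        _ = v ^ (k + 1) * x := by rw [pow_succ]; exact (mul_assoc _ _ _).symm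
  have hvm : v ^ m = v := by
    obtain ⟨r, rfl⟩ := hm
    rw [pow_succ, pow_mul, sq, W_sq D hw, one_pow, one_mul]
  have h3 := hpow m
  rw [hvm, ← hvx, huk] at h3
  rw [← h3]
  calc u * k * x * (u * k)⁻¹ = u * (k * x) * k⁻¹ * u⁻¹ := by group
    _ = u * x * u⁻¹ := by rw [D.O_U k hk x hx.1]; group

theorem odd_card_sub (h : Qd K n) : Odd (Fintype.card K - 1) := by
  have h1 := h.hn
  obtain ⟨m, rfl⟩ : ∃ m, n = m + 1 := ⟨n - 1, by omega⟩
  rw [h.hK, ← pow_mul, show (m + 1) * 2 = (m + m + 1) + 1 by ring, pow_succ]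
  have : 1 ≤ 2 ^ (m + m + 1) := Nat.one_le_two_pow
  refine ⟨2 ^ (m + m + 1) - 1, by omega⟩

/-- **Step A**: `y` acts on `R (!i)` as an element of `R (!i)`. -/
theorem exists_inner [Finite G] {y : G} {j : Bool} (hy : y ∈ St D) (hyy : y * y = 1)
    (hj : Act D j y 1 1) :
    ∃ u ∈ R D j, ∀ x ∈ R D j, y * x * y⁻¹ = u * x * u⁻¹ := by
  have hyU : y * y ∈ D.U := by rw [hyy]; exact D.U.one_mem
  have hyW : ∀ w ∈ W D, y * w = w * y := fun w hw => comm_W hy hyU hw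
  have hyi : y⁻¹ = y := inv_eq_of_mul_eq_one_left hyy
  obtain ⟨l, hl1, hl3, -⟩ := exists_norm_one D.hq
  have hw0 := w_ne_zero (n := n) l
  have hNw : N n (w n l) = 1 := by
    rw [w, N_mul, N_inv, N_bar D.hq, hl1, inv_one, mul_one, sq, N_mul, hl1, mul_one]
  have hw1 : w n l ≠ 1 := by
    intro h
    apply hl3
    have h2 : (l : K) * bar n (l : K) = 1 := hl1
    have h3 : bar n (l : K) ≠ 0 := fun h0 => l.ne_zero (bar_eq_zero h0)
    have h4 : (l : K) ^ 2 = bar n (l : K) := by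
      have h5 := congrArg (fun z => z * bar n (l : K)) h
      simp only [w, one_mul] at h5
      rwa [inv_mul_cancel_right₀ h3] at h5
    rw [pow_succ, h4, mul_comm]
    exact h2
  set h := D.h l with hh
  have hSt : h ∈ St D := h_mem_St l
  have hhW : ∀ w' ∈ W D, h * w' = w' * h := by
    intro w' hw'
    obtain ⟨b, c, hb, hc, rfl⟩ := exists_zW D hw'
    have h1 := h_z (D := D) l false hb
    have h2 := h_z (D := D) l true hc
    rw [hNw, one_mul] at h1 h2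
    calc h * (D.z false b * D.z true c)
        = (h * D.z false b * h⁻¹) * (h * D.z true c * h⁻¹) * h := by group
      _ = _ := by rw [h1, h2]
  -- the commutator
  set g := y * h * y⁻¹ * h⁻¹ with hg
  have hgSt : g ∈ St D := mul_mem (mul_mem (mul_mem hy hSt) (inv_mem hy)) (inv_mem hSt)
  have hgW : ∀ w' ∈ W D, g * w' = w' * g := by
    intro w' hw'
    have hc1 : Commute y w' := hyW w' hw'
    have hc2 : Commute h w' := hhW w' hw'
    exact ((hc1.mul_left hc2).mul_left hc1.inv_left).mul_left hc2.inv_left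
  have hgj : Act D j g 1 1 := by
    intro x hx
    have h1 : h⁻¹ * x * h ∈ D.U := NN_conj' D hSt.1 hx
    have h2 : y * (h⁻¹ * x * h) * y⁻¹ ∈ D.U := NN_conj D hy.1 h1
    have h3 : h * (y * (h⁻¹ * x * h) * y⁻¹) * h⁻¹ ∈ D.U := NN_conj D hSt.1 h2
    have h4 : g * x * g⁻¹ = y * (h * (y * (h⁻¹ * x * h) * y⁻¹) * h⁻¹) * y⁻¹ := by
      rw [hg, hyi]
      calc y * h * y * h⁻¹ * x * (y * h * y * h⁻¹)⁻¹
          = y * (h * (y * (h⁻¹ * x * h) * y⁻¹) * h⁻¹) * y⁻¹ := by group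
        _ = _ := by rw [hyi]
    have h5 := act_h (D := D) l j (h⁻¹ * x * h) h1
    rw [← hh, show h * (h⁻¹ * x * h) * h⁻¹ = x by group] at h5
    rw [h4, hj _ h3, act_h l j _ h2, hj _ h1]
    change 1 * (w n l * (1 * D.a j (h⁻¹ * x * h))) = 1 * D.a j x
    rw [h5, one_mul, one_mul, one_mul]
    rfl
  have hgm : ∀ i, Act D i (g ^ (Fintype.card K - 1)) 1 1 := by
    intro i
    obtain ⟨c, φ, hc, hyc⟩ := St_act D hy
    obtain ⟨c', hc'⟩ := Act.cmt D (g := y) (k := h) (hyc i) (act_h l i) (hc i) hw0 hy.1 hSt.1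
    rw [← hg] at hc'
    have hc0 : c' ≠ 0 := hc'.ne_zero D hgSt
    have hpow : ∀ m : ℕ, Act D i (g ^ m) (c' ^ m) 1 := by
      intro m
      induction m with
      | zero =>
        rw [pow_zero, pow_zero]
        exact Act.of_U D D.U.one_mem
      | succ m ih =>
        have h1 := ih.mul D hc' hgSt.1
        rw [← pow_succ, mul_one] at h1
        rw [pow_succ c' m]
        exact h1
    have h1 := hpow (Fintype.card K - 1)
    rwa [FiniteField.pow_card_sub_one_eq_one c' hc0] at h1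
  obtain ⟨u, hu, hux⟩ := inner_of_pow hgSt hgj hgW (odd_card_sub D.hq) hgm
  -- the homomorphism `x ↦ y x y⁻¹ x⁻¹`
  have hlam : ∀ x ∈ R D j, y * x * y⁻¹ * x⁻¹ ∈ W D := by
    intro x hx
    have h4 := mem_W_of_R_eq D (inv_mem hx) (inv_mem (St_R D hy hx))
      (by rw [a_inv D _ (St_R D hy hx).1, a_inv D _ hx.1, hj x hx.1, one_mul]; rfl)
    have h9 : y * x * y⁻¹ * x⁻¹ = (y * x * y⁻¹)⁻¹⁻¹ * x⁻¹ := by group
    rw [h9]
    exact h4
  have hlamU : ∀ x ∈ R D j, ∀ w' ∈ W D, y * (x * w') * y⁻¹ * (x * w')⁻¹ = y * x * y⁻¹ * x⁻¹ := by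
    intro x hx w' hw'
    calc y * (x * w') * y⁻¹ * (x * w')⁻¹ = y * x * y⁻¹ * (y * w') * y⁻¹ * w'⁻¹ * x⁻¹ := by group
      _ = y * x * y⁻¹ * x⁻¹ := by rw [hyW w' hw']; group
  have hlam2 : ∀ x ∈ R D j, ∀ x' ∈ R D j,
      y * (x' * x) * y⁻¹ * (x' * x)⁻¹ = (y * x' * y⁻¹ * x'⁻¹) * (y * x * y⁻¹ * x⁻¹) := by
    intro x hx x' hx'
    have h1 := W_cen D hx'.1 (hlam x hx)
    calc y * (x' * x) * y⁻¹ * (x' * x)⁻¹
        = (y * x' * y⁻¹) * (y * x * y⁻¹ * x⁻¹) * x'⁻¹ := by group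
      _ = (y * x' * y⁻¹ * x'⁻¹) * (x' * (y * x * y⁻¹ * x⁻¹)) * x'⁻¹ := by group
      _ = _ := by rw [h1]; group
  -- the relation
  have hrel : ∀ x ∈ R D j, y * (h⁻¹ * x * h * x) * y⁻¹ * (h⁻¹ * x * h * x)⁻¹ =
      u * x * u⁻¹ * x⁻¹ := by
    intro x hx
    have hx' : h⁻¹ * x * h ∈ R D j := St_R' D hSt hx
    rw [hlam2 x hx _ hx', ← hux x hx]
    have h1 := hlam _ hx'
    set v := y * (h⁻¹ * x * h) * y⁻¹ * (h⁻¹ * x * h)⁻¹ with hv
    have h2 : h * v * h⁻¹ = v := by rw [hhW v h1]; group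
    have h3 : y * v * y⁻¹ = v := by rw [hyW v h1]; group
    have h4 : g * x * g⁻¹ = y * (h * (y * (h⁻¹ * x * h) * y⁻¹) * h⁻¹) * y⁻¹ := by
      rw [hg, hyi]
      calc y * h * y * h⁻¹ * x * (y * h * y * h⁻¹)⁻¹
          = y * (h * (y * (h⁻¹ * x * h) * y⁻¹) * h⁻¹) * y⁻¹ := by group
        _ = _ := by rw [hyi]
    have h5 : y * (h⁻¹ * x * h) * y⁻¹ = v * (h⁻¹ * x * h) := by rw [hv]; group
    rw [h4, h5]
    calc v * (y * x * y⁻¹ * x⁻¹) = (y * v * y⁻¹) * (y * x * y⁻¹ * x⁻¹) := by rw [h3]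
      _ = (y * (h * v * h⁻¹) * y⁻¹) * (y * x * y⁻¹ * x⁻¹) := by rw [h2]
      _ = _ := by group
  -- `u₁`
  have hk0 : (w n l)⁻¹ + 1 ≠ 0 := by
    intro h0
    have := Field.add_eq_zero.mp h0
    exact hw1 (inv_eq_one.mp this)
  obtain ⟨u1, hu1, hu1a⟩ := exists_R D j (D.a j u * bar n (((w n l)⁻¹ + 1)⁻¹))
  refine ⟨u1, hu1, fun v hv => ?_⟩
  obtain ⟨x, hx, hxa⟩ := exists_R D j (((w n l)⁻¹ + 1)⁻¹ * D.a j v)
  have hx' : h⁻¹ * x * h ∈ R D j := St_R' D hSt hx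
  have hxh : D.a j (h⁻¹ * x * h) = (w n l)⁻¹ * D.a j x := by
    have h5 := act_h (D := D) l j (h⁻¹ * x * h) hx'.1
    rw [← hh, show h * (h⁻¹ * x * h) * h⁻¹ = x by group] at h5
    rw [h5]
    change _ = (w n l)⁻¹ * (w n l * D.a j (h⁻¹ * x * h))
    rw [inv_mul_cancel_left₀ hw0]
  have hxx : D.a j v = D.a j (h⁻¹ * x * h * x) := by
    rw [D.a_mul j _ hx'.1 _ hx.1, hxh, hxa, ← add_one_mul, mul_inv_cancel_left₀ hk0]
  have hvw := mem_W_of_R_eq D hv (mul_mem hx' hx) hxx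
  have h1 := hrel x hx
  have h2 := hlamU _ (mul_mem hx' hx) _ hvw
  rw [h1, show h⁻¹ * x * h * x * ((h⁻¹ * x * h * x)⁻¹ * v) = v by group,
    inv_z_form hx hu] at h2
  have h3 := inv_z_form hv hu1.1
  rw [hu1a] at h3
  have h4 : D.a j u * bar n (((w n l)⁻¹ + 1)⁻¹) * bar n (D.a j v) =
      D.a j u * bar n (D.a j x) := by rw [hxa, bar_mul, mul_assoc]
  rw [h4, ← h2] at h3
  calc y * v * y⁻¹ = y * v * y⁻¹ * v⁻¹ * v := by group
    _ = u1 * v * u1⁻¹ := by rw [← h3]; group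

/-- **Step B**: if `y` has type `bar` on the factor `i` and acts trivially on the factor `!i`
modulo `W`, then it centralizes `R (!i)`. -/
theorem comm_R [Finite G] {y : G} {i : Bool} {c : K} (hy : y ∈ St D) (hyy : y * y = 1)
    (hi : Act D i y c (barE D.hq)) (hj : Act D (!i) y 1 1) :
    ∀ x ∈ R D (!i), y * x = x * y := by
  have hyU : y * y ∈ D.U := by rw [hyy]; exact D.U.one_mem
  have hyW : ∀ w ∈ W D, y * w = w * y := fun w hw => comm_W hy hyU hw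
  have hc0 : c ≠ 0 := hi.ne_zero D hy
  obtain ⟨u1, hu1, hyu⟩ := exists_inner hy hyy hj
  suffices hsuff : D.a (!i) u1 = 0 by
    have h1 := mem_W_of_R D hu1 hsuff
    intro x hx
    have h2 := hyu x hx
    rw [← W_cen D hx.1 h1] at h2
    calc y * x = y * x * y⁻¹ * y := by group
      _ = x * y := by rw [h2]; group
  set y0 := u1⁻¹ * y with hy0
  have hu1St : u1⁻¹ ∈ St D := U_le_St D (inv_mem hu1.1)
  have hy0St : y0 ∈ St D := mul_mem hu1St hy
  have hcom : ∀ x ∈ R D (!i), y0 * x = x * y0 := by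
    intro x hx
    calc y0 * x = u1⁻¹ * (y * x * y⁻¹) * y := by rw [hy0]; group
      _ = x * y0 := by rw [hyu x hx, hy0]; group
  have hy0W : ∀ w ∈ W D, y0 * w = w * y0 := fun w hw => hcom w (W_le_R D _ hw)
  set ν := N n (D.a (!i) u1) with hν
  have hνf : bar n ν = ν := fixed_N D.hq _
  have hsq : y0 * y0 = D.z (!i) ν := by
    calc y0 * y0 = u1⁻¹ * (y * u1⁻¹ * y⁻¹) * (y * y) := by rw [hy0]; group
      _ = (u1 * u1)⁻¹ := by rw [hyu _ (inv_mem hu1), hyy]; group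
      _ = D.z (!i) ν := by rw [R_sq D hu1, z_inv]
  have hi0 : Act D i y0 c (barE D.hq) := by
    have h1 := (Act.of_U D (i := i) (inv_mem hu1.1)).mul D hi hy.1
    rw [one_mul, one_mul] at h1
    exact h1
  have hj0 : Act D (!i) y0 1 1 := by
    have h1 := (Act.of_U D (i := !i) (inv_mem hu1.1)).mul D hj hy.1
    rw [one_mul, one_mul] at h1
    exact h1
  obtain ⟨l, hl, hl1⟩ := exists_fixed_ne D.hq
  have hwl : w n l = l := by rw [w, hl, sq, mul_inv_cancel_right₀ l.ne_zero]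
  set h := D.h l with hh
  have hSt : h ∈ St D := h_mem_St l
  have hact : ∀ j, ∀ x ∈ D.U, D.a j (h * x * h⁻¹) = l * D.a j x := by
    intro j x hx
    rw [hh, D.h_a l j x hx, hwl]
  have hact' : ∀ j, ∀ x ∈ D.U, (l : K) * D.a j (h⁻¹ * x * h) = D.a j x := by
    intro j x hx
    rw [← hact j _ (NN_conj' D hSt.1 hx)]
    congr 1; group
  set g := y0⁻¹ * h * y0 * h⁻¹ with hg
  have hgSt : g ∈ St D := mul_mem (mul_mem (mul_mem (inv_mem hy0St) hSt) hy0St) (inv_mem hSt)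
  have hgx : ∀ x : G, g * x * g⁻¹ = y0⁻¹ * (h * (y0 * (h⁻¹ * x * h) * y0⁻¹) * h⁻¹) * y0 := by
    intro x; rw [hg]; group
  have hgi : ∀ x ∈ D.U, D.a i (g * x * g⁻¹) = D.a i x := by
    intro x hx
    have h1 : h⁻¹ * x * h ∈ D.U := NN_conj' D hSt.1 hx
    have h2 : y0 * (h⁻¹ * x * h) * y0⁻¹ ∈ D.U := NN_conj D hy0St.1 h1
    have h3 : h * (y0 * (h⁻¹ * x * h) * y0⁻¹) * h⁻¹ ∈ D.U := NN_conj D hSt.1 h2
    have h4 : y0⁻¹ * (h * (y0 * (h⁻¹ * x * h) * y0⁻¹) * h⁻¹) * y0 ∈ D.U := NN_conj' D hy0St.1 h3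
    rw [hgx]
    have h5 := hi0 _ h4
    rw [show y0 * (y0⁻¹ * (h * (y0 * (h⁻¹ * x * h) * y0⁻¹) * h⁻¹) * y0) * y0⁻¹ =
      h * (y0 * (h⁻¹ * x * h) * y0⁻¹) * h⁻¹ by group, hact i _ h2, hi0 _ h1, barE_apply,
      barE_apply] at h5
    apply bar_inj D.hq
    apply mul_left_cancel₀ hc0
    rw [← h5, ← hact' i x hx, bar_mul, hl]
    ring
  have hgj : ∀ x ∈ D.U, D.a (!i) (g * x * g⁻¹) = D.a (!i) x := by
    intro x hx
    have h1 : h⁻¹ * x * h ∈ D.U := NN_conj' D hSt.1 hx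
    have h2 : y0 * (h⁻¹ * x * h) * y0⁻¹ ∈ D.U := NN_conj D hy0St.1 h1
    have h3 : h * (y0 * (h⁻¹ * x * h) * y0⁻¹) * h⁻¹ ∈ D.U := NN_conj D hSt.1 h2
    have h4 : y0⁻¹ * (h * (y0 * (h⁻¹ * x * h) * y0⁻¹) * h⁻¹) * y0 ∈ D.U := NN_conj' D hy0St.1 h3
    rw [hgx]
    have h5 := hj0 _ h4
    rw [show y0 * (y0⁻¹ * (h * (y0 * (h⁻¹ * x * h) * y0⁻¹) * h⁻¹) * y0) * y0⁻¹ =
      h * (y0 * (h⁻¹ * x * h) * y0⁻¹) * h⁻¹ by group, hact _ _ h2, hj0 _ h1] at h5
    change _ * (1 * D.a (!i) (h⁻¹ * x * h)) = 1 * D.a (!i) _ at h5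
    rw [one_mul, one_mul] at h5
    rw [← h5, hact' _ x hx]
  obtain ⟨u, hu, k, hk, huk⟩ := D.ker g hgSt.1.1 (fun j x hx => by
    rcases Bool.eq_or_eq_not j i with rfl | rfl
    · exact hgi x hx
    · exact hgj x hx)
  -- `u` centralizes `R (!i)`
  have huR : u ∈ R D i := by
    have h1 : u ∈ R D (!(!i)) := by
      apply mem_R_of_comm D hu
      intro x hx
      have hx' : h⁻¹ * x * h ∈ R D (!i) := St_R' D hSt hx
      have h2 : g * x * g⁻¹ = x := by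
        rw [hgx, hcom _ hx']
        have h3 : h * (h⁻¹ * x * h * y0 * y0⁻¹) * h⁻¹ = x := by group
        rw [h3, mul_assoc, ← hcom x hx]
        group
      rw [huk] at h2
      have h3 : u * x * u⁻¹ = x := by
        calc u * x * u⁻¹ = u * (x * k) * k⁻¹ * u⁻¹ := by group
          _ = u * k * x * (u * k)⁻¹ := by rw [← D.O_U k hk x hx.1]; group
          _ = x := h2
      calc u * x = u * x * u⁻¹ * u := by group
        _ = x * u := by rw [h3]
    rwa [Bool.not_not] at h1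
  -- squares
  set k1 := y0⁻¹ * k * y0 with hk1
  have hk1O : k1 ∈ D.O := by
    have h1 := D.O_conj y0⁻¹ (inv_mem hy0St).1.1 k hk
    rwa [inv_inv] at h1
  set v := y0⁻¹ * u * y0 * u with hv
  have hvR : v ∈ R D i := mul_mem (St_R' D hy0St huR) huR
  have hsq1 : h * (D.z (!i) ν) * h⁻¹ = D.z (!i) ν * v * (k1 * k) := by
    have h1 : h * y0 * h⁻¹ = y0 * (u * k) := by rw [← huk, hg]; group
    calc h * (D.z (!i) ν) * h⁻¹ = (h * y0 * h⁻¹) * (h * y0 * h⁻¹) := by rw [← hsq]; group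
      _ = (y0 * (u * k)) * (y0 * (u * k)) := by rw [h1]
      _ = (y0 * y0) * (y0⁻¹ * u * y0) * (k1 * u) * k := by rw [hk1]; group
      _ = (y0 * y0) * (y0⁻¹ * u * y0) * (u * k1) * k := by rw [D.O_U k1 hk1O u hu]
      _ = _ := by rw [hsq, hv]; group
  rw [hh, h_z l (!i) hνf, hwl, N_of_fixed hl] at hsq1
  have hT : Two D D.U := ⟨D.U_two, le_refl _, U_le_NN D⟩
  have hk1k : k1 * k = 1 := by
    apply hT.O_eq _ (mul_mem hk1O hk)
    have h1 : k1 * k = (D.z (!i) ν * v)⁻¹ * D.z (!i) ((l : K) ^ 2 * ν) := by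
      rw [hsq1]; group
    rw [h1]
    exact mul_mem (inv_mem (mul_mem (D.z_mem _ _) hvR.1)) (D.z_mem _ _)
  rw [hk1k, mul_one] at hsq1
  have hv1 : v = D.z (!i) (ν + (l : K) ^ 2 * ν) := by
    rw [D.z_add, hsq1, ← mul_assoc, z_sq, one_mul]
  have hvW : v ∈ W D := by rw [hv1]; exact z_mem_W D _ _
  have hv2 : y0 * u * y0⁻¹ * u = v := by
    have h1 : y0 * v * y0⁻¹ = v := by rw [hy0W v hvW]; group
    have h2 : y0 * v * y0⁻¹ = u * (y0 * u * y0⁻¹) := by rw [hv]; group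
    have h3 : u⁻¹ * v * u = v := by rw [mul_assoc, ← W_cen D hu hvW]; group
    calc y0 * u * y0⁻¹ * u = u⁻¹ * (u * (y0 * u * y0⁻¹)) * u := by group
      _ = v := by rw [← h2, h1, h3]
  have hai : c * bar n (D.a i u) = D.a i u := by
    have h1 := hvW.2 i
    rw [← hv2, D.a_mul i _ (NN_conj D hy0St.1 hu) _ hu, hi0 u hu, barE_apply] at h1
    exact Field.add_eq_zero.mp h1
  have hgg : ∀ x ∈ R D i, y0 * y0 * x = x * (y0 * y0) := by
    intro x hx
    rw [hsq]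
    exact (D.z_cen _ _ x hx.1).symm
  have hv3 := conj_mul_self hy0St hi0 hgg hy0W huR hai
  rw [hv2, hv1] at hv3
  have h4 : ν + (l : K) ^ 2 * ν = 0 := by
    apply z_inj' D (!i) (fixed_add hνf (fixed_mul (by rw [bar_pow, hl]) hνf)) (bar_zero n)
    rw [hv3, z_zero]
  have h5 : (1 + (l : K)) ^ 2 * ν = 0 := by
    rw [CharTwo.add_sq, one_pow, add_mul, one_mul]
    exact h4
  rcases mul_eq_zero.mp h5 with h6 | h6
  · exact absurd (Field.add_eq_zero.mp ((pow_eq_zero_iff two_ne_zero).mp h6)).symm hl1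
  · exact N_eq_zero h6

end Cfsg.Agent.StdU3.GZeroKTwoA
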