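import Cfsg.Agent.StdU3.GZeroAct
import Mathlib.GroupTheory.SchurZassenhaus

/-!
# The product of two groups of type `P`: elements acting trivially on `U / W`

The elements normalizing `U` and acting trivially on `U / W` are in `U O`, where `O` is the largest
subgroup of odd order of the centralizer of `U`.
-/

set_option autoImplicit false
set_option linter.unusedSectionVars false

namespace Cfsg.Agent.StdU3.GZeroKer

open Cfsg.Agent.StdU3.Field Cfsg.Agent.StdU3.PreDef Cfsg.Agent.StdU3.FieldAut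
open Cfsg.Agent.StdU3.GZeroAct

/-! ### General lemmas -/

section general

variable {G : Type*} [Group G]

/-- `H ∪ H t` for an involution `t` normalizing `H`. -/
def adj (H : Subgroup G) (t : G) (tt : t * t = 1) (tH : ∀ x ∈ H, t * x * t⁻¹ ∈ H) :
    Subgroup G where
  carrier := {x | x ∈ H ∨ x * t ∈ H}
  one_mem' := Or.inl H.one_mem
  mul_mem' := by
    have ht : t⁻¹ = t := inv_eq_of_mul_eq_one_left tt
    rintro x y (hx | hx) (hy | hy)
    · exact Or.inl (mul_mem hx hy)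
    · exact Or.inr (by rw [mul_assoc]; exact mul_mem hx hy)
    · right
      have h1 : x * y * t = (x * t) * (t * y * t⁻¹) := by
        calc x * y * t = x * (t * t) * y * t := by rw [tt, mul_one]
          _ = (x * t) * (t * y * t⁻¹) := by rw [ht]; group
      rw [h1]; exact mul_mem hx (tH y hy)
    · left
      have h1 : x * y = (x * t) * (t * (y * t) * t⁻¹) := by
        calc x * y = x * (t * t) * y := by rw [tt, mul_one]
          _ = (x * t) * (t * (y * t) * t⁻¹) := by group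
      rw [h1]; exact mul_mem hx (tH _ hy)
  inv_mem' := by
    have ht : t⁻¹ = t := inv_eq_of_mul_eq_one_left tt
    rintro x (hx | hx)
    · exact Or.inl (inv_mem hx)
    · right
      have h1 : x⁻¹ * t = t * (x * t)⁻¹ * t⁻¹ := by rw [mul_inv_rev, ht, ← mul_assoc, tt, one_mul]
      rw [h1]; exact tH _ (inv_mem hx)

theorem mem_adj {H : Subgroup G} {t : G} {tt : t * t = 1} {tH : ∀ x ∈ H, t * x * t⁻¹ ∈ H} {x : G} :
    x ∈ adj H t tt tH ↔ x ∈ H ∨ x * t ∈ H := Iff.rfl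

/-- the decomposition of an element of finite order -/
theorem exists_two_part [Finite G] (g : G) : ∃ x y : G, g = x * y ∧ x ∈ Subgroup.zpowers g ∧
    y ∈ Subgroup.zpowers g ∧ (∃ k : ℕ, x ^ 2 ^ k = 1) ∧ ∃ m : ℕ, Odd m ∧ y ^ m = 1 := by
  obtain ⟨k, m, hm, hkm⟩ := Nat.exists_eq_two_pow_mul_odd (orderOf_pos g).ne'
  have hcop : Nat.Coprime (2 ^ k) m := Nat.Coprime.pow_left k (Nat.coprime_two_left.mpr hm)
  have hcop' : IsCoprime ((2 ^ k : ℕ) : ℤ) (m : ℤ) := Nat.isCoprime_iff_coprime.mpr hcop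
  obtain ⟨u, v, huv⟩ := hcop'
  refine ⟨g ^ (v * m), g ^ (u * (2 ^ k : ℕ)), ?_, ⟨_, rfl⟩, ⟨_, rfl⟩, ⟨k, ?_⟩, m, hm, ?_⟩
  · rw [← zpow_add, add_comm, huv, zpow_one]
  · rw [← zpow_natCast, ← zpow_mul]
    have : v * (m : ℤ) * ((2 ^ k : ℕ) : ℤ) = (orderOf g : ℤ) * v := by
      rw [hkm]; push_cast; ring
    rw [this, zpow_mul, zpow_natCast, pow_orderOf_eq_one, one_zpow]
  · rw [← zpow_natCast, ← zpow_mul]
    have : u * ((2 ^ k : ℕ) : ℤ) * (m : ℤ) = (orderOf g : ℤ) * u := by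
      rw [hkm]; push_cast; ring
    rw [this, zpow_mul, zpow_natCast, pow_orderOf_eq_one, one_zpow]

theorem pow_odd_eq {w : G} (hw : w * w = 1) {m : ℕ} (hm : Odd m) : w ^ m = w := by
  obtain ⟨j, rfl⟩ := hm
  rw [pow_succ, pow_mul, pow_two, hw, one_pow, one_mul]

theorem eq_one_of_two_odd {x : G} {k m : ℕ} (hk : x ^ 2 ^ k = 1) (hm : Odd m) (hxm : x ^ m = 1) :
    x = 1 := by
  have h1 : orderOf x ∣ 2 ^ k := orderOf_dvd_of_pow_eq_one hk
  have h2 : orderOf x ∣ m := orderOf_dvd_of_pow_eq_one hxm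
  have h3 : Nat.Coprime (2 ^ k) m := Nat.Coprime.pow_left k (Nat.coprime_two_left.mpr hm)
  rw [← orderOf_eq_one_iff]
  exact Nat.eq_one_of_dvd_coprimes h3 h1 h2

end general

variable {G : Type*} [Group G] {K : Type*} [Field K] [Fintype K] [CharP K 2] {n : ℕ}
variable (D : GZ0 G K n)

/-- the centre of `U` -/
def W0 : Subgroup G where
  carrier := {x | x ∈ D.U ∧ ∀ i, D.a i x = 0}
  one_mem' := ⟨D.U.one_mem, fun i => a_one D i⟩
  mul_mem' := by
    rintro x y ⟨hx, hx'⟩ ⟨hy, hy'⟩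
    exact ⟨mul_mem hx hy, fun i => by rw [D.a_mul i x hx y hy, hx' i, hy' i, add_zero]⟩
  inv_mem' := by
    rintro x ⟨hx, hx'⟩
    exact ⟨inv_mem hx, fun i => by rw [a_inv D i hx, hx' i]⟩

theorem W0_sq {w : G} (hw : w ∈ W0 D) : w * w = 1 := (sq_one_iff D hw.1).mpr hw.2

theorem W0_cen {w x : G} (hx : x ∈ D.U) (hw : w ∈ W0 D) : x * w = w * x := by
  obtain ⟨b, c, -, -, rfl⟩ := D.exists_z w hw.1 hw.2
  rw [← mul_assoc, D.z_cen _ _ x hx, mul_assoc, D.z_cen _ _ x hx, mul_assoc]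

/-- the normalizer of `U` -/
def NU : Subgroup G where
  carrier := {g | (∀ x ∈ D.U, g * x * g⁻¹ ∈ D.U) ∧ ∀ x ∈ D.U, g⁻¹ * x * g ∈ D.U}
  one_mem' := ⟨fun x hx => by simpa using hx, fun x hx => by simpa using hx⟩
  mul_mem' := by
    rintro g k ⟨hg, hg'⟩ ⟨hk, hk'⟩
    refine ⟨fun x hx => ?_, fun x hx => ?_⟩
    · have := hg _ (hk x hx)
      rwa [show g * (k * x * k⁻¹) * g⁻¹ = g * k * x * (g * k)⁻¹ by group] at this
    · have := hk' _ (hg' x hx)
      rwa [show k⁻¹ * (g⁻¹ * x * g) * k = (g * k)⁻¹ * x * (g * k) by group] at this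
  inv_mem' := by
    rintro g ⟨hg, hg'⟩
    exact ⟨fun x hx => by simpa using hg' x hx, fun x hx => by simpa using hg x hx⟩

theorem mem_NU [Finite G] {g : G} (h : ∀ x ∈ D.U, g * x * g⁻¹ ∈ D.U) : g ∈ NU D := by
  refine ⟨h, ?_⟩
  have hpow : ∀ k : ℕ, ∀ x ∈ D.U, g ^ k * x * (g ^ k)⁻¹ ∈ D.U := by
    intro k
    induction k with
    | zero => intro x hx; simpa using hx
    | succ k ih =>
      intro x hx
      have := h _ (ih x hx)
      rwa [show g * (g ^ k * x * (g ^ k)⁻¹) * g⁻¹ = g ^ (k + 1) * x * (g ^ (k + 1))⁻¹ by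
        rw [pow_succ']; group] at this
  intro x hx
  have hpos : 0 < orderOf g := orderOf_pos g
  have h1 : g⁻¹ = g ^ (orderOf g - 1) := by
    apply inv_eq_of_mul_eq_one_left
    rw [← pow_succ, Nat.sub_add_cancel hpos, pow_orderOf_eq_one]
  have h2 := hpow (orderOf g - 1) x hx
  rw [← h1, inv_inv] at h2
  exact h2

theorem a_conj_U {u x : G} (i : Bool) (hu : u ∈ D.U) (hx : x ∈ D.U) :
    D.a i (u * x * u⁻¹) = D.a i x := by
  rw [D.a_mul _ _ (mul_mem hu hx) _ (inv_mem hu), D.a_mul _ _ hu _ hx, a_inv D _ hu, add_comm,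
    ← add_assoc, Field.add_self, zero_add]

/-- the elements acting trivially on `U / W` -/
def M0 : Subgroup G where
  carrier := {g | g ∈ NU D ∧ ∀ i, ∀ x ∈ D.U, D.a i (g * x * g⁻¹) = D.a i x}
  one_mem' := ⟨one_mem _, fun i x _ => by simp⟩
  mul_mem' := by
    rintro g k ⟨hg, hg'⟩ ⟨hk, hk'⟩
    refine ⟨mul_mem hg hk, fun i x hx => ?_⟩
    rw [show g * k * x * (g * k)⁻¹ = g * (k * x * k⁻¹) * g⁻¹ by group, hg' i _ (hk.1 x hx), hk' i x hx]
  inv_mem' := by
    rintro g ⟨hg, hg'⟩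
    refine ⟨inv_mem hg, fun i x hx => ?_⟩
    have h1 := hg' i _ (hg.2 x hx)
    rw [show g * (g⁻¹ * x * g) * g⁻¹ = x by group] at h1
    rw [inv_inv, h1]

theorem U_le_M0 : D.U ≤ M0 D := fun _ hu =>
  ⟨⟨fun _ hx => mul_mem (mul_mem hu hx) (inv_mem hu), fun _ hx => mul_mem (mul_mem (inv_mem hu) hx) hu⟩,
    fun i _ hx => a_conj_U D i hu hx⟩

theorem M0_comm_W {g w : G} (hg : g ∈ M0 D) (hw : w ∈ W0 D) : g * w = w * g := by
  have h1 : ∀ i b, bar n b = b → g * D.z i b * g⁻¹ = D.z i b := by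
    intro i b hb
    obtain ⟨r, rfl⟩ := exists_norm D.hq hb
    obtain ⟨x, hx, hx0, rfl⟩ := exists_R D i r
    have h2 := sq_of D hx hx0
    have h3 := sq_of D (hg.1.1 x hx) (i := i) (by rw [hg.2 _ x hx, hx0])
    rw [hg.2 i x hx, ← h2] at h3
    rw [← h2]
    calc g * (x * x) * g⁻¹ = g * x * g⁻¹ * (g * x * g⁻¹) := by group
      _ = x * x := h3
  obtain ⟨b, c, hb, hc, rfl⟩ := D.exists_z w hw.1 hw.2
  have h2 : g * (D.z false b * D.z true c) * g⁻¹ = D.z false b * D.z true c := by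
    calc g * (D.z false b * D.z true c) * g⁻¹ = (g * D.z false b * g⁻¹) * (g * D.z true c * g⁻¹) := by
          group
      _ = _ := by rw [h1 _ b hb, h1 _ c hc]
  calc g * (D.z false b * D.z true c) = g * (D.z false b * D.z true c) * g⁻¹ * g := by group
    _ = _ := by rw [h2]

theorem M0_cmt {g x : G} (hg : g ∈ M0 D) (hx : x ∈ D.U) : g * x * g⁻¹ * x⁻¹ ∈ W0 D := by
  refine ⟨mul_mem (hg.1.1 x hx) (inv_mem hx), fun i => ?_⟩
  rw [D.a_mul _ _ (hg.1.1 x hx) _ (inv_mem hx), a_inv D i hx, hg.2 i x hx, Field.add_self]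

theorem W0_conj {c w : G} (hc : c ∈ NU D) (hw : w ∈ W0 D) : c * w * c⁻¹ ∈ W0 D := by
  refine ⟨hc.1 w hw.1, ?_⟩
  rw [← sq_one_iff D (hc.1 w hw.1)]
  calc c * w * c⁻¹ * (c * w * c⁻¹) = c * (w * w) * c⁻¹ := by group
    _ = 1 := by rw [W0_sq D hw]; group

theorem M0_conj {c g : G} (hc : c ∈ NU D) (hg : g ∈ M0 D) : c * g * c⁻¹ ∈ M0 D := by
  refine ⟨mul_mem (mul_mem hc hg.1) (inv_mem hc), fun i x hx => ?_⟩
  have hy : c⁻¹ * x * c ∈ D.U := hc.2 x hx
  have h1 := W0_conj D hc (M0_cmt D hg hy)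
  have h2 : c * g * c⁻¹ * x * (c * g * c⁻¹)⁻¹ =
      c * (g * (c⁻¹ * x * c) * g⁻¹ * (c⁻¹ * x * c)⁻¹) * c⁻¹ * x := by group
  rw [h2, D.a_mul i _ h1.1 x hx, h1.2 i, zero_add]

/-- elements of odd order acting trivially on `U / W` centralize `U` -/
theorem comm_of_odd {g x : G} (hg : g ∈ M0 D) {m : ℕ} (hm : Odd m) (hgm : g ^ m = 1)
    (hx : x ∈ D.U) : g * x = x * g := by
  set w := g * x * g⁻¹ * x⁻¹ with hw
  have hwW : w ∈ W0 D := M0_cmt D hg hx
  have hgw := M0_comm_W D hg hwW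
  have h1 : ∀ k : ℕ, g ^ k * x * (g ^ k)⁻¹ = w ^ k * x := by
    intro k
    induction k with
    | zero => simp
    | succ k ih =>
      have h2 : g * w ^ k = w ^ k * g := (Commute.pow_right hgw k).eq
      calc g ^ (k + 1) * x * (g ^ (k + 1))⁻¹ = g * (g ^ k * x * (g ^ k)⁻¹) * g⁻¹ := by
            rw [pow_succ']; group
        _ = (g * w ^ k) * x * g⁻¹ := by rw [ih]; group
        _ = w ^ k * (g * x * g⁻¹) := by rw [h2]; group
        _ = w ^ k * (w * x) := by rw [hw]; group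
        _ = w ^ (k + 1) * x := by rw [pow_succ]; group
  have h2 := h1 m
  rw [hgm, pow_odd_eq (W0_sq D hwW) hm] at h2
  have h3 : w = 1 := by
    have : x = w * x := by simpa using h2
    exact (mul_eq_right.mp this.symm)
  have h4 : g * x = w * x * g := by rw [hw]; group
  rw [h4, h3, one_mul]

section main

variable [Finite G] (hU2 : IsPGroup 2 D.U) {t : G} (tt : t * t = 1)
  (tU : ∀ x ∈ D.U, t * x * t⁻¹ ∈ D.U) (ta : ∀ i, ∀ x ∈ D.U, D.a i (t * x * t⁻¹) = D.a (!i) x)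
  (inv : ∀ u ∈ D.U, (u * t) * (u * t) = 1 → ∃ v ∈ D.U, v * t * v⁻¹ = u * t)
  (dec : ∀ y, y * t = t * y → (∀ x ∈ D.U, y * x * y⁻¹ ∈ D.U) →
    (∀ i, ∀ x ∈ D.U, D.a i (y * x * y⁻¹) = D.a i x) →
    ∃ x ∈ D.U, ∃ k, (∃ m, Odd m ∧ k ^ m = 1) ∧ (y = x * k ∨ y = x * t * k))

include tt tU ta

theorem t_not_M0 : t ∉ M0 D := by
  intro h
  obtain ⟨x, hx, hx0, hx1⟩ := exists_R D false 1
  have h1 := h.2 false x hx
  rw [ta _ x hx, hx1] at h1
  change D.a true x = 0 at hx0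
  change D.a true x = 1 at h1
  rw [hx0] at h1
  exact zero_ne_one h1

theorem conj_t_M0 {g : G} (hg : g ∈ M0 D) : t * g * t⁻¹ ∈ M0 D := by
  have htN := mem_NU D tU
  have ht : t⁻¹ = t := inv_eq_of_mul_eq_one_left tt
  refine ⟨mul_mem (mul_mem htN hg.1) (inv_mem htN), fun i x hx => ?_⟩
  have h1 : t⁻¹ * x * t ∈ D.U := htN.2 x hx
  have h2 : D.a (!i) (t⁻¹ * x * t) = D.a i x := by
    have := ta (!i) x hx
    rw [Bool.not_not] at this
    rw [ht] at this ⊢
    exact this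
  rw [show t * g * t⁻¹ * x * (t * g * t⁻¹)⁻¹ = t * (g * (t⁻¹ * x * t) * g⁻¹) * t⁻¹ by group,
    ta _ _ (hg.1.1 _ h1), hg.2 _ _ h1, h2]

include inv dec hU2 in
/-- **`U` is a Sylow 2-subgroup of the group of the elements acting trivially on `U / W`** -/
theorem le_U {T : Subgroup G} (hT : IsPGroup 2 T) (hTM : T ≤ M0 D) : T ≤ D.U := by
  have := Fact.mk Nat.prime_two
  have htN := mem_NU D tU
  have ht' : t⁻¹ = t := inv_eq_of_mul_eq_one_left tt
  -- a 2-subgroup `T'` containing `U` and `t` and a conjugate of `T`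
  have hz : IsPGroup 2 (Subgroup.zpowers t) := by
    rintro ⟨_, k, rfl⟩
    refine ⟨1, Subtype.ext ?_⟩
    change (t ^ k) ^ 2 ^ 1 = 1
    rw [pow_one, pow_two, ← zpow_add, ← two_mul, zpow_mul, zpow_two, tt, one_zpow]
  have hUt : IsPGroup 2 (Subgroup.zpowers t ⊔ D.U : Subgroup G) := by
    apply IsPGroup.to_sup_of_normal_right' hz hU2
    rw [Subgroup.zpowers_le, Subgroup.mem_normalizer_iff]
    intro x
    exact ⟨fun hx => tU x hx, fun hx => by
      have := htN.2 _ hx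
      rwa [show t⁻¹ * (t * x * t⁻¹) * t = x by group] at this⟩
  have hUtN : (Subgroup.zpowers t ⊔ D.U : Subgroup G) ≤ NU D :=
    sup_le ((Subgroup.zpowers_le).mpr htN) (fun u hu => (U_le_M0 D hu).1)
  have hTN : T ≤ NU D := fun x hx => (hTM hx).1
  obtain ⟨P, hP⟩ := (hUt.comap_of_injective (NU D).subtype (NU D).subtype_injective).exists_le_sylow
  obtain ⟨Q, hQ⟩ := (hT.comap_of_injective (NU D).subtype (NU D).subtype_injective).exists_le_sylow
  obtain ⟨c, hc⟩ := MulAction.exists_smul_eq (NU D) Q P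
  have hc' : ∀ x ∈ Q, c * x * c⁻¹ ∈ P := by
    intro x hx
    rw [← hc]
    exact Subgroup.smul_mem_pointwise_smul x (MulAut.conj c) (Q : Subgroup (NU D)) hx
  let T' : Subgroup G := (P : Subgroup (NU D)).map (NU D).subtype
  have hT' : IsPGroup 2 T' := P.isPGroup'.map _
  have hUT' : D.U ≤ T' := fun u hu =>
    ⟨⟨u, (U_le_M0 D hu).1⟩, hP (Subgroup.mem_sup_right hu), rfl⟩
  have htT' : t ∈ T' := ⟨⟨t, htN⟩, hP (Subgroup.mem_sup_left (Subgroup.mem_zpowers t)), rfl⟩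
  have hcT' : ∀ x ∈ T, (c : G) * x * (c : G)⁻¹ ∈ T' := fun x hx =>
    ⟨_, hc' ⟨x, hTN hx⟩ (hQ hx), rfl⟩
  -- the main step
  have key : T' ⊓ M0 D ≤ D.U := by
    by_contra hne
    let M2 : Subgroup G := T' ⊓ M0 D
    have htM2 : ∀ x ∈ M2, t * x * t⁻¹ ∈ M2 := fun x hx => Subgroup.mem_inf.mpr
      ⟨T'.mul_mem (T'.mul_mem htT' hx.1) (T'.inv_mem htT'), conj_t_M0 D tt tU ta hx.2⟩
    let A : Subgroup G := adj D.U t tt tU
    let B : Subgroup G := adj M2 t tt htM2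
    have hBT : B ≤ T' := by
      rintro x (hx | hx)
      · exact hx.1
      · exact (Subgroup.mul_mem_cancel_right _ htT').mp hx.1
    have hB : IsPGroup 2 B := hT'.to_le hBT
    have hnil : Group.IsNilpotent B := hB.isNilpotent
    have hnc : NormalizerCondition B := Group.normalizerCondition_of_isNilpotent
    have hUM2 : D.U ≤ M2 := le_inf hUT' (U_le_M0 D)
    have hlt : A.subgroupOf B < ⊤ := by
      rw [lt_top_iff_ne_top]
      intro h
      rw [Subgroup.subgroupOf_eq_top] at h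
      apply hne
      intro x hx
      rcases h (Or.inl hx : x ∈ B) with h1 | h1
      · exact h1
      · exfalso
        have h2 : t ∈ M0 D := by
          have h3 := U_le_M0 D h1
          exact ((M0 D).mul_mem_cancel_left (show x ∈ M0 D from hx.2)).mp h3
        exact t_not_M0 D tt tU ta h2
    obtain ⟨y, hy, hy'⟩ := Set.exists_of_ssubset (hnc _ hlt)
    -- we may take `y ∈ M2`
    obtain ⟨y1, hy1, hy1', hnorm⟩ : ∃ y1 ∈ M2, y1 ∉ D.U ∧ y1 * t * y1⁻¹ ∈ A := by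
      have htA : t ∈ A := Or.inr (by rw [tt]; exact D.U.one_mem)
      have htB : t ∈ B := Or.inr (by rw [tt]; exact M2.one_mem)
      have h1 : (y : G) * t * (y : G)⁻¹ ∈ A :=
        (Subgroup.mem_normalizer_iff.mp hy ⟨t, htB⟩).mp htA
      rcases y.2 with h2 | h2
      · exact ⟨y, h2, fun h => hy' (Or.inl h), h1⟩
      · refine ⟨y * t, h2, fun h => hy' (Or.inr h), ?_⟩
        rw [show (y : G) * t * t * ((y : G) * t)⁻¹ = (y : G) * t * (y : G)⁻¹ by group]
        exact h1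
    have hyM : y1 ∈ M0 D := hy1.2
    have hyt : y1 * t * y1⁻¹ * t ∈ D.U := by
      rcases hnorm with h | h
      · exfalso
        have h1 := U_le_M0 D h
        have h2 : t ∈ M0 D := by
          have := mul_mem (mul_mem (inv_mem hyM) h1) hyM
          rwa [show y1⁻¹ * (y1 * t * y1⁻¹) * y1 = t by group] at this
        exact t_not_M0 D tt tU ta h2
      · exact h
    obtain ⟨v, hv, hvt⟩ := inv _ hyt (by
      have e1 : y1 * t * y1⁻¹ * t * t = y1 * t * y1⁻¹ := by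
        calc y1 * t * y1⁻¹ * t * t = y1 * t * y1⁻¹ * (t * t) := by group
          _ = _ := by rw [tt, mul_one]
      rw [e1]
      calc y1 * t * y1⁻¹ * (y1 * t * y1⁻¹) = y1 * (t * t) * y1⁻¹ := by group
        _ = 1 := by rw [tt]; group)
    have e1 : y1 * t * y1⁻¹ * t * t = y1 * t * y1⁻¹ := by
      calc y1 * t * y1⁻¹ * t * t = y1 * t * y1⁻¹ * (t * t) := by group
        _ = _ := by rw [tt, mul_one]
    rw [e1] at hvt
    have hcomm : (v⁻¹ * y1) * t = t * (v⁻¹ * y1) := by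
      calc (v⁻¹ * y1) * t = v⁻¹ * (y1 * t * y1⁻¹) * y1 := by group
        _ = v⁻¹ * (v * t * v⁻¹) * y1 := by rw [hvt]
        _ = t * (v⁻¹ * y1) := by group
    have hvy : v⁻¹ * y1 ∈ M0 D := mul_mem (inv_mem (U_le_M0 D hv)) hyM
    obtain ⟨x, hx, k, ⟨m, hm, hkm⟩, h | h⟩ := dec _ hcomm hvy.1.1 hvy.2
    · apply hy1'
      have hkT' : k ∈ T' := by
        have : k = x⁻¹ * (v⁻¹ * y1) := by rw [h]; group
        rw [this]
        exact mul_mem (inv_mem (hUT' hx)) (mul_mem (inv_mem (hUT' hv)) hy1.1)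
      obtain ⟨j, hj⟩ := hT' ⟨k, hkT'⟩
      have hk1 := eq_one_of_two_odd (x := k) (congrArg Subtype.val hj) hm hkm
      rw [hk1, mul_one] at h
      have : y1 = v * x := by rw [← h]; group
      rw [this]
      exact mul_mem hv hx
    · -- `k` acts as a swap
      have hk : k = t * (x⁻¹ * (v⁻¹ * y1)) := by
        rw [h]
        calc k = (t * t) * k := by rw [tt, one_mul]
          _ = t * (x⁻¹ * (x * t * k)) := by group
      have hg : x⁻¹ * (v⁻¹ * y1) ∈ M0 D := mul_mem (inv_mem (U_le_M0 D hx)) hvy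
      have hkk : k * k ∈ M0 D := by
        have : k * k = (t * (x⁻¹ * (v⁻¹ * y1)) * t⁻¹) * (x⁻¹ * (v⁻¹ * y1)) := by
          rw [hk, ht']; group
        rw [this]
        exact mul_mem (conj_t_M0 D tt tU ta hg) hg
      have hkM : k ∈ M0 D := by
        obtain ⟨j, rfl⟩ := hm
        rw [pow_succ, pow_mul, pow_two] at hkm
        have : k = ((k * k) ^ j)⁻¹ := (inv_eq_of_mul_eq_one_right hkm).symm
        rw [this]
        exact inv_mem (pow_mem hkk j)
      apply t_not_M0 D tt tU ta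
      rw [hk] at hkM
      exact ((M0 D).mul_mem_cancel_right hg).mp hkM
  -- conclusion
  intro x hx
  have hcM : ∀ x ∈ T, (c : G) * x * (c : G)⁻¹ ∈ M0 D := fun x hx => M0_conj D c.2 (hTM hx)
  have h1 : (c : G) * x * (c : G)⁻¹ ∈ D.U := key ⟨hcT' x hx, hcM x hx⟩
  have := c.2.2 _ h1
  rwa [show (c : G)⁻¹ * ((c : G) * x * (c : G)⁻¹) * (c : G) = x by group] at this

omit tt tU ta in
theorem W0_pgroup : IsPGroup 2 (W0 D) := by
  rintro ⟨w, hw⟩
  refine ⟨1, Subtype.ext ?_⟩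
  change w ^ 2 ^ 1 = 1
  rw [pow_one, pow_two, W0_sq D hw]

omit tt tU ta in
/-- the elements of `U` centralizing `U` are in `W` -/
theorem mem_W0_of_comm {x : G} (hx : x ∈ D.U) (h : ∀ y ∈ D.U, x * y = y * x) : x ∈ W0 D := by
  refine ⟨hx, ?_⟩
  have key : ∀ i, D.a i x = 0 := by
    intro i
    apply eq_zero_of_Tr D.hq
    intro r
    obtain ⟨y, hy, hy'⟩ := D.a_surj (fun _ => r)
    have h1 := D.U_comm x hx y hy
    rw [h y hy] at h1
    have h2 := (mul_eq_right.mp h1.symm)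
    obtain ⟨h3, h4⟩ := D.z_inj _ _ (fixed_Tr D.hq _) (fixed_Tr D.hq _) h2
    rw [hy'] at h3 h4
    rcases i with _ | _
    · exact h3
    · exact h4
  exact key

omit tt tU ta in
theorem cen_le_M0 {g : G} (h : ∀ x ∈ D.U, g * x = x * g) : g ∈ M0 D := by
  have h1 : ∀ x ∈ D.U, g * x * g⁻¹ = x := fun x hx => by rw [h x hx]; group
  refine ⟨mem_NU D (fun x hx => by rw [h1 x hx]; exact hx), fun i x hx => by rw [h1 x hx]⟩

include inv dec hU2 in
/-- **the elements acting trivially on `U / W` are in `U O`** -/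
theorem exists_O : ∃ O : Subgroup G, Odd (Nat.card O) ∧ (∀ k ∈ O, ∀ x ∈ D.U, k * x = x * k) ∧
    (∀ g, (∀ x ∈ D.U, g * x * g⁻¹ ∈ D.U) → ∀ k ∈ O, g * k * g⁻¹ ∈ O) ∧
    ∀ g, (∀ x ∈ D.U, g * x * g⁻¹ ∈ D.U) → (∀ i, ∀ x ∈ D.U, D.a i (g * x * g⁻¹) = D.a i x) →
      ∃ x ∈ D.U, ∃ k ∈ O, g = x * k := by
  have := Fact.mk Nat.prime_two
  have hle := fun {T : Subgroup G} (hT : IsPGroup 2 T) (hTM : T ≤ M0 D) =>
    le_U D hU2 tt tU ta inv dec hT hTM
  let C : Subgroup G := Subgroup.centralizer (D.U : Set G)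
  have hC : ∀ g, g ∈ C ↔ ∀ x ∈ D.U, g * x = x * g := fun g =>
    ⟨fun h x hx => (Subgroup.mem_centralizer_iff.mp h x hx).symm,
      fun h => Subgroup.mem_centralizer_iff.mpr fun x hx => (h x hx).symm⟩
  let Z : Subgroup C := (W0 D).subgroupOf C
  have hZc : ∀ w ∈ Z, ∀ g : C, g * w = w * g := fun w hw g =>
    Subtype.ext ((hC g).mp g.2 _ hw.1)
  have hWC : W0 D ≤ C := fun w hw => (hC w).mpr fun x hx => (W0_cen D hx hw).symm
  have hZN : Z.Normal := ⟨fun w hw g => by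
    rw [hZc w hw g, mul_inv_cancel_right]; exact hw⟩
  have hodd : Odd Z.index := by
    obtain ⟨Q⟩ : Nonempty (Sylow 2 C) := inferInstance
    have h1 : (Q : Subgroup C) ≤ Z := by
      intro x hx
      have h2 : (Q : Subgroup C).map C.subtype ≤ D.U := hle (Q.isPGroup'.map _) (by
        rintro _ ⟨y, hy, rfl⟩
        exact cen_le_M0 D ((hC y).mp y.2))
      have h3 : (x : G) ∈ D.U := h2 ⟨x, hx, rfl⟩
      exact mem_W0_of_comm D h3 ((hC x).mp x.2)
    have h4 : ¬ 2 ∣ Z.index := fun h => Q.not_dvd_index (h.trans (Subgroup.index_dvd_of_le h1))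
    rwa [← Nat.not_even_iff_odd, even_iff_two_dvd]
  have hcop : Nat.Coprime (Nat.card Z) Z.index := by
    obtain ⟨k, hk⟩ := (IsPGroup.iff_card.mp
      ((W0_pgroup D).comap_of_injective C.subtype C.subtype_injective : IsPGroup 2 Z))
    have hk' : Nat.card Z = 2 ^ k := hk
    rw [hk']
    exact Nat.Coprime.pow_left k (Nat.coprime_two_left.mpr hodd)
  obtain ⟨H, hH⟩ := Subgroup.exists_right_complement'_of_coprime hcop
  set m := Z.index with hm
  have hHm : Nat.card H = m := by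
    rw [hm, hH.symm.index_eq_card]
  -- the elements of `H` in the centralizer
  have hmemH : ∀ g : C, g ∈ H ↔ g ^ m = 1 := by
    intro g
    constructor
    · intro hg
      have := pow_card_eq_one' (G := H) (x := ⟨g, hg⟩)
      rw [hHm] at this
      exact congrArg Subtype.val this
    · intro hg
      obtain ⟨⟨⟨w, hw⟩, ⟨k, hk⟩⟩, hwk, -⟩ := hH.existsUnique g
      change w * k = g at hwk
      have h1 : Commute w k := (hZc w hw k).symm
      have h2 : k ^ m = 1 := by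
        have := pow_card_eq_one' (G := H) (x := ⟨k, hk⟩)
        rw [hHm] at this
        exact congrArg Subtype.val this
      have h3 : w * w = 1 := Subtype.ext (W0_sq D hw)
      rw [← hwk, h1.mul_pow, h2, mul_one, pow_odd_eq h3 hodd] at hg
      rw [← hwk, hg, one_mul]
      exact hk
  have hmem : ∀ g, g ∈ H.map C.subtype ↔ g ∈ C ∧ g ^ m = 1 := by
    intro g
    constructor
    · rintro ⟨k, hk, rfl⟩
      exact ⟨k.2, congrArg Subtype.val ((hmemH k).mp hk)⟩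
    · rintro ⟨h1, h2⟩
      exact ⟨⟨g, h1⟩, (hmemH _).mpr (Subtype.ext h2), rfl⟩
  refine ⟨H.map C.subtype, ?_, ?_, ?_, ?_⟩
  · rw [Subgroup.card_map_of_injective C.subtype_injective, hHm]
    exact hodd
  · intro k hk x hx
    exact (hC k).mp ((hmem k).mp hk).1 x hx
  · intro g hg k hk
    have hgN := mem_NU D hg
    obtain ⟨h1, h2⟩ := (hmem k).mp hk
    rw [hmem]
    refine ⟨(hC _).mpr fun x hx => ?_, ?_⟩
    · have h3 := (hC k).mp h1 _ (hgN.2 x hx)
      calc g * k * g⁻¹ * x = g * (k * (g⁻¹ * x * g)) * g⁻¹ := by group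
        _ = g * ((g⁻¹ * x * g) * k) * g⁻¹ := by rw [h3]
        _ = x * (g * k * g⁻¹) := by group
    · rw [conj_pow, h2]; group
  · intro g hg hga
    have hgM : g ∈ M0 D := ⟨mem_NU D hg, hga⟩
    obtain ⟨x, y, hxy, hx, hy, ⟨k, hk⟩, m', hm', hym⟩ := exists_two_part g
    have hzg : Subgroup.zpowers g ≤ M0 D := by rwa [Subgroup.zpowers_le]
    have hxU : x ∈ D.U := by
      apply hle (T := Subgroup.zpowers x) _ _ (Subgroup.mem_zpowers x)
      · rintro ⟨_, j, rfl⟩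
        refine ⟨k, Subtype.ext ?_⟩
        change (x ^ j) ^ 2 ^ k = 1
        rw [← zpow_natCast, ← zpow_mul, mul_comm, zpow_mul, zpow_natCast, hk, one_zpow]
      · rw [Subgroup.zpowers_le]; exact hzg hx
    refine ⟨x, hxU, y, ?_, hxy⟩
    have hyC : y ∈ C := (hC y).mpr fun x hx => comm_of_odd D (hzg hy) hm' hym hx
    rw [hmem]
    refine ⟨hyC, ?_⟩
    obtain ⟨⟨⟨w, hw⟩, ⟨k, hk⟩⟩, hwk, -⟩ := hH.existsUnique ⟨y, hyC⟩
    change w * k = ⟨y, hyC⟩ at hwk
    have h1 : Commute w k := (hZc w hw k).symm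
    have h2 : k ^ m = 1 := (hmemH k).mp hk
    have h3 : w * w = 1 := Subtype.ext (W0_sq D hw)
    have h4 : (⟨y, hyC⟩ : C) ^ m = w := by
      rw [← hwk, h1.mul_pow, h2, mul_one, pow_odd_eq h3 hodd]
    have h5 : w ^ m' = 1 := by
      rw [← h4, ← pow_mul, mul_comm, pow_mul]
      have : (⟨y, hyC⟩ : C) ^ m' = 1 := Subtype.ext hym
      rw [this, one_pow]
    have h6 : w = 1 := by rwa [pow_odd_eq h3 hm'] at h5
    rw [h6] at h4
    exact congrArg Subtype.val h4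

end main

end Cfsg.Agent.StdU3.GZeroKer
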