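import Cfsg.Agent.StdU3.GZeroBase
import Cfsg.Agent.StdU3.Card

/-!
# Type `g0`: `U` is weakly closed

Every 2-subgroup of `G` containing `U` normalizes `U`; the normalizer of `U` controls the fusion
of `W`.
-/

set_option autoImplicit false
set_option linter.unusedSectionVars false

namespace Cfsg.Agent.StdU3.GZeroWeak

open Cfsg.Agent.StdU3.Field Cfsg.Agent.StdU3.PreDef Cfsg.Agent.StdU3.FieldAut
open Cfsg.Agent.StdU3.GZeroDef Cfsg.Agent.StdU3.GZeroBase

variable {G : Type*} [Group G] [Finite G] {K : Type*} [Field K] [Fintype K] [CharP K 2] {n : ℕ}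
variable {D : GZero G K n}

theorem conj_mem_inv {H : Subgroup G} {g : G} (h : ∀ x ∈ H, g * x * g⁻¹ ∈ H) :
    ∀ x ∈ H, g⁻¹ * x * g ∈ H := by
  have hpow : ∀ k : ℕ, ∀ x ∈ H, g ^ k * x * (g ^ k)⁻¹ ∈ H := by
    intro k
    induction k with
    | zero => intro x hx; simpa using hx
    | succ k ih =>
      intro x hx
      have := h _ (ih x hx)
      rwa [show g * (g ^ k * x * (g ^ k)⁻¹) * g⁻¹ = g ^ (k + 1) * x * (g ^ (k + 1))⁻¹ by
        rw [pow_succ']; group] at this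
  intro x hx
  have hpos : 0 < orderOf g := orderOf_pos g
  have h1 : g⁻¹ = g ^ (orderOf g - 1) := by
    apply inv_eq_of_mul_eq_one_left
    rw [← pow_succ, Nat.sub_add_cancel hpos, pow_orderOf_eq_one]
  have h2 := hpow (orderOf g - 1) x hx
  rw [← h1, inv_inv] at h2
  exact h2

theorem card_le_two {H B : Subgroup G}
    (h : ∀ x ∈ B, x ∉ H → ∀ y ∈ B, y ∉ H → x⁻¹ * y ∈ H) : Nat.card B ≤ 2 * Nat.card H := by
  by_cases hx : ∃ x ∈ B, x ∉ H
  · obtain ⟨x, hx, hxH⟩ := hx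
    have h1 : (B : Set G) ⊆ (H : Set G) ∪ (fun y => x * y) '' (H : Set G) := by
      intro y hy
      by_cases hyH : y ∈ H
      · exact Or.inl hyH
      · exact Or.inr ⟨x⁻¹ * y, h x hx hxH y hy hyH, by simp⟩
    have h2 := (Set.ncard_le_ncard h1 (Set.toFinite _)).trans (Set.ncard_union_le _ _)
    have h3 := Set.ncard_image_le (f := fun y => x * y) (Set.toFinite (H : Set G))
    have h4 : Nat.card B = (B : Set G).ncard := rfl
    have h5 : Nat.card H = (H : Set G).ncard := rfl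
    omega
  · push Not at hx
    have h1 : Nat.card B ≤ Nat.card H := Subgroup.card_le_of_le (fun x hx' => hx x hx')
    omega

/-- the line of an element acting as `c * bar` -/
def L (n : ℕ) (c : K) : AddSubgroup K where
  carrier := {r | c * bar n r = r}
  add_mem' := fun {x y} hx hy => by
    change c * bar n (x + y) = x + y
    rw [bar_add, mul_add, show c * bar n x = x from hx, show c * bar n y = y from hy]
  zero_mem' := by
    change c * bar n 0 = 0
    rw [bar_zero, mul_zero]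
  neg_mem' := fun {x} hx => by
    have : -x = x := CharTwo.neg_eq x
    rw [this]; exact hx

theorem card_L (hq : Qd K n) (c : K) : Nat.card (L n c) ≤ 2 ^ n := by
  by_contra h
  push Not at h
  have h1 : 2 ^ n < ((L n c : AddSubgroup K) : Set K).ncard := h
  exact barE_ne_one hq (eq_one_of_fixed hq (τ := barE hq) (c := c) h1
    (fun x (hx : c * bar n x = x) => hx)).1

/-- the coordinates as a map to `K × K` -/
def aa (D : GZero G K n) (x : G) : K × K := (D.a false x, D.a true x)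

theorem aa_eq_zero {x : G} (hx : x ∈ D.U) (h : aa D x = 0) : x ∈ W D := by
  refine ⟨hx, ?_⟩
  rintro (_ | _)
  · exact congrArg Prod.fst h
  · exact congrArg Prod.snd h

theorem card_U (D : GZero G K n) : Nat.card D.U = Nat.card (W D) * ((2 ^ n) ^ 2 * (2 ^ n) ^ 2) := by
  rw [Card.card_of_hom D.U (W D) (aa D) ⊤ _ _ (fun _ _ => AddSubgroup.mem_top _),
    AddSubgroup.card_top, Nat.card_prod, Nat.card_eq_fintype_card (α := K), D.hq.hK]
  · rintro ⟨r, r'⟩ -
    obtain ⟨x, hx, h⟩ := D.a_surj (fun i => if i then r' else r)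
    exact ⟨x, hx, Prod.ext (h false) (h true)⟩
  · intro x hx y hy
    exact Prod.ext (D.a_mul _ x hx y hy) (D.a_mul _ x hx y hy)
  · intro x
    constructor
    · rintro ⟨hx, h⟩
      exact ⟨hx, Prod.ext (h false) (h true)⟩
    · rintro ⟨hx, h⟩
      exact aa_eq_zero hx h

theorem card_le_U {V : Subgroup G} (hV : V ≤ D.U) (A A' : AddSubgroup K)
    (h : ∀ x ∈ V, D.a false x ∈ A ∧ D.a true x ∈ A') :
    Nat.card V ≤ Nat.card (W D) * (Nat.card A * Nat.card A') := by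
  have h1 := Card.card_le_of_hom V (W D) (aa D) (A.prod A')
    (fun x hx y hy => Prod.ext (D.a_mul _ x (hV hx) y (hV hy)) (D.a_mul _ x (hV hx) y (hV hy)))
    (fun x hx h => aa_eq_zero (hV hx) h) (fun x hx => h x hx)
  have h2 : Nat.card (A.prod A') = Nat.card A * Nat.card A' := by
    rw [Nat.card_congr (AddSubgroup.prodEquiv A A').toEquiv, Nat.card_prod]
  rwa [h2] at h1

theorem U_cmt {x y : G} (hx : x ∈ D.U) (hy : y ∈ D.U) : x * y * x⁻¹ * y⁻¹ ∈ W D := by
  have h := U_comm' D false hx hy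
  have h1 : x * y * x⁻¹ * y⁻¹ = D.z false (Tr n (D.a false x * bar n (D.a false y))) *
      D.z (!false) (Tr n (D.a (!false) x * bar n (D.a (!false) y))) := by
    rw [h]; group
  rw [h1]
  exact mul_mem (z_mem_W D _ _) (z_mem_W D _ _)

/-- the elements acting trivially on the factor `i` -/
def Triv (D : GZero G K n) (i : Bool) : Subgroup G where
  carrier := {y | y ∈ NN D ∧ Act D i y 1 1}
  one_mem' := ⟨one_mem _, Act.of_U D D.U.one_mem⟩
  mul_mem' := by
    rintro x y ⟨hx, hx'⟩ ⟨hy, hy'⟩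
    have h := hx'.mul D hy' hy
    refine ⟨mul_mem hx hy, ?_⟩
    intro u hu
    rw [h u hu, map_one, mul_one]; rfl
  inv_mem' := by
    rintro x ⟨hx, hx'⟩
    have h := hx'.inv D one_ne_zero hx
    refine ⟨inv_mem hx, ?_⟩
    intro u hu
    rw [h u hu, inv_one, inv_one]; rfl

section weak

variable {T : Subgroup G} (hT : Two D T) {g : G} (hg : ∀ x ∈ D.U, g * x * g⁻¹ ∈ T)

include hT hg

theorem conj_W_of {w : G} (hw : w ∈ W D) : g * w * g⁻¹ ∈ W D := by
  have h1 : ∀ i b, bar n b = b → g * D.z i b * g⁻¹ ∈ W D := by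
    intro i b hb
    obtain ⟨x, hx, hPx, y, hy, hPy, h⟩ := exists_cmt i (fun x => g * x * g⁻¹ ∈ St D)
      (fun x hx y hy hPx hPy => by
        have := St_of_mul D (hT.le (hg x hx.1)) (hT.le (hg y hy.1)) hPx hPy
        rwa [show g * x * g⁻¹ * (g * y * g⁻¹) = g * (x * y) * g⁻¹ by group] at this) hb
    have h2 := hT.cmt_mem (hg x hx.1) (hg y hy.1) hPx hPy
    rw [show g * x * g⁻¹ * (g * y * g⁻¹) * (g * x * g⁻¹)⁻¹ * (g * y * g⁻¹)⁻¹ =
      g * (x * y * x⁻¹ * y⁻¹) * g⁻¹ by group, h] at h2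
    apply mem_W_of_sq D h2
    calc g * D.z i b * g⁻¹ * (g * D.z i b * g⁻¹) = g * (D.z i b * D.z i b) * g⁻¹ := by group
      _ = 1 := by rw [z_sq]; group
  obtain ⟨b, c, hb, hc, rfl⟩ := exists_zW D hw
  rw [show g * (D.z false b * D.z true c) * g⁻¹ = (g * D.z false b * g⁻¹) * (g * D.z true c * g⁻¹) by
    group]
  exact mul_mem (h1 _ b hb) (h1 _ c hc)

theorem conj_W_of' {w : G} (hw : w ∈ W D) : g⁻¹ * w * g ∈ W D :=
  conj_mem_inv (fun _ hx => conj_W_of hT hg hx) w hw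

theorem comm_of {u w : G} (hu : u ∈ D.U) (hw : w ∈ W D) :
    g * u * g⁻¹ * w = w * (g * u * g⁻¹) := by
  have h1 := W_cen D hu (conj_W_of' hT hg hw)
  calc g * u * g⁻¹ * w = g * (u * (g⁻¹ * w * g)) * g⁻¹ := by group
    _ = w * (g * u * g⁻¹) := by rw [h1]; group

theorem conj_St {u : G} (hu : u ∈ D.U) : g * u * g⁻¹ ∈ St D := by
  by_contra h
  have h1 := Sw_of_not D (hT.le (hg u hu)) h
  obtain ⟨c, φ, hc, h2⟩ := Sw_act D h1
  have h3 := Sw_z D h1 h2 false (bar_one n)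
  have h4 := comm_of hT hg hu (z_mem_W D false 1)
  rw [h4, mul_inv_cancel_right] at h3
  have h5 := zz_inj D false (b := 1) (c := 0) (b' := 0) (bar_one n) (bar_zero n) (bar_zero n)
    (fixed_Nφ D (c true) (φ true) (bar_one n)) (by
      rw [z_zero, z_zero, mul_one, one_mul]; exact h3)
  exact one_ne_zero h5.1

theorem conj_sq {u : G} (hu : u ∈ D.U) : g * u * g⁻¹ * (g * u * g⁻¹) ∈ D.U := by
  rw [show g * u * g⁻¹ * (g * u * g⁻¹) = g * (u * u) * g⁻¹ by group]
  apply W_le D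
  apply conj_W_of hT hg
  apply mem_W_of_sq D (mul_mem hu hu)
  rw [D.U_sq u hu]
  have h := W_sq D (mul_mem (z_mem_W D false (N n (D.a false u))) (z_mem_W D true (N n (D.a true u))))
  exact h

theorem conj_cases {u : G} (hu : u ∈ D.U) (i : Bool) :
    g * u * g⁻¹ ∈ Triv D i ∨ ∃ c, Act D i (g * u * g⁻¹) c (barE D.hq) := by
  obtain ⟨c, φ, hc, h⟩ := St_act D (conj_St hT hg hu)
  rcases (type_cases (hT.le (hg u hu)) (h i) (hc i) (conj_sq hT hg hu)).2 with ⟨h1, h2⟩ | h1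
  · left
    have h3 := h i
    rw [h1, h2] at h3
    exact ⟨hT.le (hg u hu), h3⟩
  · right
    have h3 := h i
    rw [h1] at h3
    exact ⟨c i, h3⟩

/-- an element of `g U g⁻¹` acting as `c * bar` restricts `U ∩ g U g⁻¹` -/
theorem line_of {u v : G} {i : Bool} {c : K} (hu : u ∈ D.U) (h : Act D i (g * u * g⁻¹) c (barE D.hq))
    (hv : v ∈ D.U) (hv' : g⁻¹ * v * g ∈ D.U) : D.a i v ∈ L n c := by
  have h1 : g * u * g⁻¹ * v * (g * u * g⁻¹)⁻¹ * v⁻¹ ∈ W D := by
    rw [show g * u * g⁻¹ * v * (g * u * g⁻¹)⁻¹ * v⁻¹ =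
      g * (u * (g⁻¹ * v * g) * u⁻¹ * (g⁻¹ * v * g)⁻¹) * g⁻¹ by group]
    apply conj_W_of hT hg
    exact U_cmt hu hv'
  have h2 : g * u * g⁻¹ * v * (g * u * g⁻¹)⁻¹ ∈ D.U := NN_conj D (hT.le (hg u hu)) hv
  have h3 := h1.2 i
  rw [D.a_mul _ _ h2 _ (inv_mem hv), a_inv D i hv, h v hv, Field.add_eq_zero] at h3
  exact h3

/-- **`U` is weakly closed.** -/
theorem weak : g ∈ NN D := by
  classical
  let U' : Subgroup G := D.U.map (MulAut.conj g).toMonoidHom
  have hU' : ∀ x, x ∈ U' ↔ ∃ u ∈ D.U, x = g * u * g⁻¹ := by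
    intro x
    rw [Subgroup.mem_map]
    constructor
    · rintro ⟨u, hu, rfl⟩; exact ⟨u, hu, by simp⟩
    · rintro ⟨u, hu, rfl⟩; exact ⟨u, hu, by simp⟩
  have hcard : Nat.card U' = Nat.card D.U :=
    Nat.card_congr (D.U.equivMapOfInjective _ (MulAut.conj g).injective).toEquiv.symm
  have hmem : ∀ x ∈ U', x ∈ T := by
    intro x hx
    obtain ⟨u, hu, rfl⟩ := (hU' x).mp hx
    exact hg u hu
  -- the subgroup `V = U ∩ g U g⁻¹`
  have hV : ∀ v ∈ U' ⊓ D.U, v ∈ D.U ∧ g⁻¹ * v * g ∈ D.U := by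
    rintro v ⟨hv, hv'⟩
    obtain ⟨u, hu, rfl⟩ := (hU' v).mp hv
    exact ⟨hv', by rw [show g⁻¹ * (g * u * g⁻¹) * g = u by group]; exact hu⟩
  have htriv : U' ⊓ Triv D false ⊓ Triv D true ≤ U' ⊓ D.U := by
    rintro x ⟨⟨hx, hx1⟩, hx2⟩
    refine ⟨hx, hT.mem_U (hmem x hx) ?_⟩
    rintro (_ | _)
    · exact ⟨1, hx1.2⟩
    · exact ⟨1, hx2.2⟩
  have hquot : ∀ i, ∀ x ∈ U', x ∉ Triv D i → ∀ y ∈ U', y ∉ Triv D i → x⁻¹ * y ∈ Triv D i := by
    intro i x hx hx' y hy hy'
    obtain ⟨u, hu, rfl⟩ := (hU' x).mp hx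
    obtain ⟨v, hv, rfl⟩ := (hU' y).mp hy
    rcases conj_cases hT hg hu i with h1 | ⟨c, h1⟩
    · exact absurd h1 hx'
    rcases conj_cases hT hg hv i with h2 | ⟨c', h2⟩
    · exact absurd h2 hy'
    have e1 : (g * u * g⁻¹)⁻¹ * (g * v * g⁻¹) = g * (u⁻¹ * v) * g⁻¹ := by group
    rw [e1]
    rcases conj_cases hT hg (mul_mem (inv_mem hu) hv) i with h3 | ⟨c'', h3⟩
    · exact h3
    · exfalso
      have h4 := h1.mul D h3 (hT.le (hg _ (mul_mem (inv_mem hu) hv)))
      rw [show g * u * g⁻¹ * (g * (u⁻¹ * v) * g⁻¹) = g * v * g⁻¹ by group] at h4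
      have hc' : c' ≠ 0 := h2.ne_zero D (conj_St hT hg hv)
      have h5 := (h2.unique D h4 hc').2
      have h6 : barE D.hq = 1 := by
        have := congrArg (fun τ => (barE D.hq)⁻¹ * τ) h5
        simp only [inv_mul_cancel, inv_mul_cancel_left] at this
        exact this.symm
      exact barE_ne_one D.hq h6
  have hWpos : 0 < Nat.card (W D) := Nat.card_pos
  have h4 := four_le D.hq
  have hUc := card_U D
  have hKtop : Nat.card (⊤ : AddSubgroup K) = (2 ^ n) ^ 2 := Card.card_top_K D.hq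
  suffices h : ∀ x ∈ U', x ∈ D.U by
    apply mem_NN D
    intro u hu
    exact h _ ((hU' _).mpr ⟨u, hu, rfl⟩)
  by_contra hne
  push Not at hne
  obtain ⟨x, hx, hxU⟩ := hne
  by_cases hA : ∃ y ∈ U', y ∉ Triv D false ∧ y ∉ Triv D true
  · -- an element acting as `bar` on both factors
    obtain ⟨y, hy, hy1, hy2⟩ := hA
    obtain ⟨u, hu, rfl⟩ := (hU' y).mp hy
    rcases conj_cases hT hg hu false with h1 | ⟨c, h1⟩
    · exact hy1 h1
    rcases conj_cases hT hg hu true with h2 | ⟨c', h2⟩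
    · exact hy2 h2
    have e1 := card_le_U (D := D) (V := U' ⊓ D.U) inf_le_right (L n c) (L n c') (fun v hv =>
      ⟨line_of hT hg hu h1 (hV v hv).1 (hV v hv).2, line_of hT hg hu h2 (hV v hv).1 (hV v hv).2⟩)
    have e2 : Nat.card U' ≤ 2 * Nat.card (U' ⊓ Triv D false : Subgroup G) := by
      apply card_le_two
      intro x hx hx' y hy hy'
      exact ⟨Subgroup.mul_mem _ (Subgroup.inv_mem _ hx) hy, hquot false x hx (fun h => hx' ⟨hx, h⟩) y hy
        (fun h => hy' ⟨hy, h⟩)⟩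
    have e3 : Nat.card (U' ⊓ Triv D false : Subgroup G) ≤
        2 * Nat.card (U' ⊓ Triv D false ⊓ Triv D true : Subgroup G) := by
      apply card_le_two
      intro x hx hx' y hy hy'
      exact ⟨Subgroup.mul_mem _ (Subgroup.inv_mem _ hx) hy, hquot true x hx.1 (fun h => hx' ⟨hx, h⟩) y hy.1
        (fun h => hy' ⟨hy, h⟩)⟩
    have e4 : Nat.card (U' ⊓ Triv D false ⊓ Triv D true : Subgroup G) ≤
        Nat.card (U' ⊓ D.U : Subgroup G) := Subgroup.card_le_of_le htriv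
    have e5 := Nat.mul_le_mul (card_L D.hq c) (card_L D.hq c')
    have e6 := Nat.mul_le_mul_left (Nat.card (W D)) e5
    have e7 : Nat.card (W D) * ((2 ^ n) ^ 2 * (2 ^ n) ^ 2) ≤
        Nat.card (W D) * (4 * (2 ^ n * 2 ^ n)) := by
      rw [← hUc, ← hcard]
      calc Nat.card U' ≤ 4 * Nat.card (U' ⊓ D.U : Subgroup G) := by omega
        _ ≤ 4 * (Nat.card (W D) * (2 ^ n * 2 ^ n)) := Nat.mul_le_mul_left 4 (e1.trans e6)
        _ = _ := by ring
    have e8 := Nat.le_of_mul_le_mul_left e7 hWpos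
    have e9 : (2 ^ n) ^ 2 * (2 ^ n) ^ 2 = (2 ^ n * 2 ^ n) * (2 ^ n * 2 ^ n) := by ring
    rw [e9] at e8
    have e10 := Nat.le_of_mul_le_mul_right e8 (by positivity)
    have e11 := Nat.mul_le_mul h4 h4
    omega
  · push Not at hA
    -- all elements outside `U` act as `bar` on one factor
    obtain ⟨j, hj, hxj⟩ : ∃ j, x ∉ Triv D j ∧ x ∈ Triv D (!j) := by
      by_cases h1 : x ∈ Triv D false
      · refine ⟨true, fun h2 => hxU (htriv ⟨⟨hx, h1⟩, h2⟩).2, h1⟩
      · exact ⟨false, h1, hA x hx h1⟩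
    have hall : ∀ y ∈ U', y ∈ Triv D (!j) := by
      intro y hy
      by_contra h1
      have h2 : y ∈ Triv D j := by
        rcases j with _ | _
        · by_contra h3
          exact h1 (hA y hy h3)
        · by_contra h3
          exact h3 (hA y hy h1)
      have h3 : x * y ∉ Triv D j := fun h => hj ((Subgroup.mul_mem_cancel_right _ h2).mp h)
      have h4 : x * y ∉ Triv D (!j) := fun h => h1 ((Subgroup.mul_mem_cancel_left _ hxj).mp h)
      rcases j with _ | _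
      · exact h4 (hA _ (mul_mem hx hy) h3)
      · exact h3 (hA _ (mul_mem hx hy) h4)
    obtain ⟨u, hu, rfl⟩ := (hU' x).mp hx
    rcases conj_cases hT hg hu j with h1 | ⟨c, h1⟩
    · exact hj h1
    have e1 : Nat.card (U' ⊓ D.U : Subgroup G) ≤ Nat.card (W D) * (2 ^ n * (2 ^ n) ^ 2) := by
      have hl : ∀ v ∈ U' ⊓ D.U, D.a j v ∈ L n c := fun v hv =>
        line_of hT hg hu h1 (hV v hv).1 (hV v hv).2
      rcases j with _ | _
      · have := card_le_U (D := D) (V := U' ⊓ D.U) inf_le_right (L n c) ⊤ (fun v hv =>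
          ⟨hl v hv, AddSubgroup.mem_top _⟩)
        refine this.trans (Nat.mul_le_mul_left _ ?_)
        rw [hKtop]
        exact Nat.mul_le_mul_right _ (card_L D.hq c)
      · have := card_le_U (D := D) (V := U' ⊓ D.U) inf_le_right ⊤ (L n c) (fun v hv =>
          ⟨AddSubgroup.mem_top _, hl v hv⟩)
        refine this.trans (Nat.mul_le_mul_left _ ?_)
        rw [hKtop, mul_comm]
        exact Nat.mul_le_mul_right _ (card_L D.hq c)
    have e2 : Nat.card U' ≤ 2 * Nat.card (U' ⊓ D.U : Subgroup G) := by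
      apply card_le_two
      have hin : ∀ y ∈ U', y ∈ Triv D j → y ∈ D.U := by
        intro y hy hyj
        rcases j with _ | _
        · exact (htriv ⟨⟨hy, hyj⟩, hall y hy⟩).2
        · exact (htriv ⟨⟨hy, hall y hy⟩, hyj⟩).2
      intro x hx hx' y hy hy'
      have hxy : x⁻¹ * y ∈ U' := mul_mem (inv_mem hx) hy
      refine ⟨hxy, hin _ hxy ?_⟩
      exact hquot j x hx (fun h => hx' ⟨hx, hin x hx h⟩) y hy (fun h => hy' ⟨hy, hin y hy h⟩)
    have e7 : Nat.card (W D) * ((2 ^ n) ^ 2 * (2 ^ n) ^ 2) ≤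
        Nat.card (W D) * (2 * (2 ^ n * (2 ^ n) ^ 2)) := by
      rw [← hUc, ← hcard]
      calc Nat.card U' ≤ 2 * Nat.card (U' ⊓ D.U : Subgroup G) := e2
        _ ≤ 2 * (Nat.card (W D) * (2 ^ n * (2 ^ n) ^ 2)) := Nat.mul_le_mul_left 2 e1
        _ = _ := by ring
    have e8 := Nat.le_of_mul_le_mul_left e7 hWpos
    have e9 : (2 ^ n) ^ 2 * (2 ^ n) ^ 2 = 2 ^ n * (2 ^ n * (2 ^ n) ^ 2) := by ring
    rw [e9] at e8
    have e10 := Nat.le_of_mul_le_mul_right e8 (by positivity)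
    omega

end weak

/-! ### Sylow subgroups -/

theorem sylow_conj (P Q : Sylow 2 G) : ∃ g : G, ∀ x ∈ P, g * x * g⁻¹ ∈ Q := by
  obtain ⟨g, hg⟩ := MulAction.exists_smul_eq G P Q
  refine ⟨g, fun x hx => ?_⟩
  rw [← hg]
  have := Subgroup.smul_mem_pointwise_smul x (MulAut.conj g) (P : Subgroup G) hx
  exact this

/-- Sylow's theorem in a subgroup `C`. -/
theorem exists_conj_in (C A B : Subgroup G) (hA : IsPGroup 2 A) (hB : IsPGroup 2 B) (hAC : A ≤ C)
    (hBC : B ≤ C) : ∃ T : Subgroup G, IsPGroup 2 T ∧ A ≤ T ∧ T ≤ C ∧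
      ∃ c ∈ C, ∀ b ∈ B, c * b * c⁻¹ ∈ T := by
  obtain ⟨P, hP⟩ := (hA.comap_of_injective C.subtype C.subtype_injective).exists_le_sylow
  obtain ⟨Q, hQ⟩ := (hB.comap_of_injective C.subtype C.subtype_injective).exists_le_sylow
  obtain ⟨c, hc⟩ := sylow_conj Q P
  refine ⟨(P : Subgroup C).map C.subtype, P.isPGroup'.map _, ?_, ?_, c, c.2, ?_⟩
  · intro a ha
    exact ⟨⟨a, hAC ha⟩, hP ha, rfl⟩
  · rintro _ ⟨x, -, rfl⟩
    exact x.2
  · intro b hb
    exact ⟨_, hc ⟨b, hBC hb⟩ (hQ hb), rfl⟩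

/-- **every 2-subgroup containing `U` normalizes `U`.** -/
theorem le_NN {T : Subgroup G} (hT : IsPGroup 2 T) (hU : D.U ≤ T) : T ≤ NN D := by
  have := Fact.mk Nat.prime_two
  by_contra hne
  let T0 : Subgroup G := T ⊓ NN D
  have hT0 : Two D T0 := ⟨hT.to_le inf_le_left, le_inf hU (U_le_NN D), inf_le_right⟩
  have hnil : Group.IsNilpotent T := hT.isNilpotent
  have hnc : NormalizerCondition T := Group.normalizerCondition_of_isNilpotent
  have hlt : T0.subgroupOf T < ⊤ := by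
    rw [lt_top_iff_ne_top]
    intro h
    rw [Subgroup.subgroupOf_eq_top] at h
    exact hne (h.trans inf_le_right)
  obtain ⟨x, hx, hx'⟩ := Set.exists_of_ssubset (hnc _ hlt)
  apply hx'
  change (x : G) ∈ T0
  refine ⟨x.2, weak hT0 (fun u hu => ?_)⟩
  have h1 := (Subgroup.mem_normalizer_iff.mp hx ⟨u, hU hu⟩).mp (hT0.U_le hu)
  exact h1

theorem two_of {T : Subgroup G} (hT : IsPGroup 2 T) (hU : D.U ≤ T) : Two D T :=
  ⟨hT, hU, le_NN hT hU⟩

/-- `g` moving `U` into a 2-subgroup containing `U` normalizes `U` -/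
theorem weak' {T : Subgroup G} (hT : IsPGroup 2 T) (hU : D.U ≤ T) {g : G}
    (hg : ∀ x ∈ D.U, g * x * g⁻¹ ∈ T) : g ∈ NN D := weak (two_of hT hU) hg

variable (D)

/-- **`N_G(U)` controls the fusion of subsets of `W`.** -/
theorem control (B : Set G) {g : G} (hB : ∀ b ∈ B, b ∈ W D) (hg : ∀ b ∈ B, g * b * g⁻¹ ∈ W D) :
    ∃ m ∈ NN D, ∀ b ∈ B, m * b * m⁻¹ = g * b * g⁻¹ := by
  let C : Subgroup G := Subgroup.centralizer ((fun b => g * b * g⁻¹) '' B)
  have hC : ∀ x, x ∈ C ↔ ∀ b ∈ B, (g * b * g⁻¹) * x = x * (g * b * g⁻¹) := by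
    intro x
    rw [Subgroup.mem_centralizer_iff]
    constructor
    · intro h b hb
      exact h _ ⟨b, hb, rfl⟩
    · rintro h _ ⟨b, hb, rfl⟩
      exact h b hb
  let U' : Subgroup G := D.U.map (MulAut.conj g).toMonoidHom
  have hUC : D.U ≤ C := fun u hu => (hC u).mpr (fun b hb => (W_cen D hu (hg b hb)).symm)
  have hU'C : U' ≤ C := by
    rintro _ ⟨u, hu, rfl⟩
    rw [hC]
    intro b hb
    have h1 : (MulAut.conj g).toMonoidHom u = g * u * g⁻¹ := by simp
    rw [h1]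
    calc g * b * g⁻¹ * (g * u * g⁻¹) = g * (b * u) * g⁻¹ := by group
      _ = g * u * g⁻¹ * (g * b * g⁻¹) := by rw [← W_cen D hu (hB b hb)]; group
  obtain ⟨T, hT, hUT, -, c, hc, h⟩ := exists_conj_in C D.U U' D.U_two (D.U_two.map _) hUC hU'C
  refine ⟨c * g, weak' hT hUT (fun x hx => ?_), fun b hb => ?_⟩
  · have := h (g * x * g⁻¹) ⟨x, hx, by simp⟩
    rwa [show c * (g * x * g⁻¹) * c⁻¹ = c * g * x * (c * g)⁻¹ by group] at this
  · have h1 := (hC c).mp hc b hb
    calc c * g * b * (c * g)⁻¹ = c * (g * b * g⁻¹) * c⁻¹ := by group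
      _ = g * b * g⁻¹ := by rw [← h1]; group

/-- **Extremal conjugation.** -/
theorem extremal (S : Sylow 2 G) (hU : D.U ≤ S) {x g : G} (hg : g * x * g⁻¹ ∈ W D)
    (B : Subgroup G) (hB : IsPGroup 2 B) (hBx : ∀ b ∈ B, b * x = x * b) :
    ∃ g', g' * x * g'⁻¹ ∈ W D ∧ ∀ b ∈ B, g' * b * g'⁻¹ ∈ S := by
  let C : Subgroup G := Subgroup.centralizer {g * x * g⁻¹}
  have hC : ∀ y, y ∈ C ↔ (g * x * g⁻¹) * y = y * (g * x * g⁻¹) := by
    intro y
    rw [Subgroup.mem_centralizer_iff]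
    constructor
    · intro h; exact h _ rfl
    · rintro h _ rfl; exact h
  let B' : Subgroup G := B.map (MulAut.conj g).toMonoidHom
  have hUC : D.U ≤ C := fun u hu => (hC u).mpr (W_cen D hu hg).symm
  have hB'C : B' ≤ C := by
    rintro _ ⟨b, hb, rfl⟩
    have h1 : (MulAut.conj g).toMonoidHom b = g * b * g⁻¹ := by simp
    rw [hC, h1]
    calc g * x * g⁻¹ * (g * b * g⁻¹) = g * (x * b) * g⁻¹ := by group
      _ = g * b * g⁻¹ * (g * x * g⁻¹) := by rw [← hBx b hb]; group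
  obtain ⟨T, hT, hUT, -, c, hc, h⟩ := exists_conj_in C D.U B' D.U_two (hB.map _) hUC hB'C
  obtain ⟨S', hS'⟩ := hT.exists_le_sylow
  obtain ⟨k, hk⟩ := sylow_conj S' S
  have hkN : k ∈ NN D := weak' S.isPGroup' hU (fun u hu => hk u (hS' (hUT hu)))
  have h1 := (hC c).mp hc
  refine ⟨k * c * g, ?_, fun b hb => ?_⟩
  · have h2 : k * c * g * x * (k * c * g)⁻¹ = k * (g * x * g⁻¹) * k⁻¹ := by
      calc k * c * g * x * (k * c * g)⁻¹ = k * (c * (g * x * g⁻¹)) * c⁻¹ * k⁻¹ := by group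
        _ = k * (g * x * g⁻¹) * k⁻¹ := by rw [← h1]; group
    rw [h2]
    exact W_conj D hkN hg
  · have h2 := hk _ (hS' (h (g * b * g⁻¹) ⟨b, hb, by simp⟩))
    rwa [show k * (c * (g * b * g⁻¹) * c⁻¹) * k⁻¹ = k * c * g * b * (k * c * g)⁻¹ by group] at h2

/-- a Sylow subgroup containing `U`, `t` and `s` -/
theorem exists_sylow : ∃ S : Sylow 2 G, Two D S ∧ D.t ∈ S ∧ D.s ∈ S := by
  have := Fact.mk Nat.prime_two
  have hz : ∀ x : G, x * x = 1 → IsPGroup 2 (Subgroup.zpowers x) := by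
    intro x hx
    rintro ⟨_, k, rfl⟩
    refine ⟨1, Subtype.ext ?_⟩
    change (x ^ k) ^ 2 ^ 1 = 1
    rw [pow_one, pow_two, ← zpow_add, ← two_mul, zpow_mul, zpow_two, hx, one_zpow]
  have h1 : IsPGroup 2 (Subgroup.zpowers D.t ⊔ D.U : Subgroup G) := by
    apply IsPGroup.to_sup_of_normal_right' (hz _ D.t_sq) D.U_two
    rw [Subgroup.zpowers_le]
    rw [Subgroup.mem_normalizer_iff]
    intro x
    have ht := t_mem_NN D
    exact ⟨fun hx => NN_conj D ht hx, fun hx => by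
      have := NN_conj' D ht hx
      rwa [show D.t⁻¹ * (D.t * x * D.t⁻¹) * D.t = x by group] at this⟩
  have h2 : IsPGroup 2 (Subgroup.zpowers D.s ⊔ (Subgroup.zpowers D.t ⊔ D.U) : Subgroup G) := by
    apply IsPGroup.to_sup_of_normal_right' (hz _ D.s_sq) h1
    rw [Subgroup.zpowers_le]
    have hs : ∀ x ∈ Subgroup.zpowers D.t ⊔ D.U, D.s * x * D.s⁻¹ ∈ Subgroup.zpowers D.t ⊔ D.U := by
      intro x hx
      have h3 : Subgroup.zpowers D.t ⊔ D.U ≤
          (Subgroup.zpowers D.t ⊔ D.U).comap (MulAut.conj D.s).toMonoidHom := by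
        apply sup_le
        · rw [Subgroup.zpowers_le, Subgroup.mem_comap]
          have : (MulAut.conj D.s).toMonoidHom D.t = D.t := by
            simp [D.s_t]
          rw [this]
          exact Subgroup.mem_sup_left (Subgroup.mem_zpowers _)
        · intro u hu
          rw [Subgroup.mem_comap]
          have : (MulAut.conj D.s).toMonoidHom u = D.s * u * D.s⁻¹ := by simp
          rw [this]
          exact Subgroup.mem_sup_right (D.s_U u hu)
      have := h3 hx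
      rw [Subgroup.mem_comap] at this
      simpa using this
    rw [Subgroup.mem_normalizer_iff]
    intro x
    exact ⟨fun hx => hs x hx, fun hx => by
      have := conj_mem_inv hs _ hx
      rwa [show D.s⁻¹ * (D.s * x * D.s⁻¹) * D.s = x by group] at this⟩
  obtain ⟨S, hS⟩ := h2.exists_le_sylow
  refine ⟨S, two_of S.isPGroup' (fun u hu => hS (Subgroup.mem_sup_right (Subgroup.mem_sup_right hu))),
    hS (Subgroup.mem_sup_right (Subgroup.mem_sup_left (Subgroup.mem_zpowers _))),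
    hS (Subgroup.mem_sup_left (Subgroup.mem_zpowers _))⟩

end Cfsg.Agent.StdU3.GZeroWeak
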