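import Cfsg.Agent.StdU3.Rank

/-!
# LEMMA C

`d` conjugate to `t`, `B ≤ C(d)` a 2-group normalized by `o ∈ C(d)` of odd order: the commutators
`[o, b]` lie in `A_d`.  Consequence: no element of `Z` is conjugate to `t`.
-/

set_option autoImplicit false
set_option linter.unusedSectionVars false
set_option linter.dupNamespace false

namespace Cfsg.Agent.StdU3.LemC

open Subgroup Cfsg.Agent.StdU3.Field Cfsg.Agent.StdU3.PreDef Cfsg.Agent.StdU3.FldDef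
open Cfsg.Agent.StdU3.LevelOne Cfsg.Agent.StdU3.FieldAut Cfsg.Agent.StdU3.Rank

variable {G : Type*} [Group G] {K : Type*} [Field K] [Fintype K] [CharP K 2] {n : ℕ}
variable {D : Pre G K n} (F : Fld D)

theorem mem_A_or {x : G} (hx : x ∈ F.Sg) (h : ch F x = 1) : x ∈ F.A ∨ x * D.t ∈ F.A :=
  (ch_ker F hx h).imp (fun h => F.P_A h) (fun h => F.P_A h)

theorem A_norm' {g a : G} (hg : g * D.t = D.t * g) (ha : g * a * g⁻¹ ∈ F.A) : a ∈ F.A := by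
  have h := F.A_norm g⁻¹ (comm_inv hg) _ ha
  have e : g⁻¹ * (g * a * g⁻¹) * g⁻¹⁻¹ = a := by group
  rwa [e] at h

/-- 2-elements of `C(t)` without Galois component. -/
theorem mem_A_or' {B : Subgroup G} (hB : IsPGroup 2 B) (hBt : ∀ b ∈ B, b * D.t = D.t * b) {x : G}
    (hx : x ∈ B) (h : ch F x = 1) : x ∈ F.A ∨ x * D.t ∈ F.A := by
  obtain ⟨g, hg, hgB⟩ := F.Sg_conj B hB hBt
  have hgi := comm_inv hg
  have h1 : g⁻¹ * x * g⁻¹⁻¹ ∈ F.Sg := by rw [inv_inv]; exact hgB x hx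
  have h2 : ch F (g⁻¹ * x * g⁻¹⁻¹) = 1 := by rw [ch_conj F hgi (hBt x hx), h]
  rcases mem_A_or F h1 h2 with h3 | h3
  · exact Or.inl (A_norm' F hgi h3)
  · right
    apply A_norm' F hgi
    have e : g⁻¹ * (x * D.t) * g⁻¹⁻¹ = g⁻¹ * x * g⁻¹⁻¹ * D.t := by
      have : g⁻¹ * (x * D.t) * g⁻¹⁻¹ = g⁻¹ * x * (D.t * g) := by group
      rw [this, ← hg]; group
    rw [e]; exact h3

/-- **LEMMA C** for `d = t`. -/
theorem cmt_mem_A' {B : Subgroup G} (hB : IsPGroup 2 B) (hBt : ∀ b ∈ B, b * D.t = D.t * b) {o : G}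
    (ho : o * D.t = D.t * o) (hodd : Odd (orderOf o)) (hoB : ∀ b ∈ B, o * b * o⁻¹ ∈ B) {b : G}
    (hb : b ∈ B) : o * b * o⁻¹ * b⁻¹ ∈ F.A := by
  have hoi := comm_inv ho
  have hbt := hBt b hb
  have hc : o * b * o⁻¹ * b⁻¹ ∈ B := B.mul_mem (hoB b hb) (B.inv_mem hb)
  have hch : ch F (o * b * o⁻¹ * b⁻¹) = 1 := by
    rw [ch_mul F (comm_mul (comm_mul ho hbt) hoi) (comm_inv hbt), ch_conj F ho hbt, ch_inv F hbt,
      mul_inv_cancel]
  rcases mem_A_or' F hB hBt hc hch with h | h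
  · exact h
  · exfalso
    -- `o ^ k * b * o ^ (-k) * b⁻¹ * t ^ k ∈ A`
    have key : ∀ k : ℕ, o ^ k * b * (o ^ k)⁻¹ * b⁻¹ * D.t ^ k ∈ F.A := by
      intro k
      induction k with
      | zero => simp
      | succ k ih =>
        have h1 := F.A_norm o ho _ ih
        have h2 := F.A.mul_mem h1 h
        have hokt : Commute (o ^ k) D.t := (Commute.pow_left (show Commute o D.t from ho) k)
        have htk : ∀ x, x * D.t = D.t * x → D.t ^ k * x = x * D.t ^ k := by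
          intro x hx
          exact (Commute.pow_left (show Commute D.t x from hx.symm) k)
        have e : o * (o ^ k * b * (o ^ k)⁻¹ * b⁻¹ * D.t ^ k) * o⁻¹ *
            (o * b * o⁻¹ * b⁻¹ * D.t) = o ^ (k + 1) * b * (o ^ (k + 1))⁻¹ * b⁻¹ * D.t ^ (k + 1) := by
          have hx : (b * o⁻¹ * b⁻¹) * D.t = D.t * (b * o⁻¹ * b⁻¹) :=
            comm_mul (comm_mul hbt hoi) (comm_inv hbt)
          calc o * (o ^ k * b * (o ^ k)⁻¹ * b⁻¹ * D.t ^ k) * o⁻¹ * (o * b * o⁻¹ * b⁻¹ * D.t)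
              = o * o ^ k * b * (o ^ k)⁻¹ * b⁻¹ * (D.t ^ k * (b * o⁻¹ * b⁻¹)) * D.t := by group
            _ = o * o ^ k * b * (o ^ k)⁻¹ * b⁻¹ * ((b * o⁻¹ * b⁻¹) * D.t ^ k) * D.t := by
                rw [htk _ hx]
            _ = (o * o ^ k) * b * ((o ^ k)⁻¹ * o⁻¹) * b⁻¹ * (D.t ^ k * D.t) := by group
            _ = _ := by rw [← pow_succ', ← mul_inv_rev, ← pow_succ', ← pow_succ]
        rw [e] at h2
        exact h2
    have h1 := key (orderOf o)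
    obtain ⟨m, hm⟩ := hodd
    rw [pow_orderOf_eq_one, one_mul, inv_one, mul_one, mul_inv_cancel, one_mul, hm, pow_succ,
      pow_mul, pow_two, D.t_sq, one_pow, one_mul] at h1
    exact F.t_A h1

/-- **LEMMA C** -/
theorem cmt_mem_A {B : Subgroup G} (hB : IsPGroup 2 B) {y : G}
    (hBt : ∀ b ∈ B, b * (y * D.t * y⁻¹) = (y * D.t * y⁻¹) * b) {o : G}
    (ho : o * (y * D.t * y⁻¹) = (y * D.t * y⁻¹) * o) (hodd : Odd (orderOf o))
    (hoB : ∀ b ∈ B, o * b * o⁻¹ ∈ B) {b : G} (hb : b ∈ B) :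
    y⁻¹ * (o * b * o⁻¹ * b⁻¹) * y ∈ F.A := by
  have hmove : ∀ x : G, x * (y * D.t * y⁻¹) = (y * D.t * y⁻¹) * x →
      (y⁻¹ * x * y) * D.t = D.t * (y⁻¹ * x * y) := by
    intro x hx
    calc y⁻¹ * x * y * D.t = y⁻¹ * (x * (y * D.t * y⁻¹)) * y := by group
      _ = _ := by rw [hx]; group
  have hconj : ∀ x : G, (MulAut.conj y⁻¹).toMonoidHom x = y⁻¹ * x * y := by
    intro x; simp
  have h := cmt_mem_A' F (B := B.map (MulAut.conj y⁻¹).toMonoidHom) (hB.map _)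
    (by
      rintro _ ⟨x, hx, rfl⟩
      rw [hconj]; exact hmove x (hBt x hx))
    (o := y⁻¹ * o * y) (hmove o ho)
    (by
      have e : y⁻¹ * o * y = MulAut.conj y⁻¹ o := by simp
      rw [e, MulEquiv.orderOf_eq]; exact hodd)
    (by
      rintro _ ⟨x, hx, rfl⟩
      rw [hconj]
      refine ⟨o * x * o⁻¹, hoB x hx, ?_⟩
      rw [hconj]; group)
    (b := y⁻¹ * b * y) ⟨b, hb, hconj b⟩
  have e : y⁻¹ * o * y * (y⁻¹ * b * y) * (y⁻¹ * o * y)⁻¹ * (y⁻¹ * b * y)⁻¹ =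
      y⁻¹ * (o * b * o⁻¹ * b⁻¹) * y := by group
  rwa [e] at h

/-- if `d` centralizes `P` and the elements `a ∈ A` of `tor` of norm one then `P ≤ A_d` -/
theorem P_le_A_of {y : G} (hP : ∀ p ∈ D.P, p * (y * D.t * y⁻¹) = (y * D.t * y⁻¹) * p)
    (hP2 : IsPGroup 2 ↥D.P)
    (hA : ∀ a ∈ F.A, (∀ p ∈ D.P, a * p * a⁻¹ ∈ D.P) → (∀ b, bar n b = b → a * D.z b * a⁻¹ = D.z b) →
      a * (y * D.t * y⁻¹) = (y * D.t * y⁻¹) * a)
    {p : G} (hp : p ∈ D.P) : y⁻¹ * p * y ∈ F.A := by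
  obtain ⟨k, hk1, hk3, hk⟩ := exists_norm_one D.hq
  obtain ⟨a, haA, hodd, ha⟩ := F.tor k
  have hwN : w n k = (k : K) ^ 3 := Kernel.w_of_norm_one hk1
  have haz : ∀ b, bar n b = b → a * D.z b * a⁻¹ = D.z b := by
    intro b hb
    obtain ⟨c, hc⟩ := exists_norm D.hq hb
    obtain ⟨x, hx, rfl⟩ := D.ca_surj c
    have h1 := D.P_sq x hx
    have h2 := D.P_sq _ (ha x hx).1
    rw [(ha x hx).2, N_mul, N_w D, hk1, one_mul, hc] at h2
    rw [hc] at h1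
    calc a * D.z b * a⁻¹ = a * (x * x) * a⁻¹ := by rw [h1]
      _ = (a * x * a⁻¹) * (a * x * a⁻¹) := by group
      _ = D.z b := h2
  have hcomm := hA a haA (fun p hp => (ha p hp).1) haz
  -- the subgroup of `P` of elements in `A_d`
  have hmem : ∀ q ∈ D.P, y⁻¹ * (a * q * a⁻¹ * q⁻¹) * y ∈ F.A := fun q hq =>
    cmt_mem_A F (B := D.P) (y := y) (o := a) hP2 hP hcomm hodd (fun b hb => (ha b hb).1) hq
  have key : ∀ q ∈ D.P, ∃ b, bar n b = b ∧ y⁻¹ * (D.z b * q) * y ∈ F.A := by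
    intro q hq
    have hk3' : (k : K) ^ 3 + 1 ≠ 0 := fun h => hk3 (Field.add_eq_zero.mp h)
    obtain ⟨q', hq', hca⟩ := D.ca_surj (D.ca q * ((k : K) ^ 3 + 1)⁻¹)
    have h1 : a * q' * a⁻¹ * q'⁻¹ ∈ D.P := D.P.mul_mem (ha q' hq').1 (D.P.inv_mem hq')
    have h2 : D.ca (a * q' * a⁻¹ * q'⁻¹) = D.ca q := by
      rw [D.ca_mul _ (ha q' hq').1 _ (D.P.inv_mem hq'), ca_inv D hq', (ha q' hq').2, hwN, hca]
      field_simp
    obtain ⟨b, hb, h3⟩ := eq_z_mul D h1 hq h2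
    exact ⟨b, hb, by rw [← h3]; exact hmem q' hq'⟩
  have hz : ∀ b, bar n b = b → y⁻¹ * D.z b * y ∈ F.A := by
    intro b hb
    obtain ⟨c, hc⟩ := exists_norm D.hq hb
    obtain ⟨x, hx, rfl⟩ := D.ca_surj c
    obtain ⟨b', hb', h1⟩ := key x hx
    have h2 := F.A.mul_mem h1 h1
    have e : y⁻¹ * (D.z b' * x) * y * (y⁻¹ * (D.z b' * x) * y) = y⁻¹ * D.z b * y := by
      have h3 : (D.z b' * x) * (D.z b' * x) = D.z b := by
        rw [D.P_sq _ (mul_mem (D.z_mem _) hx), D.ca_mul _ (D.z_mem _) _ hx, D.ca_z, zero_add, hc]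
      calc _ = y⁻¹ * ((D.z b' * x) * (D.z b' * x)) * y := by group
        _ = _ := by rw [h3]
    rwa [e] at h2
  obtain ⟨b, hb, h1⟩ := key p hp
  have h2 := F.A.mul_mem (F.A.inv_mem (hz b hb)) h1
  have e : (y⁻¹ * D.z b * y)⁻¹ * (y⁻¹ * (D.z b * p) * y) = y⁻¹ * p * y := by group
  rwa [e] at h2

include F in
/-- **No element of `Z` is conjugate to `t`.** -/
theorem z_not_conj (hP2 : IsPGroup 2 ↥D.P) (b : K) (y : G) : y * D.t * y⁻¹ ≠ D.z b := by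
  intro h
  obtain ⟨c, hc, hbc⟩ := z_fixed D b
  have h' : y * D.t * y⁻¹ = D.z c := h.trans hbc
  have h1 : ∀ p ∈ D.P, y⁻¹ * p * y ∈ F.A := by
    intro p hp
    refine P_le_A_of F ?_ hP2 ?_ hp
    · intro p hp
      rw [h', ← D.Q_Z p (D.P_le hp) c]
    · intro a _ _ ha
      rw [h']
      have := ha c hc
      exact mul_inv_eq_iff_eq_mul.mp this
  have h2 := h1 (D.z c) (D.z_mem c)
  rw [← h'] at h2
  have e : y⁻¹ * (y * D.t * y⁻¹) * y = D.t := by group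
  rw [e] at h2
  exact F.t_A h2

end Cfsg.Agent.StdU3.LemC
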