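import Cfsg.Agent.StdU3.PreDef

/-!
# The group `Q = S₁` of order `2 q ^ 4` (first step of the growth, type `U₃(q)`)

Homomorphisms `a : Q → K`, `u : Q → F_q`, `e : Q → Z/2`, with common kernel `Z = z '' F_q`, and a
constant `gam ∈ F_q` such that `g ^ 2 = z (N (a g) + gam u g + e g u g)` and
`[g, k] = z (Tr (a g (a k)^q) + e g u k + e k u g)`.
-/

set_option autoImplicit false
set_option linter.unusedSectionVars false

namespace Cfsg.Agent.StdU3.LevelOne

open Cfsg.Agent.StdU3.Field Cfsg.Agent.StdU3.PreDef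

variable {G : Type*} [Group G] {K : Type*} [Field K] [Fintype K] [CharP K 2] {n : ℕ}
variable (D : Pre G K n)

/-! ### Basic facts -/

theorem z_zero : D.z 0 = 1 := by
  have h := D.z_add 0 0
  rw [add_zero] at h
  exact mul_eq_left.mp h.symm

theorem z_self (b : K) : D.z b * D.z b = 1 := by rw [← D.z_add, add_self, z_zero]

theorem z_inv (b : K) : (D.z b)⁻¹ = D.z b := by rw [inv_eq_iff_mul_eq_one, z_self]

theorem z_comm (b c : K) : D.z b * D.z c = D.z c * D.z b := by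
  rw [← D.z_add, ← D.z_add, add_comm]

theorem z_eq {b c : K} (hb : bar n b = b) (hc : bar n c = c) (h : D.z b = D.z c) : b = c := by
  have h1 : D.z (b + c) = 1 := by rw [D.z_add, h, z_self]
  exact Field.add_eq_zero.mp (D.z_inj _ (fixed_add hb hc) h1)

theorem z_fixed (b : K) : ∃ c, bar n c = c ∧ D.z b = D.z c :=
  D.exists_z _ (D.z_mem b) (D.ca_z b)

theorem ca_one : D.ca 1 = 0 := by
  have h := D.ca_mul 1 D.P.one_mem 1 D.P.one_mem
  rw [mul_one] at h
  have h2 := add_self (D.ca 1)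
  rw [← h] at h2
  exact h2

theorem ca_inv {x : G} (hx : x ∈ D.P) : D.ca x⁻¹ = D.ca x := by
  have h := D.ca_mul x hx x⁻¹ (inv_mem hx)
  rw [mul_inv_cancel, ca_one] at h
  exact (Field.add_eq_zero.mp h.symm).symm

theorem t_inv : D.t⁻¹ = D.t := by rw [inv_eq_iff_mul_eq_one, D.t_sq]

theorem z_mem_Q (b : K) : D.z b ∈ D.Q := D.P_le (D.z_mem b)

theorem t_z (b : K) : D.t * D.z b = D.z b * D.t := D.t_P _ (D.z_mem b)

theorem w_ne_zero (l : Kˣ) : w n l ≠ 0 := by
  unfold w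
  apply mul_ne_zero (pow_ne_zero _ l.ne_zero)
  apply inv_ne_zero
  intro h
  exact l.ne_zero (bar_eq_zero h)

include D in
theorem N_w (l : Kˣ) : N n (w n l) = N n (l : K) := by
  unfold w
  have hl : (l : K) ≠ 0 := l.ne_zero
  have hb : bar n (l : K) ≠ 0 := fun h => hl (bar_eq_zero h)
  rw [N_mul, N_inv, N_bar D.hq, sq, N_mul, mul_assoc, mul_inv_cancel₀ (N_ne_zero hl), mul_one]

/-- `P`: elements with the same coordinate differ by `Z`. -/
theorem eq_z_mul {x y : G} (hx : x ∈ D.P) (hy : y ∈ D.P) (h : D.ca x = D.ca y) :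
    ∃ b, bar n b = b ∧ x = D.z b * y := by
  obtain ⟨b, hb, hb'⟩ := D.exists_z (x * y⁻¹) (mul_mem hx (inv_mem hy)) (by
    rw [D.ca_mul x hx _ (inv_mem hy), ca_inv D hy, h, add_self])
  exact ⟨b, hb, by rw [← hb']; group⟩

theorem h_z (l : Kˣ) {b : K} (hb : bar n b = b) :
    D.h l * D.z b * (D.h l)⁻¹ = D.z (N n (l : K) * b) := by
  obtain ⟨a, ha⟩ := exists_norm D.hq hb
  obtain ⟨x, hx, rfl⟩ := D.ca_surj a
  have h1 := D.P_sq x hx
  have h2 := D.P_sq _ (D.h_P l x hx)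
  rw [D.h_ca l x hx, N_mul, N_w D, ha] at h2
  rw [ha] at h1
  rw [← h1, ← h2]; group

/-- commuting with an element of `P` -/
theorem P_conj {x y : G} (hx : x ∈ D.P) (hy : y ∈ D.P) :
    x * y * x⁻¹ = D.z (Tr n (D.ca x * bar n (D.ca y))) * y := by
  rw [D.P_comm x hx y hy]; group

/-! ### The homomorphism `u` -/

open Classical in
/-- `g t g⁻¹ = z (u g) t`. -/
noncomputable def u (g : G) : K :=
  if h : ∃ u, bar n u = u ∧ g * D.t * g⁻¹ = D.z u * D.t then Classical.choose h else 0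

theorem u_spec {g : G} (hg : g ∈ D.Q) :
    bar n (u D g) = u D g ∧ g * D.t * g⁻¹ = D.z (u D g) * D.t := by
  unfold u
  rw [dif_pos (D.Q_conj g hg)]
  exact Classical.choose_spec (D.Q_conj g hg)

theorem u_fixed {g : G} (hg : g ∈ D.Q) : bar n (u D g) = u D g := (u_spec D hg).1

theorem u_conj {g : G} (hg : g ∈ D.Q) : g * D.t * g⁻¹ = D.z (u D g) * D.t := (u_spec D hg).2

theorem u_eq {g : G} (hg : g ∈ D.Q) {v : K} (hv : bar n v = v)
    (h : g * D.t * g⁻¹ = D.z v * D.t) : u D g = v := by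
  have h1 := u_conj D hg
  rw [h] at h1
  exact (z_eq D hv (u_fixed D hg) (mul_right_cancel h1)).symm

theorem u_mul {g k : G} (hg : g ∈ D.Q) (hk : k ∈ D.Q) : u D (g * k) = u D g + u D k := by
  apply u_eq D (mul_mem hg hk) (fixed_add (u_fixed D hg) (u_fixed D hk))
  have h1 : g * k * D.t * (g * k)⁻¹ = g * (k * D.t * k⁻¹) * g⁻¹ := by group
  rw [h1, u_conj D hk]
  have h2 : g * (D.z (u D k) * D.t) * g⁻¹ = (g * D.z (u D k)) * D.t * g⁻¹ := by group
  rw [h2, D.Q_Z g hg]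
  have h3 : D.z (u D k) * g * D.t * g⁻¹ = D.z (u D k) * (g * D.t * g⁻¹) := by group
  rw [h3, u_conj D hg, ← mul_assoc, ← D.z_add, add_comm]

theorem u_one : u D 1 = 0 :=
  u_eq D D.Q.one_mem (bar_zero n) (by rw [z_zero]; group)

theorem u_inv {g : G} (hg : g ∈ D.Q) : u D g⁻¹ = u D g := by
  have h := u_mul D hg (inv_mem hg)
  rw [mul_inv_cancel, u_one] at h
  exact (Field.add_eq_zero.mp h.symm).symm

theorem u_t : u D D.t = 0 :=
  u_eq D D.Q_t (bar_zero n) (by rw [z_zero]; group)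

theorem u_P {x : G} (hx : x ∈ D.P) : u D x = 0 := by
  apply u_eq D (D.P_le hx) (bar_zero n)
  rw [z_zero, one_mul, ← D.t_P x hx]; group

theorem u_z (b : K) : u D (D.z b) = 0 := u_P D (D.z_mem b)

theorem u_h (l : Kˣ) {g : G} (hg : g ∈ D.Q) :
    u D (D.h l * g * (D.h l)⁻¹) = N n (l : K) * u D g := by
  apply u_eq D (D.Q_h l g hg) (fixed_mul (fixed_N D.hq _) (u_fixed D hg))
  have ht : (D.h l)⁻¹ * D.t * D.h l = D.t := by rw [mul_assoc, D.t_h]; group
  have h1 : D.h l * g * (D.h l)⁻¹ * D.t * (D.h l * g * (D.h l)⁻¹)⁻¹ =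
      D.h l * (g * ((D.h l)⁻¹ * D.t * D.h l) * g⁻¹) * (D.h l)⁻¹ := by group
  rw [h1, ht, u_conj D hg]
  have h2 : D.h l * (D.z (u D g) * D.t) * (D.h l)⁻¹ =
      (D.h l * D.z (u D g) * (D.h l)⁻¹) * (D.h l * D.t * (D.h l)⁻¹) := by group
  rw [h2, h_z D l (u_fixed D hg), ← D.t_h]
  group

theorem mem_T_of_u {g : G} (hg : g ∈ D.Q) (h : u D g = 0) : g ∈ D.P ∨ g * D.t ∈ D.P := by
  apply D.Q_T g hg
  have := u_conj D hg
  rw [h, z_zero, one_mul] at this
  exact mul_inv_eq_iff_eq_mul.mp this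

/-- `t g t⁻¹ = z (u g) g` -/
theorem t_conj {g : G} (hg : g ∈ D.Q) : D.t * g * D.t⁻¹ = D.z (u D g) * g := by
  have h := u_conj D hg
  have h1 : g * D.t = D.z (u D g) * D.t * g := by rw [← h]; group
  have h2 : D.t * g = D.z (u D g) * (g * D.t) := by
    rw [h1, ← mul_assoc, ← mul_assoc, z_self, one_mul]
  rw [h2]; group

theorem u_surj_aux {v : K} (hv : bar n v = v) : ∃ g ∈ D.Q, u D g = v := by
  obtain ⟨g, hg, h⟩ := D.Q_surj v hv
  exact ⟨g, hg, u_eq D hg hv h⟩

/-! ### Conjugation on `P` -/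

theorem conj_P_aux {g : G} (hg : g ∈ D.Q) {x : G} (hx : x ∈ D.P) :
    ∃ c, bar n c = c ∧ (g * x * g⁻¹ = D.z c * x ∨ g * x * g⁻¹ = D.z c * x * D.t) := by
  obtain ⟨y, hy, hca, h⟩ := D.Q_P g hg x hx
  obtain ⟨c, hc, rfl⟩ := eq_z_mul D hy hx hca
  exact ⟨c, hc, h⟩

theorem conj_P {g : G} (hg : g ∈ D.Q) {x : G} (hx : x ∈ D.P) :
    ∃ c, bar n c = c ∧ g * x * g⁻¹ = D.z c * x := by
  by_contra hcon
  push Not at hcon
  obtain ⟨c0, hc0, h0⟩ := conj_P_aux D hg hx
  have h0' : g * x * g⁻¹ = D.z c0 * x * D.t := h0.resolve_left (hcon c0 hc0)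
  -- the action of `g ^ 2`
  have hgg : ∀ y ∈ D.P, (g * g) * y * (g * g)⁻¹ = y ∨
      (g * g) * y * (g * g)⁻¹ = D.z (u D g) * y := by
    intro y hy
    obtain ⟨c, hc, h⟩ := conj_P_aux D hg hy
    have e2 : g * D.z c * g⁻¹ = D.z c := by rw [D.Q_Z g hg]; group
    have e3 : (g * g) * y * (g * g)⁻¹ = g * (g * y * g⁻¹) * g⁻¹ := by group
    rw [e3]
    rcases h with h | h
    · left
      have : g * (g * y * g⁻¹) * g⁻¹ = (g * D.z c * g⁻¹) * (g * y * g⁻¹) := by
        conv_lhs => rw [h]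
        group
      rw [this, e2, h, ← mul_assoc, z_self, one_mul]
    · right
      have : g * (g * y * g⁻¹) * g⁻¹ = (g * D.z c * g⁻¹) * (g * y * g⁻¹) * (g * D.t * g⁻¹) := by
        conv_lhs => rw [h]
        group
      rw [this, e2, h, u_conj D hg]
      have e4 : D.z c * (D.z c * y * D.t) * (D.z (u D g) * D.t) =
          (D.z c * D.z c) * y * ((D.t * D.z (u D g)) * D.t) := by group
      rw [e4, z_self, t_z, one_mul, mul_assoc (D.z (u D g)), D.t_sq, mul_one,
        D.Q_Z y (D.P_le hy)]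
  have hx2 : (g * g) * x * (g * g)⁻¹ = D.z (u D g) * x := by
    have e2 : g * D.z c0 * g⁻¹ = D.z c0 := by rw [D.Q_Z g hg]; group
    have e3 : (g * g) * x * (g * g)⁻¹ = (g * D.z c0 * g⁻¹) * (g * x * g⁻¹) * (g * D.t * g⁻¹) := by
      have : (g * g) * x * (g * g)⁻¹ = g * (g * x * g⁻¹) * g⁻¹ := by group
      rw [this]
      conv_lhs => rw [h0']
      group
    rw [e3, e2, h0', u_conj D hg]
    have e4 : D.z c0 * (D.z c0 * x * D.t) * (D.z (u D g) * D.t) =
        (D.z c0 * D.z c0) * x * ((D.t * D.z (u D g)) * D.t) := by group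
    rw [e4, z_self, t_z, one_mul, mul_assoc (D.z (u D g)), D.t_sq, mul_one,
      D.Q_Z x (D.P_le hx)]
  -- `g ^ 2` acts as an element of `P`
  have hu2 : u D (g * g) = 0 := by rw [u_mul D hg hg, add_self]
  obtain ⟨p, hp, hact⟩ : ∃ p ∈ D.P, ∀ y ∈ D.P, (g * g) * y * (g * g)⁻¹ =
      D.z (Tr n (D.ca p * bar n (D.ca y))) * y := by
    rcases mem_T_of_u D (mul_mem hg hg) hu2 with h | h
    · exact ⟨_, h, fun y hy => P_conj D h hy⟩
    · refine ⟨_, h, fun y hy => ?_⟩
      rw [← P_conj D h hy]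
      have : g * g * D.t * y * (g * g * D.t)⁻¹ = g * g * (D.t * y * D.t⁻¹) * (g * g)⁻¹ := by group
      rw [this, D.t_P y hy]; group
  have hp0 : D.ca p = 0 := by
    by_contra hne
    obtain ⟨l, hl, hl1⟩ := exists_fixed_ne D.hq
    have key : ∀ b, bar n b = b → b = 0 ∨ b = u D g := by
      intro b hb
      obtain ⟨y, hy⟩ := exists_Tr_eq D.hq hne hb
      obtain ⟨x', hx', rfl⟩ := D.ca_surj y
      have h1 := hact x' hx'
      rw [hy] at h1
      rcases hgg x' hx' with h2 | h2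
      · left
        rw [h1] at h2
        exact D.z_inj b hb (mul_eq_right.mp h2)
      · right
        rw [h1] at h2
        exact z_eq D hb (u_fixed D hg) (mul_right_cancel h2)
    have h1 := (key 1 (bar_one n)).resolve_left one_ne_zero
    have h2 := (key l hl).resolve_left l.ne_zero
    exact hl1 (h2.trans h1.symm)
  have hu0 : u D g = 0 := by
    have h1 := hact x hx
    rw [hp0, zero_mul, Tr_zero, z_zero, one_mul, hx2] at h1
    exact D.z_inj _ (u_fixed D hg) (mul_eq_right.mp h1)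
  rcases mem_T_of_u D hg hu0 with h | h
  · exact hcon _ (fixed_Tr D.hq _) (P_conj D h hx)
  · have h3 : g * x * g⁻¹ = D.z (Tr n (D.ca (g * D.t) * bar n (D.ca x))) * x := by
      rw [← P_conj D h hx]
      have : g * D.t * x * (g * D.t)⁻¹ = g * (D.t * x * D.t⁻¹) * g⁻¹ := by group
      rw [this, D.t_P x hx]; group
    exact hcon _ (fixed_Tr D.hq _) h3

open Classical in
/-- `g x g⁻¹ = z (β g (ca x)) x` for `x ∈ P`. -/
noncomputable def beta (g : G) (y : K) : K :=
  if h : ∃ c, bar n c = c ∧ ∀ x ∈ D.P, D.ca x = y → g * x * g⁻¹ = D.z c * x then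
    Classical.choose h else 0

theorem beta_exists {g : G} (hg : g ∈ D.Q) (y : K) :
    ∃ c, bar n c = c ∧ ∀ x ∈ D.P, D.ca x = y → g * x * g⁻¹ = D.z c * x := by
  obtain ⟨x, hx, rfl⟩ := D.ca_surj y
  obtain ⟨c, hc, h⟩ := conj_P D hg hx
  refine ⟨c, hc, fun x' hx' hca => ?_⟩
  obtain ⟨b, hb, rfl⟩ := eq_z_mul D hx' hx hca
  have : g * (D.z b * x) * g⁻¹ = (g * D.z b * g⁻¹) * (g * x * g⁻¹) := by group
  rw [this, h, D.Q_Z g hg, ← mul_assoc, ← mul_assoc, mul_assoc (D.z b), mul_inv_cancel, mul_one,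
    z_comm D b c]

theorem beta_spec {g : G} (hg : g ∈ D.Q) (y : K) :
    bar n (beta D g y) = beta D g y ∧ ∀ x ∈ D.P, D.ca x = y →
      g * x * g⁻¹ = D.z (beta D g y) * x := by
  unfold beta
  rw [dif_pos (beta_exists D hg y)]
  exact Classical.choose_spec (beta_exists D hg y)

theorem beta_conj {g : G} (hg : g ∈ D.Q) {x : G} (hx : x ∈ D.P) :
    g * x * g⁻¹ = D.z (beta D g (D.ca x)) * x := (beta_spec D hg _).2 x hx rfl

theorem beta_eq {g : G} (hg : g ∈ D.Q) {x : G} (hx : x ∈ D.P) {c : K} (hc : bar n c = c)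
    (h : g * x * g⁻¹ = D.z c * x) : beta D g (D.ca x) = c := by
  rw [beta_conj D hg hx] at h
  exact z_eq D (beta_spec D hg _).1 hc (mul_right_cancel h)

theorem beta_add {g : G} (hg : g ∈ D.Q) (y y' : K) :
    beta D g (y + y') = beta D g y + beta D g y' := by
  obtain ⟨x, hx, rfl⟩ := D.ca_surj y
  obtain ⟨x', hx', rfl⟩ := D.ca_surj y'
  rw [← D.ca_mul x hx x' hx']
  apply beta_eq D hg (mul_mem hx hx') (fixed_add (beta_spec D hg _).1 (beta_spec D hg _).1)
  have : g * (x * x') * g⁻¹ = (g * x * g⁻¹) * (g * x' * g⁻¹) := by group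
  rw [this, beta_conj D hg hx, beta_conj D hg hx', D.z_add]
  have h2 : x * D.z (beta D g (D.ca x')) = D.z (beta D g (D.ca x')) * x :=
    D.Q_Z x (D.P_le hx) _
  calc D.z (beta D g (D.ca x)) * x * (D.z (beta D g (D.ca x')) * x')
      = D.z (beta D g (D.ca x)) * (x * D.z (beta D g (D.ca x'))) * x' := by group
    _ = D.z (beta D g (D.ca x)) * D.z (beta D g (D.ca x')) * (x * x') := by rw [h2]; group

theorem beta_mul {g k : G} (hg : g ∈ D.Q) (hk : k ∈ D.Q) (y : K) :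
    beta D (g * k) y = beta D g y + beta D k y := by
  obtain ⟨x, hx, rfl⟩ := D.ca_surj y
  apply beta_eq D (mul_mem hg hk) hx (fixed_add (beta_spec D hg _).1 (beta_spec D hk _).1)
  have : g * k * x * (g * k)⁻¹ = g * (k * x * k⁻¹) * g⁻¹ := by group
  rw [this, beta_conj D hk hx]
  have h2 : g * D.z (beta D k (D.ca x)) = D.z (beta D k (D.ca x)) * g := D.Q_Z g hg _
  have : g * (D.z (beta D k (D.ca x)) * x) * g⁻¹ =
      (g * D.z (beta D k (D.ca x))) * x * g⁻¹ := by group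
  rw [this, h2]
  have : D.z (beta D k (D.ca x)) * g * x * g⁻¹ = D.z (beta D k (D.ca x)) * (g * x * g⁻¹) := by
    group
  rw [this, beta_conj D hg hx, D.z_add, ← mul_assoc, z_comm D (beta D k (D.ca x))]

theorem beta_P {p : G} (hp : p ∈ D.P) (y : K) : beta D p y = Tr n (D.ca p * bar n y) := by
  obtain ⟨x, hx, rfl⟩ := D.ca_surj y
  exact beta_eq D (D.P_le hp) hx (fixed_Tr D.hq _) (P_conj D hp hx)

theorem beta_t (y : K) : beta D D.t y = 0 := by
  obtain ⟨x, hx, rfl⟩ := D.ca_surj y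
  apply beta_eq D D.Q_t hx (bar_zero n)
  rw [D.t_P x hx, z_zero]; group

theorem beta_h (l : Kˣ) {g : G} (hg : g ∈ D.Q) (y : K) :
    beta D (D.h l * g * (D.h l)⁻¹) (w n l * y) = N n (l : K) * beta D g y := by
  obtain ⟨x, hx, rfl⟩ := D.ca_surj y
  rw [← D.h_ca l x hx]
  apply beta_eq D (D.Q_h l g hg) (D.h_P l x hx)
    (fixed_mul (fixed_N D.hq _) (beta_spec D hg _).1)
  have : D.h l * g * (D.h l)⁻¹ * (D.h l * x * (D.h l)⁻¹) * (D.h l * g * (D.h l)⁻¹)⁻¹ =
      D.h l * (g * x * g⁻¹) * (D.h l)⁻¹ := by group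
  rw [this, beta_conj D hg hx, ← h_z D l (beta_spec D hg _).1]
  group

/-- conjugation by `g ∈ Q` on `P` is inner. -/
theorem exists_inner {g : G} (hg : g ∈ D.Q) :
    ∃ c : K, ∀ y, beta D g y = Tr n (c * bar n y) := by
  obtain ⟨k, hk, hk3, -⟩ := exists_norm_one D.hq
  set kap := w n k with hkap
  have hkap1 : kap ≠ 1 := by
    intro h
    apply hk3
    have hb : bar n (k : K) ≠ 0 := fun h' => k.ne_zero (bar_eq_zero h')
    have h2 : (k : K) ^ 2 = bar n (k : K) := by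
      have := h
      rw [hkap] at this
      unfold w at this
      rw [mul_inv_eq_one₀ hb] at this
      exact this
    rw [pow_succ, h2, mul_comm]; exact hk
  set y := D.h k * g * (D.h k)⁻¹ with hy
  have hyQ : y ∈ D.Q := D.Q_h k g hg
  have hu : u D (y * g⁻¹) = 0 := by
    rw [u_mul D hyQ (inv_mem hg), u_inv D hg, hy, u_h D k hg, hk, one_mul, add_self]
  obtain ⟨p, hp, hb⟩ : ∃ p ∈ D.P, ∀ x, beta D y x = Tr n (D.ca p * bar n x) + beta D g x := by
    rcases mem_T_of_u D (mul_mem hyQ (inv_mem hg)) hu with h | h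
    · refine ⟨_, h, fun x => ?_⟩
      rw [← beta_P D h, ← beta_mul D (D.P_le h) hg]
      congr 1; group
    · refine ⟨_, h, fun x => ?_⟩
      rw [← beta_P D h, ← beta_mul D (D.P_le h) hg]
      have h1 : beta D (y * g⁻¹ * D.t * g) x = beta D (y * g⁻¹) x + beta D D.t x + beta D g x := by
        rw [beta_mul D (D.P_le h) hg, beta_mul D (mul_mem hyQ (inv_mem hg)) D.Q_t]
      rw [h1, beta_t, add_zero, ← beta_mul D (mul_mem hyQ (inv_mem hg)) hg]
      congr 1; group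
  have hkey : ∀ x, beta D g ((kap + 1) * x) = Tr n (D.ca p * bar n (kap * x)) := by
    intro x
    have h1 := beta_h D k hg x
    rw [hk, one_mul, ← hkap, ← hy, hb] at h1
    rw [add_mul, one_mul, beta_add D hg]
    have h2 : beta D g x + beta D g (kap * x) = Tr n (D.ca p * bar n (kap * x)) := by
      rw [← h1, add_assoc, add_self, add_zero]
    rw [add_comm, h2]
  have hk1 : kap + 1 ≠ 0 := fun h => hkap1 (Field.add_eq_zero.mp h)
  refine ⟨D.ca p * bar n (kap * (kap + 1)⁻¹), fun x => ?_⟩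
  have h1 := hkey ((kap + 1)⁻¹ * x)
  rw [← mul_assoc, mul_inv_cancel₀ hk1, one_mul] at h1
  rw [h1, ← mul_assoc kap, bar_mul n (kap * (kap + 1)⁻¹), mul_assoc]

open Classical in
/-- the coordinate `a : Q → K`; `a g = 0` iff `g` centralizes `P`. -/
noncomputable def a (g : G) : K :=
  if h : ∃ c : K, ∀ y, beta D g y = Tr n (c * bar n y) then Classical.choose h else 0

theorem a_spec {g : G} (hg : g ∈ D.Q) (y : K) : beta D g y = Tr n (a D g * bar n y) := by
  unfold a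
  rw [dif_pos (exists_inner D hg)]
  exact Classical.choose_spec (exists_inner D hg) y

include D in
theorem tr_inj {c c' : K} (h : ∀ y, Tr n (c * bar n y) = Tr n (c' * bar n y)) : c = c' := by
  have h1 : c + c' = 0 := by
    apply eq_zero_of_Tr D.hq
    intro y
    rw [add_mul, Tr_add, h y, add_self]
  exact Field.add_eq_zero.mp h1

theorem a_eq {g : G} (hg : g ∈ D.Q) {c : K} (h : ∀ y, beta D g y = Tr n (c * bar n y)) :
    a D g = c := tr_inj D fun y => by rw [← a_spec D hg, h]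

theorem a_mul {g k : G} (hg : g ∈ D.Q) (hk : k ∈ D.Q) : a D (g * k) = a D g + a D k := by
  apply a_eq D (mul_mem hg hk)
  intro y
  rw [beta_mul D hg hk, a_spec D hg, a_spec D hk, add_mul, Tr_add]

theorem a_one : a D 1 = 0 := by
  have h := a_mul D D.Q.one_mem D.Q.one_mem
  rw [mul_one] at h
  have h2 := add_self (a D 1)
  rw [← h] at h2
  exact h2

theorem a_inv {g : G} (hg : g ∈ D.Q) : a D g⁻¹ = a D g := by
  have h := a_mul D hg (inv_mem hg)
  rw [mul_inv_cancel, a_one] at h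
  exact (Field.add_eq_zero.mp h.symm).symm

theorem a_P {p : G} (hp : p ∈ D.P) : a D p = D.ca p :=
  a_eq D (D.P_le hp) fun y => beta_P D hp y

theorem a_t : a D D.t = 0 :=
  a_eq D D.Q_t fun y => by rw [beta_t, zero_mul, Tr_zero]

theorem a_z (b : K) : a D (D.z b) = 0 := by rw [a_P D (D.z_mem b), D.ca_z]

theorem a_h (l : Kˣ) {g : G} (hg : g ∈ D.Q) :
    a D (D.h l * g * (D.h l)⁻¹) = w n l * a D g := by
  have hw : w n l ≠ 0 := w_ne_zero l
  have hbw : bar n (w n l) ≠ 0 := fun h => hw (bar_eq_zero h)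
  have h1 : a D (D.h l * g * (D.h l)⁻¹) * bar n (w n l) = N n (l : K) * a D g := by
    apply tr_inj D
    intro y
    have h2 := beta_h D l hg y
    rw [a_spec D (D.Q_h l g hg), a_spec D hg, bar_mul] at h2
    rw [mul_assoc, h2, mul_assoc, Tr_mul_fixed (fixed_N D.hq _)]
  rw [← N_w D, N_def] at h1
  apply mul_right_cancel₀ hbw
  rw [h1]; ring

/-- elements with `a = 0` centralize `P`. -/
theorem comm_of_a {g : G} (hg : g ∈ D.Q) (ha : a D g = 0) {x : G} (hx : x ∈ D.P) :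
    g * x = x * g := by
  have h := beta_conj D hg hx
  rw [a_spec D hg, ha, zero_mul, Tr_zero, z_zero, one_mul] at h
  exact mul_inv_eq_iff_eq_mul.mp h

end Cfsg.Agent.StdU3.LevelOne
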