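import Cfsg.Agent.StdU3.LevelOne

/-!
# The coordinates of `Q = S₁` (second half)

`W` = the part of `C_Q(P)` with `e = 0`, `V = P W`, `e : Q → {0, 1} ⊆ K`,
`g ^ 2 = z (N (a g) + gam u g + e g u g)`, `[g, k] = z (Tr (a g (a k)^q) + e g u k + e k u g)`.
-/

set_option autoImplicit false
set_option linter.unusedSectionVars false

namespace Cfsg.Agent.StdU3.LevelOneW

open Cfsg.Agent.StdU3.Field Cfsg.Agent.StdU3.PreDef Cfsg.Agent.StdU3.LevelOne

variable {G : Type*} [Group G] {K : Type*} [Field K] [Fintype K] [CharP K 2] {n : ℕ}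
variable (D : Pre G K n)

theorem t_ne_z (b : K) : D.t ≠ D.z b := fun h => D.t_not (h ▸ D.z_mem b)

theorem z_of_P {x : G} (hx : x ∈ D.P) (ha : a D x = 0) : ∃ b, bar n b = b ∧ x = D.z b :=
  D.exists_z x hx (by rw [← a_P D hx, ha])

theorem z_or_zt {y : G} (hy : y ∈ D.Q) (ha : a D y = 0) (hu : u D y = 0) :
    ∃ b, bar n b = b ∧ (y = D.z b ∨ y = D.z b * D.t) := by
  rcases mem_T_of_u D hy hu with h | h
  · obtain ⟨b, hb, hb'⟩ := z_of_P D h ha
    exact ⟨b, hb, Or.inl hb'⟩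
  · obtain ⟨b, hb, hb'⟩ := z_of_P D h (by rw [a_mul D hy D.Q_t, ha, a_t, add_zero])
    refine ⟨b, hb, Or.inr ?_⟩
    rw [← hb', mul_assoc, D.t_sq, mul_one]

theorem Y_sq {y : G} (hy : y ∈ D.Q) (ha : a D y = 0) : ∃ b, bar n b = b ∧ y * y = D.z b := by
  have hyy := mul_mem hy hy
  have ha2 : a D (y * y) = 0 := by rw [a_mul D hy hy, ha, add_zero]
  have hu2 : u D (y * y) = 0 := by rw [u_mul D hy hy, add_self]
  obtain ⟨b, hb, h | h⟩ := z_or_zt D hyy ha2 hu2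
  · exact ⟨b, hb, h⟩
  · exfalso
    have h1 : y * D.t = D.t * y := by
      have h2 : y * (D.z b * D.t) = (D.z b * D.t) * y := by rw [← h]; group
      have h3 : D.z b * (y * D.t) = D.z b * (D.t * y) := by
        rw [← mul_assoc, ← D.Q_Z y hy, mul_assoc, h2, mul_assoc]
      exact mul_left_cancel h3
    have hu : u D y = 0 := u_eq D hy (bar_zero n) (by rw [z_zero, one_mul, h1]; group)
    have hyy1 : y * y = 1 := by
      obtain ⟨c, hc, h4 | h4⟩ := z_or_zt D hy ha hu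
      · rw [h4, z_self]
      · rw [h4]
        have : D.z c * D.t * (D.z c * D.t) = D.z c * (D.t * D.z c) * D.t := by group
        rw [this, t_z, ← mul_assoc, z_self, one_mul, D.t_sq]
    rw [hyy1] at h
    apply t_ne_z D b
    rw [← mul_right_inj (D.z b), ← h, z_self]

theorem comm_of_sq {x y : G} (hx : x ∈ D.Q) (hy : y ∈ D.Q) {s s1 s2 : K}
    (h1 : x * x = D.z s1) (h2 : y * y = D.z s2) (h : x * y * (x * y) = D.z s) :
    x * y = D.z (s + s1 + s2) * (y * x) := by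
  have hx' : x⁻¹ = D.z s1 * x := by
    rw [inv_eq_iff_mul_eq_one, ← D.Q_Z x hx, ← mul_assoc, h1, z_self]
  have hy' : y⁻¹ = D.z s2 * y := by
    rw [inv_eq_iff_mul_eq_one, ← D.Q_Z y hy, ← mul_assoc, h2, z_self]
  have h3 : x * y = D.z s * (y⁻¹ * x⁻¹) := by rw [← h]; group
  rw [h3, hx', hy', D.z_add, D.z_add]
  have h4 : D.z s2 * y * (D.z s1 * x) = D.z s2 * (y * D.z s1) * x := by group
  rw [h4, D.Q_Z y hy, z_comm D s, mul_assoc (D.z s1 * D.z s)]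
  have h5 : D.z s2 * (D.z s1 * y) * x = D.z s2 * D.z s1 * (y * x) := by group
  have h6 : D.z s1 * D.z s * (D.z s2 * (y * x)) = D.z s1 * (D.z s * (D.z s2 * (y * x))) := by
    group
  rw [h5, h6, z_comm D s2 s1]
  have h7 : D.z s * (D.z s1 * D.z s2 * (y * x)) = (D.z s * D.z s1) * (D.z s2 * (y * x)) := by
    group
  rw [h7, z_comm D s s1]; group

theorem Y_comm {x y : G} (hx : x ∈ D.Q) (ax : a D x = 0) (hy : y ∈ D.Q) (ay : a D y = 0) :
    ∃ b, bar n b = b ∧ x * y = D.z b * (y * x) := by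
  obtain ⟨s1, hs1, h1⟩ := Y_sq D hx ax
  obtain ⟨s2, hs2, h2⟩ := Y_sq D hy ay
  obtain ⟨s, hs, h⟩ := Y_sq D (mul_mem hx hy) (by rw [a_mul D hx hy, ax, ay, add_zero])
  exact ⟨_, fixed_add (fixed_add hs hs1) hs2, comm_of_sq D hx hy h1 h2 h⟩

theorem Y_surj {v : K} (hv : bar n v = v) : ∃ y ∈ D.Q, a D y = 0 ∧ u D y = v := by
  obtain ⟨g, hg, hgu⟩ := u_surj_aux D hv
  obtain ⟨p, hp, hpa⟩ := D.ca_surj (a D g)
  have hpQ := D.P_le hp
  refine ⟨p⁻¹ * g, mul_mem (inv_mem hpQ) hg, ?_, ?_⟩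
  · rw [a_mul D (inv_mem hpQ) hg, a_inv D hpQ, a_P D hp, hpa, add_self]
  · rw [u_mul D (inv_mem hpQ) hg, u_inv D hpQ, u_P D hp, hgu, zero_add]

/-! ### The subgroup `W` -/

/-- a fixed non-trivial element of `F_q^*`. -/
noncomputable def l1 : Kˣ := Classical.choose (exists_fixed_ne D.hq)

theorem l1_fixed : bar n (l1 D : K) = l1 D := (Classical.choose_spec (exists_fixed_ne D.hq)).1

theorem l1_ne : (l1 D : K) ≠ 1 := (Classical.choose_spec (exists_fixed_ne D.hq)).2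

theorem N_l1 : N n (l1 D : K) + 1 ≠ 0 := by
  intro h
  have h1 : N n (l1 D : K) = 1 := Field.add_eq_zero.mp h
  rw [N_of_fixed (l1_fixed D)] at h1
  apply l1_ne D
  have h2 : ((l1 D : K) + 1) ^ 2 = 0 := by
    rw [add_sq, h1, one_pow, mul_one, add_comm (1 : K), add_assoc, add_self, add_zero]
    have : (2 : K) = 0 := CharTwo.two_eq_zero
    rw [this, zero_mul]
  have h3 : (l1 D : K) + 1 = 0 := by
    simpa using pow_eq_zero_iff (n := 2) (by norm_num) |>.mp h2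
  exact Field.add_eq_zero.mp h3

/-- `W = [Y, h l1] Z`. -/
noncomputable def W : Subgroup G where
  carrier := {y | ∃ v ∈ D.Q, a D v = 0 ∧
    ∃ b, y = D.z b * (D.h (l1 D) * v * (D.h (l1 D))⁻¹ * v⁻¹)}
  one_mem' := ⟨1, D.Q.one_mem, a_one D, 0, by rw [z_zero]; group⟩
  mul_mem' := by
    rintro y1 y2 ⟨v1, hv1, av1, b1, rfl⟩ ⟨v2, hv2, av2, b2, rfl⟩
    set h1 := D.h (l1 D) with hh1
    have hB : h1 * v2 * h1⁻¹ * v2⁻¹ ∈ D.Q := mul_mem (D.Q_h _ _ hv2) (inv_mem hv2)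
    have aB : a D (h1 * v2 * h1⁻¹ * v2⁻¹) = 0 := by
      rw [a_mul D (D.Q_h _ _ hv2) (inv_mem hv2), a_h D _ hv2, a_inv D hv2, av2, mul_zero, add_zero]
    obtain ⟨c, hc, hcomm⟩ := Y_comm D (inv_mem hv1) (by rw [a_inv D hv1, av1]) hB aB
    refine ⟨v1 * v2, mul_mem hv1 hv2, by rw [a_mul D hv1 hv2, av1, av2, add_zero],
      b1 + b2 + c, ?_⟩
    have hz : ∀ g ∈ D.Q, ∀ b, g * D.z b = D.z b * g := D.Q_Z
    have hA : h1 * v1 * h1⁻¹ ∈ D.Q := D.Q_h _ _ hv1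
    calc D.z b1 * (h1 * v1 * h1⁻¹ * v1⁻¹) * (D.z b2 * (h1 * v2 * h1⁻¹ * v2⁻¹))
        = D.z b1 * (((h1 * v1 * h1⁻¹ * v1⁻¹) * D.z b2) * (h1 * v2 * h1⁻¹ * v2⁻¹)) := by group
      _ = D.z b1 * (D.z b2 * (h1 * v1 * h1⁻¹ * v1⁻¹) * (h1 * v2 * h1⁻¹ * v2⁻¹)) := by
          rw [hz _ (mul_mem hA (inv_mem hv1))]
      _ = D.z b1 * D.z b2 * (h1 * v1 * h1⁻¹ * (v1⁻¹ * (h1 * v2 * h1⁻¹ * v2⁻¹))) := by group
      _ = D.z b1 * D.z b2 * ((h1 * v1 * h1⁻¹ * D.z c) * ((h1 * v2 * h1⁻¹ * v2⁻¹) * v1⁻¹)) := by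
          rw [hcomm]; group
      _ = D.z b1 * D.z b2 * ((D.z c * (h1 * v1 * h1⁻¹)) * ((h1 * v2 * h1⁻¹ * v2⁻¹) * v1⁻¹)) := by
          rw [hz _ hA]
      _ = D.z b1 * D.z b2 * D.z c * (h1 * (v1 * v2) * h1⁻¹ * (v1 * v2)⁻¹) := by group
      _ = _ := by rw [D.z_add, D.z_add]
  inv_mem' := by
    rintro y ⟨v, hv, av, b, rfl⟩
    set h1 := D.h (l1 D) with hh1
    set y := D.z b * (h1 * v * h1⁻¹ * v⁻¹) with hy
    have hyQ : y ∈ D.Q := mul_mem (z_mem_Q D b) (mul_mem (D.Q_h _ _ hv) (inv_mem hv))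
    have ay : a D y = 0 := by
      rw [hy, a_mul D (z_mem_Q D b) (mul_mem (D.Q_h _ _ hv) (inv_mem hv)), a_z,
        a_mul D (D.Q_h _ _ hv) (inv_mem hv), a_h D _ hv, a_inv D hv, av, mul_zero, add_zero,
        add_zero]
    obtain ⟨s, hs, h⟩ := Y_sq D hyQ ay
    refine ⟨v, hv, av, s + b, ?_⟩
    have h2 : y⁻¹ = D.z s * y := by
      rw [inv_eq_iff_mul_eq_one, ← D.Q_Z y hyQ, ← mul_assoc, h, z_self]
    rw [h2, hy, D.z_add]; group

theorem z_mem_W (b : K) : D.z b ∈ W D :=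
  ⟨1, D.Q.one_mem, a_one D, b, by group⟩

theorem W_le {y : G} (hy : y ∈ W D) : y ∈ D.Q := by
  obtain ⟨v, hv, av, b, rfl⟩ := hy
  exact mul_mem (z_mem_Q D b) (mul_mem (D.Q_h _ _ hv) (inv_mem hv))

theorem W_le' : W D ≤ D.Q := fun _ hy => W_le D hy

theorem a_W {y : G} (hy : y ∈ W D) : a D y = 0 := by
  obtain ⟨v, hv, av, b, rfl⟩ := hy
  rw [a_mul D (z_mem_Q D b) (mul_mem (D.Q_h _ _ hv) (inv_mem hv)), a_z,
    a_mul D (D.Q_h _ _ hv) (inv_mem hv), a_h D _ hv, a_inv D hv, av, mul_zero, add_zero, add_zero]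

theorem h_z' (l : Kˣ) (b : K) : ∃ c, bar n c = c ∧ D.h l * D.z b * (D.h l)⁻¹ = D.z c := by
  obtain ⟨c, hc, h⟩ := z_fixed D b
  exact ⟨_, fixed_mul (fixed_N D.hq _) hc, by rw [h, h_z D l hc]⟩

theorem z_of_W {y : G} (hy : y ∈ W D) (hu : u D y = 0) : ∃ b, bar n b = b ∧ y = D.z b := by
  obtain ⟨v, hv, av, b, rfl⟩ := hy
  have h1 : (N n (l1 D : K) + 1) * u D v = 0 := by
    rw [u_mul D (z_mem_Q D b) (mul_mem (D.Q_h _ _ hv) (inv_mem hv)), u_z,
      u_mul D (D.Q_h _ _ hv) (inv_mem hv), u_h D _ hv, u_inv D hv, zero_add] at hu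
    rw [← hu]; ring
  have huv : u D v = 0 := (mul_eq_zero.mp h1).resolve_left (N_l1 D)
  obtain ⟨c, hc, h | h⟩ := z_or_zt D hv av huv
  · obtain ⟨c', hc', h'⟩ := h_z' D (l1 D) c
    rw [h, h', z_inv, ← D.z_add, ← D.z_add]
    exact z_fixed D _
  · obtain ⟨c', hc', h'⟩ := h_z' D (l1 D) c
    have h2 : D.h (l1 D) * v * (D.h (l1 D))⁻¹ * v⁻¹ = D.z c' * (D.z c)⁻¹ := by
      rw [h]
      have e1 : D.h (l1 D) * (D.z c * D.t) * (D.h (l1 D))⁻¹ * (D.z c * D.t)⁻¹ =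
        (D.h (l1 D) * D.z c * (D.h (l1 D))⁻¹) * (D.h (l1 D) * D.t * (D.h (l1 D))⁻¹) *
          (D.z c * D.t)⁻¹ := by group
      rw [e1, h', ← D.t_h]; group
    rw [h2, z_inv, ← D.z_add, ← D.z_add]
    exact z_fixed D _

theorem t_not_W : D.t ∉ W D := by
  intro h
  obtain ⟨b, -, hb⟩ := z_of_W D h (u_t D)
  exact t_ne_z D b hb

theorem W_surj {v : K} (hv : bar n v = v) : ∃ y ∈ W D, u D y = v := by
  have hN : bar n (N n (l1 D : K) + 1) = N n (l1 D : K) + 1 :=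
    fixed_add (fixed_N D.hq _) (bar_one n)
  obtain ⟨y, hy, ay, uy⟩ := Y_surj D (fixed_mul hv (fixed_inv hN))
  refine ⟨D.z 0 * (D.h (l1 D) * y * (D.h (l1 D))⁻¹ * y⁻¹), ⟨y, hy, ay, 0, rfl⟩, ?_⟩
  rw [u_mul D (z_mem_Q D 0) (mul_mem (D.Q_h _ _ hy) (inv_mem hy)), u_z,
    u_mul D (D.Q_h _ _ hy) (inv_mem hy), u_h D _ hy, u_inv D hy, zero_add, uy]
  have h0 := N_l1 D
  field_simp

theorem W_or {y : G} (hy : y ∈ D.Q) (ay : a D y = 0) : y ∈ W D ∨ y * D.t ∈ W D := by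
  obtain ⟨w, hw, uw⟩ := W_surj D (u_fixed D hy)
  have hwQ := W_le D hw
  obtain ⟨b, hb, h | h⟩ := z_or_zt D (mul_mem hy (inv_mem hwQ))
    (by rw [a_mul D hy (inv_mem hwQ), a_inv D hwQ, ay, a_W D hw, add_zero])
    (by rw [u_mul D hy (inv_mem hwQ), u_inv D hwQ, uw, add_self])
  · left
    rw [mul_inv_eq_iff_eq_mul.mp h]
    exact mul_mem (z_mem_W D b) hw
  · right
    rw [mul_inv_eq_iff_eq_mul.mp h]
    have e1 : D.z b * D.t * w * D.t = D.z b * (D.t * w * D.t⁻¹) := by rw [t_inv]; group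
    rw [e1, t_conj D hwQ]
    exact mul_mem (z_mem_W D b) (mul_mem (z_mem_W D _) hw)

theorem W_h (l : Kˣ) {y : G} (hy : y ∈ W D) : D.h l * y * (D.h l)⁻¹ ∈ W D := by
  obtain ⟨v, hv, av, b, rfl⟩ := hy
  obtain ⟨c, hc, h⟩ := h_z' D l b
  refine ⟨D.h l * v * (D.h l)⁻¹, D.Q_h l v hv, by rw [a_h D l hv, av, mul_zero], c, ?_⟩
  have e1 : D.h l * (D.h (l1 D) * v * (D.h (l1 D))⁻¹) * (D.h l)⁻¹ =
      D.h (l1 D) * (D.h l * v * (D.h l)⁻¹) * (D.h (l1 D))⁻¹ := by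
    rw [← D.h_mul _ _ v hv, ← D.h_mul _ _ v hv, mul_comm]
  have e2 : D.h l * (D.z b * (D.h (l1 D) * v * (D.h (l1 D))⁻¹ * v⁻¹)) * (D.h l)⁻¹ =
      (D.h l * D.z b * (D.h l)⁻¹) * (D.h l * (D.h (l1 D) * v * (D.h (l1 D))⁻¹) * (D.h l)⁻¹) *
      (D.h l * v * (D.h l)⁻¹)⁻¹ := by group
  rw [e2, e1, h]; group

/-! ### The constant `gam` -/

theorem exists_gam : ∃ c : K, bar n c = c ∧ ∀ y ∈ W D, y * y = D.z (c * u D y) := by
  obtain ⟨y1, hy1, uy1⟩ := W_surj D (bar_one n)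
  obtain ⟨c, hc, hcc⟩ := Y_sq D (W_le D hy1) (a_W D hy1)
  refine ⟨c, hc, fun y hy => ?_⟩
  by_cases h0 : u D y = 0
  · obtain ⟨b, hb, rfl⟩ := z_of_W D hy h0
    rw [h0, mul_zero, z_zero, z_self]
  · obtain ⟨x, hx⟩ := exists_norm D.hq (u_fixed D (W_le D hy))
    have hx0 : x ≠ 0 := by
      rintro rfl
      rw [N_zero] at hx
      exact h0 hx.symm
    set l := Units.mk0 x hx0 with hl
    have hlx : (l : K) = x := rfl
    have hy' := W_h D l hy1
    have hyQ := W_le D hy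
    have hyQ' := W_le D hy'
    obtain ⟨b, hb, h⟩ := z_of_W D (mul_mem hy (inv_mem hy')) (by
      rw [u_mul D hyQ (inv_mem hyQ'), u_inv D hyQ', u_h D l (W_le D hy1), uy1, mul_one, hlx, hx,
        add_self])
    have h1 := mul_inv_eq_iff_eq_mul.mp h
    have h2 : y * y = D.h l * (y1 * y1) * (D.h l)⁻¹ := by
      rw [h1]
      have : D.z b * (D.h l * y1 * (D.h l)⁻¹) * (D.z b * (D.h l * y1 * (D.h l)⁻¹)) =
        D.z b * ((D.h l * y1 * (D.h l)⁻¹) * D.z b) * (D.h l * y1 * (D.h l)⁻¹) := by group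
      rw [this, D.Q_Z _ hyQ', ← mul_assoc (D.z b) (D.z b), z_self]; group
    rw [h2, hcc, h_z D l hc, hlx, hx, mul_comm]

/-- the constant of the square map on `W`. -/
noncomputable def gam : K := Classical.choose (exists_gam D)

theorem gam_fixed : bar n (gam D) = gam D := (Classical.choose_spec (exists_gam D)).1

theorem W_sq {y : G} (hy : y ∈ W D) : y * y = D.z (gam D * u D y) :=
  (Classical.choose_spec (exists_gam D)).2 y hy

theorem W_comm {x y : G} (hx : x ∈ W D) (hy : y ∈ W D) : x * y = y * x := by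
  have hxQ := W_le D hx
  have hyQ := W_le D hy
  have h := comm_of_sq D hxQ hyQ (W_sq D hx) (W_sq D hy) (W_sq D (mul_mem hx hy))
  rw [u_mul D hxQ hyQ] at h
  have h2 : gam D * (u D x + u D y) + gam D * u D x + gam D * u D y = 0 := by
    rw [mul_add, add_assoc, add_self]
  rw [h2, z_zero, one_mul] at h
  exact h

theorem P_W_comm {x y : G} (hx : x ∈ D.P) (hy : y ∈ W D) : x * y = y * x :=
  (comm_of_a D (W_le D hy) (a_W D hy) hx).symm

/-! ### The subgroup `V = P W` and the homomorphism `e` -/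

/-- `V = P W`. -/
noncomputable def V : Subgroup G where
  carrier := {g | ∃ x ∈ D.P, ∃ y ∈ W D, g = x * y}
  one_mem' := ⟨1, D.P.one_mem, 1, (W D).one_mem, by rw [mul_one]⟩
  mul_mem' := by
    rintro g k ⟨x, hx, y, hy, rfl⟩ ⟨x', hx', y', hy', rfl⟩
    refine ⟨x * x', mul_mem hx hx', y * y', mul_mem hy hy', ?_⟩
    have : x * y * (x' * y') = x * (y * x') * y' := by group
    rw [this, ← P_W_comm D hx' hy]; group
  inv_mem' := by
    rintro g ⟨x, hx, y, hy, rfl⟩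
    refine ⟨x⁻¹, inv_mem hx, y⁻¹, inv_mem hy, ?_⟩
    rw [P_W_comm D (inv_mem hx) (inv_mem hy), mul_inv_rev]

theorem V_le : V D ≤ D.Q := by
  rintro g ⟨x, hx, y, hy, rfl⟩
  exact mul_mem (D.P_le hx) (W_le D hy)

theorem P_le_V : D.P ≤ V D := fun x hx => ⟨x, hx, 1, (W D).one_mem, by rw [mul_one]⟩

theorem W_le_V : W D ≤ V D := fun y hy => ⟨1, D.P.one_mem, y, hy, by rw [one_mul]⟩

theorem V_or {g : G} (hg : g ∈ D.Q) : g ∈ V D ∨ g * D.t ∈ V D := by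
  obtain ⟨p, hp, hpa⟩ := D.ca_surj (a D g)
  have hpQ := D.P_le hp
  rcases W_or D (mul_mem (inv_mem hpQ) hg)
    (by rw [a_mul D (inv_mem hpQ) hg, a_inv D hpQ, a_P D hp, hpa, add_self]) with h | h
  · left
    exact ⟨p, hp, _, h, by group⟩
  · right
    exact ⟨p, hp, _, h, by group⟩

theorem t_not_V : D.t ∉ V D := by
  rintro ⟨x, hx, y, hy, h⟩
  have h1 : u D y = 0 := by
    have h2 := u_t D
    rw [h, u_mul D (D.P_le hx) (W_le D hy), u_P D hx, zero_add] at h2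
    exact h2
  obtain ⟨b, -, hb⟩ := z_of_W D hy h1
  apply D.t_not
  rw [h, hb]
  exact mul_mem hx (D.z_mem b)

theorem V_h (l : Kˣ) {g : G} (hg : g ∈ V D) : D.h l * g * (D.h l)⁻¹ ∈ V D := by
  obtain ⟨x, hx, y, hy, rfl⟩ := hg
  exact ⟨_, D.h_P l x hx, _, W_h D l hy, by group⟩

theorem V_t {g : G} (hg : g ∈ V D) : D.t * g * D.t⁻¹ ∈ V D := by
  rw [t_conj D (V_le D hg)]
  exact mul_mem (P_le_V D (D.z_mem _)) hg

open Classical in
/-- `e : Q → {0, 1} ⊆ K`, kernel `V`. -/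
noncomputable def e (g : G) : K := if g ∈ V D then 0 else 1

theorem e_zero {g : G} (hg : g ∈ V D) : e D g = 0 := by unfold e; rw [if_pos hg]

theorem e_one' {g : G} (hg : g ∉ V D) : e D g = 1 := by unfold e; rw [if_neg hg]

theorem e_cases (g : G) : (e D g = 0 ∧ g ∈ V D) ∨ (e D g = 1 ∧ g ∉ V D) := by
  by_cases h : g ∈ V D
  · exact Or.inl ⟨e_zero D h, h⟩
  · exact Or.inr ⟨e_one' D h, h⟩

theorem e_eq_zero_iff {g : G} : e D g = 0 ↔ g ∈ V D := by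
  rcases e_cases D g with ⟨h1, h2⟩ | ⟨h1, h2⟩
  · exact ⟨fun _ => h2, fun _ => h1⟩
  · exact ⟨fun h => absurd (h1.symm.trans h) one_ne_zero, fun h => absurd h h2⟩

theorem e_fixed (g : G) : bar n (e D g) = e D g := by
  rcases e_cases D g with ⟨h1, h2⟩ | ⟨h1, h2⟩
  · rw [h1, bar_zero]
  · rw [h1, bar_one]

theorem V_of_not {g : G} (hg : g ∈ D.Q) (h : g ∉ V D) : g * D.t ∈ V D :=
  (V_or D hg).resolve_left h

theorem e_mul {g k : G} (hg : g ∈ D.Q) (hk : k ∈ D.Q) : e D (g * k) = e D g + e D k := by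
  rcases e_cases D g with ⟨h1, h2⟩ | ⟨h1, h2⟩ <;> rcases e_cases D k with ⟨h3, h4⟩ | ⟨h3, h4⟩
  · rw [h1, h3, add_zero, e_zero D (mul_mem h2 h4)]
  · rw [h1, h3, zero_add]
    apply e_one'
    intro h
    apply h4
    have := mul_mem (inv_mem h2) h
    rwa [← mul_assoc, inv_mul_cancel, one_mul] at this
  · rw [h1, h3, add_zero]
    apply e_one'
    intro h
    apply h2
    have := mul_mem h (inv_mem h4)
    rwa [mul_assoc, mul_inv_cancel, mul_one] at this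
  · rw [h1, h3, add_self]
    apply e_zero
    have h5 := V_of_not D hg h2
    have h6 := V_of_not D hk h4
    have h7 := mul_mem h5 (V_t D h6)
    have h8 : g * D.t * (D.t * (k * D.t) * D.t⁻¹) = g * (D.t * D.t) * k := by
      rw [show g * D.t * (D.t * (k * D.t) * D.t⁻¹) = g * (D.t * D.t) * k by group]
    rw [h8, D.t_sq, mul_one] at h7
    exact h7

theorem e_one : e D 1 = 0 := e_zero D (V D).one_mem

theorem e_inv {g : G} (hg : g ∈ D.Q) : e D g⁻¹ = e D g := by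
  have h := e_mul D hg (inv_mem hg)
  rw [mul_inv_cancel, e_one] at h
  exact (Field.add_eq_zero.mp h.symm).symm

theorem e_t : e D D.t = 1 := e_one' D (t_not_V D)

theorem e_P {x : G} (hx : x ∈ D.P) : e D x = 0 := e_zero D (P_le_V D hx)

theorem e_W {x : G} (hx : x ∈ W D) : e D x = 0 := e_zero D (W_le_V D hx)

theorem e_z (b : K) : e D (D.z b) = 0 := e_P D (D.z_mem b)

theorem e_h (l : Kˣ) {g : G} (hg : g ∈ D.Q) : e D (D.h l * g * (D.h l)⁻¹) = e D g := by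
  rcases e_cases D g with ⟨h1, h2⟩ | ⟨h1, h2⟩
  · rw [h1, e_zero D (V_h D l h2)]
  · have h3 := V_h D l (V_of_not D hg h2)
    have h4 : D.h l * (g * D.t) * (D.h l)⁻¹ = D.h l * g * (D.h l)⁻¹ * D.t := by
      have : D.h l * (g * D.t) * (D.h l)⁻¹ = D.h l * g * (D.h l)⁻¹ * (D.h l * D.t * (D.h l)⁻¹) := by
        group
      rw [this, ← D.t_h]; group
    rw [h4] at h3
    have h5 := e_mul D (D.Q_h l g hg) D.Q_t
    rw [e_zero D h3, e_t] at h5
    rw [h1, Field.add_eq_zero.mp h5.symm]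

/-! ### The structure of `Q` -/

/-- decomposition of the elements of `Q` -/
theorem exists_decomp {g : G} (hg : g ∈ D.Q) :
    ∃ x ∈ D.P, ∃ y ∈ D.Q, g = x * y ∧ D.ca x = a D g ∧ a D y = 0 ∧ u D y = u D g ∧
      e D y = e D g ∧ (y ∈ W D ∧ e D g = 0 ∨ y * D.t ∈ W D ∧ e D g = 1) := by
  obtain ⟨p, hp, hpa⟩ := D.ca_surj (a D g)
  have hpQ := D.P_le hp
  have hy : p⁻¹ * g ∈ D.Q := mul_mem (inv_mem hpQ) hg
  have ay : a D (p⁻¹ * g) = 0 := by
    rw [a_mul D (inv_mem hpQ) hg, a_inv D hpQ, a_P D hp, hpa, add_self]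
  have ey : e D (p⁻¹ * g) = e D g := by
    rw [e_mul D (inv_mem hpQ) hg, e_inv D hpQ, e_P D hp, zero_add]
  refine ⟨p, hp, p⁻¹ * g, hy, by group, hpa, ay, ?_, ey, ?_⟩
  · rw [u_mul D (inv_mem hpQ) hg, u_inv D hpQ, u_P D hp, zero_add]
  · rcases W_or D hy ay with h | h
    · left
      refine ⟨h, ?_⟩
      rw [← ey, e_W D h]
    · right
      refine ⟨h, ?_⟩
      have h1 := e_W D h
      rw [e_mul D hy D.Q_t, e_t] at h1
      rw [← ey]
      exact Field.add_eq_zero.mp h1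

theorem Y_sq_eq {y : G} (hy : y ∈ D.Q) (ay : a D y = 0) :
    y * y = D.z (gam D * u D y + e D y * u D y) := by
  rcases W_or D hy ay with h | h
  · rw [W_sq D h, e_W D h, zero_mul, add_zero]
  · have h1 := e_W D h
    rw [e_mul D hy D.Q_t, e_t] at h1
    have h2 : e D y = 1 := Field.add_eq_zero.mp h1
    rw [h2, one_mul]
    have h3 := W_sq D h
    rw [u_mul D hy D.Q_t, u_t, add_zero] at h3
    have h4 : y * D.t * (y * D.t) = y * (D.t * y * D.t⁻¹) := by rw [t_inv]; group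
    rw [h4, t_conj D hy, ← mul_assoc, D.Q_Z y hy, mul_assoc] at h3
    have h5 : D.z (u D y) * (D.z (u D y) * (y * y)) = D.z (u D y) * D.z (gam D * u D y) := by
      rw [h3]
    rw [← mul_assoc, z_self, one_mul, ← D.z_add, add_comm] at h5
    exact h5

theorem Y_comm_eq {x y : G} (hx : x ∈ D.Q) (ax : a D x = 0) (hy : y ∈ D.Q) (ay : a D y = 0) :
    x * y = D.z (e D x * u D y + e D y * u D x) * (y * x) := by
  have h := comm_of_sq D hx hy (Y_sq_eq D hx ax) (Y_sq_eq D hy ay)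
    (Y_sq_eq D (mul_mem hx hy) (by rw [a_mul D hx hy, ax, ay, add_zero]))
  rw [u_mul D hx hy, e_mul D hx hy] at h
  have h2 : gam D * (u D x + u D y) + (e D x + e D y) * (u D x + u D y) +
      (gam D * u D x + e D x * u D x) + (gam D * u D y + e D y * u D y) =
      e D x * u D y + e D y * u D x := by
    have h3 : gam D * (u D x + u D y) + (e D x + e D y) * (u D x + u D y) +
      (gam D * u D x + e D x * u D x) + (gam D * u D y + e D y * u D y) =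
      e D x * u D y + e D y * u D x + ((gam D * u D x + e D x * u D x) +
        (gam D * u D x + e D x * u D x)) + ((gam D * u D y + e D y * u D y) +
        (gam D * u D y + e D y * u D y)) := by ring
    rw [h3, add_self, add_self, add_zero, add_zero]
  rw [h2] at h
  exact h

theorem sq_eq {g : G} (hg : g ∈ D.Q) :
    g * g = D.z (N n (a D g) + gam D * u D g + e D g * u D g) := by
  obtain ⟨x, hx, y, hy, rfl, hxa, ay, uy, ey, -⟩ := exists_decomp D hg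
  have h1 : x * y * (x * y) = (x * x) * (y * y) := by
    have : x * y * (x * y) = x * (y * x) * y := by group
    rw [this, comm_of_a D hy ay hx]; group
  rw [← uy, ← ey, ← hxa, h1, D.P_sq x hx, Y_sq_eq D hy ay, ← D.z_add, add_assoc (N n (D.ca x))]

theorem comm_eq {g k : G} (hg : g ∈ D.Q) (hk : k ∈ D.Q) :
    g * k = D.z (Tr n (a D g * bar n (a D k)) + (e D g * u D k + e D k * u D g)) * (k * g) := by
  obtain ⟨x, hx, y, hy, rfl, hxa, ay, uy, ey, -⟩ := exists_decomp D hg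
  obtain ⟨x', hx', y', hy', rfl, hxa', ay', uy', ey', -⟩ := exists_decomp D hk
  rw [← uy, ← ey, ← hxa, ← uy', ← ey', ← hxa', D.z_add]
  have h1 := D.P_comm x hx x' hx'
  have h2 := Y_comm_eq D hy ay hy' ay'
  have c1 : y * x' = x' * y := comm_of_a D hy ay hx'
  have c2 : y' * x = x * y' := comm_of_a D hy' ay' hx
  set c := Tr n (D.ca x * bar n (D.ca x')) with hc
  set d := e D y * u D y' + e D y' * u D y with hd
  have hz : (x' * x) * D.z d = D.z d * (x' * x) :=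
    D.Q_Z _ (D.P_le (mul_mem hx' hx)) _
  calc x * y * (x' * y') = x * (y * x') * y' := by group
    _ = (x * x') * (y * y') := by rw [c1]; group
    _ = D.z c * ((x' * x) * D.z d) * (y' * y) := by rw [h1, h2]; group
    _ = D.z c * D.z d * (x' * (x * y') * y) := by rw [hz]; group
    _ = D.z c * D.z d * (x' * y' * (x * y)) := by rw [← c2]; group

theorem ker_eq {g : G} (hg : g ∈ D.Q) (ha : a D g = 0) (hu : u D g = 0) (he : e D g = 0) :
    ∃ b, bar n b = b ∧ g = D.z b := by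
  obtain ⟨b, hb, h | h⟩ := z_or_zt D hg ha hu
  · exact ⟨b, hb, h⟩
  · exfalso
    rw [h, e_mul D (z_mem_Q D b) D.Q_t, e_z, e_t, zero_add] at he
    exact one_ne_zero he

theorem surj {a0 u0 e0 : K} (hu0 : bar n u0 = u0) (he0 : e0 = 0 ∨ e0 = 1) :
    ∃ g ∈ D.Q, a D g = a0 ∧ u D g = u0 ∧ e D g = e0 := by
  obtain ⟨p, hp, rfl⟩ := D.ca_surj a0
  obtain ⟨y, hy, rfl⟩ := W_surj D hu0
  have hpQ := D.P_le hp
  have hyQ := W_le D hy
  rcases he0 with rfl | rfl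
  · refine ⟨p * y, mul_mem hpQ hyQ, ?_, ?_, ?_⟩
    · rw [a_mul D hpQ hyQ, a_P D hp, a_W D hy, add_zero]
    · rw [u_mul D hpQ hyQ, u_P D hp, zero_add]
    · rw [e_mul D hpQ hyQ, e_P D hp, e_W D hy, add_zero]
  · refine ⟨p * y * D.t, mul_mem (mul_mem hpQ hyQ) D.Q_t, ?_, ?_, ?_⟩
    · rw [a_mul D (mul_mem hpQ hyQ) D.Q_t, a_mul D hpQ hyQ, a_P D hp, a_W D hy, a_t, add_zero,
        add_zero]
    · rw [u_mul D (mul_mem hpQ hyQ) D.Q_t, u_mul D hpQ hyQ, u_P D hp, u_t, zero_add, add_zero]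
    · rw [e_mul D (mul_mem hpQ hyQ) D.Q_t, e_mul D hpQ hyQ, e_P D hp, e_W D hy, e_t, zero_add,
        zero_add]

end Cfsg.Agent.StdU3.LevelOneW
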