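import Cfsg.Agent.StdU3.LevelOneW
import Cfsg.Agent.StdU3.Semilinear

/-!
# The action of the normalizer of `Q = S₁` on `Q`

`s` normalizes `Q`.  Then `s` normalizes `Z`, `W`, `V`, acts on `V / W = K` by a semilinear map
`A s`, on `Z` by `th s`, and on the class of `t` as described below.
-/

set_option autoImplicit false
set_option linter.unusedSectionVars false

namespace Cfsg.Agent.StdU3.NormQ

open Cfsg.Agent.StdU3.Field Cfsg.Agent.StdU3.PreDef Cfsg.Agent.StdU3.LevelOne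
open Cfsg.Agent.StdU3.LevelOneW

variable {G : Type*} [Group G] {K : Type*} [Field K] [Fintype K] [CharP K 2] {n : ℕ}
variable (D : Pre G K n)

/-- `s` normalizes `Q`. -/
structure Norm (s : G) : Prop where
  fwd : ∀ g ∈ D.Q, s * g * s⁻¹ ∈ D.Q
  bwd : ∀ g ∈ D.Q, s⁻¹ * g * s ∈ D.Q

theorem Norm.mul {s r : G} (hs : Norm D s) (hr : Norm D r) : Norm D (s * r) := by
  refine ⟨fun g hg => ?_, fun g hg => ?_⟩
  · have : s * r * g * (s * r)⁻¹ = s * (r * g * r⁻¹) * s⁻¹ := by group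
    rw [this]; exact hs.fwd _ (hr.fwd g hg)
  · have : (s * r)⁻¹ * g * (s * r) = r⁻¹ * (s⁻¹ * g * s) * r := by group
    rw [this]; exact hr.bwd _ (hs.bwd g hg)

theorem Norm.inv {s : G} (hs : Norm D s) : Norm D s⁻¹ := by
  refine ⟨fun g hg => ?_, fun g hg => ?_⟩
  · rw [inv_inv]; exact hs.bwd g hg
  · rw [inv_inv]; exact hs.fwd g hg

theorem Norm.of_mem {s : G} (hs : s ∈ D.Q) : Norm D s :=
  ⟨fun _ hg => mul_mem (mul_mem hs hg) (inv_mem hs),
    fun _ hg => mul_mem (mul_mem (inv_mem hs) hg) hs⟩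

theorem Norm.one : Norm D 1 := Norm.of_mem D D.Q.one_mem

/-- conjugating `Q` into itself is enough in a finite group. -/
theorem norm_of_fwd [Finite G] {s : G} (h : ∀ g ∈ D.Q, s * g * s⁻¹ ∈ D.Q) : Norm D s := by
  refine ⟨h, ?_⟩
  have h1 : D.Q.map (MulAut.conj s).toMonoidHom ≤ D.Q := by
    rintro _ ⟨g, hg, rfl⟩
    exact h g hg
  have h2 : D.Q.map (MulAut.conj s).toMonoidHom = D.Q := by
    apply Subgroup.eq_of_le_of_card_ge h1
    rw [Subgroup.card_map_of_injective (MulAut.conj s).injective]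
  intro g hg
  rw [← h2] at hg
  obtain ⟨x, hx, rfl⟩ := hg
  have : s⁻¹ * (MulAut.conj s).toMonoidHom x * s = x := by
    show s⁻¹ * (s * x * s⁻¹) * s = x
    group
  rw [this]; exact hx

theorem norm_h [Finite G] (l : Kˣ) : Norm D (D.h l) := norm_of_fwd D (D.Q_h l)

/-! ### Characterizations of `Z`, `W`, `V` -/

theorem comm_z {g : G} (hg : g ∈ D.Q) (b : K) : g * D.z b = D.z b * g := D.Q_Z g hg b

/-- the commutator. -/
theorem cmt_eq {g k : G} (hg : g ∈ D.Q) (hk : k ∈ D.Q) :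
    g * k * g⁻¹ * k⁻¹ =
      D.z (Tr n (a D g * bar n (a D k)) + (e D g * u D k + e D k * u D g)) := by
  rw [comm_eq D hg hk]; group

theorem mem_Z_iff {g : G} (hg : g ∈ D.Q) :
    (∀ k ∈ D.Q, g * k = k * g) ↔ ∃ b, bar n b = b ∧ g = D.z b := by
  constructor
  · intro h
    have hc : ∀ k ∈ D.Q, Tr n (a D g * bar n (a D k)) + (e D g * u D k + e D k * u D g) = 0 := by
      intro k hk
      apply D.z_inj _ (fixed_add (fixed_Tr D.hq _) (fixed_add
        (fixed_mul (e_fixed D g) (u_fixed D hk)) (fixed_mul (e_fixed D k) (u_fixed D hg))))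
      rw [← cmt_eq D hg hk, h k hk]; group
    apply ker_eq D hg
    · apply eq_zero_of_Tr D.hq
      intro y
      obtain ⟨x, hx, rfl⟩ := D.ca_surj y
      have := hc x (D.P_le hx)
      rw [a_P D hx, u_P D hx, e_P D hx, mul_zero, zero_mul, add_zero, add_zero] at this
      exact this
    · have := hc D.t D.Q_t
      rw [a_t, u_t, e_t, bar_zero, mul_zero, Tr_zero, mul_zero, one_mul, zero_add, zero_add] at this
      exact this
    · obtain ⟨y, hy, uy⟩ := W_surj D (bar_one n)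
      have := hc y (W_le D hy)
      rw [a_W D hy, e_W D hy, uy, bar_zero, mul_zero, Tr_zero, zero_mul, mul_one, zero_add,
        add_zero] at this
      exact this
  · rintro ⟨b, -, rfl⟩ k hk
    exact (D.Q_Z k hk b).symm

theorem W_of_ae {g : G} (hg : g ∈ D.Q) (ha : a D g = 0) (he : e D g = 0) : g ∈ W D := by
  rcases W_or D hg ha with h | h
  · exact h
  · exfalso
    have h1 := e_W D h
    rw [e_mul D hg D.Q_t, he, e_t, zero_add] at h1
    exact one_ne_zero h1

theorem mem_W_iff {g : G} (hg : g ∈ D.Q) :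
    g ∈ W D ↔ ∃ z0, ∀ k ∈ D.Q, g * k * g⁻¹ * k⁻¹ = 1 ∨ g * k * g⁻¹ * k⁻¹ = z0 := by
  constructor
  · intro h
    refine ⟨D.z (u D g), fun k hk => ?_⟩
    rw [cmt_eq D hg hk, a_W D h, e_W D h, zero_mul, Tr_zero, zero_mul, zero_add, zero_add]
    rcases e_cases D k with ⟨h1, -⟩ | ⟨h1, -⟩
    · left; rw [h1, zero_mul, z_zero]
    · right; rw [h1, one_mul]
  · rintro ⟨z0, h⟩
    -- no element has all commutators
    have hno : ¬ (∀ b, bar n b = b → ∃ k ∈ D.Q, g * k * g⁻¹ * k⁻¹ = D.z b) := by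
      intro hall
      obtain ⟨l, hl, hl1⟩ := exists_fixed_ne D.hq
      have hz : ∀ b, bar n b = b → b ≠ 0 → D.z b = z0 := by
        intro b hb hb0
        obtain ⟨k, hk, hkb⟩ := hall b hb
        rcases h k hk with h1 | h1
        · exfalso
          rw [hkb] at h1
          exact hb0 (D.z_inj b hb h1)
        · rw [← hkb, h1]
      have h1 := hz 1 (bar_one n) one_ne_zero
      have h2 := hz l hl l.ne_zero
      exact hl1 (z_eq D hl (bar_one n) (h2.trans h1.symm))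
    have ha : a D g = 0 := by
      by_contra ha
      apply hno
      intro b hb
      obtain ⟨y, hy⟩ := exists_Tr_eq D.hq ha hb
      obtain ⟨x, hx, rfl⟩ := D.ca_surj y
      refine ⟨x, D.P_le hx, ?_⟩
      rw [cmt_eq D hg (D.P_le hx), a_P D hx, u_P D hx, e_P D hx, mul_zero, zero_mul, add_zero,
        add_zero, hy]
    have he : e D g = 0 := by
      rcases e_cases D g with ⟨h1, -⟩ | ⟨h1, -⟩
      · exact h1
      · exfalso
        apply hno
        intro b hb
        obtain ⟨y, hy, uy⟩ := W_surj D hb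
        refine ⟨y, W_le D hy, ?_⟩
        rw [cmt_eq D hg (W_le D hy), ha, h1, e_W D hy, uy, zero_mul, Tr_zero, zero_mul, one_mul,
          add_zero, zero_add]
    exact W_of_ae D hg ha he

theorem mem_V_iff {g : G} (hg : g ∈ D.Q) : g ∈ V D ↔ ∀ k ∈ W D, g * k = k * g := by
  constructor
  · intro h k hk
    have h1 := comm_eq D hg (W_le D hk)
    rw [a_W D hk, e_W D hk, e_zero D h, bar_zero, mul_zero, Tr_zero, zero_mul, zero_mul,
      add_zero, add_zero, z_zero, one_mul] at h1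
    exact h1
  · intro h
    rcases e_cases D g with ⟨-, h1⟩ | ⟨h1, -⟩
    · exact h1
    · exfalso
      obtain ⟨y, hy, uy⟩ := W_surj D (bar_one n)
      have h2 := comm_eq D hg (W_le D hy)
      rw [a_W D hy, e_W D hy, h1, uy, bar_zero, mul_zero, Tr_zero, zero_mul, one_mul,
        add_zero, zero_add, h y hy] at h2
      have h3 := mul_eq_right.mp h2.symm
      exact one_ne_zero (D.z_inj 1 (bar_one n) h3)

/-- `bar` as an automorphism. -/
def barE (h : Qd K n) : K ≃+* K where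
  toFun := bar n
  invFun := bar n
  left_inv := bar_bar h
  right_inv := bar_bar h
  map_mul' := bar_mul n
  map_add' := bar_add n

section action
variable {s : G}

theorem conj_z (h : Norm D s) (b : K) : ∃ c, bar n c = c ∧ s * D.z b * s⁻¹ = D.z c := by
  have h1 : s * D.z b * s⁻¹ ∈ D.Q := h.fwd _ (z_mem_Q D b)
  apply (mem_Z_iff D h1).mp
  intro k hk
  have h2 := comm_z D (h.bwd k hk) b
  calc s * D.z b * s⁻¹ * k = s * (D.z b * (s⁻¹ * k * s)) * s⁻¹ := by group
    _ = s * ((s⁻¹ * k * s) * D.z b) * s⁻¹ := by rw [h2]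
    _ = k * (s * D.z b * s⁻¹) := by group

theorem conj_W (h : Norm D s) {g : G} (hg : g ∈ W D) : s * g * s⁻¹ ∈ W D := by
  have hgQ := W_le D hg
  rw [mem_W_iff D (h.fwd g hgQ)]
  obtain ⟨z0, hz0⟩ := (mem_W_iff D hgQ).mp hg
  refine ⟨s * z0 * s⁻¹, fun k hk => ?_⟩
  have h1 : s * g * s⁻¹ * k * (s * g * s⁻¹)⁻¹ * k⁻¹ =
      s * (g * (s⁻¹ * k * s) * g⁻¹ * (s⁻¹ * k * s)⁻¹) * s⁻¹ := by group
  rw [h1]
  rcases hz0 _ (h.bwd k hk) with h2 | h2
  · left; rw [h2]; group
  · right; rw [h2]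

theorem conj_V (h : Norm D s) {g : G} (hg : g ∈ V D) : s * g * s⁻¹ ∈ V D := by
  have hgQ := V_le D hg
  rw [mem_V_iff D (h.fwd g hgQ)]
  intro k hk
  have h1 := (mem_V_iff D hgQ).mp hg (s⁻¹ * k * s) (by
    have := conj_W D (Norm.inv D h) hk
    rwa [inv_inv] at this)
  calc s * g * s⁻¹ * k = s * (g * (s⁻¹ * k * s)) * s⁻¹ := by group
    _ = s * ((s⁻¹ * k * s) * g) * s⁻¹ := by rw [h1]
    _ = k * (s * g * s⁻¹) := by group

theorem conj_V_iff (h : Norm D s) {g : G} : s * g * s⁻¹ ∈ V D ↔ g ∈ V D := by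
  refine ⟨fun h1 => ?_, conj_V D h⟩
  have h2 := conj_V D (Norm.inv D h) h1
  have h3 : s⁻¹ * (s * g * s⁻¹) * s⁻¹⁻¹ = g := by group
  rwa [h3] at h2

theorem e_conj (h : Norm D s) (g : G) : e D (s * g * s⁻¹) = e D g := by
  rcases e_cases D g with ⟨h1, h2⟩ | ⟨h1, h2⟩
  · rw [h1, e_zero D (conj_V D h h2)]
  · rw [h1, e_one' D (fun h3 => h2 ((conj_V_iff D h).mp h3))]

open Classical in
/-- the action on `Z`. -/
noncomputable def th (s : G) (b : K) : K :=
  if h : ∃ c, bar n c = c ∧ s * D.z b * s⁻¹ = D.z c then Classical.choose h else 0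

theorem th_spec (h : Norm D s) (b : K) :
    bar n (th D s b) = th D s b ∧ s * D.z b * s⁻¹ = D.z (th D s b) := by
  unfold th
  rw [dif_pos (conj_z D h b)]
  exact Classical.choose_spec (conj_z D h b)

theorem th_fixed (h : Norm D s) (b : K) : bar n (th D s b) = th D s b := (th_spec D h b).1

theorem th_conj (h : Norm D s) (b : K) : s * D.z b * s⁻¹ = D.z (th D s b) := (th_spec D h b).2

theorem th_eq (h : Norm D s) {b c : K} (hc : bar n c = c) (h1 : s * D.z b * s⁻¹ = D.z c) :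
    th D s b = c := z_eq D (th_fixed D h b) hc (by rw [← th_conj D h, h1])

theorem th_add (h : Norm D s) (b c : K) : th D s (b + c) = th D s b + th D s c := by
  apply th_eq D h (fixed_add (th_fixed D h b) (th_fixed D h c))
  rw [D.z_add, D.z_add, ← th_conj D h, ← th_conj D h]; group

theorem th_zero (h : Norm D s) : th D s 0 = 0 := by
  apply th_eq D h (bar_zero n)
  rw [z_zero]; group

theorem th_eq_zero (h : Norm D s) {b : K} (hb : bar n b = b) (h1 : th D s b = 0) : b = 0 := by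
  have h2 := th_conj D h b
  rw [h1, z_zero] at h2
  apply D.z_inj b hb
  have : D.z b = s⁻¹ * (s * D.z b * s⁻¹) * s := by group
  rw [this, h2]; group

/-- the action on `V / W = K`. -/
noncomputable def A (s : G) (b : K) : K := a D (s * Classical.choose (D.ca_surj b) * s⁻¹)

/-- the `u`-part of the conjugates of elements of `P`. -/
noncomputable def psi (s : G) (b : K) : K := u D (s * Classical.choose (D.ca_surj b) * s⁻¹)

theorem conj_mul (s g k : G) : s * (g * k) * s⁻¹ = (s * g * s⁻¹) * (s * k * s⁻¹) := by group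

theorem A_spec (h : Norm D s) {g : G} (hg : g ∈ V D) : a D (s * g * s⁻¹) = A D s (a D g) := by
  unfold A
  obtain ⟨hx, hxa⟩ := Classical.choose_spec (D.ca_surj (a D g))
  set x := Classical.choose (D.ca_surj (a D g)) with hxd
  have hgQ := V_le D hg
  have hxQ := D.P_le hx
  have h1 : x⁻¹ * g ∈ W D := by
    apply W_of_ae D (mul_mem (inv_mem hxQ) hgQ)
    · rw [a_mul D (inv_mem hxQ) hgQ, a_inv D hxQ, a_P D hx, hxa, add_self]
    · rw [e_mul D (inv_mem hxQ) hgQ, e_inv D hxQ, e_P D hx, e_zero D hg, add_zero]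
  have h2 : s * g * s⁻¹ = (s * x * s⁻¹) * (s * (x⁻¹ * g) * s⁻¹) := by group
  rw [h2, a_mul D (h.fwd x hxQ) (h.fwd _ (W_le D h1)), a_W D (conj_W D h h1), add_zero]

theorem psi_spec (h : Norm D s) {x : G} (hx : x ∈ D.P) : u D (s * x * s⁻¹) = psi D s (D.ca x) := by
  unfold psi
  obtain ⟨hy, hya⟩ := Classical.choose_spec (D.ca_surj (D.ca x))
  set y := Classical.choose (D.ca_surj (D.ca x)) with hyd
  obtain ⟨b, hb, h1⟩ := eq_z_mul D hx hy hya.symm
  rw [h1, conj_mul, u_mul D (h.fwd _ (z_mem_Q D b)) (h.fwd _ (D.P_le hy)), th_conj D h, u_z,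
    zero_add]

theorem A_P (h : Norm D s) {x : G} (hx : x ∈ D.P) : a D (s * x * s⁻¹) = A D s (D.ca x) := by
  rw [A_spec D h (P_le_V D hx), a_P D hx]

theorem A_add (h : Norm D s) (b c : K) : A D s (b + c) = A D s b + A D s c := by
  obtain ⟨x, hx, rfl⟩ := D.ca_surj b
  obtain ⟨y, hy, rfl⟩ := D.ca_surj c
  rw [← D.ca_mul x hx y hy, ← A_P D h hx, ← A_P D h hy, ← A_P D h (mul_mem hx hy), conj_mul,
    a_mul D (h.fwd x (D.P_le hx)) (h.fwd y (D.P_le hy))]

theorem A_zero (h : Norm D s) : A D s 0 = 0 := by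
  have h1 := A_P D h D.P.one_mem
  rw [ca_one] at h1
  rw [← h1]
  have : s * 1 * s⁻¹ = 1 := by group
  rw [this, a_one]

theorem psi_add (h : Norm D s) (b c : K) : psi D s (b + c) = psi D s b + psi D s c := by
  obtain ⟨x, hx, rfl⟩ := D.ca_surj b
  obtain ⟨y, hy, rfl⟩ := D.ca_surj c
  rw [← D.ca_mul x hx y hy, ← psi_spec D h hx, ← psi_spec D h hy, ← psi_spec D h (mul_mem hx hy),
    conj_mul, u_mul D (h.fwd x (D.P_le hx)) (h.fwd y (D.P_le hy))]

theorem psi_fixed (h : Norm D s) (b : K) : bar n (psi D s b) = psi D s b := by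
  obtain ⟨x, hx, rfl⟩ := D.ca_surj b
  rw [← psi_spec D h hx]
  exact u_fixed D (h.fwd x (D.P_le hx))

/-- the relation of the squares of elements of `P`. -/
theorem rel_sq (h : Norm D s) (b : K) :
    th D s (N n b) = N n (A D s b) + gam D * psi D s b := by
  obtain ⟨x, hx, rfl⟩ := D.ca_surj b
  have hxQ := D.P_le hx
  apply th_eq D h (fixed_add (fixed_N D.hq _) (fixed_mul (gam_fixed D) (psi_fixed D h _)))
  rw [← D.P_sq x hx, conj_mul, sq_eq D (h.fwd x hxQ), e_conj D h, e_P D hx, zero_mul, add_zero,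
    A_P D h hx, psi_spec D h hx]

/-- the commutator relation on `P`. -/
theorem rel_comm (h : Norm D s) (b c : K) :
    th D s (Tr n (b * bar n c)) = Tr n (A D s b * bar n (A D s c)) := by
  obtain ⟨x, hx, rfl⟩ := D.ca_surj b
  obtain ⟨y, hy, rfl⟩ := D.ca_surj c
  have hxQ := D.P_le hx
  have hyQ := D.P_le hy
  apply th_eq D h (fixed_Tr D.hq _)
  have h1 : D.z (Tr n (D.ca x * bar n (D.ca y))) = x * y * x⁻¹ * y⁻¹ := by
    rw [D.P_comm x hx y hy]; group
  have h2 : s * (x * y * x⁻¹ * y⁻¹) * s⁻¹ =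
      (s * x * s⁻¹) * (s * y * s⁻¹) * (s * x * s⁻¹)⁻¹ * (s * y * s⁻¹)⁻¹ := by group
  rw [h1, h2, cmt_eq D (h.fwd x hxQ) (h.fwd y hyQ), e_conj D h, e_conj D h, e_P D hx, e_P D hy,
    zero_mul, zero_mul, add_zero, add_zero, A_P D h hx, A_P D h hy]

/-- `t` commutes with `P`. -/
theorem rel_psi (h : Norm D s) (b : K) :
    psi D s b = Tr n (a D (s * D.t * s⁻¹) * bar n (A D s b)) := by
  obtain ⟨x, hx, rfl⟩ := D.ca_surj b
  have hxQ := D.P_le hx
  have h1 := cmt_eq D (h.fwd D.t D.Q_t) (h.fwd x hxQ)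
  have h2 : s * D.t * s⁻¹ * (s * x * s⁻¹) * (s * D.t * s⁻¹)⁻¹ * (s * x * s⁻¹)⁻¹ =
      s * (D.t * x * D.t⁻¹ * x⁻¹) * s⁻¹ := by group
  have h3 : D.t * x * D.t⁻¹ * x⁻¹ = 1 := by rw [D.t_P x hx]; group
  rw [h2, h3, mul_one, mul_inv_cancel, e_conj D h, e_conj D h, e_t, e_P D hx, one_mul, zero_mul,
    add_zero, A_P D h hx, psi_spec D h hx] at h1
  have h4 := D.z_inj _ (fixed_add (fixed_Tr D.hq _) (psi_fixed D h _)) h1.symm
  exact (Field.add_eq_zero.mp h4).symm

/-- `t` is an involution. -/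
theorem rel_t (h : Norm D s) :
    N n (a D (s * D.t * s⁻¹)) = (gam D + 1) * u D (s * D.t * s⁻¹) := by
  have h1 := sq_eq D (h.fwd D.t D.Q_t)
  rw [← conj_mul, D.t_sq, mul_one, mul_inv_cancel, e_conj D h, e_t] at h1
  have hu := u_fixed D (h.fwd D.t D.Q_t)
  have h4 := D.z_inj _ (fixed_add (fixed_add (fixed_N D.hq _) (fixed_mul (gam_fixed D) hu))
    (fixed_mul (bar_one n) hu)) h1.symm
  rw [add_assoc, ← add_mul] at h4
  exact Field.add_eq_zero.mp h4

/-- the action on `W / Z`. -/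
theorem u_conj_W (h : Norm D s) {y : G} (hy : y ∈ W D) : u D (s * y * s⁻¹) = th D s (u D y) := by
  have hyQ := W_le D hy
  have h1 : D.t * y * D.t⁻¹ * y⁻¹ = D.z (u D y) := by rw [t_conj D hyQ]; group
  have h2 : s * (D.t * y * D.t⁻¹ * y⁻¹) * s⁻¹ =
      s * D.t * s⁻¹ * (s * y * s⁻¹) * (s * D.t * s⁻¹)⁻¹ * (s * y * s⁻¹)⁻¹ := by group
  symm
  apply th_eq D h (u_fixed D (h.fwd y hyQ))
  rw [← h1, h2, cmt_eq D (h.fwd D.t D.Q_t) (h.fwd y hyQ), e_conj D h, e_conj D h, e_t, e_W D hy,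
    a_W D (conj_W D h hy), bar_zero, mul_zero, Tr_zero, one_mul, zero_mul, add_zero, zero_add]

theorem th_gam (h : Norm D s) {v : K} (hv : bar n v = v) :
    th D s (gam D * v) = gam D * th D s v := by
  obtain ⟨y, hy, rfl⟩ := W_surj D hv
  have hy' := conj_W D h hy
  have h1 := W_sq D hy'
  rw [u_conj_W D h hy, ← conj_mul, W_sq D hy] at h1
  exact th_eq D h (fixed_mul (gam_fixed D) (th_fixed D h _)) h1

theorem A_inj (h : Norm D s) : Function.Injective (A D s) := by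
  intro b c hbc
  have h0 : A D s (b + c) = 0 := by rw [A_add D h, hbc, add_self]
  have h1 : ∀ y, Tr n ((b + c) * bar n y) = 0 := by
    intro y
    apply th_eq_zero D h (fixed_Tr D.hq _)
    rw [rel_comm D h, h0, zero_mul, Tr_zero]
  exact Field.add_eq_zero.mp (eq_zero_of_Tr D.hq h1)

theorem A_surj (h : Norm D s) : Function.Surjective (A D s) :=
  Finite.injective_iff_surjective.mp (A_inj D h)

/-- if `gam ≠ 0` then `a (s t s⁻¹) = 0`. -/
theorem a_t_of_gam (h : Norm D s) (hg : gam D ≠ 0) : a D (s * D.t * s⁻¹) = 0 := by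
  by_contra ha
  set a0 := a D (s * D.t * s⁻¹) with ha0
  obtain ⟨x, hx0, hx⟩ := exists_N_add_eq D.hq (mul_ne_zero hg ha)
  obtain ⟨b, hb⟩ := A_surj D h x
  have h1 := rel_sq D h b
  rw [rel_psi D h, hb, ← ha0] at h1
  have h2 : N n x + gam D * Tr n (a0 * bar n x) = 0 := by
    rw [N_add' D.hq, Tr_comm D.hq, mul_assoc, Tr_mul_fixed (gam_fixed D)] at hx
    have h3 : N n x + gam D * Tr n (a0 * bar n x) + N n (gam D * a0) = N n (gam D * a0) := by
      linear_combination hx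
    exact add_eq_right.mp h3
  rw [h2] at h1
  have h3 := N_eq_zero (th_eq_zero D h (fixed_N D.hq _) h1)
  rw [h3, A_zero D h] at hb
  exact hx0 hb.symm

theorem u_t_of_gam (h : Norm D s) (hg : gam D ≠ 0) (hg1 : gam D ≠ 1) :
    u D (s * D.t * s⁻¹) = 0 := by
  have h1 := rel_t D h
  rw [a_t_of_gam D h hg, N_zero] at h1
  rcases mul_eq_zero.mp h1.symm with h2 | h2
  · exact absurd (Field.add_eq_zero.mp h2) hg1
  · exact h2

theorem u_t_zero (h : Norm D s) (hg : gam D = 0) :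
    u D (s * D.t * s⁻¹) = N n (a D (s * D.t * s⁻¹)) := by
  rw [rel_t D h, hg, zero_add, one_mul]

theorem psi_eq_zero (h : Norm D s) (hg : gam D ≠ 0) (b : K) : psi D s b = 0 := by
  rw [rel_psi D h, a_t_of_gam D h hg, zero_mul, Tr_zero]

theorem gam_psi (h : Norm D s) (b : K) : gam D * psi D s b = 0 := by
  by_cases hg : gam D = 0
  · rw [hg, zero_mul]
  · rw [psi_eq_zero D h hg, mul_zero]

/-- `A s` is a similitude of the norm form. -/
theorem N_A (h : Norm D s) (b : K) : N n (A D s b) = th D s (N n b) := by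
  rw [rel_sq D h, gam_psi D h, add_zero]

/-- if `gam ≠ 0` then `P` is normal in the normalizer of `Q`. -/
theorem conj_P_mem (h : Norm D s) (hg : gam D ≠ 0) {x : G} (hx : x ∈ D.P) : s * x * s⁻¹ ∈ D.P := by
  have hxQ := D.P_le hx
  have hu : u D (s * x * s⁻¹) = 0 := by rw [psi_spec D h hx, psi_eq_zero D h hg]
  rcases mem_T_of_u D (h.fwd x hxQ) hu with h1 | h1
  · exact h1
  · exfalso
    have h2 := e_P D h1
    rw [e_mul D (h.fwd x hxQ) D.Q_t, e_conj D h, e_P D hx, e_t, zero_add] at h2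
    exact one_ne_zero h2

/-- the general formulas. -/
theorem a_conj (h : Norm D s) {g : G} (hg : g ∈ D.Q) :
    a D (s * g * s⁻¹) = A D s (a D g) + e D g * a D (s * D.t * s⁻¹) := by
  rcases e_cases D g with ⟨h1, h2⟩ | ⟨h1, h2⟩
  · rw [A_spec D h h2, h1, zero_mul, add_zero]
  · have h3 := V_of_not D hg h2
    have h4 : s * g * s⁻¹ = (s * (g * D.t) * s⁻¹) * (s * D.t * s⁻¹) := by
      have : s * g * s⁻¹ = s * (g * (D.t * D.t)) * s⁻¹ := by rw [D.t_sq, mul_one]
      rw [this]; group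
    rw [h4, a_mul D (h.fwd _ (mul_mem hg D.Q_t)) (h.fwd _ D.Q_t), A_spec D h h3,
      a_mul D hg D.Q_t, a_t, add_zero, h1, one_mul]

theorem u_conj' (h : Norm D s) {g : G} (hg : g ∈ D.Q) :
    u D (s * g * s⁻¹) = th D s (u D g) + psi D s (a D g) + e D g * u D (s * D.t * s⁻¹) := by
  have hV : ∀ g ∈ V D, u D (s * g * s⁻¹) = th D s (u D g) + psi D s (a D g) := by
    rintro _ ⟨x, hx, y, hy, rfl⟩
    have hxQ := D.P_le hx
    have hyQ := W_le D hy
    rw [conj_mul, u_mul D (h.fwd x hxQ) (h.fwd y hyQ), psi_spec D h hx, u_conj_W D h hy,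
      u_mul D hxQ hyQ, u_P D hx, zero_add, a_mul D hxQ hyQ, a_P D hx, a_W D hy, add_zero,
      add_comm]
  rcases e_cases D g with ⟨h1, h2⟩ | ⟨h1, h2⟩
  · rw [hV g h2, h1, zero_mul, add_zero]
  · have h3 := V_of_not D hg h2
    have h4 : s * g * s⁻¹ = (s * (g * D.t) * s⁻¹) * (s * D.t * s⁻¹) := by
      have : s * g * s⁻¹ = s * (g * (D.t * D.t)) * s⁻¹ := by rw [D.t_sq, mul_one]
      rw [this]; group
    rw [h4, u_mul D (h.fwd _ (mul_mem hg D.Q_t)) (h.fwd _ D.Q_t), hV _ h3,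
      a_mul D hg D.Q_t, a_t, add_zero, u_mul D hg D.Q_t, u_t, add_zero, h1, one_mul]

/-- `A s` is semilinear. -/
theorem exists_semilin (h : Norm D s) : ∃ c : K, c ≠ 0 ∧ ∃ σ : K ≃+* K,
    (∀ b, A D s b = c * σ b) ∧ ∀ x, bar n x = x → th D s x = N n c * σ x := by
  obtain ⟨c, hc, σ, h1, h2⟩ := Semilinear.exists_semilinear (barE D.hq) (fun x => bar_bar D.hq x)
    (by
      obtain ⟨x, hx⟩ := exists_Tr_one D.hq
      refine ⟨x, fun h' => ?_⟩
      have h3 : bar n x = x := h'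
      rw [Tr_of_fixed h3] at hx
      exact zero_ne_one hx)
    (AddMonoidHom.mk' (A D s) (A_add D h)) (A_inj D h) (th D s)
    (fun x y _ _ => th_add D h x y) (fun b => N_A D h b)
  exact ⟨c, hc, σ, h1, h2⟩

end action

end Cfsg.Agent.StdU3.NormQ
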