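import Cfsg.Agent.StdU3.LemC
import Cfsg.Agent.StdU3.Next

/-!
# Outer involutions of `C_G(t)`

Every coset `P x`, `x ∈ Sg`, with Galois component `bar` contains an involution, and `t` is not a
square in `Sg / P`.
-/

set_option autoImplicit false
set_option linter.unusedSectionVars false
set_option linter.dupNamespace false

namespace Cfsg.Agent.StdU3.OutInv

open Subgroup Cfsg.Agent.StdU3.Field Cfsg.Agent.StdU3.PreDef Cfsg.Agent.StdU3.FldDef
open Cfsg.Agent.StdU3.LevelOne Cfsg.Agent.StdU3.FieldAut Cfsg.Agent.StdU3.Rank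
open Cfsg.Agent.StdU3.LevelOneW Cfsg.Agent.StdU3.Kernel
open Cfsg.Agent.StdU3.NormQ hiding barE
open Cfsg.Agent.StdU3.Next

variable {G : Type*} [Group G] [Finite G] {K : Type*} [Field K] [Fintype K] [CharP K 2] {n : ℕ}
variable {D : Pre G K n} (F : Fld D)

theorem P_two : IsPGroup 2 ↥D.P := D.Q_two.to_le D.P_le

/-- the action of an outer element. -/
theorem outer_ca {x : G} (hx : x ∈ F.Sg) (hch : ch F x = barE D.hq) :
    ∃ c : K, c ≠ 0 ∧ N n c = 1 ∧ (∀ p ∈ D.P, D.ca (x * p * x⁻¹) = c * bar n (D.ca p)) ∧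
      ∀ b, x * D.z b * x⁻¹ = D.z b := by
  have hxt := F.Sg_t x hx
  obtain ⟨c, hc, h1, h2⟩ := ch_ca F hxt (F.Sg_P x hx)
  have h1' : ∀ p ∈ D.P, D.ca (x * p * x⁻¹) = c * bar n (D.ca p) := by
    intro p hp
    rw [h1 p hp, hch]; rfl
  -- `x²` acts trivially on `P / Z`
  have hxx : x * x ∈ F.Sg := mul_mem hx hx
  have hchx : ch F (x * x) = 1 := by
    rw [ch_mul F hxt hxt, hch]
    ext y
    show bar n (bar n y) = y
    exact bar_bar D.hq y
  have h3 : ∀ p ∈ D.P, D.ca (x * x * p * (x * x)⁻¹) = D.ca p := by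
    intro p hp
    rcases ch_ker F hxx hchx with h | h
    · rw [D.ca_mul _ (mul_mem h hp) _ (inv_mem h), D.ca_mul _ h _ hp, ca_inv D h, add_comm,
        ← add_assoc, Field.add_self, zero_add]
    · have e : x * x * p * (x * x)⁻¹ = (x * x * D.t) * p * (x * x * D.t)⁻¹ := by
        have e1 : (x * x * D.t) * p * (x * x * D.t)⁻¹ =
            x * x * (D.t * p * D.t⁻¹) * (x * x)⁻¹ := by group
        rw [e1, D.t_P p hp]; group
      rw [e, D.ca_mul _ (mul_mem h hp) _ (inv_mem h), D.ca_mul _ h _ hp, ca_inv D h, add_comm,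
        ← add_assoc, Field.add_self, zero_add]
  have hNc : N n c = 1 := by
    obtain ⟨p, hp, hp1⟩ := D.ca_surj 1
    have h4 := h3 p hp
    have e : x * x * p * (x * x)⁻¹ = x * (x * p * x⁻¹) * x⁻¹ := by group
    rw [e, h1' _ (F.Sg_P x hx p hp), h1' p hp, hp1, bar_one, mul_one] at h4
    exact h4
  refine ⟨c, hc, hNc, h1', fun b => ?_⟩
  obtain ⟨b', hb', hbb⟩ := z_fixed D b
  rw [hbb, h2 b' hb', hch, hNc, one_mul]
  show D.z (bar n b') = D.z b'
  rw [hb']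

theorem O_P_one {k : G} (hk : k ∈ F.O) (hP : k ∈ D.P) : k = 1 := by
  obtain ⟨m, hm⟩ := P_two (D := D) ⟨k, hP⟩
  have hm' : k ^ 2 ^ m = 1 := congrArg Subtype.val hm
  exact eq_one_of_O D F.amb hk hm'

/-- an element of the outer coset whose square is in `⟨t⟩`. -/
theorem exists_sq {x : G} (hx : x ∈ F.Sg) (hch : ch F x = barE D.hq) :
    ∃ p ∈ D.P, (p * x) * (p * x) = 1 ∨ (p * x) * (p * x) = D.t := by
  obtain ⟨c, hc, hNc, h1, h2⟩ := outer_ca F hx hch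
  have hxt := F.Sg_t x hx
  obtain ⟨l, hl, hl1⟩ := exists_fixed_ne D.hq
  set h := D.h l with hh
  have hht : h * D.t = D.t * h := (D.t_h l).symm
  have hhP : ∀ p ∈ D.P, h * p * h⁻¹ ∈ D.P := D.h_P l
  have hhca : ∀ p ∈ D.P, D.ca (h * p * h⁻¹) = l * D.ca p := by
    intro p hp
    rw [hh, D.h_ca l p hp, w_of_fixed hl]
  have hhPi : ∀ p ∈ D.P, h⁻¹ * p * h ∈ D.P := by
    -- finiteness
    have h1 : D.P.map (MulAut.conj h).toMonoidHom ≤ D.P := by
      rintro _ ⟨g, hg, rfl⟩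
      exact hhP g hg
    have h2 : D.P.map (MulAut.conj h).toMonoidHom = D.P := by
      apply Subgroup.eq_of_le_of_card_ge h1
      rw [Subgroup.card_map_of_injective (MulAut.conj h).injective]
    intro g hg
    rw [← h2] at hg
    obtain ⟨y, hy, rfl⟩ := hg
    have : h⁻¹ * (MulAut.conj h).toMonoidHom y * h = y := by
      show h⁻¹ * (h * y * h⁻¹) * h = y
      group
    rw [this]; exact hy
  have hxPi : ∀ p ∈ D.P, x⁻¹ * p * x ∈ D.P := by
    intro p hp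
    have := F.Sg_P x⁻¹ (inv_mem hx) p hp
    rwa [inv_inv] at this
  -- the commutator
  have hg : ∀ p ∈ D.P, (x * h * x⁻¹ * h⁻¹) * p * (x * h * x⁻¹ * h⁻¹)⁻¹ ∈ D.P ∧
      D.ca ((x * h * x⁻¹ * h⁻¹) * p * (x * h * x⁻¹ * h⁻¹)⁻¹) = D.ca p := by
    intro p hp
    have e : (x * h * x⁻¹ * h⁻¹) * p * (x * h * x⁻¹ * h⁻¹)⁻¹ =
        x * (h * (x⁻¹ * (h⁻¹ * p * h) * x) * h⁻¹) * x⁻¹ := by group
    set p1 := h⁻¹ * p * h with hp1
    have hp1P : p1 ∈ D.P := hhPi p hp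
    set p2 := x⁻¹ * p1 * x with hp2
    have hp2P : p2 ∈ D.P := hxPi p1 hp1P
    have hpe : p = h * p1 * h⁻¹ := by rw [hp1]; group
    have hp1e : p1 = x * p2 * x⁻¹ := by rw [hp2]; group
    rw [e]
    refine ⟨F.Sg_P x hx _ (hhP _ hp2P), ?_⟩
    rw [h1 _ (hhP _ hp2P), hhca _ hp2P, hpe, hhca _ hp1P, hp1e, h1 _ hp2P, bar_mul, hl]
    ring
  have hgt : (x * h * x⁻¹ * h⁻¹) * D.t = D.t * (x * h * x⁻¹ * h⁻¹) :=
    comm_mul (comm_mul (comm_mul hxt hht) (comm_inv hxt)) (comm_inv hht)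
  obtain ⟨q, hq, k, hk, hqk⟩ := F.amb.dec _ hgt hg
  have hkt := F.amb.O_t k hk
  have hqt : q * D.t = D.t * q := by
    have e : q = (x * h * x⁻¹ * h⁻¹) * k⁻¹ := by rw [hqk]; group
    rw [e]
    exact comm_mul hgt (comm_inv hkt)
  -- `q⁻¹ = τ * p1` with `τ ∈ {1, t}`
  obtain ⟨τ, hτ, p1, hp1, hqp⟩ : ∃ τ, (τ = 1 ∨ τ = D.t) ∧ ∃ p1 ∈ D.P, q⁻¹ = τ * p1 := by
    rcases D.Q_T q hq hqt with h3 | h3
    · exact ⟨1, Or.inl rfl, q⁻¹, inv_mem h3, by rw [one_mul]⟩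
    · refine ⟨D.t, Or.inr rfl, (q * D.t)⁻¹, inv_mem h3, ?_⟩
      rw [mul_inv_rev]
      have : D.t * (D.t⁻¹ * q⁻¹) = q⁻¹ := by group
      rw [this]
  have hτt : τ * D.t = D.t * τ := by
    rcases hτ with rfl | rfl
    · rw [one_mul, mul_one]
    · rfl
  have hττ : τ * τ = 1 := by
    rcases hτ with rfl | rfl
    · rw [one_mul]
    · exact D.t_sq
  have hτc : ∀ g, g * D.t = D.t * g → g * τ = τ * g := by
    intro g hg
    rcases hτ with rfl | rfl
    · rw [one_mul, mul_one]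
    · exact hg
  -- surjectivity of `p ↦ (h p h⁻¹)⁻¹ p`
  have hfix : ∀ p ∈ D.P, h * p * h⁻¹ = p → p = 1 := by
    intro p hp hhp
    have h3 := hhca p hp
    rw [hhp] at h3
    have h4 : D.ca p = 0 := by
      by_contra hne
      have h5 : (l : K) * D.ca p = 1 * D.ca p := by rw [← h3, one_mul]
      exact hl1 (mul_right_cancel₀ hne h5)
    obtain ⟨b, hb, rfl⟩ := D.exists_z p hp h4
    rw [hh, h_z D l hb, N_of_fixed hl] at hhp
    have h5 := z_eq D (fixed_mul (by rw [bar_pow, hl]) hb) hb hhp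
    have h6 : b = 0 := by
      by_contra hne
      have h7 : (l : K) ^ 2 * b = 1 * b := by rw [h5, one_mul]
      have h8 := mul_right_cancel₀ hne h7
      have h9 : ((l : K) + 1) ^ 2 = 0 := by
        rw [CharTwo.add_sq, h8, one_pow, Field.add_self]
      have h10 := pow_eq_zero_iff (two_ne_zero) |>.mp h9
      exact hl1 (Field.add_eq_zero.mp h10)
    rw [h6, z_zero]
  have hsurj : ∃ p ∈ D.P, (h * p * h⁻¹)⁻¹ * p = p1 := by
    let f : D.P → D.P := fun p => ⟨(h * p * h⁻¹)⁻¹ * p, mul_mem (inv_mem (hhP p p.2)) p.2⟩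
    have hinj : Function.Injective f := by
      intro p p' hpp
      have h3 : (h * (p : G) * h⁻¹)⁻¹ * p = (h * (p' : G) * h⁻¹)⁻¹ * p' := congrArg Subtype.val hpp
      have h4 : h * ((p' : G) * (p : G)⁻¹) * h⁻¹ = (p' : G) * (p : G)⁻¹ := by
        have h5 : (h * (p' : G) * h⁻¹) * ((h * (p : G) * h⁻¹)⁻¹ * p) = p' := by
          rw [h3]; group
        have h6 : h * ((p' : G) * (p : G)⁻¹) * h⁻¹ =
            ((h * (p' : G) * h⁻¹) * ((h * (p : G) * h⁻¹)⁻¹ * p)) * (p : G)⁻¹ := by group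
        rw [h6, h5]
      have h5 := hfix _ (mul_mem p'.2 (inv_mem p.2)) h4
      apply Subtype.ext
      exact (mul_inv_eq_one.mp h5).symm
    obtain ⟨p, hp⟩ := (Finite.injective_iff_surjective.mp hinj) ⟨p1, hp1⟩
    exact ⟨p, p.2, congrArg Subtype.val hp⟩
  obtain ⟨p, hp, hpp⟩ := hsurj
  set y := p * x with hy
  have hySg : y ∈ F.Sg := mul_mem (F.P_Sg hp) hx
  have hyt := F.Sg_t y hySg
  have hkP : ∀ g ∈ D.P, k * g = g * k := F.amb.O_P k hk
  have hkPi : ∀ g ∈ D.P, k⁻¹ * g = g * k⁻¹ := by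
    intro g hg
    rw [inv_mul_eq_iff_eq_mul, ← mul_assoc, hkP g hg, mul_assoc, mul_inv_cancel, mul_one]
  -- `h y h⁻¹ = k⁻¹ τ y`
  have hhy : h * y * h⁻¹ = k⁻¹ * τ * y := by
    have e1 : h * x * h⁻¹ = (q * k)⁻¹ * x := by rw [← hqk]; group
    have e2 : h * y * h⁻¹ = (h * p * h⁻¹) * (h * x * h⁻¹) := by rw [hy]; group
    have e3 : h * p * h⁻¹ * p1 = p := by rw [← hpp]; group
    calc h * y * h⁻¹ = (h * p * h⁻¹) * (k⁻¹ * q⁻¹ * x) := by rw [e2, e1, mul_inv_rev]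
      _ = (h * p * h⁻¹ * k⁻¹) * (τ * p1) * x := by rw [hqp]; group
      _ = (k⁻¹ * (h * p * h⁻¹)) * (τ * p1) * x := by rw [hkPi _ (hhP p hp)]
      _ = k⁻¹ * ((h * p * h⁻¹) * τ) * p1 * x := by group
      _ = k⁻¹ * (τ * (h * p * h⁻¹)) * p1 * x := by rw [hτc _ (P_t (hhP p hp))]
      _ = k⁻¹ * τ * ((h * p * h⁻¹) * p1) * x := by group
      _ = k⁻¹ * τ * y := by rw [e3, hy]; group
  -- the square
  have hchy : ch F (y * y) = 1 := by
    have h3 : ch F y = barE D.hq := by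
      rw [hy, ch_mul F (P_t hp) hxt, ch_P F hp, one_mul, hch]
    rw [ch_mul F hyt hyt, h3]
    ext b
    show bar n (bar n b) = b
    exact bar_bar D.hq b
  obtain ⟨τ', hτ', p2, hp2, hyy⟩ : ∃ τ', (τ' = 1 ∨ τ' = D.t) ∧ ∃ p2 ∈ D.P, y * y = p2 * τ' := by
    rcases ch_ker F (mul_mem hySg hySg) hchy with h3 | h3
    · exact ⟨1, Or.inl rfl, _, h3, by rw [mul_one]⟩
    · refine ⟨D.t, Or.inr rfl, _, h3, ?_⟩
      rw [mul_assoc (y * y), D.t_sq, mul_one]
  have hκ : k⁻¹ * (y * k⁻¹ * y⁻¹) ∈ F.O :=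
    F.O.mul_mem (F.O.inv_mem hk) (F.O_conj y hyt _ (F.O.inv_mem hk))
  have hsq : h * (y * y) * h⁻¹ = (k⁻¹ * (y * k⁻¹ * y⁻¹)) * (y * y) := by
    have e1 : h * (y * y) * h⁻¹ = (h * y * h⁻¹) * (h * y * h⁻¹) := by group
    rw [e1, hhy]
    calc k⁻¹ * τ * y * (k⁻¹ * τ * y) = k⁻¹ * (τ * (y * k⁻¹)) * τ * y := by group
      _ = k⁻¹ * ((y * k⁻¹) * τ) * τ * y := by
          rw [hτc _ (comm_mul hyt (comm_inv hkt))]
      _ = k⁻¹ * (y * k⁻¹) * (τ * τ) * y := by group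
      _ = (k⁻¹ * (y * k⁻¹ * y⁻¹)) * (y * y) := by rw [hττ]; group
  have hτ'c : ∀ g, g * D.t = D.t * g → g * τ' = τ' * g := by
    intro g hg
    rcases hτ' with rfl | rfl
    · rw [one_mul, mul_one]
    · exact hg
  have hκ2 : k⁻¹ * (y * k⁻¹ * y⁻¹) = (h * p2 * h⁻¹) * p2⁻¹ := by
    rw [hyy] at hsq
    have e1 : h * (p2 * τ') * h⁻¹ = (h * p2 * h⁻¹) * τ' := by
      have : h * (p2 * τ') * h⁻¹ = h * p2 * (τ' * h⁻¹) := by group
      rw [this, ← hτ'c _ (comm_inv hht)]; group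
    rw [e1] at hsq
    have e2 : (h * p2 * h⁻¹) * p2⁻¹ = ((h * p2 * h⁻¹) * τ') * (p2 * τ')⁻¹ := by
      rw [mul_inv_rev]
      have h5 := hτ'c _ (comm_inv (P_t hp2))
      calc h * p2 * h⁻¹ * p2⁻¹ = h * p2 * h⁻¹ * (τ' * τ'⁻¹) * p2⁻¹ := by group
        _ = _ := by group
    rw [e2, hsq]; group
  have hκ1 : k⁻¹ * (y * k⁻¹ * y⁻¹) = 1 := by
    apply O_P_one F hκ
    rw [hκ2]
    exact mul_mem (hhP _ hp2) (inv_mem hp2)
  have hp2' : p2 = 1 := by
    apply hfix p2 hp2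
    rw [hκ1] at hκ2
    exact (mul_inv_eq_one.mp hκ2.symm)
  refine ⟨p, hp, ?_⟩
  rw [hp2', one_mul] at hyy
  rcases hτ' with rfl | rfl
  · exact Or.inl hyy
  · exact Or.inr hyy

/-- no square root of `t` acts as a field automorphism. -/
theorem sq_ne_t {y : G} (hy : y ∈ F.Sg) (hn : Norm D y) (hch : ch F y = barE D.hq) :
    y * y ≠ D.t := by
  intro hyy
  obtain ⟨c, hc, hNc, h1, h2⟩ := outer_ca F hy hch
  have hyt := F.Sg_t y hy
  obtain ⟨w, hw, uw⟩ := W_surj D (bar_one n)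
  have hwQ := W_le D hw
  have hyw : y * w * y⁻¹ ∈ W D := NormQ.conj_W D hn hw
  have hu : u D (y * w * y⁻¹) = u D w := by
    apply u_eq D (hn.fwd w hwQ) (u_fixed D hwQ)
    have e : y * w * y⁻¹ * D.t * (y * w * y⁻¹)⁻¹ = y * (w * (y⁻¹ * D.t * y) * w⁻¹) * y⁻¹ := by
      group
    have e2 : y⁻¹ * D.t * y = D.t := by rw [mul_assoc, ← hyt]; group
    rw [e, e2, LevelOne.u_conj D hwQ]
    have e3 : y * (D.z (u D w) * D.t) * y⁻¹ = (y * D.z (u D w) * y⁻¹) * (y * D.t * y⁻¹) := by group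
    rw [e3, h2, hyt]; group
  obtain ⟨b, hb, hyb⟩ := z_of_W D ((W D).mul_mem hyw ((W D).inv_mem hw)) (by
    rw [u_mul D (hn.fwd w hwQ) (inv_mem hwQ), u_inv D hwQ, hu, Field.add_self])
  -- `w y w⁻¹ = z b y`
  have hwy : w * y * w⁻¹ = D.z b * y := by
    have e1 : y * w * y⁻¹ = D.z b * w := by rw [← hyb]; group
    have e2 : y * w = D.z b * w * y := by rw [← e1]; group
    have e3 : w * y = D.z b * (y * w) := by
      rw [e2, ← mul_assoc, ← mul_assoc, z_self, one_mul]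
    rw [e3]; group
  have hzy : y * D.z b = D.z b * y := mul_inv_eq_iff_eq_mul.mp (h2 b)
  have e : w * (y * y) * w⁻¹ = y * y := by
    have e1 : w * (y * y) * w⁻¹ = (w * y * w⁻¹) * (w * y * w⁻¹) := by group
    rw [e1, hwy]
    calc D.z b * y * (D.z b * y) = D.z b * (y * D.z b) * y := by group
      _ = (D.z b * D.z b) * (y * y) := by rw [hzy]; group
      _ = y * y := by rw [z_self, one_mul]
  rw [hyy, LevelOne.u_conj D hwQ, uw] at e
  have e' : D.z 1 = 1 := mul_eq_right.mp e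
  exact one_ne_zero (D.z_inj 1 (bar_one n) e')

/-- **the outer coset contains involutions** -/
theorem exists_invol (hn : ∀ s ∈ F.Sg, Norm D s) {x : G} (hx : x ∈ F.Sg)
    (hch : ch F x = barE D.hq) : ∃ p ∈ D.P, (p * x) * (p * x) = 1 := by
  obtain ⟨p, hp, h | h⟩ := exists_sq F hx hch
  · exact ⟨p, hp, h⟩
  · exfalso
    have hm : p * x ∈ F.Sg := mul_mem (F.P_Sg hp) hx
    refine sq_ne_t F hm (hn _ hm) ?_ h
    rw [ch_mul F (P_t hp) (F.Sg_t x hx), ch_P F hp, one_mul, hch]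

/-- `t` is not a square in `Sg / P`. -/
theorem sq_t_not_P (hn : ∀ s ∈ F.Sg, Norm D s) {x : G} (hx : x ∈ F.Sg) : x * x * D.t ∉ D.P := by
  intro h
  have hxt := F.Sg_t x hx
  have key : x * x ∈ D.P → False := by
    intro h1
    exact D.t_not (by
      have := mul_mem (inv_mem h1) h
      rwa [inv_mul_cancel_left] at this)
  have hch2 : ch F x * ch F x = 1 := by
    rw [← ch_mul F hxt hxt]
    have h1 := ch_P F h
    rw [ch_mul F (comm_mul hxt hxt) rfl, ch_t, mul_one] at h1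
    exact h1
  by_cases hch : ch F x = 1
  · rcases ch_ker F hx hch with h1 | h1
    · exact key (mul_mem h1 h1)
    · apply key
      have e : x * x = (x * D.t) * (x * D.t) := by
        calc x * x = x * (D.t * D.t) * x := by rw [D.t_sq, mul_one]
          _ = (x * D.t) * (D.t * x) := by group
          _ = _ := by rw [← hxt]
      rw [e]; exact mul_mem h1 h1
  · have hb := eq_bar D.hq hch2 hch
    obtain ⟨p, hp, hpx⟩ := exists_invol F hn hx hb
    apply key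
    have e : x * x = p⁻¹ * ((p * x) * p⁻¹ * (p * x)⁻¹) * ((p * x) * (p * x)) := by group
    rw [e, hpx, mul_one]
    exact mul_mem (inv_mem hp) (F.Sg_P _ (mul_mem (F.P_Sg hp) hx) _ (inv_mem hp))

end Cfsg.Agent.StdU3.OutInv
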