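import Cfsg.Agent.StdU3.EndN
import Cfsg.Agent.Lib.SylowNormalInf
import Cfsg.Prelude.Def_TwoFusion

/-!
# The output in the case where no outer involution of `C_G(t)` is conjugate to `t`
-/

set_option autoImplicit false
set_option linter.unusedSectionVars false
set_option linter.dupNamespace false

namespace Cfsg.Agent.StdU3.OutN

open Subgroup Cfsg.Agent.StdU3.Field Cfsg.Agent.StdU3.PreDef Cfsg.Agent.StdU3.FldDef
open Cfsg.Agent.StdU3.LevelOne Cfsg.Agent.StdU3.FieldAut Cfsg.Agent.StdU3.Rank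
open Cfsg.Agent.StdU3.OutInv Cfsg.Agent.StdU3.TermDef Cfsg.Agent.StdU3.LemC
open Cfsg.Agent.StdU3.EndN
open Cfsg.Agent.StdU3.NormQ hiding barE

variable {G : Type*} [Group G] [Finite G] {K : Type*} [Field K] [Fintype K] [CharP K 2] {n : ℕ}
variable {D : Pre G K n} (F : Fld D) (T : Term D)

theorem U_not_comm : ∃ x ∈ T.U, ∃ y ∈ T.U, x * y ≠ y * x := by
  obtain ⟨b, hb⟩ := exists_Tr_one D.hq
  obtain ⟨x, hx, hxa⟩ := D.ca_surj b
  obtain ⟨y, hy, hya⟩ := D.ca_surj 1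
  refine ⟨x, T.P_le hx, y, T.P_le hy, fun h => ?_⟩
  have h1 := D.P_comm x hx y hy
  rw [hxa, hya, bar_one, mul_one, hb, h] at h1
  have h2 : D.z 1 = 1 := (mul_eq_right.mp h1.symm)
  exact one_ne_zero (D.z_inj 1 (bar_one n) h2)

theorem card_U : 16 ≤ Nat.card T.U := by
  have h1 : Nat.card K ≤ Nat.card T.U := by
    have hs : Function.Surjective (fun x : T.U => D.ca x) := by
      intro b
      obtain ⟨x, hx, hxa⟩ := D.ca_surj b
      exact ⟨⟨x, T.P_le hx⟩, hxa⟩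
    exact Nat.card_le_card_of_surjective _ hs
  have h2 := D.hq.hK
  have h3 := four_le D.hq
  rw [← Nat.card_eq_fintype_card] at h2
  have h4 : 4 * 4 ≤ 2 ^ n * 2 ^ n := Nat.mul_le_mul h3 h3
  calc 16 ≤ 2 ^ n * 2 ^ n := h4
    _ = Nat.card K := by rw [h2, sq]
    _ ≤ Nat.card T.U := h1

/-- **the output in case (n)** -/
theorem out (hU : ∀ s ∈ F.Sg, ∀ g ∈ T.U, s * g * s⁻¹ ∈ T.U) (hn : ∀ s ∈ F.Sg, Norm D s)
    (hno : NoOut F) {E : Subgroup G} [hEn : E.Normal] (hE : commutator E = ⊤)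
    (hUE : T.U ≤ E) :
    D.t ∉ E ∧ ∃ (S : Sylow 2 E) (U : Subgroup E),
      Cfsg.IsStronglyClosed U (S : Subgroup E) ∧ ¬ IsMulCommutative U ∧
      ⁅(⊤ : Subgroup U), ⊤⁆ ≤ Subgroup.center U ∧ 16 ≤ Nat.card U := by
  have : Fact (Nat.Prime 2) := ⟨Nat.prime_two⟩
  refine ⟨t_not_mem F T hU hn hno hE, ?_⟩
  obtain ⟨S, hS⟩ := exists_sylow F T hU hn hno
  let SE : Sylow 2 E := (Lib.SylowNormalInf.isPGroup_subgroupOf S E).toSylow
    (Lib.SylowNormalInf.not_dvd_relIndex S E)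
  have hSE : (SE : Subgroup E) = (S : Subgroup G).subgroupOf E := rfl
  have hmem : ∀ x : E, x ∈ (SE : Subgroup E) ↔ x ∈ T.U.subgroupOf E := by
    intro x
    rw [hSE, mem_subgroupOf, mem_subgroupOf, hS]
    exact ⟨fun h => inf_eq F T hU hn hno hE hUE h x.2, fun h => U_le_S2 F T hU h⟩
  have hcard : Nat.card (T.U.subgroupOf E) = Nat.card T.U :=
    Nat.card_congr (subgroupOfEquivOfLe hUE).toEquiv
  refine ⟨SE, T.U.subgroupOf E, ⟨fun x hx => (hmem x).mpr hx, fun x _ g h => (hmem _).mp h⟩,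
    ?_, ?_, ?_⟩
  · intro hcomm
    obtain ⟨x, hx, y, hy, hxy⟩ := U_not_comm T
    apply hxy
    have h1 := hcomm.is_comm.comm (⟨⟨x, hUE hx⟩, hx⟩ : T.U.subgroupOf E) ⟨⟨y, hUE hy⟩, hy⟩
    exact congrArg (fun z : T.U.subgroupOf E => ((z : E) : G)) h1
  · rw [Subgroup.commutator_le]
    intro a _ b _
    rw [Subgroup.mem_center_iff]
    intro c
    apply Subtype.ext
    apply Subtype.ext
    exact (T.class_two a a.2 b b.2 c c.2).symm
  · rw [hcard]; exact card_U T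

end Cfsg.Agent.StdU3.OutN
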