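import Cfsg.Agent.StdU3.OuterA

/-!
# An outer involution `e` conjugate to `t`, `gam = 1`: the group `P_e`

`W ≤ P_e ≤ N2`, and not all elements of `N2` act on `W` as `1` or as inversion.
-/

set_option autoImplicit false
set_option linter.unusedSectionVars false
set_option linter.dupNamespace false

namespace Cfsg.Agent.StdU3.OuterB

open Subgroup Cfsg.Agent.StdU3.Field Cfsg.Agent.StdU3.PreDef Cfsg.Agent.StdU3.FldDef
open Cfsg.Agent.StdU3.LevelOne Cfsg.Agent.StdU3.LevelOneW Cfsg.Agent.StdU3.Rank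
open Cfsg.Agent.StdU3.NormQ Cfsg.Agent.StdU3.Kernel Cfsg.Agent.StdU3.Next
open Cfsg.Agent.StdU3.Outer Cfsg.Agent.StdU3.Swap Cfsg.Agent.StdU3.SwapTorus
open Cfsg.Agent.StdU3.OuterTorus Cfsg.Agent.StdU3.OuterA

variable {G : Type*} [Group G] {K : Type*} [Field K] [Fintype K] [CharP K 2] {n : ℕ}
variable {D : Pre G K n} {F : Fld D} {e g : G} {c r : K}

/-! ### General facts on `P_e` -/

theorem isPGroup_Pe : IsPGroup 2 (Pe D g) := (D.Q_two.to_le D.P_le).map _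

theorem z_Pe (hC : Cj F e g) (b : K) : D.z b ∈ Pe D g := by
  obtain ⟨b', hb', hbb⟩ := z_fixed D b
  obtain ⟨d, hd, h⟩ := hC.z' b' hb'
  rw [mem_Pe, hbb, h]
  exact D.z_mem d

theorem comm_z_Pe (hC : Cj F e g) {x : G} (hx : x ∈ Pe D g) (b : K) : Commute x (D.z b) := by
  obtain ⟨b', hb', hbb⟩ := z_fixed D b
  obtain ⟨d, hd, h⟩ := hC.z' b' hb'
  have h1 := D.Q_Z _ (D.P_le (mem_Pe.mp hx)) d
  rw [hbb]
  show x * D.z b' = D.z b' * x
  rw [← h] at h1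
  calc x * D.z b' = g * (g⁻¹ * x * g * (g⁻¹ * D.z b' * g)) * g⁻¹ := by group
    _ = _ := by rw [h1]; group

theorem comm_e (hC : Cj F e g) {x : G} (hx : x ∈ Pe D g) : Commute x e := by
  have h1 := P_t (D := D) (mem_Pe.mp hx)
  rw [← hC.te]
  show x * (g * D.t * g⁻¹) = g * D.t * g⁻¹ * x
  calc x * (g * D.t * g⁻¹) = g * (g⁻¹ * x * g * D.t) * g⁻¹ := by group
    _ = _ := by rw [h1]; group

theorem sq_Pe (hC : Cj F e g) {x : G} (hx : x ∈ Pe D g) : ∃ b, bar n b = b ∧ x * x = D.z b := by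
  have h1 := D.P_sq _ (mem_Pe.mp hx)
  obtain ⟨d, hd, h2⟩ := hC.z _ (fixed_N D.hq (D.ca (g⁻¹ * x * g)))
  refine ⟨d, hd, ?_⟩
  rw [← h2, ← h1]; group

theorem cmt_Pe (hC : Cj F e g) {x y : G} (hx : x ∈ Pe D g) (hy : y ∈ Pe D g) :
    ∃ b, bar n b = b ∧ x * y * x⁻¹ = D.z b * y := by
  have h1 := P_conj D (mem_Pe.mp hx) (mem_Pe.mp hy)
  obtain ⟨d, hd, h2⟩ := hC.z _ (fixed_Tr D.hq (D.ca (g⁻¹ * x * g) * bar n (D.ca (g⁻¹ * y * g))))
  refine ⟨d, hd, ?_⟩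
  rw [← h2]
  calc x * y * x⁻¹ = g * (g⁻¹ * x * g * (g⁻¹ * y * g) * (g⁻¹ * x * g)⁻¹) * g⁻¹ := by group
    _ = _ := by rw [h1]; group

/-- elements of `C(e)` mapping some `z b ≠ 1` into `Z` normalize `P_e`. -/
theorem norm_Pe (hC : Cj F e g) {o : G} (hoe : Commute o e) {b : K} (hb : bar n b = b)
    (hb0 : b ≠ 0) {b' : K} (hob : o * D.z b * o⁻¹ = D.z b') {x : G} (hx : x ∈ Pe D g) :
    o * x * o⁻¹ ∈ Pe D g := by
  have ht : (g⁻¹ * o * g) * D.t = D.t * (g⁻¹ * o * g) := by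
    have h1 : D.t = g⁻¹ * e * g := by rw [← hC.te]; group
    rw [h1]
    calc g⁻¹ * o * g * (g⁻¹ * e * g) = g⁻¹ * (o * e) * g := by group
      _ = g⁻¹ * (e * o) * g := by rw [hoe.eq]
      _ = _ := by group
  obtain ⟨d, hd, h1⟩ := hC.z' b hb
  have hd1 : D.z d ≠ 1 := by
    intro h2
    rw [h2] at h1
    apply hb0
    apply D.z_inj b hb
    have : D.z b = g * (g⁻¹ * D.z b * g) * g⁻¹ := by group
    rw [this, h1]; group
  have h2 := F.ti _ ht (D.z d) (D.z_mem d) hd1 (by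
    have h3 : g⁻¹ * o * g * D.z d * (g⁻¹ * o * g)⁻¹ = g⁻¹ * D.z b' * g := by
      rw [← h1, ← hob]; group
    rw [h3]
    exact mem_Pe.mp (z_Pe hC b'))
  rw [mem_Pe]
  have h3 := h2 _ (mem_Pe.mp hx)
  have e1 : g⁻¹ * o * g * (g⁻¹ * x * g) * (g⁻¹ * o * g)⁻¹ = g⁻¹ * (o * x * o⁻¹) * g := by group
  rwa [e1] at h3

theorem one_ne_zero_z : (1 : K) ≠ 0 := one_ne_zero

/-- `P_e` depends only on `e`. -/
theorem Pe_eq [Finite G] (hC : Cj F e g) {y : G} (hy : y * D.t * y⁻¹ = e)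
    (hyz : ∀ b, bar n b = b → ∃ c, bar n c = c ∧ y * D.z b * y⁻¹ = D.z c) : Pe D y = Pe D g := by
  have ht : (g⁻¹ * y) * D.t = D.t * (g⁻¹ * y) := by
    have h1 : y * D.t = g * D.t * g⁻¹ * y := by rw [hC.te, ← hy]; group
    calc (g⁻¹ * y) * D.t = g⁻¹ * (y * D.t) := by group
      _ = _ := by rw [h1]; group
  obtain ⟨c, hc, h1⟩ := hyz 1 (bar_one n)
  obtain ⟨d, hd, h2⟩ := hC.z' c hc
  have h3 := F.ti _ ht (D.z 1) (D.z_mem 1) (fun h => one_ne_zero (D.z_inj 1 (bar_one n) h)) (by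
    have h4 : g⁻¹ * y * D.z 1 * (g⁻¹ * y)⁻¹ = D.z d := by rw [← h2, ← h1]; group
    rw [h4]; exact D.z_mem d)
  have hle : Pe D y ≤ Pe D g := by
    intro x hx
    have h4 := h3 _ (mem_Pe.mp hx)
    rw [mem_Pe]
    have e1 : g⁻¹ * y * (y⁻¹ * x * y) * (g⁻¹ * y)⁻¹ = g⁻¹ * x * g := by group
    rwa [e1] at h4
  apply Subgroup.eq_of_le_of_card_ge hle
  unfold Pe
  rw [Subgroup.card_map_of_injective (MulAut.conj g).injective,
    Subgroup.card_map_of_injective (MulAut.conj y).injective]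

/-- the torus element `o` -/
theorem exists_o [Finite G] (h : Dat F e g c r) :
    ∃ o l, Norm D o ∧ Commute o D.t ∧ Commute o e ∧ Odd (orderOf o) ∧ bar n l = l ∧
      l ^ 2 + 1 ≠ 0 ∧ (∀ w ∈ W D, u D (o * w * o⁻¹) = l ^ 2 * u D w) ∧
      (∀ b, bar n b = b → o * D.z b * o⁻¹ = D.z (l ^ 2 * b)) := by
  obtain ⟨l, hl, hl1⟩ := exists_fixed_ne D.hq
  obtain ⟨o, hoN, hot, hoe, hodd, hoA, -⟩ := exists_torus h.inv h.out.norm hl
  have hth : ∀ b, bar n b = b → th D o b = (l : K) ^ 2 * b := by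
    intro b hb
    obtain ⟨y, rfl⟩ := exists_norm D.hq hb
    rw [← N_A D hoN, hoA, N_mul, N_of_fixed hl]
  refine ⟨o, l, hoN, hot, hoe, hodd, hl, ?_, ?_, ?_⟩
  · intro h2
    have h1 : ((l : K) + 1) * ((l : K) + 1) = 0 := by
      have : ((l : K) + 1) * ((l : K) + 1) = ((l : K) ^ 2 + 1) + ((l : K) + l) := by ring
      rw [this, h2, Field.add_self, add_zero]
    exact hl1 (Field.add_eq_zero.mp (mul_self_eq_zero.mp h1))
  · intro w hw
    rw [u_conj_W D hoN hw, hth _ (u_fixed D (W_le D hw))]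
  · intro b hb
    rw [th_conj D hoN, hth b hb]

/-! ### `W ≤ P_e` -/

section one
variable (h : Dat F e g c r) (hg : gam D = 1)
include h hg

theorem r_zero [Finite G] : r = 0 := by rw [h.r_eq, hg, Field.add_self]

theorem comm_W_e [Finite G] {w : G} (hw : w ∈ W D) : Commute w e := by
  have h1 := h.act w hw
  rw [r_zero h hg, zero_mul, z_zero, one_mul] at h1
  exact (mul_inv_eq_iff_eq_mul.mp h1).symm

theorem W_A [Finite G] {w : G} (hw : w ∈ W D) : g⁻¹ * w * g ∈ F.A := by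
  obtain ⟨o, l, hoN, hot, hoe, hodd, hl, hl0, hou, hoz⟩ := exists_o h
  have hlf : bar n (l ^ 2 + 1)⁻¹ = (l ^ 2 + 1)⁻¹ :=
    fixed_inv (fixed_add (by rw [bar_pow, hl]) (bar_one n))
  obtain ⟨w1, hw1, hu1⟩ := W_surj D (fixed_mul hlf (u_fixed D (W_le D hw)))
  have hwQ := W_le D hw
  have how := conj_W D hoN hw1
  have hc := (W D).mul_mem how ((W D).inv_mem hw1)
  have hu : u D (o * w1 * o⁻¹ * w1⁻¹) = u D w := by
    rw [u_mul D (W_le D how) (inv_mem (W_le D hw1)), u_inv D (W_le D hw1), hou w1 hw1, hu1]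
    field_simp
  obtain ⟨b, hb, h1⟩ := z_of_W D ((W D).mul_mem hw ((W D).inv_mem hc)) (by
    rw [u_mul D hwQ (inv_mem (W_le D hc)), u_inv D (W_le D hc), hu, Field.add_self])
  have h2 := LemC.cmt_mem_A F (B := W D) (D.Q_two.to_le (W_le' D)) (y := g)
    (by
      intro b hb
      rw [h.cj.te]; exact comm_W_e h hg hb)
    (o := o) (by rw [h.cj.te]; exact hoe) hodd (fun b hb => conj_W D hoN hb) hw1
  have h3 : g⁻¹ * w * g = (g⁻¹ * D.z b * g) * (g⁻¹ * (o * w1 * o⁻¹ * w1⁻¹) * g) := by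
    rw [← h1]; group
  rw [h3]
  exact mul_mem (F.P_A (mem_Pe.mp (z_Pe h.cj b))) h2

/-- **`W ≤ P_e`** -/
theorem W_Pe [Finite G] {w : G} (hw : w ∈ W D) : w ∈ Pe D g := by
  obtain ⟨a, ha, hX⟩ := F.syl ((W D).map (MulAut.conj g⁻¹).toMonoidHom)
    ((D.Q_two.to_le (W_le' D)).map _) (by
      rintro _ ⟨w, hw, rfl⟩
      show g⁻¹ * w * g⁻¹⁻¹ ∈ F.A
      rw [inv_inv]
      exact W_A h hg hw)
  have hX' : ∀ w ∈ W D, a⁻¹ * (g⁻¹ * w * g) * a ∈ D.P := by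
    intro w hw
    have := hX _ ⟨w, hw, rfl⟩
    have e1 : (MulAut.conj g⁻¹).toMonoidHom w = g⁻¹ * w * g := by
      show g⁻¹ * w * g⁻¹⁻¹ = _
      rw [inv_inv]
    rwa [e1] at this
  -- `a` normalizes `P`
  obtain ⟨d, hd, hdd⟩ := h.cj.z' 1 (bar_one n)
  have h1 := hX' _ (z_mem_W D 1)
  rw [hdd] at h1
  have hd1 : D.z d ≠ 1 := by
    intro h2
    rw [h2] at hdd
    apply one_ne_zero_z (K := K)
    apply D.z_inj 1 (bar_one n)
    have : D.z 1 = g * (g⁻¹ * D.z 1 * g) * g⁻¹ := by group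
    rw [this, hdd]; group
  have h2 := F.ti a (F.A_t a ha) _ h1 (by
    intro h3
    apply hd1
    have : D.z d = a * (a⁻¹ * D.z d * a) * a⁻¹ := by group
    rw [this, h3]; group) (by
    have : a * (a⁻¹ * D.z d * a) * a⁻¹ = D.z d := by group
    rw [this]; exact D.z_mem d)
  have h3 := h2 _ (hX' w hw)
  have e1 : a * (a⁻¹ * (g⁻¹ * w * g) * a) * a⁻¹ = g⁻¹ * w * g := by group
  rw [e1] at h3
  exact mem_Pe.mpr h3

/-- `t` inverts `W`. -/
theorem t_W {w : G} (hw : w ∈ W D) : D.t * w * D.t⁻¹ = w⁻¹ := by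
  have hwQ := W_le D hw
  have h1 := W_sq D hw
  rw [hg, one_mul] at h1
  rw [t_conj D hwQ, ← h1]
  have h2 : w * w * (w * w) = 1 := by rw [h1, z_self]
  have h3 : w * w * w * w = 1 := by rw [← h2]; group
  exact eq_inv_of_mul_eq_one_left h3

omit hg in
theorem exists_c' [Finite G] : ∃ c', Out D (g⁻¹ * D.t * g) c' := out_of h.cj.inv (h.hn _ h.cj.mem)

theorem line_W [Finite G] {c' : K} (ho : Out D (g⁻¹ * D.t * g) c') {w : G} (hw : w ∈ W D) :
    c' * bar n (D.ca (g⁻¹ * w * g)) = D.ca (g⁻¹ * w * g) := by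
  have hp := mem_Pe.mp (W_Pe h hg hw)
  rw [← ho.ca_conj hp, ← ca_inv D hp]
  congr 1
  have h1 := t_W h hg hw
  calc g⁻¹ * D.t * g * (g⁻¹ * w * g) * (g⁻¹ * D.t * g)⁻¹ = g⁻¹ * (D.t * w * D.t⁻¹) * g := by group
    _ = (g⁻¹ * w * g)⁻¹ := by rw [h1]; group

theorem mem_W_of_line [Finite G] {c' : K} (ho : Out D (g⁻¹ * D.t * g) c') {x : G}
    (hx : x ∈ Pe D g) (hl : c' * bar n (D.ca (g⁻¹ * x * g)) = D.ca (g⁻¹ * x * g)) : x ∈ W D := by
  obtain ⟨b, hb, hxx⟩ := sq_Pe h.cj hx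
  obtain ⟨w, hw, hu⟩ := W_surj D hb
  have hww := W_sq D hw
  rw [hg, one_mul, hu, ← hxx] at hww
  have hlw := line_W h hg ho hw
  have hxP := mem_Pe.mp hx
  have hwP := mem_Pe.mp (W_Pe h hg hw)
  have hN : N n (D.ca (g⁻¹ * w * g)) = N n (D.ca (g⁻¹ * x * g)) := by
    apply z_eq D (fixed_N D.hq _) (fixed_N D.hq _)
    rw [← D.P_sq _ hwP, ← D.P_sq _ hxP]
    calc g⁻¹ * w * g * (g⁻¹ * w * g) = g⁻¹ * (w * w) * g := by group
      _ = _ := by rw [hww]; group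
  obtain ⟨c0, hc0, h0⟩ := exists_line D.hq ho.N_c
  obtain ⟨l, hl1, hl2⟩ := line_eq hc0 h0 hl
  obtain ⟨m, hm1, hm2⟩ := line_eq hc0 h0 hlw
  rw [hl2, hm2, N_mul, N_mul, N_of_fixed hl1, N_of_fixed hm1] at hN
  have h1 := mul_right_cancel₀ (N_ne_zero hc0) hN
  have h2 : (m + l) * (m + l) = 0 := by
    have : (m + l) * (m + l) = m ^ 2 + l ^ 2 + (m * l + m * l) := by ring
    rw [this, h1, Field.add_self, Field.add_self, add_zero]
  have h3 : m = l := Field.add_eq_zero.mp (mul_self_eq_zero.mp h2)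
  obtain ⟨d, hd, h4⟩ := eq_z_mul D hxP hwP (by rw [hl2, hm2, h3])
  have h5 : x = (g * D.z d * g⁻¹) * w := by
    calc x = g * (g⁻¹ * x * g) * g⁻¹ := by group
      _ = _ := by rw [h4]; group
  obtain ⟨d', hd', h6⟩ := h.cj.z d hd
  rw [h5, h6]
  exact (W D).mul_mem (z_mem_W D d') hw

/-- `[x, t] ∈ W` for `x ∈ P_e`. -/
theorem cmt_t [Finite G] {x : G} (hx : x ∈ Pe D g) : x * D.t * x⁻¹ * D.t ∈ W D := by
  obtain ⟨c', ho⟩ := exists_c' h
  have hp := mem_Pe.mp hx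
  have h1 := ho.P_mem (inv_mem hp)
  have h2 : g⁻¹ * (x * D.t * x⁻¹ * D.t) * g =
      (g⁻¹ * x * g) * ((g⁻¹ * D.t * g) * (g⁻¹ * x * g)⁻¹ * (g⁻¹ * D.t * g)⁻¹) := by
    have h3 : (g⁻¹ * D.t * g)⁻¹ = g⁻¹ * D.t * g := ho.inv_eq
    rw [h3]; group
  apply mem_W_of_line h hg ho
  · rw [mem_Pe, h2]
    exact mul_mem hp h1
  · rw [h2, D.ca_mul _ hp _ h1, ho.ca_conj (inv_mem hp), ca_inv D hp, bar_add, bar_mul,
      bar_bar D.hq, mul_add, ← mul_assoc, ← N_def, ho.N_c, one_mul, add_comm]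

/-- the elements of `P_e` moving `t` by `Z` are in `W`. -/
theorem mem_W_of_z [Finite G] {x : G} (hx : x ∈ Pe D g) {b : K}
    (hb : x * D.t * x⁻¹ = D.z b * D.t) : x ∈ W D := by
  obtain ⟨c', ho⟩ := exists_c' h
  have hp := mem_Pe.mp hx
  have h1 := ho.P_mem (inv_mem hp)
  apply mem_W_of_line h hg ho hx
  obtain ⟨b', hb', hbb⟩ := z_fixed D b
  obtain ⟨d, hd, hdd⟩ := h.cj.z' b' hb'
  have h2 : (g⁻¹ * x * g) * ((g⁻¹ * D.t * g) * (g⁻¹ * x * g)⁻¹ * (g⁻¹ * D.t * g)⁻¹) = D.z d := by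
    rw [← hdd, ← hbb]
    calc (g⁻¹ * x * g) * ((g⁻¹ * D.t * g) * (g⁻¹ * x * g)⁻¹ * (g⁻¹ * D.t * g)⁻¹)
        = g⁻¹ * (x * D.t * x⁻¹) * D.t⁻¹ * g := by group
      _ = _ := by rw [hb]; group
  have h3 : D.ca ((g⁻¹ * x * g) * ((g⁻¹ * D.t * g) * (g⁻¹ * x * g)⁻¹ * (g⁻¹ * D.t * g)⁻¹)) = 0 := by
    rw [h2, D.ca_z]
  rw [D.ca_mul _ hp _ h1, ho.ca_conj (inv_mem hp), ca_inv D hp] at h3
  exact (Field.add_eq_zero.mp h3).symm

/-- surjectivity. -/
theorem surj_t [Finite G] {y : G} (hy : y ∈ W D) : ∃ x ∈ Pe D g, x * D.t * x⁻¹ = y * D.t := by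
  obtain ⟨c', ho⟩ := exists_c' h
  obtain ⟨p, hp, h1⟩ := ho.conj_P (mem_Pe.mp (W_Pe h hg hy)) (line_W h hg ho hy)
  refine ⟨g * p * g⁻¹, ⟨p, hp, rfl⟩, ?_⟩
  calc g * p * g⁻¹ * D.t * (g * p * g⁻¹)⁻¹ = g * (p * (g⁻¹ * D.t * g) * p⁻¹) * g⁻¹ := by group
    _ = y * D.t := by rw [h1]; group

theorem conj_W_Pe [Finite G] {x w : G} (hx : x ∈ Pe D g) (hw : w ∈ W D) : x * w * x⁻¹ ∈ W D := by
  obtain ⟨b, -, h1⟩ := cmt_Pe h.cj hx (W_Pe h hg hw)
  rw [h1]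
  exact (W D).mul_mem (z_mem_W D b) hw

/-! ### `P_e` normalizes `P` -/

/-- elements of order dividing four centralizing `t` and `W` without Galois component. -/
theorem mem_P_of_four {m : G} (hmt : m * D.t = D.t * m) (hmW : ∀ w ∈ W D, m * w = w * m)
    (hch : ch F m = 1) (h4 : (m * m) * (m * m) = 1) : m ∈ D.P := by
  obtain ⟨hmP, -, c0, hN, hc0⟩ := act_of_cz (F := F) hmt (fun b => hmW _ (z_mem_W D b))
  have hc0' : ∀ p ∈ D.P, D.ca (m * p * m⁻¹) = c0 * D.ca p := by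
    intro p hp
    rw [hc0 p hp, hch]; rfl
  have hc1 : c0 = 1 := by
    obtain ⟨p, hp, hp1⟩ := D.ca_surj 1
    have h1 := hmP p hp
    have h2 := hmP _ h1
    have h3 := hmP _ h2
    have h5 : m * (m * (m * (m * p * m⁻¹) * m⁻¹) * m⁻¹) * m⁻¹ = p := by
      have : m * (m * (m * (m * p * m⁻¹) * m⁻¹) * m⁻¹) * m⁻¹ =
        ((m * m) * (m * m)) * p * ((m * m) * (m * m))⁻¹ := by group
      rw [this, h4]; group
    have h6 := hc0' _ h3
    rw [h5, hc0' _ h2, hc0' _ h1, hc0' _ hp, hp1, mul_one] at h6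
    have h7 : ((c0 + 1) * (c0 + 1)) * ((c0 + 1) * (c0 + 1)) = 0 := by
      have : ((c0 + 1) * (c0 + 1)) * ((c0 + 1) * (c0 + 1)) = (c0 * (c0 * (c0 * c0)) + 1) +
        (2 : K) * (2 * c0 ^ 3 + 3 * c0 ^ 2 + 2 * c0) := by ring
      rw [this, ← h6, Field.add_self, CharTwo.two_eq_zero, zero_mul, add_zero]
    exact Field.add_eq_zero.mp (mul_self_eq_zero.mp (mul_self_eq_zero.mp h7))
  obtain ⟨x1, hx1, k, hk, hmk⟩ := F.amb.dec m hmt (fun p hp => ⟨hmP p hp, by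
    rw [hc0' p hp, hc1, one_mul]⟩)
  have hkt : Commute k D.t := F.amb.O_t k hk
  have hx1t : x1 * D.t = D.t * x1 := by
    have e1 : x1 = m * k⁻¹ := by rw [hmk]; group
    rw [e1]
    exact (show Commute m D.t from hmt).mul_left hkt.inv_left
  have hcls := D.Q_T x1 hx1 hx1t
  have hcomm : Commute x1 k := by
    rcases hcls with h5 | h5
    · exact (F.amb.O_P k hk _ h5).symm
    · have e : x1 = x1 * D.t * D.t := by rw [mul_assoc, D.t_sq, mul_one]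
      rw [e]
      exact (show Commute (x1 * D.t) k from (F.amb.O_P k hk _ h5).symm).mul_left hkt.symm
  have hk4 : (x1 * x1) * (x1 * x1) * k ^ (2 ^ 2) = 1 := by
    have h0 : ∀ y : G, y ^ 4 = (y * y) * (y * y) := by
      intro y
      rw [show (4 : ℕ) = 2 + 2 from rfl, pow_add, pow_two]
    have h5 : m ^ 4 = 1 := by rw [h0, h4]
    rw [hmk, hcomm.mul_pow] at h5
    rw [← h0]; exact h5
  have hk1 : k = 1 := by
    have h5 : k ^ (2 ^ 2) = ((x1 * x1) * (x1 * x1))⁻¹ := eq_inv_of_mul_eq_one_right hk4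
    have h6 : k ^ (2 ^ 2) = 1 := eq_one_of_O_Q F.amb (pow_mem hk _) (by
      rw [h5]; exact inv_mem (mul_mem (mul_mem hx1 hx1) (mul_mem hx1 hx1)))
    exact eq_one_of_O D F.amb hk h6
  rw [hk1, mul_one] at hmk
  rw [hmk]
  rcases hcls with h5 | h5
  · exact h5
  · exfalso
    obtain ⟨w, hw, hu⟩ := W_surj D (bar_one n)
    have h6 : Commute (x1 * D.t) w := P_W_comm D h5 hw
    have h7 : Commute x1 w := by rw [← hmk]; exact hmW w hw
    have h8 : Commute D.t w := by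
      have e : D.t = x1⁻¹ * (x1 * D.t) := by group
      rw [e]
      exact h7.inv_left.mul_left h6
    have h9 := t_conj D (W_le D hw)
    rw [h8.eq, mul_inv_cancel_right, hu] at h9
    exact one_ne_zero (D.z_inj 1 (bar_one n) (mul_eq_right.mp h9.symm))

omit h hg in
/-- a torus element of norm one commuting with `W`. -/
theorem exists_a [Finite G] (D : Pre G K n) : ∃ a, Commute a D.t ∧ (∀ w ∈ W D, Commute a w) ∧
    ∃ ω : K, bar n ω ≠ ω ∧ (∀ p ∈ D.P, a * p * a⁻¹ ∈ D.P ∧ D.ca (a * p * a⁻¹) = ω * D.ca p) := by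
  obtain ⟨k, hk1, hk3, -⟩ := exists_norm_one D.hq
  have hw1 : w n k = (k : K) ^ 3 := w_of_norm_one hk1
  have hz : ∀ b, Commute (D.h k) (D.z b) := by
    intro b
    obtain ⟨b', hb', hbb⟩ := z_fixed D b
    have h1 := h_z D k hb'
    rw [hk1, one_mul] at h1
    rw [hbb]
    exact mul_inv_eq_iff_eq_mul.mp h1
  refine ⟨D.h k * D.h k, ?_, ?_, (w n k) * (w n k), ?_, ?_⟩
  · have h1 : Commute (D.h k) D.t := (D.t_h k).symm
    exact h1.mul_left h1
  · intro w hw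
    have hwQ := W_le D hw
    have hw' := W_h D k hw
    obtain ⟨b, hb, h1⟩ := z_of_W D ((W D).mul_mem hw' ((W D).inv_mem hw)) (by
      rw [u_mul D (W_le D hw') (inv_mem hwQ), u_inv D hwQ, u_h D k hwQ, hk1, one_mul,
        Field.add_self])
    have h2 : D.h k * w * (D.h k)⁻¹ = D.z b * w := mul_inv_eq_iff_eq_mul.mp h1
    have h3 : (D.h k * D.h k) * w * (D.h k * D.h k)⁻¹ = w := by
      calc (D.h k * D.h k) * w * (D.h k * D.h k)⁻¹
          = D.h k * (D.h k * w * (D.h k)⁻¹) * (D.h k)⁻¹ := by group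
        _ = (D.h k * D.z b) * w * (D.h k)⁻¹ := by rw [h2]; group
        _ = D.z b * (D.h k * w * (D.h k)⁻¹) := by rw [(hz b).eq]; group
        _ = w := by rw [h2, ← mul_assoc, z_self, one_mul]
    exact mul_inv_eq_iff_eq_mul.mp h3
  · intro h1
    -- `ω` fixed of norm one, hence one
    have h2 : N n (w n k * w n k) = 1 := by
      rw [N_mul, N_w D, hk1, mul_one]
    rw [N_def, h1] at h2
    have h3 : (w n k * w n k + 1) * (w n k * w n k + 1) = 0 := by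
      have : (w n k * w n k + 1) * (w n k * w n k + 1) =
        (w n k * w n k) * (w n k * w n k) + 1 + (w n k * w n k + w n k * w n k) := by ring
      rw [this, h2, Field.add_self, Field.add_self, add_zero]
    have h4 : w n k * w n k = 1 := Field.add_eq_zero.mp (mul_self_eq_zero.mp h3)
    have h5 : (w n k + 1) * (w n k + 1) = 0 := by
      have : (w n k + 1) * (w n k + 1) = w n k * w n k + 1 + (w n k + w n k) := by ring
      rw [this, h4, Field.add_self, Field.add_self, add_zero]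
    have h6 : w n k = 1 := Field.add_eq_zero.mp (mul_self_eq_zero.mp h5)
    rw [hw1] at h6
    exact hk3 h6
  · intro p hp
    have h1 := D.h_P k p hp
    have h2 := D.h_P k _ h1
    have e : D.h k * D.h k * p * (D.h k * D.h k)⁻¹ =
        D.h k * (D.h k * p * (D.h k)⁻¹) * (D.h k)⁻¹ := by group
    rw [e]
    exact ⟨h2, by rw [D.h_ca k _ h1, D.h_ca k _ hp, mul_assoc]⟩

/-- **`P_e` normalizes `P`.** -/
theorem norm_P [Finite G] {x p : G} (hx : x ∈ Pe D g) (hp : p ∈ D.P) : x * p * x⁻¹ ∈ D.P := by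
  have hxi := inv_mem hx
  have hPW : ∀ p ∈ D.P, ∀ w ∈ W D, Commute p w := fun p hp w hw => P_W_comm D hp hw
  have hPt : ∀ p ∈ D.P, Commute p D.t := fun p hp => P_t (D := D) hp
  -- the elements of `x P x⁻¹`
  have hR : ∀ p ∈ D.P, (x * p * x⁻¹) * D.t = D.t * (x * p * x⁻¹) ∧
      (∀ w ∈ W D, (x * p * x⁻¹) * w = w * (x * p * x⁻¹)) ∧
      ((x * p * x⁻¹) * (x * p * x⁻¹)) * ((x * p * x⁻¹) * (x * p * x⁻¹)) = 1 := by
    intro p hp
    refine ⟨?_, ?_, ?_⟩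
    · have h1 := cmt_t h hg hxi
      rw [inv_inv] at h1
      have h2 : Commute p (x⁻¹ * D.t * x) := by
        have e1 : x⁻¹ * D.t * x = (x⁻¹ * D.t * x * D.t) * D.t := by
          rw [mul_assoc _ D.t D.t, D.t_sq, mul_one]
        rw [e1]
        exact (hPW p hp _ h1).mul_right (hPt p hp)
      calc (x * p * x⁻¹) * D.t = x * (p * (x⁻¹ * D.t * x)) * x⁻¹ := by group
        _ = x * ((x⁻¹ * D.t * x) * p) * x⁻¹ := by rw [h2.eq]
        _ = _ := by group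
    · intro w hw
      have h1 := conj_W_Pe h hg hxi hw
      rw [inv_inv] at h1
      have h2 := hPW p hp _ h1
      calc (x * p * x⁻¹) * w = x * (p * (x⁻¹ * w * x)) * x⁻¹ := by group
        _ = x * ((x⁻¹ * w * x) * p) * x⁻¹ := by rw [h2.eq]
        _ = _ := by group
    · have h1 : p * p * (p * p) = 1 := by rw [D.P_sq p hp, z_self]
      calc _ = x * (p * p * (p * p)) * x⁻¹ := by group
        _ = 1 := by rw [h1]; group
  obtain ⟨h1, h2, h3⟩ := hR p hp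
  obtain ⟨hvP, hch | hch, c0, hN, hc0⟩ := act_of_cz (F := F) h1 (fun b => h2 _ (z_mem_W D b))
  · exact mem_P_of_four h hg h1 h2 hch h3
  · exfalso
    obtain ⟨a, hat, haW, ω, hω, haP⟩ := exists_a D
    set m := x * p * x⁻¹ with hm
    -- `a' = x⁻¹ a x`
    set a' := x⁻¹ * a * x with ha'
    have ha't : a' * D.t = D.t * a' := by
      have h4 := cmt_t h hg hx
      have h5 : Commute a (x * D.t * x⁻¹) := by
        have e1 : x * D.t * x⁻¹ = (x * D.t * x⁻¹ * D.t) * D.t := by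
          rw [mul_assoc _ D.t D.t, D.t_sq, mul_one]
        rw [e1]
        exact (haW _ h4).mul_right hat
      calc a' * D.t = x⁻¹ * (a * (x * D.t * x⁻¹)) * x := by rw [ha']; group
        _ = x⁻¹ * ((x * D.t * x⁻¹) * a) * x := by rw [h5.eq]
        _ = _ := by rw [ha']; group
    have ha'z : ∀ b, a' * D.z b = D.z b * a' := by
      intro b
      have h4 := comm_z_Pe h.cj hx b
      have h5 := haW _ (z_mem_W D b)
      exact (h4.inv_left.mul_left h5).mul_left h4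
    obtain ⟨ha'P, -, -⟩ := act_of_cz (F := F) ha't ha'z
    have hp2 : a' * p * a'⁻¹ * p⁻¹ ∈ D.P := mul_mem (ha'P p hp) (inv_mem hp)
    have hs : a * m * a⁻¹ * m⁻¹ = x * (a' * p * a'⁻¹ * p⁻¹) * x⁻¹ := by rw [hm, ha']; group
    obtain ⟨s1, s2, s3⟩ := hR _ hp2
    have hsch : ch F (x * (a' * p * a'⁻¹ * p⁻¹) * x⁻¹) = 1 := by
      rw [← hs, ch_mul F (comm_mul (comm_mul hat h1) (comm_inv hat)) (comm_inv h1),
        ch_conj F hat h1, ch_inv F h1, mul_inv_cancel]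
    have hsP := mem_P_of_four h hg s1 s2 hsch s3
    rw [← hs] at hsP
    -- compare the actions
    obtain ⟨q, hq, hq1⟩ := D.ca_surj 1
    have e1 : (a * m * a⁻¹ * m⁻¹) * (m * (a * q * a⁻¹) * m⁻¹) * (a * m * a⁻¹ * m⁻¹)⁻¹ =
        a * (m * q * m⁻¹) * a⁻¹ := by group
    have h4 := hvP _ (haP q hq).1
    have h5 := congrArg D.ca e1
    rw [D.ca_mul _ (mul_mem hsP h4) _ (inv_mem hsP), D.ca_mul _ hsP _ h4, ca_inv D hsP,
      (haP _ (hvP q hq)).2, hc0 _ (haP q hq).1, hc0 q hq, (haP q hq).2, hq1, hch, mul_one,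
      map_one, mul_one] at h5
    have h6 : D.ca (a * m * a⁻¹ * m⁻¹) + c0 * FieldAut.barE D.hq ω +
        D.ca (a * m * a⁻¹ * m⁻¹) = c0 * bar n ω := by
      show D.ca (a * m * a⁻¹ * m⁻¹) + c0 * bar n ω + D.ca (a * m * a⁻¹ * m⁻¹) = c0 * bar n ω
      rw [add_comm (D.ca _), add_assoc, Field.add_self, add_zero]
    rw [h6] at h5
    have hc0' : c0 ≠ 0 := by
      rintro rfl
      rw [N_zero] at hN
      exact zero_ne_one hN
    apply hω
    have h7 : c0 * bar n ω = c0 * ω := by rw [h5, mul_comm]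
    exact mul_left_cancel₀ hc0' h7

theorem norm_Q [Finite G] {x : G} (hx : x ∈ Pe D g) : Norm D x := by
  apply norm_of_fwd
  intro q hq
  have hV : ∀ v ∈ V D, x * v * x⁻¹ ∈ D.Q := by
    rintro _ ⟨p, hp, w, hw, rfl⟩
    rw [NormQ.conj_mul]
    exact mul_mem (D.P_le (norm_P h hg hx hp)) (W_le D (conj_W_Pe h hg hx hw))
  rcases V_or D hq with h1 | h1
  · exact hV q h1
  · have h2 := hV _ h1
    have h3 := cmt_t h hg hx
    have h4 : x * D.t * x⁻¹ ∈ D.Q := by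
      have e1 : x * D.t * x⁻¹ = (x * D.t * x⁻¹ * D.t) * D.t := by
        rw [mul_assoc _ D.t D.t, D.t_sq, mul_one]
      rw [e1]
      exact mul_mem (W_le D h3) D.Q_t
    have e2 : x * q * x⁻¹ = (x * (q * D.t) * x⁻¹) * (x * D.t * x⁻¹)⁻¹ := by group
    rw [e2]
    exact mul_mem h2 (inv_mem h4)

/-- `x` or `e x` is in `N2`. -/
theorem mem_N2_or [Finite G] {x : G} (hx : x ∈ Pe D g) : x ∈ N2 D ∨ e * x ∈ N2 D := by
  have hxN := norm_Q h hg hx
  obtain ⟨c0, hc0, σ, hσ, hth⟩ := exists_semilin D hxN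
  have h1 : ∀ b, bar n b = b → N n c0 * σ b = b := by
    intro b hb
    rw [← hth b hb]
    apply th_eq D hxN hb
    rw [(comm_z_Pe h.cj hx b).eq]; group
  have hN : N n c0 = 1 := by
    have := h1 1 (bar_one n)
    rwa [map_one, mul_one] at this
  obtain ⟨b, hb, hxx⟩ := sq_Pe h.cj hx
  have h2 : ∀ b, A D x (A D x b) = b := by
    intro b'
    rw [← A_mul D hxN hxN]
    have h3 : x * x ∈ N2 D := by rw [hxx]; exact Q_le_N2 D (z_mem_Q D b)
    exact h3.2 b'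
  have hsq : ∀ d : K, d * d = 1 → d = 1 := by
    intro d hd
    have : (d + 1) * (d + 1) = 0 := by
      have : (d + 1) * (d + 1) = d * d + 1 + (d + d) := by ring
      rw [this, hd, Field.add_self, Field.add_self, add_zero]
    exact Field.add_eq_zero.mp (mul_self_eq_zero.mp this)
  rcases eq_one_or_bar D.hq σ (fun b hb => by
    have := h1 b hb
    rwa [hN, one_mul] at this) with h3 | h3
  · left
    refine ⟨hxN, fun b => ?_⟩
    have h4 := h2 1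
    rw [hσ, hσ, h3] at h4
    have h5 : c0 * c0 = 1 := by
      have h6 : c0 * (c0 * 1) = 1 := h4
      rwa [mul_one] at h6
    rw [hσ, h3, hsq c0 h5, one_mul]; rfl
  · right
    have heN := h.out.norm
    have hexN := Norm.mul D heN hxN
    have hA : ∀ b, A D (e * x) b = (c * bar n c0) * b := by
      intro b
      rw [A_mul D heN hxN, h.out.act, hσ, h3]
      show c * bar n (c0 * bar n b) = c * bar n c0 * b
      rw [bar_mul, bar_bar D.hq, mul_assoc]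
    refine ⟨hexN, fun b => ?_⟩
    have h4 : (e * x) * (e * x) = x * x := by
      have h5 := comm_e h.cj hx
      calc (e * x) * (e * x) = e * (x * e) * x := by group
        _ = e * (e * x) * x := by rw [h5.eq]
        _ = (e * e) * (x * x) := by group
        _ = x * x := by rw [h.inv.sq, one_mul]
    have h6 : A D (e * x) (A D (e * x) 1) = 1 := by
      rw [← A_mul D hexN hexN]
      have h3 : (e * x) * (e * x) ∈ N2 D := by
        rw [h4, hxx]; exact Q_le_N2 D (z_mem_Q D _)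
      exact h3.2 1
    rw [hA, hA, mul_one] at h6
    rw [hA, hsq _ h6, one_mul]

/-- the coordinate of `x ∈ P_e`. -/
noncomputable def ps (D : Pre G K n) (x : G) : K := u D (x * D.t * x⁻¹ * D.t)

omit h hg in
theorem conj_t_eq (x : G) : x * D.t * x⁻¹ = (x * D.t * x⁻¹ * D.t) * D.t := by
  rw [mul_assoc _ D.t D.t, D.t_sq, mul_one]

theorem ps_fixed [Finite G] {x : G} (hx : x ∈ Pe D g) : bar n (ps D x) = ps D x :=
  u_fixed D (W_le D (cmt_t h hg hx))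

theorem u_conj_W_Pe [Finite G] {x w : G} (hx : x ∈ Pe D g) (hw : w ∈ W D) :
    u D (x * w * x⁻¹) = u D w := by
  obtain ⟨b, -, h1⟩ := cmt_Pe h.cj hx (W_Pe h hg hw)
  rw [h1, u_mul D (z_mem_Q D b) (W_le D hw), u_z, zero_add]

theorem ps_mul [Finite G] {x y : G} (hx : x ∈ Pe D g) (hy : y ∈ Pe D g) :
    ps D (x * y) = ps D x + ps D y := by
  have h1 := cmt_t h hg hx
  have h2 := cmt_t h hg hy
  have h3 := conj_W_Pe h hg hx h2
  have e1 : x * y * D.t * (x * y)⁻¹ * D.t =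
      (x * (y * D.t * y⁻¹ * D.t) * x⁻¹) * (x * D.t * x⁻¹ * D.t) := by
    calc x * y * D.t * (x * y)⁻¹ * D.t = x * (y * D.t * y⁻¹) * x⁻¹ * D.t := by group
      _ = x * ((y * D.t * y⁻¹ * D.t) * D.t) * x⁻¹ * D.t := by rw [← conj_t_eq]
      _ = _ := by group
  unfold ps
  rw [e1, u_mul D (W_le D h3) (W_le D h1), u_conj_W_Pe h hg hx h2, add_comm]

theorem ps_inv [Finite G] {x : G} (hx : x ∈ Pe D g) : ps D x⁻¹ = ps D x := by
  have h1 := ps_mul h hg hx (inv_mem hx)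
  have h2 : ps D (x * x⁻¹) = 0 := by
    rw [mul_inv_cancel]
    unfold ps
    rw [one_mul, inv_one, mul_one, D.t_sq, u_one]
  rw [h2] at h1
  exact (Field.add_eq_zero.mp h1.symm).symm

theorem ps_surj [Finite G] {b : K} (hb : bar n b = b) : ∃ x ∈ Pe D g, ps D x = b := by
  obtain ⟨y, hy, hu⟩ := W_surj D hb
  obtain ⟨x, hx, h1⟩ := surj_t h hg hy
  refine ⟨x, hx, ?_⟩
  unfold ps
  rw [h1, mul_assoc, D.t_sq, mul_one, hu]

theorem mem_W_of_ps [Finite G] {x : G} (hx : x ∈ Pe D g) (h0 : ps D x = 0) : x ∈ W D := by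
  obtain ⟨b, hb, h1⟩ := z_of_W D (cmt_t h hg hx) h0
  exact mem_W_of_z h hg hx (b := b) (by rw [conj_t_eq, h1])

/-- **`P_e ≤ N2`** -/
theorem Pe_N2 [Finite G] {x : G} (hx : x ∈ Pe D g) : x ∈ N2 D := by
  obtain ⟨o, l, hoN, hot, hoe, hodd, hl, hl0, hou, hoz⟩ := exists_o h
  have hoPe : ∀ x ∈ Pe D g, o * x * o⁻¹ ∈ Pe D g := fun x hx =>
    norm_Pe h.cj hoe (bar_one n) one_ne_zero (hoz 1 (bar_one n)) hx
  have hops : ∀ x ∈ Pe D g, ps D (o * x * o⁻¹) = l ^ 2 * ps D x := by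
    intro x hx
    unfold ps
    rw [← hou _ (cmt_t h hg hx)]
    congr 1
    have h1 : o⁻¹ * D.t * o = D.t := by rw [mul_assoc, ← hot.eq]; group
    calc o * x * o⁻¹ * D.t * (o * x * o⁻¹)⁻¹ * D.t
        = o * x * (o⁻¹ * D.t * o) * x⁻¹ * (o⁻¹ * D.t * o) * o⁻¹ := by group
      _ = o * (x * D.t * x⁻¹ * D.t) * o⁻¹ := by rw [h1]; group
  have hlf : bar n (l ^ 2 + 1)⁻¹ = (l ^ 2 + 1)⁻¹ :=
    fixed_inv (fixed_add (by rw [bar_pow, hl]) (bar_one n))
  obtain ⟨x1, hx1, h1⟩ := ps_surj h hg (fixed_mul hlf (ps_fixed h hg hx))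
  have hox := hoPe x1 hx1
  -- `[o, x1] ∈ N2`
  have h2 : o * x1 * o⁻¹ * x1⁻¹ ∈ N2 D := by
    rcases mem_N2_or h hg hx1 with h3 | h3
    · exact mul_mem (N2_conj D hoN h3) (inv_mem h3)
    · have h4 : e * (o * (e * x1) * o⁻¹ * (e * x1)⁻¹) * e⁻¹ ∈ N2 D :=
        N2_conj D h.out.norm (mul_mem (N2_conj D hoN h3) (inv_mem h3))
      have h5 : e * (o * (e * x1) * o⁻¹ * (e * x1)⁻¹) * e⁻¹ = o * x1 * o⁻¹ * x1⁻¹ := by
        calc e * (o * (e * x1) * o⁻¹ * (e * x1)⁻¹) * e⁻¹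
            = e * (o * e) * x1 * o⁻¹ * x1⁻¹ * (e * e)⁻¹ := by group
          _ = e * (e * o) * x1 * o⁻¹ * x1⁻¹ * (e * e)⁻¹ := by rw [hoe.eq]
          _ = (e * e) * (o * x1 * o⁻¹ * x1⁻¹) * (e * e)⁻¹ := by group
          _ = _ := by rw [h.inv.sq]; group
      rwa [h5] at h4
  have hc : o * x1 * o⁻¹ * x1⁻¹ ∈ Pe D g := mul_mem hox (inv_mem hx1)
  have h3 : ps D (x⁻¹ * (o * x1 * o⁻¹ * x1⁻¹)) = 0 := by
    rw [ps_mul h hg (inv_mem hx) hc, ps_inv h hg hx, ps_mul h hg hox (inv_mem hx1),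
      ps_inv h hg hx1, hops x1 hx1, h1]
    have : l ^ 2 * ((l ^ 2 + 1)⁻¹ * ps D x) + (l ^ 2 + 1)⁻¹ * ps D x =
      (l ^ 2 + 1) * (l ^ 2 + 1)⁻¹ * ps D x := by ring
    rw [this, mul_inv_cancel₀ hl0, one_mul, Field.add_self]
  have h4 := mem_W_of_ps h hg (mul_mem (inv_mem hx) hc) h3
  have h5 : x = (o * x1 * o⁻¹ * x1⁻¹) * (x⁻¹ * (o * x1 * o⁻¹ * x1⁻¹))⁻¹ := by group
  rw [h5]
  exact mul_mem h2 (inv_mem (Q_le_N2 D (W_le D h4)))

/-- `x` inverts `[x, t]` -/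
theorem inv_cmt [Finite G] {x : G} (hx : x ∈ Pe D g) :
    x * (x * D.t * x⁻¹ * D.t) * x⁻¹ = (x * D.t * x⁻¹ * D.t)⁻¹ := by
  obtain ⟨b, hb, hxx⟩ := sq_Pe h.cj hx
  have h1 : (x * x) * D.t * (x * x)⁻¹ = D.t := by
    rw [hxx, ← t_z]; group
  have h2 : x * (x * D.t * x⁻¹ * D.t) * x⁻¹ * (x * D.t * x⁻¹ * D.t) = 1 := by
    calc x * (x * D.t * x⁻¹ * D.t) * x⁻¹ * (x * D.t * x⁻¹ * D.t)
        = ((x * x) * D.t * (x * x)⁻¹) * (x * (D.t * D.t) * x⁻¹) * D.t := by group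
      _ = 1 := by rw [h1, D.t_sq, mul_one, mul_inv_cancel, mul_one, D.t_sq]
  exact eq_inv_of_mul_eq_one_left h2

/-- **not all elements of `N2` act on `W` as `1` or inversion.** -/
theorem not_pm [Finite G] : ¬ (∀ x ∈ N2 D, (∀ y ∈ W D, x * y = y * x) ∨
    (∀ y ∈ W D, x * y * x⁻¹ = y⁻¹)) := by
  intro H
  have hne : ∀ y ∈ W D, u D y ≠ 0 → y ≠ y⁻¹ := by
    intro y hy hu h1
    apply hu
    have h2 := W_sq D hy
    rw [hg, one_mul] at h2
    nth_rewrite 2 [h1] at h2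
    rw [mul_inv_cancel] at h2
    exact D.z_inj _ (u_fixed D (W_le D hy)) h2.symm
  have hinv : ∀ x ∈ Pe D g, ps D x ≠ 0 → ∀ y ∈ W D, x * y * x⁻¹ = y⁻¹ := by
    intro x hx h0
    rcases H x (Pe_N2 h hg hx) with h1 | h1
    · exfalso
      have h2 := inv_cmt h hg hx
      rw [h1 _ (cmt_t h hg hx), mul_inv_cancel_right] at h2
      exact hne _ (cmt_t h hg hx) h0 h2
    · exact h1
  obtain ⟨l, hl, hl1⟩ := exists_fixed_ne D.hq
  obtain ⟨x, hx, h1⟩ := ps_surj h hg (bar_one n)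
  obtain ⟨x', hx', h2⟩ := ps_surj h hg hl
  have h3 := ps_mul h hg hx hx'
  rw [h1, h2] at h3
  have h4 : ps D (x * x') ≠ 0 := by
    rw [h3]
    intro h5
    exact hl1 (Field.add_eq_zero.mp h5).symm
  obtain ⟨w, hw, hu⟩ := W_surj D (bar_one n)
  have h5 := hinv _ (mul_mem hx hx') h4 w hw
  have h6 : (x * x') * w * (x * x')⁻¹ = w := by
    calc (x * x') * w * (x * x')⁻¹ = x * (x' * w * x'⁻¹) * x⁻¹ := by group
      _ = w := by
        rw [hinv x' hx' (by rw [h2]; exact l.ne_zero) w hw,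
          hinv x hx (by rw [h1]; exact one_ne_zero) _ ((W D).inv_mem hw), inv_inv]
  rw [h6] at h5
  exact hne w hw (by rw [hu]; exact one_ne_zero) h5

/-- `[P, P_e] ≤ Z` -/
theorem cmt_P [Finite G] {x p : G} (hx : x ∈ Pe D g) (hp : p ∈ D.P) :
    ∃ b, bar n b = b ∧ x * p * x⁻¹ = D.z b * p := by
  have h1 := norm_P h hg hx hp
  have h2 := Pe_N2 h hg hx
  have h3 := A_P D h2.1 hp
  rw [h2.2, a_P D h1] at h3
  exact eq_z_mul D h1 hp h3

/-- every element of `Sg` is the product of an element of `P` and an element of `C(e)`. -/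
theorem Sg_dec [Finite G] (heS : e ∈ F.Sg) {s : G} (hs : s ∈ F.Sg) :
    ∃ p ∈ D.P, ∃ m ∈ F.Sg, Commute m e ∧ s = p * m := by
  have hst := F.Sg_t s hs
  have hx : ∃ x, (x ∈ D.P ∨ x * D.t ∈ D.P) ∧ s * e * s⁻¹ = x * e := by
    refine ⟨s * e * s⁻¹ * e⁻¹, ?_, by group⟩
    apply ch_ker F (mul_mem (mul_mem (mul_mem hs heS) (inv_mem hs)) (inv_mem heS))
    · rw [ch_mul F (comm_mul (comm_mul hst h.inv.t) (comm_inv hst)) (comm_inv h.inv.t),
        ch_conj F hst h.inv.t, ch_inv F h.inv.t, mul_inv_cancel]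
  obtain ⟨x, hx, h1⟩ := hx
  have hsq : (x * e) * (x * e) = 1 := by
    rw [← h1]
    calc s * e * s⁻¹ * (s * e * s⁻¹) = s * (e * e) * s⁻¹ := by group
      _ = 1 := by rw [h.inv.sq]; group
  obtain ⟨y, hy, h2 | h2⟩ := conj_cls h.inv hx hsq
  · refine ⟨y, hy, y⁻¹ * s, mul_mem (inv_mem (F.P_Sg hy)) hs, ?_, by group⟩
    show y⁻¹ * s * e = e * (y⁻¹ * s)
    have h3 : s * e = y * e * y⁻¹ * s := by rw [← h2, ← h1]; group
    calc y⁻¹ * s * e = y⁻¹ * (s * e) := by group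
      _ = e * (y⁻¹ * s) := by rw [h3]; group
  · exfalso
    apply h.s_not (y⁻¹ * s * g)
    have h3 : s * e * s⁻¹ = y * (e * D.t) * y⁻¹ := by rw [h1, h2]
    calc y⁻¹ * s * g * D.t * (y⁻¹ * s * g)⁻¹ = y⁻¹ * (s * (g * D.t * g⁻¹) * s⁻¹) * y := by group
      _ = _ := by rw [h.cj.te, h3]; group

/-- `Sg` normalizes `P_e`. -/
theorem Sg_Pe [Finite G] (heS : e ∈ F.Sg) {s x : G} (hs : s ∈ F.Sg) (hx : x ∈ Pe D g) :
    s * x * s⁻¹ ∈ Pe D g := by
  obtain ⟨p, hp, m, hm, hme, rfl⟩ := Sg_dec h hg heS hs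
  obtain ⟨b, hb, hmz⟩ := conj_z D (h.hn m hm) 1
  have h1 := norm_Pe h.cj hme (bar_one n) one_ne_zero hmz hx
  obtain ⟨d, hd, h2⟩ := cmt_P h hg (inv_mem h1) hp
  rw [inv_inv] at h2
  have h3 : p * m * x * (p * m)⁻¹ = (m * x * m⁻¹) * ((m * x * m⁻¹)⁻¹ * p * (m * x * m⁻¹)) * p⁻¹ := by
    group
  rw [h3, h2]
  have h4 : (m * x * m⁻¹) * (D.z d * p) * p⁻¹ = (m * x * m⁻¹) * D.z d := by group
  rw [h4]
  exact mul_mem h1 (z_Pe h.cj d)

theorem Sg_le_normalizer [Finite G] (heS : e ∈ F.Sg) : F.Sg ≤ normalizer (Pe D g : Set G) := by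
  intro s hs
  rw [mem_normalizer_iff]
  intro x
  constructor
  · exact fun hx => Sg_Pe h hg heS hs hx
  · intro hx
    have := Sg_Pe h hg heS (inv_mem hs) hx
    have e1 : s⁻¹ * (s * x * s⁻¹) * s⁻¹⁻¹ = x := by group
    rwa [e1] at this

theorem R2_two [Finite G] (heS : e ∈ F.Sg) : IsPGroup 2 (Pe D g ⊔ F.Sg : Subgroup G) := by
  rw [sup_comm]
  exact F.Sg_two.to_sup_of_normal_right' isPGroup_Pe (Sg_le_normalizer h hg heS)

theorem R2_le [Finite G] : (Pe D g ⊔ F.Sg : Subgroup G) ≤ NQ D :=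
  sup_le (fun _ hx => norm_Q h hg hx) (fun s hs => h.hn s hs)

end one

end Cfsg.Agent.StdU3.OuterB
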