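import Cfsg.Agent.StdU3.OuterB
import Cfsg.Agent.StdU3.Tower.Final

/-!
# Type `g1`: the tower ends with type III at the first level, `P_e ≤ U = P P_e`
-/

set_option autoImplicit false
set_option linter.unusedSectionVars false
set_option linter.dupNamespace false

namespace Cfsg.Agent.StdU3.OuterC

open Cfsg.Agent.StdU3.Field Cfsg.Agent.StdU3.PreDef Cfsg.Agent.StdU3.LevelOne
open Cfsg.Agent.StdU3.LevelOneW Cfsg.Agent.StdU3.NormQ Cfsg.Agent.StdU3.Kernel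
open Cfsg.Agent.StdU3.Next Cfsg.Agent.StdU3.Tower.Base Cfsg.Agent.StdU3.Tower.GBase
open Cfsg.Agent.StdU3.Tower.Cen Cfsg.Agent.StdU3.Tower.End
open Cfsg.Agent.StdU3.Tower.Step Cfsg.Agent.StdU3.Tower.Half Cfsg.Agent.StdU3.FldDef

/-- a `2`-subgroup of `M = B A`, `A` normal of odd order, `B` a `2`-group, is conjugate into `B`
under `A`. -/
theorem exists_conj_odd {G : Type*} [Group G] [Finite G] {M A B X : Subgroup G}
    (hA : Odd (Nat.card A)) (hAM : A ≤ M) (hB : IsPGroup 2 B) (hBM : B ≤ M)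
    (hdec : ∀ m ∈ M, ∃ b ∈ B, ∃ a ∈ A, m = b * a) (hX : IsPGroup 2 X) (hXM : X ≤ M) :
    ∃ a ∈ A, ∀ x ∈ X, a * x * a⁻¹ ∈ B := by
  have : Fact (Nat.Prime 2) := ⟨Nat.prime_two⟩
  obtain ⟨P1, hP1⟩ := (hB.comap_subtype (K := M)).exists_le_sylow
  obtain ⟨P2, hP2⟩ := (hX.comap_subtype (K := M)).exists_le_sylow
  have hP1' : ∀ x : M, x ∈ (P1 : Subgroup M) → (x : G) ∈ B := by
    intro x hx
    obtain ⟨b, hb, a, ha, h⟩ := hdec x x.2
    have h1 : (⟨a, hAM ha⟩ : M) ∈ (P1 : Subgroup M) := by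
      have h2 : (⟨b, hBM hb⟩ : M) ∈ (P1 : Subgroup M) := hP1 hb
      have h3 := mul_mem (inv_mem h2) hx
      have e : (⟨b, hBM hb⟩ : M)⁻¹ * x = ⟨a, hAM ha⟩ := by
        apply Subtype.ext
        show b⁻¹ * (x : G) = a
        rw [h]; group
      rwa [e] at h3
    obtain ⟨k, hk⟩ := P1.isPGroup' ⟨_, h1⟩
    have hk' : a ^ 2 ^ k = 1 := congrArg (fun z : (P1 : Subgroup M) => ((z : M) : G)) hk
    have h4 : a ^ Nat.card A = 1 := by
      have : (⟨a, ha⟩ : A) ^ Nat.card A = 1 := pow_card_eq_one'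
      exact congrArg Subtype.val this
    have h5 : orderOf a ∣ Nat.gcd (2 ^ k) (Nat.card A) :=
      Nat.dvd_gcd (orderOf_dvd_of_pow_eq_one hk') (orderOf_dvd_of_pow_eq_one h4)
    rw [Nat.Coprime.pow_left k (Nat.coprime_two_left.2 hA), Nat.dvd_one, orderOf_eq_one_iff] at h5
    rw [h, h5, mul_one]; exact hb
  obtain ⟨m, hm⟩ := MulAction.exists_smul_eq M P2 P1
  obtain ⟨b, hb, a, ha, h⟩ := hdec m m.2
  refine ⟨a, ha, fun x hx => ?_⟩
  have h1 : (⟨x, hXM hx⟩ : M) ∈ (P2 : Subgroup M) := hP2 hx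
  have h2 : m * ⟨x, hXM hx⟩ * m⁻¹ ∈ (P1 : Subgroup M) := by
    rw [← hm]
    exact Sylow.smul_def (g := m) (P := P2) ▸ ⟨_, h1, rfl⟩
  have h3 := hP1' _ h2
  have h4 : (m : G) * x * (m : G)⁻¹ ∈ B := h3
  rw [h] at h4
  have e : a * x * a⁻¹ = b⁻¹ * (b * a * x * (b * a)⁻¹) * b := by group
  rw [e]
  exact mul_mem (mul_mem (inv_mem hb) h4) hb

variable {G : Type*} [Group G] [Finite G] {K : Type*} [Field K] [Fintype K] [CharP K 2] {n : ℕ}
variable {D : Pre G K n} {O : Subgroup G} {hO : Amb D O}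

theorem hF (D : Pre G K n) : ∃ ν : Fq K n, ν ≠ 0 ∧ ν ≠ 1 := by
  obtain ⟨l, hl, hl1⟩ := exists_fixed_ne D.hq
  refine ⟨⟨l, hl⟩, fun h => l.ne_zero (congrArg Subtype.val h), fun h => hl1 (congrArg Subtype.val h)⟩

theorem Q_dec (D : Pre G K n) {q : G} (hq : q ∈ D.Q) :
    ∃ p ∈ D.P, ∃ w ∈ W D, q = p * w ∨ q = p * w * D.t := by
  rcases V_or D hq with h | h
  · obtain ⟨p, hp, w, hw, h1⟩ := h
    exact ⟨p, hp, w, hw, Or.inl h1⟩
  · obtain ⟨p, hp, w, hw, h1⟩ := h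
    refine ⟨p, hp, w, hw, Or.inr ?_⟩
    rw [← h1, mul_assoc, D.t_sq, mul_one]

section lvl
variable (hg : gam D = 1)

theorem gam_ne {D : Pre G K n} (hg : gam D = 1) : gam D ≠ 0 := by rw [hg]; exact one_ne_zero

theorem t_W {D : Pre G K n} (hg : gam D = 1) {s : G} (hs : Norm D s) : s * D.t * s⁻¹ * D.t ∈ W D := by
  have h1 := hs.fwd D.t D.Q_t
  apply W_of_ae D (mul_mem h1 D.Q_t)
  · rw [a_mul D h1 D.Q_t, a_t_of_gam D hs (gam_ne hg), a_t, add_zero]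
  · rw [e_mul D h1 D.Q_t, e_conj D hs, e_t, Field.add_self]

theorem NP_of_norm {s : G} (hs : Norm D s) : s ∈ Tower.Princ.NP (lvl hO hg) := by
  have key : ∀ s, Norm D s → ∀ y, y ∈ (lvl hO hg).Y → s * y * s⁻¹ ∈ (lvl hO hg).Y := by
    intro s hs y hy
    rcases hy with h | h
    · exact Or.inl (conj_W D hs h)
    · right
      have h1 := conj_W D hs h
      have h2 := t_W hg hs
      have e : s * y * s⁻¹ * (lvl hO hg).h 1 = s * y * s⁻¹ * (lvl hO hg).h 1 := rfl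
      have e1 : s * y * s⁻¹ * D.t = s * (y * D.t) * s⁻¹ * (s * D.t * s⁻¹ * D.t) := by
        have h3 : D.t * D.t = 1 := D.t_sq
        calc s * y * s⁻¹ * D.t = s * (y * (D.t * D.t)) * s⁻¹ * D.t := by rw [h3, mul_one]
          _ = _ := by group
      show s * y * s⁻¹ * D.t ∈ W D
      rw [e1]
      exact mul_mem h1 h2
  have keyP : ∀ s, Norm D s → ∀ y, y ∈ D.P → s * y * s⁻¹ ∈ D.P :=
    fun s hs y hy => conj_P_mem D hs (gam_ne hg) hy
  refine ⟨fun x => ⟨keyP s hs x, fun h => ?_⟩, fun x => ⟨key s hs x, fun h => ?_⟩⟩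
  · have := keyP s⁻¹ (Norm.inv D hs) _ h
    have e : s⁻¹ * (s * x * s⁻¹) * s⁻¹⁻¹ = x := by group
    rwa [e] at this
  · have := key s⁻¹ (Norm.inv D hs) _ h
    have e : s⁻¹ * (s * x * s⁻¹) * s⁻¹⁻¹ = x := by group
    rwa [e] at this

/-- elements of `N_H(Y)` are in `N2`. -/
theorem N2_of_NH {v : G} (hv : v ∈ (lvl hO hg).NH) : v ∈ N2 D := by
  have hvP := mem_H.1 hv.1
  have hvW : ∀ w ∈ W D, v * w * v⁻¹ ∈ W D := fun w hw =>
    (lvl hO hg).NH_conj_W le_rfl hv hw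
  have hvt : v * D.t * v⁻¹ * D.t ∈ W D := (lvl hO hg).a_mem le_rfl hv
  have h1 : Norm D v := by
    apply norm_of_fwd
    intro q hq
    obtain ⟨p, hp, w, hw, h | h⟩ := Q_dec D hq
    · rw [h]
      have e : v * (p * w) * v⁻¹ = (v * p * v⁻¹) * (v * w * v⁻¹) := by group
      rw [e, ← hvP p hp, mul_inv_cancel_right]
      exact mul_mem (D.P_le hp) (W_le D (hvW w hw))
    · rw [h]
      have e : v * (p * w * D.t) * v⁻¹ = (v * p * v⁻¹) * (v * w * v⁻¹) * (v * D.t * v⁻¹ * D.t) * D.t := by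
        have h3 : D.t * D.t = 1 := D.t_sq
        calc v * (p * w * D.t) * v⁻¹ = (v * p * v⁻¹) * (v * w * v⁻¹) * (v * D.t * v⁻¹) * (D.t * D.t) := by
              rw [h3, mul_one]; group
          _ = _ := by group
      rw [e, ← hvP p hp, mul_inv_cancel_right]
      exact mul_mem (mul_mem (mul_mem (D.P_le hp) (W_le D (hvW w hw))) (W_le D hvt)) D.Q_t
  refine ⟨h1, fun b => ?_⟩
  obtain ⟨x, hx, rfl⟩ := D.ca_surj b
  rw [← A_P D h1 hx, ← hvP x hx, mul_inv_cancel_right, a_P D hx]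

variable {hg} {N : Tower.Next.Nxt (lvl hO hg)} (V : Hlf N)

theorem V_N2 {v : G} (hv : v ∈ V.V) : v ∈ N2 D := N2_of_NH hg (N.S_le (V.V_le hv))

/-- the elements of `N2`. -/
theorem dec_N2 {x : G} (hx : x ∈ N2 D) :
    ∃ q ∈ D.Q, ∃ v ∈ V.V, ∃ k ∈ D1 D O, x = q * v * k := by
  obtain ⟨v, hv, hψ⟩ := ψ_surj V le_rfl ((lvl hO hg).ψ x)
  have hvN := V_N2 V hv
  have hvi := inv_mem hv
  have hvNi := V_N2 V hvi
  have hx' : x * v⁻¹ ∈ N2 D := mul_mem hx hvNi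
  have hxNP := NP_of_norm (hO := hO) hg hx.1
  have hψ0 : (lvl hO hg).ψ (x * v⁻¹) = 0 := by
    have h1 := Tower.Princ.ψ_mul le_rfl hxNP (NP_of_norm (hO := hO) hg hvNi.1)
    have h2 := ψ_mulV V le_rfl hv hvi
    rw [mul_inv_cancel, (lvl hO hg).ψ_W (lvl hO hg).W.one_mem, hψ] at h2
    have h3 : (lvl hO hg).ψ v⁻¹ = (lvl hO hg).ψ x := (add_eq_zero_iff_eq_neg.1 h2.symm) ▸ by
      rw [CharTwo.neg_eq]
    have h4 : Tower.Princ.th D x ((lvl hO hg).ψ v⁻¹ : K) = ((lvl hO hg).ψ v⁻¹ : K) :=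
      Tower.Princ.th_eq hxNP ((lvl hO hg).ψ v⁻¹).2 (by
        rw [N2_z D hx, mul_inv_cancel_right])
    rw [h4, h3] at h1
    apply Subtype.ext
    rw [h1]
    exact Field.add_self _
  obtain ⟨y, hy, h1⟩ := (lvl hO hg).β_eq_zero
    (Tower.Princ.a_mem le_rfl (NP_of_norm (hO := hO) hg hx'.1)) hψ0
  have h2 : (x * v⁻¹) * D.t * (x * v⁻¹)⁻¹ = y * D.t * y⁻¹ := by
    have h3 : (lvl hO hg).a (x * v⁻¹) = (x * v⁻¹) * D.t * (x * v⁻¹)⁻¹ * D.t := rfl
    have h4 : (lvl hO hg).a y = y * y := (lvl hO hg).a_W hy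
    have h5 : (lvl hO hg).a y = y * D.t * y⁻¹ * D.t := rfl
    rw [← h1.trans h4.symm |>.trans h5 |> fun h => mul_right_cancel (h3.symm.trans h)]
  have h3 : (y⁻¹ * (x * v⁻¹)) * D.t = D.t * (y⁻¹ * (x * v⁻¹)) := by
    calc (y⁻¹ * (x * v⁻¹)) * D.t = y⁻¹ * ((x * v⁻¹) * D.t * (x * v⁻¹)⁻¹) * (x * v⁻¹) := by group
      _ = _ := by rw [h2]; group
  obtain ⟨q, hq, k, hk, h4⟩ := dec_of_comm D hO
    (mul_mem (inv_mem (Q_le_N2 D (W_le D hy))) hx') h3
  refine ⟨y * q, mul_mem (W_le D hy) hq, v, hv, v⁻¹ * k * v, ?_, ?_⟩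
  · have := D1_normal D hO hvNi.1 hk
    rwa [inv_inv] at this
  · have e : x = y * (y⁻¹ * (x * v⁻¹)) * v := by group
    rw [e, h4]; group

/-- if `V` centralises `W`, then `N2` acts on `W` by `± 1`. -/
theorem pm_of_cent (hVW : ∀ s ∈ V.V, ∀ w ∈ W D, s * w = w * s) {x : G} (hx : x ∈ N2 D) :
    (∀ y ∈ W D, x * y = y * x) ∨ (∀ y ∈ W D, x * y * x⁻¹ = y⁻¹) := by
  obtain ⟨q, hq, v, hv, k, hk, rfl⟩ := dec_N2 V hx
  have hkQ := ((mem_D1 D).mp hk).2
  have key : ∀ y ∈ W D, q * v * k * y * (q * v * k)⁻¹ = q * y * q⁻¹ := by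
    intro y hy
    have h1 := hkQ y (W_le D hy)
    have h2 := hVW v hv y hy
    calc q * v * k * y * (q * v * k)⁻¹ = q * v * (k * y) * k⁻¹ * v⁻¹ * q⁻¹ := by group
      _ = q * (v * y) * v⁻¹ * q⁻¹ := by rw [← h1]; group
      _ = _ := by rw [h2]; group
  rcases V_or D hq with h | h
  · left
    intro y hy
    have h1 := key y hy
    rw [(mem_V_iff D hq).mp h y hy, mul_inv_cancel_right] at h1
    exact mul_inv_eq_iff_eq_mul.mp h1
  · right
    intro y hy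
    have h2 : D.t * y * D.t⁻¹ = y⁻¹ := (lvl hO hg).inv y hy
    have h3 := (mem_V_iff D (V_le D h)).mp h _ (inv_mem hy)
    rw [key y hy]
    have h4 : D.t * D.t = 1 := D.t_sq
    calc q * y * q⁻¹ = q * (D.t * D.t) * y * (D.t * D.t)⁻¹ * q⁻¹ := by rw [h4]; group
      _ = (q * D.t) * (D.t * y * D.t⁻¹) * (q * D.t)⁻¹ := by group
      _ = y⁻¹ := by rw [h2, h3, mul_inv_cancel_right]

end lvl

/-! ### type III -/

/-- **type III** at the first level. -/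
theorem exists_III (F : Fld D) (hg : gam D = 1) {x0 : G} (hx0 : x0 ∈ N2 D)
    (hx0' : u D (x0 * D.t * x0⁻¹ * D.t) ≠ 0)
    (hpm : ¬ ∀ x ∈ N2 D, (∀ y ∈ W D, x * y = y * x) ∨ (∀ y ∈ W D, x * y * x⁻¹ = y⁻¹)) :
    Nonempty (TypeIII (lvl F.amb hg) F.Sg) := by
  rcases (lvl F.amb hg).dichotomy le_rfl with h | h
  · exfalso
    have h1 := Tower.Princ.ψ_zero le_rfl h (NP_of_norm (hO := F.amb) hg hx0.1)
    have h2 := t_W hg hx0.1
    have h3 := W_sq D h2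
    have h4 : (lvl F.amb hg).a x0 = x0 * D.t * x0⁻¹ * D.t := rfl
    have h5 := (lvl F.amb hg).β_spec (x := x0 * D.t * x0⁻¹ * D.t) h2
    have h6 : (lvl F.amb hg).β (x0 * D.t * x0⁻¹ * D.t) = 0 := h1
    rw [h6] at h5
    have h7 : (x0 * D.t * x0⁻¹ * D.t) ^ 2 ^ 1 = D.z ((0 : Fq K n) : K) := h5
    rw [pow_one, pow_two, h3, hg, one_mul] at h7
    apply hx0'
    have h8 : ((0 : Fq K n) : K) = 0 := rfl
    rw [h8, z_zero] at h7
    exact D.z_inj _ (u_fixed D (W_le D h2)) h7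
  · obtain ⟨N, hRS⟩ := Tower.Next.exists_next (lvl F.amb hg) le_rfl h (Tower.Inst.rg F)
      (fun s hs x hx => NormQ.conj_W D (F.Sg_norm s hs) hx)
    obtain ⟨V⟩ := exists_hlf N (Tower.Princ.odd_units D.hq) le_rfl (hF D)
    have hRV := Tower.Rinv.R_V (Tower.Inst.rg F) V le_rfl (hF D)
      (fun s hs x hx => NormQ.conj_W D (F.Sg_norm s hs) hx) hRS
    rcases centralises_or V le_rfl (hF D) with h1 | ⟨h1, h2, h3⟩
    · exact absurd (fun x hx => pm_of_cent V h1 hx) hpm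
    · exact ⟨⟨N, V, hRV, h1, h2, h3⟩⟩

section III

variable {F : Fld D} {hg : gam D = 1} (E : TypeIII (lvl F.amb hg) F.Sg)

/-- `U = P M`, `M` of class two. -/
noncomputable abbrev C3 : Cen D F.O := Tower.Inst.cenV E.V le_rfl (Tower.Inst.hcmIII E)

theorem M_eq : (C3 E).M = E.V.V := rfl

/-- `U ⟨t⟩` -/
def Ut : Subgroup G where
  carrier := {x | x ∈ U (C3 E) ∨ x * D.t ∈ U (C3 E)}
  one_mem' := Or.inl (one_mem _)
  mul_mem' := by
    have key : ∀ x y, x * D.t ∈ U (C3 E) → y ∈ U (C3 E) → x * y * D.t ∈ U (C3 E) := by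
      intro x y hx hy
      have h1 := t_U (C3 E) hy
      have e : x * y * D.t = (x * D.t) * (D.t * y * D.t⁻¹) := by
        have h : D.t * D.t = 1 := D.t_sq
        calc x * y * D.t = x * (D.t * D.t) * y * D.t := by rw [h, mul_one]
          _ = _ := by rw [t_inv D]; group
      rw [e]; exact mul_mem hx h1
    rintro x y (hx | hx) (hy | hy)
    · exact Or.inl (mul_mem hx hy)
    · right
      rw [mul_assoc]; exact mul_mem hx hy
    · exact Or.inr (key x y hx hy)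
    · left
      have h1 := key x (y * D.t) hx hy
      rwa [← mul_assoc, mul_assoc (x * y), D.t_sq, mul_one] at h1
  inv_mem' := by
    rintro x (hx | hx)
    · exact Or.inl (inv_mem hx)
    · right
      have h1 := t_U (C3 E) (inv_mem hx)
      have e : x⁻¹ * D.t = D.t * (x * D.t)⁻¹ * D.t⁻¹ := by
        rw [mul_inv_rev, t_inv D]
        have h : D.t * D.t = 1 := D.t_sq
        calc x⁻¹ * D.t = (D.t * D.t) * x⁻¹ * D.t := by rw [h, one_mul]
          _ = _ := by group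
      rw [e]; exact h1

theorem mem_Ut {x : G} : x ∈ Ut E ↔ x ∈ U (C3 E) ∨ x * D.t ∈ U (C3 E) := Iff.rfl

theorem U_le_Ut : U (C3 E) ≤ Ut E := fun _ h => Or.inl h

theorem t_mem_Ut : D.t ∈ Ut E := Or.inr (by rw [D.t_sq]; exact one_mem _)

theorem Ut_two : IsPGroup 2 (Ut E) := by
  intro x
  have h1 : (x : G) * x ∈ U (C3 E) := by
    rcases x.2 with h | h
    · exact mul_mem h h
    · have h2 := t_U (C3 E) h
      have e : (x : G) * x = (x * D.t) * (D.t * (x * D.t) * D.t⁻¹) := by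
        have h : D.t * D.t = 1 := D.t_sq
        calc (x : G) * x = x * (D.t * D.t) * x := by rw [h, mul_one]
          _ = _ := by group
      rw [e]; exact mul_mem h h2
  obtain ⟨k, hk⟩ := U_two (C3 E) ⟨_, h1⟩
  refine ⟨k + 1, Subtype.ext ?_⟩
  have h2 : ((x : G) * x) ^ 2 ^ k = 1 := congrArg Subtype.val hk
  show (x : G) ^ 2 ^ (k + 1) = 1
  rw [pow_succ', pow_mul, pow_two, h2]

theorem Q_le_Ut : D.Q ≤ Ut E := by
  intro q hq
  obtain ⟨p, hp, w, hw, h | h⟩ := Q_dec D hq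
  · left
    exact ⟨p, hp, w, E.V.W_le hw, h⟩
  · right
    refine ⟨p, hp, w, E.V.W_le hw, ?_⟩
    rw [h, mul_assoc, D.t_sq, mul_one]

theorem Ut_le_N2 : Ut E ≤ N2 D := by
  have hU : U (C3 E) ≤ N2 D := by
    rintro _ ⟨p, hp, m, hm, rfl⟩
    exact mul_mem (Q_le_N2 D (D.P_le hp)) (V_N2 E.V hm)
  rintro x (h | h)
  · exact hU h
  · have e : x = (x * D.t) * D.t := by rw [mul_assoc, D.t_sq, mul_one]
    rw [e]
    exact mul_mem (hU h) (Q_le_N2 D D.Q_t)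

theorem dec_Ut {x : G} (hx : x ∈ N2 D) : ∃ b ∈ Ut E, ∃ k ∈ D1 D F.O, x = b * k := by
  obtain ⟨q, hq, v, hv, k, hk, h⟩ := dec_N2 E.V hx
  exact ⟨q * v, mul_mem (Q_le_Ut E hq) (U_le_Ut E (M_le (C3 E) hv)), k, hk, h⟩

theorem Ut_D1 {x : G} (hx : x ∈ Ut E) (hx' : x ∈ D1 D F.O) : x = 1 := by
  obtain ⟨k, hk⟩ := Ut_two E ⟨x, hx⟩
  exact eq_one_of_O D F.amb ((mem_D1 D).mp hx').1 (congrArg Subtype.val hk)

theorem Sg_U {s : G} (hs : s ∈ F.Sg) {g : G} (hg' : g ∈ U (C3 E)) : s * g * s⁻¹ ∈ U (C3 E) := by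
  obtain ⟨p, hp, m, hm, rfl⟩ := hg'
  exact ⟨s * p * s⁻¹, F.Sg_P s hs p hp, s * m * s⁻¹, E.R_V s hs m hm, by group⟩

theorem Sg_Ut {s : G} (hs : s ∈ F.Sg) {g : G} (hg' : g ∈ Ut E) : s * g * s⁻¹ ∈ Ut E := by
  rcases hg' with h | h
  · exact Or.inl (Sg_U E hs h)
  · right
    have h1 := Sg_U E hs h
    have h2 : s⁻¹ * D.t = D.t * s⁻¹ := by
      rw [inv_mul_eq_iff_eq_mul, ← mul_assoc, F.Sg_t s hs, mul_inv_cancel_right]
    have e : s * g * s⁻¹ * D.t = s * (g * D.t) * s⁻¹ := by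
      calc s * g * s⁻¹ * D.t = s * g * (s⁻¹ * D.t) := by group
        _ = _ := by rw [h2]; group
    rw [e]; exact h1

/-- a `2`-subgroup of `N2` centralised by `e ∈ Sg` is conjugate into `U ⟨t⟩` under `D1 ∩ C(e)`. -/
theorem exists_conj_Ut {e : G} (he : e ∈ F.Sg) {X : Subgroup G} (hX : IsPGroup 2 X)
    (hXN : X ≤ N2 D) (hXe : ∀ x ∈ X, x * e = e * x) :
    ∃ a ∈ D1 D F.O, a * e = e * a ∧ ∀ x ∈ X, a * x * a⁻¹ ∈ Ut E := by
  have heN := F.Sg_norm e he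
  have hodd : Odd (Nat.card (D1 D F.O ⊓ Subgroup.centralizer ({e} : Set G) : Subgroup G)) := by
    have h1 : D1 D F.O ⊓ Subgroup.centralizer ({e} : Set G) ≤ F.O :=
      inf_le_left.trans fun x hx => ((mem_D1 D).mp hx).1
    exact Odd.of_dvd_nat F.amb.odd (Subgroup.card_dvd_of_le h1)
  obtain ⟨a, ha, h1⟩ := exists_conj_odd
    (M := N2 D ⊓ Subgroup.centralizer ({e} : Set G)) (B := Ut E ⊓ Subgroup.centralizer ({e} : Set G))
    hodd (inf_le_inf_right _ (D1_le D)) ((Ut_two E).to_le inf_le_left)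
    (inf_le_inf_right _ (Ut_le_N2 E)) (by
      intro m hm
      obtain ⟨b, hb, k, hk, h⟩ := dec_Ut E hm.1
      have hme : m * e = e * m := Subgroup.mem_centralizer_singleton_iff.1 hm.2
      have h2 : e * b * e⁻¹ ∈ Ut E := Sg_Ut E he hb
      have h3 : e * k * e⁻¹ ∈ D1 D F.O := D1_normal D F.amb heN hk
      have h4 : b⁻¹ * (e * b * e⁻¹) = k * (e * k * e⁻¹)⁻¹ := by
        have h5 : (e * b * e⁻¹) * (e * k * e⁻¹) = b * k := by
          rw [← h]
          calc (e * b * e⁻¹) * (e * k * e⁻¹) = e * (b * k) * e⁻¹ := by group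
            _ = m := by rw [← h, ← hme, mul_inv_cancel_right]
        rw [eq_mul_inv_iff_mul_eq, mul_assoc, h5]; group
      have h5 : b⁻¹ * (e * b * e⁻¹) = 1 := Ut_D1 E (mul_mem (inv_mem hb) h2) (by
        rw [h4]; exact mul_mem hk (inv_mem h3))
      have h6 := h5.symm.trans h4
      refine ⟨b, ⟨hb, ?_⟩, k, ⟨hk, ?_⟩, h⟩
      · apply Subgroup.mem_centralizer_singleton_iff.2
        rw [inv_mul_eq_one, eq_mul_inv_iff_mul_eq] at h5
        exact h5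
      · apply Subgroup.mem_centralizer_singleton_iff.2
        have := mul_inv_eq_one.1 h6.symm
        rw [eq_mul_inv_iff_mul_eq] at this
        exact this)
    hX (fun x hx => ⟨hXN hx, Subgroup.mem_centralizer_singleton_iff.2 (hXe x hx)⟩)
  exact ⟨a, ha.1, Subgroup.mem_centralizer_singleton_iff.1 ha.2, fun x hx => (h1 x hx).1⟩

/-! ### `P_e ≤ U` -/

/-- elements of `Ut` commuting with `e`, with square in `Z` and no involutions outside `Z`. -/
theorem mem_U_of {e : G} {c : K} (ho : Outer.Out D e c)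
    (hW : ∀ w ∈ W D, e * w = w * e) {x : G} (hx : x ∈ Ut E) (hxe : x * e = e * x)
    (hsq : ∃ b, bar n b = b ∧ x * x = D.z b) (h1 : x * x = 1 → ∃ b, x = D.z b) : x ∈ U (C3 E) := by
  rcases hx with hx | hx
  · exact hx
  exfalso
  obtain ⟨p, hp, v, hv, h⟩ := hx
  have hv' : v ∈ E.V.V := hv
  have hxe' : x = p * v * D.t := by rw [← h, mul_assoc, D.t_sq, mul_one]
  have hpv : v * p = p * v := (C3 E).M_P v hv p hp
  have htp := D.t_P p hp
  obtain ⟨b, hb, hxx⟩ := hsq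
  have hvN := V_N2 E.V hv'
  -- the square
  have e1 : x * x = (p * p) * (v * D.t * (v * D.t)) := by
    rw [hxe']
    calc p * v * D.t * (p * v * D.t) = p * v * (D.t * p) * v * D.t := by group
      _ = p * (v * p) * D.t * v * D.t := by rw [htp]; group
      _ = _ := by rw [hpv]; group
  -- `v ∈ W`
  have hvW : v ∈ W D := by
    apply ψ_ker E.V hv'
    have ha := (lvl F.amb hg).a_mem le_rfl (E.N.S_le (E.V.V_le hv'))
    have hts := ts (lvl F.amb hg) v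
    have hts' : D.t * v * D.t = ((lvl F.amb hg).a v)⁻¹ * v := hts
    obtain ⟨b2, hb2⟩ := E.sq v hv'
    have hb2' : v * v = D.z (b2 : K) := hb2
    have h3 : v * D.t * (v * D.t) = D.z (N n (D.ca p) + b) := by
      calc v * D.t * (v * D.t)
          = D.z (N n (D.ca p)) * D.z (N n (D.ca p)) * (v * D.t * (v * D.t)) := by
            rw [z_self, one_mul]
        _ = D.z (N n (D.ca p)) * (x * x) := by rw [mul_assoc, e1, D.P_sq p hp]
        _ = _ := by rw [hxx, ← D.z_add]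
    have h4 : v * (((lvl F.amb hg).a v)⁻¹ * v) = D.z (N n (D.ca p) + b) := by
      rw [← hts', ← h3]; group
    have h5 : (lvl F.amb hg).a v = D.z (b2 + (N n (D.ca p) + b)) := by
      have h6 : ((lvl F.amb hg).a v)⁻¹ = v⁻¹ * D.z (N n (D.ca p) + b) * v⁻¹ := by
        rw [← h4]; group
      have h7 : (lvl F.amb hg).a v = v * D.z (N n (D.ca p) + b) * v := by
        have := congrArg (·⁻¹) h6
        simp only [inv_inv, mul_inv_rev, Swap.z_inv] at this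
        rw [this]; group
      rw [h7, N2_z D hvN, mul_assoc, hb2', ← D.z_add, add_comm]
    have h6 : (lvl F.amb hg).β ((lvl F.amb hg).a v) = 0 := by
      apply (lvl F.amb hg).β_eq ha
      rw [pow_one, pow_two, h5, z_self]
      exact (z_zero D).symm
    exact h6
  -- `p ∈ Z`
  have hep : e * p * e⁻¹ = p := by
    have h2 : e * x * e⁻¹ = x := by rw [← hxe, mul_inv_cancel_right]
    have h3 : e * x * e⁻¹ = (e * p * e⁻¹) * (e * v * e⁻¹) * (e * D.t * e⁻¹) := by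
      rw [hxe']; group
    rw [h3, hW v hvW, mul_inv_cancel_right, ho.conj_t, hxe'] at h2
    exact mul_right_cancel (mul_right_cancel h2)
  have hline : c * bar n (D.ca p) = D.ca p := by
    rw [← ho.ca_conj hp, hep]
  have hpp : p * p = 1 := by
    have h2 := ho.inverts hp hline
    rw [hep] at h2
    nth_rewrite 1 [h2]; group
  have hww : v * D.t * (v * D.t) = 1 := by
    have h2 : D.t * v * D.t⁻¹ = v⁻¹ := (lvl F.amb hg).inv v hvW
    rw [t_inv D] at h2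
    calc v * D.t * (v * D.t) = v * (D.t * v * D.t) := by group
      _ = 1 := by rw [h2, mul_inv_cancel]
  obtain ⟨b', hb'⟩ := h1 (by rw [e1, hpp, hww, one_mul])
  apply t_not_U (C3 E)
  have h2 : D.t = x⁻¹ * (x * D.t) := by group
  rw [h2]
  refine mul_mem (inv_mem ?_) ?_
  · rw [hb']; exact P_le (C3 E) (D.z_mem b')
  · rw [h]; exact ⟨p, hp, v, hv, rfl⟩

end III

/-! ### the conjugate of `P` -/

section Pe

open Cfsg.Agent.StdU3.OuterA Cfsg.Agent.StdU3.Swap Cfsg.Agent.StdU3.OuterB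

variable {F : Fld D} {e g : G} {c r : K} (h : Dat F e g c r)

include h in
theorem exists_E (hg : gam D = 1) : Nonempty (TypeIII (lvl F.amb hg) F.Sg) := by
  obtain ⟨x, hx, hps⟩ := ps_surj h hg (bar_one n)
  exact exists_III F hg (Pe_N2 h hg hx) (by
    unfold ps at hps
    rw [hps]; exact one_ne_zero) (not_pm h hg)

variable {hg : gam D = 1} (E : TypeIII (lvl F.amb hg) F.Sg)

include h in
/-- **`P_e ≤ U`** -/
theorem Pe_U (heS : e ∈ F.Sg) {x : G} (hx : x ∈ Pe D g) : x ∈ U (C3 E) := by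
  obtain ⟨a, ha, hae, hconj⟩ := exists_conj_Ut E heS (isPGroup_Pe (D := D) (g := g))
    (fun x hx => Pe_N2 h hg hx) (fun x hx => (comm_e h.cj hx).eq)
  have hae' : Commute a⁻¹ e := (show Commute a e from hae).inv_left
  have haz : a⁻¹ * D.z 1 * a⁻¹⁻¹ = D.z 1 := by
    have h1 := ((mem_D1 D).mp ha).2 _ (z_mem_Q D 1)
    rw [inv_inv, mul_assoc, h1, inv_mul_cancel_left]
  have h2 := hconj _ (norm_Pe h.cj hae' (bar_one n) one_ne_zero haz hx)
  have e1 : a * (a⁻¹ * x * a⁻¹⁻¹) * a⁻¹ = x := by group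
  rw [e1] at h2
  refine mem_U_of E h.out (fun w hw => (comm_W_e h hg hw).eq.symm) h2 (comm_e h.cj hx).eq
    (sq_Pe h.cj hx) (fun hxx => ?_)
  have h3 := mem_Pe.mp hx
  have h4 := D.P_sq _ h3
  have h5 : g⁻¹ * x * g * (g⁻¹ * x * g) = 1 := by
    calc g⁻¹ * x * g * (g⁻¹ * x * g) = g⁻¹ * (x * x) * g := by group
      _ = 1 := by rw [hxx]; group
  rw [h5] at h4
  have h6 : N n (D.ca (g⁻¹ * x * g)) = 0 := D.z_inj _ (fixed_N D.hq _) h4.symm
  obtain ⟨b, hb, h7⟩ := D.exists_z _ h3 (N_eq_zero h6)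
  obtain ⟨d, -, hd⟩ := h.cj.z b hb
  exact ⟨d, by rw [← hd, ← h7]; group⟩

include h in
/-- **`U = P P_e`** -/
theorem PPe {u : G} (heS : e ∈ F.Sg) (hu : u ∈ U (C3 E)) :
    ∃ x ∈ D.P, ∃ r ∈ Pe D g, u = x * r := by
  obtain ⟨p, hp, v, hv, rfl⟩ := hu
  have hv' : v ∈ E.V.V := hv
  have ha : v * D.t * v⁻¹ * D.t ∈ W D := (lvl F.amb hg).a_mem le_rfl (E.N.S_le (E.V.V_le hv'))
  obtain ⟨x, hx, h1⟩ := surj_t h hg ha
  rw [mul_assoc _ D.t D.t, D.t_sq, mul_one] at h1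
  have h2 : (x⁻¹ * v) * D.t = D.t * (x⁻¹ * v) := by
    calc x⁻¹ * v * D.t = x⁻¹ * (v * D.t * v⁻¹) * v := by group
      _ = _ := by rw [← h1]; group
  have h3 := comm_t (C3 E) (mul_mem (inv_mem (Pe_U h E heS hx)) (M_le (C3 E) hv)) h2
  exact ⟨p * (x * (x⁻¹ * v) * x⁻¹), mul_mem hp (norm_P h hg hx h3), x, hx, by group⟩

include h in
/-- the `P`-part of the elements of `P_e` is on the line of `e`. -/
theorem al_line (heS : e ∈ F.Sg) {x : G} (hx : x ∈ Pe D g) :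
    c * bar n (Tower.Two.al (C3 E) x) = Tower.Two.al (C3 E) x := by
  obtain ⟨p, hp, m, hm, h1⟩ := Pe_U h E heS hx
  have h2 := comm_e h.cj hx
  have hme : e * m * e⁻¹ ∈ (C3 E).M := E.R_V e heS m hm
  have h3 : x = (e * p * e⁻¹) * (e * m * e⁻¹) := by
    calc x = e * x * e⁻¹ := by rw [← h2.eq, mul_inv_cancel_right]
      _ = _ := by rw [h1]; group
  have h4 := Tower.Two.al_eq (C3 E) (h.out.P_mem hp) hme
  rw [← h3, h.out.ca_conj hp] at h4
  have h5 := Tower.Two.al_eq (C3 E) hp hm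
  rw [← h1] at h5
  rw [h5, ← h4, h5]

/-- the commutators `[P, U]`. -/
theorem P_U {p x : G} (hp : p ∈ D.P) (hx : x ∈ U (C3 E)) :
    p * x = D.z (Tr n (D.ca p * bar n (Tower.Two.al (C3 E) x))) * (x * p) := by
  obtain ⟨p', hp', m, hm, rfl⟩ := hx
  rw [Tower.Two.al_eq (C3 E) hp' hm]
  have h1 := (C3 E).M_P m hm p hp
  calc p * (p' * m) = (p * p') * m := by group
    _ = D.z (Tr n (D.ca p * bar n (D.ca p'))) * (p' * (p * m)) := by
        rw [D.P_comm p hp p' hp']; group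
    _ = _ := by rw [← h1]; group

/-- the terminal group of type III. -/
noncomputable def T3 : TermDef.Term D :=
  Tower.Cen.term (C3 E) (fun _ hv h1 hz => Tower.TwoCl.two_cl (Tower.Inst.clIII E.V le_rfl E) F.amb hv h1 hz)
    (Tower.Final.threeIII (lvl F.amb hg) le_rfl E)
    (Tower.FourCl.four_cl (Tower.Inst.clIII E.V le_rfl E) F.amb)

theorem T3_U : (T3 E).U = U (C3 E) := rfl

/-- generation. -/
theorem gen {M : Type*} [CommGroup M] (f : G →* M) (hf : ∀ p ∈ D.P, f p = 1) {x : G}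
    (hx : x ∈ U (C3 E)) : f x = 1 :=
  Tower.GenU.gen_cl f hf (Tower.Inst.clIII E.V le_rfl E) hx

theorem card_U3 : Nat.card (U (C3 E)) = (2 ^ n) ^ 5 := by
  rw [Tower.Two.card_U, Tower.TwoCl.card_M (Tower.Inst.clIII E.V le_rfl E)]
  ring

end Pe

end Cfsg.Agent.StdU3.OuterC
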