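import Cfsg.Agent.StdU3.FusC

/-!
# Twisted transfer for `C_G(t)`

`E` perfect normal, `t ∉ E`, `S` of odd index, every conjugate of `t` in `S` is conjugate to `t`
under `S ∩ E`.  A homomorphism `ψ` from `S ∩ E` to a commutative group, inverted by `t` and trivial
on `P`, is trivial on `Sg ∩ E`.
-/

set_option autoImplicit false
set_option linter.unusedSectionVars false
set_option linter.dupNamespace false

namespace Cfsg.Agent.StdU3.PsiOne

open Subgroup Cfsg.Agent.StdU3.Field Cfsg.Agent.StdU3.PreDef Cfsg.Agent.StdU3.FldDef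
open Cfsg.Agent.StdU3.LevelOne Cfsg.Agent.StdU3.FieldAut Cfsg.Agent.StdU3.Rank
open Cfsg.Agent.StdU3.OutInv Cfsg.Agent.StdU3.LemC Cfsg.Agent.StdU3.EndN
open Cfsg.Agent.StdU3.NormQ hiding barE

variable {G : Type*} [Group G] [Finite G] {K : Type*} [Field K] [Fintype K] [CharP K 2] {n : ℕ}
variable {D : Pre G K n} (F : Fld D)

theorem psi_eq_one {E : Subgroup G} [hEn : E.Normal] (hE : commutator E = ⊤) (htE : D.t ∉ E)
    (hPE : D.P ≤ E) {S : Subgroup G} (hSi : Odd S.index) (htS : D.t ∈ S) (hSgS : F.Sg ≤ S)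
    (hSc : ∀ x ∈ S, x ∈ E → x * D.t = D.t * x → x ∈ F.Sg)
    (hfus : ∀ y, y * D.t * y⁻¹ ∈ S → ∃ u ∈ S, u ∈ E ∧ u * D.t * u⁻¹ = y * D.t * y⁻¹)
    {M : Type*} [CommGroup M] (ψ : S.subgroupOf E →* M)
    (hpair : ∀ x y : S.subgroupOf E, ((y : E) : G) = D.t * (x : E) * D.t⁻¹ → ψ x * ψ y = 1)
    (hP : ∀ x : S.subgroupOf E, ((x : E) : G) ∈ D.P → ψ x = 1)
    {x : S.subgroupOf E} (hx : ((x : E) : G) ∈ F.Sg) : ψ x = 1 := by
  classical
  let τ : E ≃* E := MulAut.conjNormal D.t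
  have hτ' : ∀ x : E, ((τ x : E) : G) = D.t * x * D.t⁻¹ := fun x => rfl
  have hτ : ∀ x, τ (τ x) = x := by
    intro x
    apply Subtype.ext
    rw [hτ', hτ']
    have : D.t * (D.t * (x : G) * D.t⁻¹) * D.t⁻¹ = (D.t * D.t) * x * (D.t * D.t)⁻¹ := by group
    rw [this, D.t_sq]; group
  let H : Subgroup E := S.subgroupOf E
  have hHS : ∀ x : E, x ∈ H ↔ (x : G) ∈ S := fun x => Iff.rfl
  have hH : ∀ x ∈ H, τ x ∈ H := by
    intro x hx
    rw [hHS] at hx ⊢
    rw [hτ']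
    exact mul_mem (mul_mem htS hx) (inv_mem htS)
  have hidx : Odd H.index := TransferTE.odd_index_subgroupOf E S hSi
  have hrep : ∀ x, x⁻¹ * τ x ∈ H → ∃ h ∈ H, τ (x * h) = x * h := by
    intro x hx
    rw [hHS] at hx
    have h1 : (x : G)⁻¹ * D.t * x ∈ S := by
      have h2 := mul_mem hx htS
      have e : ((x⁻¹ * τ x : E) : G) * D.t = (x : G)⁻¹ * D.t * x := by
        show (x : G)⁻¹ * (D.t * x * D.t⁻¹) * D.t = _
        group
      rwa [e] at h2
    have e0 : (x : G)⁻¹ * D.t * (x : G)⁻¹⁻¹ = (x : G)⁻¹ * D.t * x := by group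
    obtain ⟨u, huS, huE, h2⟩ := hfus (x : G)⁻¹ (by rw [e0]; exact h1)
    rw [e0] at h2
    refine ⟨⟨u, huE⟩, huS, ?_⟩
    apply Subtype.ext
    rw [hτ']
    show D.t * ((x : G) * u) * D.t⁻¹ = x * u
    have e : D.t * ((x : G) * u) * D.t⁻¹ = x * ((x : G)⁻¹ * D.t * x) * u * D.t⁻¹ := by group
    rw [e, ← h2]; group
  let C : Subgroup E := fix D E
  have hC : ∀ x, x ∈ C ↔ τ x = x := by
    intro x
    rw [Subtype.ext_iff, hτ']
    show (x : G) * D.t = D.t * x ↔ _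
    rw [mul_inv_eq_iff_eq_mul]
    exact eq_comm
  -- `ψ` on `Sg ∩ E` depends only on the Galois component
  have hmemH : ∀ {x : G} (hxE : x ∈ E), x ∈ F.Sg → (⟨x, hxE⟩ : E) ∈ H := fun hxE h => hSgS h
  have hψ : ∀ (x y : G) (hxE : x ∈ E) (hyE : y ∈ E) (hxS : x ∈ F.Sg) (hyS : y ∈ F.Sg),
      ch F x = ch F y → ψ ⟨⟨x, hxE⟩, hmemH hxE hxS⟩ = ψ ⟨⟨y, hyE⟩, hmemH hyE hyS⟩ := by
    intro x y hxE hyE hxS hyS hxy
    have h1 : x⁻¹ * y ∈ F.Sg := mul_mem (inv_mem hxS) hyS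
    have h2 : x⁻¹ * y ∈ E := mul_mem (inv_mem hxE) hyE
    have h3 : ch F (x⁻¹ * y) = 1 := by
      rw [ch_mul F (comm_inv (F.Sg_t x hxS)) (F.Sg_t y hyS), ch_inv F (F.Sg_t x hxS), hxy,
        inv_mul_cancel]
    have h4 : x⁻¹ * y ∈ D.P := by
      rcases ch_ker F h1 h3 with h | h
      · exact h
      · exfalso
        apply htE
        have e : D.t = (x⁻¹ * y)⁻¹ * (x⁻¹ * y * D.t) := by group
        rw [e]
        exact mul_mem (inv_mem h2) (hPE h)
    have h5 := hP ⟨⟨x⁻¹ * y, h2⟩, hmemH h2 h1⟩ h4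
    have h6 : (⟨⟨x⁻¹ * y, h2⟩, hmemH h2 h1⟩ : S.subgroupOf E) =
        (⟨⟨x, hxE⟩, hmemH hxE hxS⟩)⁻¹ * ⟨⟨y, hyE⟩, hmemH hyE hyS⟩ := rfl
    rw [h6, map_mul, map_inv, inv_mul_eq_one] at h5
    exact h5
  -- the retraction
  obtain ⟨a, b, hb, hab⟩ := Nat.exists_eq_two_pow_mul_odd (n := Nat.card C) Nat.card_pos.ne'
  have hcop : Nat.Coprime (2 ^ a) b := (Nat.coprime_two_left.mpr hb).pow_left a
  obtain ⟨N, hN1, hN2⟩ := Nat.chineseRemainder hcop 1 0
  have hbN : b ∣ N := (Nat.modEq_zero_iff_dvd).mp hN2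
  have hr : ∀ c : C, ∃ x : G, x ∈ F.Sg ∧ x ∈ E ∧ ch F x = ch F ((c : E) : G) ^ N := by
    intro c
    have hct : ((c : E) : G) * D.t = D.t * ((c : E) : G) := c.2
    set g : G := ((c : E) : G) ^ N with hg
    have hgE : g ∈ E := pow_mem (c : E).2 N
    have hgt : g * D.t = D.t * g := (Commute.pow_left (show Commute ((c : E) : G) D.t from hct) N)
    have hg2 : g ^ 2 ^ a = 1 := by
      obtain ⟨j, hj⟩ := hbN
      rw [hg, ← pow_mul, hj]
      have e : b * j * 2 ^ a = Nat.card C * j := by rw [hab]; ring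
      have h1 : c ^ Nat.card C = 1 := pow_card_eq_one'
      have h2 : ((c : E) : G) ^ Nat.card C = 1 := by
        have := congrArg (fun z : C => ((z : E) : G)) h1
        exact this
      rw [e, pow_mul, h2, one_pow]
    have hz2 : IsPGroup 2 (zpowers g) := by
      rintro ⟨y, k, rfl⟩
      refine ⟨a, Subtype.ext ?_⟩
      show (g ^ k) ^ 2 ^ a = 1
      rw [← zpow_natCast (g ^ k), ← zpow_mul, mul_comm, zpow_mul, zpow_natCast, hg2, one_zpow]
    obtain ⟨y, hyt, hy⟩ := F.Sg_conj (zpowers g) hz2 (by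
      rintro z ⟨k, rfl⟩
      exact (Commute.zpow_left (show Commute g D.t from hgt) k))
    refine ⟨y⁻¹ * g * y, hy g (mem_zpowers g), ?_, ?_⟩
    · have := hEn.conj_mem g hgE y⁻¹
      rwa [inv_inv] at this
    · have e : y⁻¹ * g * y = y⁻¹ * g * y⁻¹⁻¹ := by rw [inv_inv]
      rw [e, ch_conj F (comm_inv hyt) hgt, hg]
      -- `ch` of a power
      have key : ∀ k : ℕ, ch F (((c : E) : G) ^ k) = ch F ((c : E) : G) ^ k := by
        intro k
        induction k with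
        | zero => rw [pow_zero, pow_zero, ch_one]
        | succ k ih =>
          rw [pow_succ, ch_mul F (Commute.pow_left (show Commute ((c : E) : G) D.t from hct) k) hct,
            ih, pow_succ]
      exact key N
  choose r hrS hrE hrch using hr
  let χ : C →* M :=
    { toFun := fun c => ψ ⟨⟨r c, hrE c⟩, hmemH (hrE c) (hrS c)⟩
      map_one' := by
        have h1 := hψ (r 1) 1 (hrE 1) E.one_mem (hrS 1) F.Sg.one_mem (by
          rw [hrch]
          show ch F (1 : G) ^ N = ch F 1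
          rw [ch_one, one_pow])
        rw [h1]
        exact map_one ψ
      map_mul' := by
        intro c c'
        have h1 := hψ (r (c * c')) (r c * r c') (hrE _) (mul_mem (hrE c) (hrE c')) (hrS _)
          (mul_mem (hrS c) (hrS c')) (by
            rw [ch_mul F (F.Sg_t _ (hrS c)) (F.Sg_t _ (hrS c')), hrch, hrch, hrch]
            have e : ch F ((((c * c' : C) : E)) : G) = ch F ((c : E) : G) * ch F ((c' : E) : G) :=
              ch_mul F c.2 c'.2
            rw [e]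
            exact (Commute.mul_pow (FieldAut.comm _ _) N))
        rw [h1]
        exact map_mul ψ ⟨⟨r c, hrE c⟩, hmemH (hrE c) (hrS c)⟩ ⟨⟨r c', hrE c'⟩, hmemH (hrE c') (hrS c')⟩ }
  have hpowN : ∀ y : C, ((y : E) : G) ∈ F.Sg → ch F ((y : E) : G) ^ N = ch F ((y : E) : G) := by
    intro y hy
    obtain ⟨k, hk⟩ := F.Sg_two ⟨_, hy⟩
    have hk' : ((y : E) : G) ^ 2 ^ k = 1 := congrArg Subtype.val hk
    have hyk : y ^ 2 ^ k = 1 := Subtype.ext (Subtype.ext hk')
    have h1 : orderOf y ∣ 2 ^ a := by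
      have h2 : orderOf y ∣ 2 ^ k := orderOf_dvd_of_pow_eq_one hyk
      have h3 : orderOf y ∣ 2 ^ a * b := by rw [← hab]; exact orderOf_dvd_natCard y
      have h4 : Nat.Coprime (orderOf y) b :=
        Nat.Coprime.coprime_dvd_left h2 ((Nat.coprime_two_left.mpr hb).pow_left k)
      exact h4.dvd_of_dvd_mul_right h3
    have h2 : y ^ N = y := by
      have h3 : N ≡ 1 [MOD orderOf y] := Nat.ModEq.of_dvd h1 hN1
      have h4 := pow_eq_pow_iff_modEq.mpr h3
      rwa [pow_one] at h4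
    have key : ∀ k : ℕ, ch F ((y ^ k : C) : E) = ch F ((y : E) : G) ^ k := by
      intro k
      induction k with
      | zero => rw [pow_zero, pow_zero]; exact ch_one F
      | succ k ih =>
        rw [pow_succ, pow_succ, ← ih]
        exact ch_mul F (y ^ k).2 y.2
    rw [← key N, h2]
  have hχ : ∀ y (hy : y ∈ C) (hyH : y ∈ H), χ ⟨y, hy⟩ = ψ ⟨y, hyH⟩ := by
    intro y hy hyH
    have hyS : (y : G) ∈ F.Sg := hSc _ hyH y.2 hy
    exact hψ (r ⟨y, hy⟩) y (hrE _) y.2 (hrS _) hyS (by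
      rw [hrch]
      exact hpowN ⟨y, hy⟩ hyS)
  obtain ⟨m, hm, hmC⟩ := TwistedTransfer.transfer_eq_pow τ hτ H hH hidx hrep ψ
    (fun x hx => hpair ⟨x, hx⟩ ⟨τ x, hH x hx⟩ (hτ' x)) C hC χ hχ
  have htr : ∀ x, MonoidHom.transfer ψ x = 1 := by
    intro x
    have h1 : commutator E ≤ (MonoidHom.transfer ψ).ker := by
      rw [_root_.commutator_def, Subgroup.commutator_le]
      intro a _ b _
      rw [MonoidHom.mem_ker, map_commutatorElement, commutatorElement_eq_one_iff_mul_comm]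
      exact mul_comm _ _
    rw [hE] at h1
    exact h1 (Subgroup.mem_top x)
  have hxC : (x : E) ∈ C := F.Sg_t _ hx
  have h1 := hmC (x : E) hxC
  have h2 : ψ x ^ m = 1 := by
    have h3 : MonoidHom.transfer ψ (x : E) = 1 := htr _
    rw [h3, hχ _ hxC x.2] at h1
    exact h1.symm
  obtain ⟨k, hk⟩ := F.Sg_two ⟨_, hx⟩
  have hk' : ((x : E) : G) ^ 2 ^ k = 1 := congrArg Subtype.val hk
  have hxk : x ^ 2 ^ k = 1 := Subtype.ext (Subtype.ext hk')
  have h3 : ψ x ^ 2 ^ k = 1 := by rw [← map_pow, hxk, map_one]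
  have h4 : orderOf (ψ x) ∣ Nat.gcd m (2 ^ k) :=
    Nat.dvd_gcd (orderOf_dvd_of_pow_eq_one h2) (orderOf_dvd_of_pow_eq_one h3)
  have h5 : Nat.Coprime m (2 ^ k) := (Nat.coprime_two_right.mpr hm).pow_right k
  rw [h5.gcd_eq_one, Nat.dvd_one, orderOf_eq_one_iff] at h4
  exact h4

/-- **squares**: elements of `Sg ∩ E` are in every subgroup of `S` containing `P` and the squares
of `S`. -/
theorem mem_of_sq {E : Subgroup G} [hEn : E.Normal] (hE : commutator E = ⊤) (htE : D.t ∉ E)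
    (hPE : D.P ≤ E) {S : Subgroup G} (hSi : Odd S.index) (htS : D.t ∈ S) (hSgS : F.Sg ≤ S)
    (hSc : ∀ x ∈ S, x ∈ E → x * D.t = D.t * x → x ∈ F.Sg)
    (hfus : ∀ y, y * D.t * y⁻¹ ∈ S → ∃ u ∈ S, u ∈ E ∧ u * D.t * u⁻¹ = y * D.t * y⁻¹)
    {N : Subgroup G} (hPN : D.P ≤ N) (hsq : ∀ x ∈ S, x * x ∈ N) (hNS : N ≤ S)
    {x : G} (hx : x ∈ F.Sg) (hxE : x ∈ E) : x ∈ N := by
  classical
  let N' : Subgroup S := N.subgroupOf S
  have hN'n : N'.Normal := by
    refine ⟨fun m hm g => ?_⟩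
    have hm' : (m : G) ∈ N := hm
    show (g : G) * m * (g : G)⁻¹ ∈ N
    have h1 := hsq _ (mul_mem g.2 (hNS hm'))
    have h2 := hsq _ g.2
    have e : (g : G) * m * (g : G)⁻¹ = ((g : G) * m * (g * m)) * (m : G)⁻¹ * ((g : G) * g)⁻¹ := by
      group
    rw [e]
    exact mul_mem (mul_mem h1 (inv_mem hm')) (inv_mem h2)
  have hsq' : ∀ q : S ⧸ N', q * q = 1 := by
    intro q
    induction q using QuotientGroup.induction_on with
    | H z =>
      rw [← QuotientGroup.mk_mul, QuotientGroup.eq_one_iff]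
      exact hsq z z.2
  let _ : CommGroup (S ⧸ N') :=
    { (inferInstance : Group (S ⧸ N')) with
      mul_comm := by
        intro a b
        have hi : ∀ q : S ⧸ N', q⁻¹ = q := fun q => inv_eq_of_mul_eq_one_left (hsq' q)
        have h1 := hi (a * b)
        rw [mul_inv_rev, hi a, hi b] at h1
        exact h1.symm }
  let ι : S.subgroupOf E →* S :=
    { toFun := fun y => ⟨((y : E) : G), y.2⟩
      map_one' := rfl
      map_mul' := fun _ _ => rfl }
  let ψ : S.subgroupOf E →* S ⧸ N' := (QuotientGroup.mk' N').comp ι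
  have h := psi_eq_one F hE htE hPE hSi htS hSgS hSc hfus ψ
    (by
      intro a b hab
      show QuotientGroup.mk' N' (ι a) * QuotientGroup.mk' N' (ι b) = 1
      have e : ι b = ⟨D.t, htS⟩ * ι a * ⟨D.t, htS⟩⁻¹ := Subtype.ext hab
      rw [e, map_mul, map_mul, map_inv, mul_comm (QuotientGroup.mk' N' ⟨D.t, htS⟩),
        mul_assoc (QuotientGroup.mk' N' (ι a)), mul_inv_cancel, mul_one]
      exact hsq' _)
    (by
      intro y hy
      show QuotientGroup.mk' N' (ι y) = 1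
      rw [← MonoidHom.mem_ker, QuotientGroup.ker_mk']
      exact hPN hy)
    (x := ⟨⟨x, hxE⟩, hSgS hx⟩) hx
  have h' : QuotientGroup.mk' N' (ι ⟨⟨x, hxE⟩, hSgS hx⟩) = 1 := h
  rw [← MonoidHom.mem_ker, QuotientGroup.ker_mk'] at h'
  exact h'

end Cfsg.Agent.StdU3.PsiOne
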