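import Cfsg.Agent.StdU3.FldDef
import Cfsg.Agent.StdU3.FieldAut

/-!
# Elementary abelian subgroups of `C_G(t)`

Elementary abelian 2-subgroups of `C_G(d)`, `d` conjugate to `t`, have order at most `4q`, and
`C_G(d)` has no 2-subgroup of order at least `q³` with an elementary abelian central subgroup of
order at least `q²`.
-/

set_option autoImplicit false
set_option linter.unusedSectionVars false
set_option linter.dupNamespace false

namespace Cfsg.Agent.StdU3.Rank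

open Subgroup Cfsg.Agent.StdU3.Field Cfsg.Agent.StdU3.PreDef Cfsg.Agent.StdU3.FldDef
open Cfsg.Agent.StdU3.LevelOne Cfsg.Agent.StdU3.FieldAut

variable {G : Type*} [Group G] {K : Type*} [Field K] [Fintype K] [CharP K 2] {n : ℕ}
variable {D : Pre G K n} (F : Fld D)

/-! ### The Galois component as a function -/

open Classical in
/-- the Galois component. -/
noncomputable def ch (g : G) : K ≃+* K :=
  if h : g ∈ centralizer ({D.t} : Set G) then F.chi ⟨g, h⟩ else 1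

theorem mem_cent {g : G} (h : g * D.t = D.t * g) : g ∈ centralizer ({D.t} : Set G) :=
  mem_centralizer_singleton_iff.mpr h

theorem ch_eq {g : G} (h : g * D.t = D.t * g) : ch F g = F.chi ⟨g, mem_cent h⟩ := by
  unfold ch
  rw [dif_pos (mem_cent h)]

theorem comm_mul {x y d : G} (hx : x * d = d * x) (hy : y * d = d * y) :
    (x * y) * d = d * (x * y) := by
  rw [mul_assoc, hy, ← mul_assoc, hx, mul_assoc]

theorem comm_inv {x d : G} (hx : x * d = d * x) : x⁻¹ * d = d * x⁻¹ := by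
  rw [inv_mul_eq_iff_eq_mul, ← mul_assoc, hx, mul_assoc, mul_inv_cancel, mul_one]

theorem ch_mul {g g' : G} (h : g * D.t = D.t * g) (h' : g' * D.t = D.t * g') :
    ch F (g * g') = ch F g * ch F g' := by
  rw [ch_eq F h, ch_eq F h', ch_eq F (comm_mul h h'), ← map_mul]
  rfl

theorem ch_one : ch F 1 = 1 := by
  have h : (1 : G) * D.t = D.t * 1 := by rw [one_mul, mul_one]
  rw [ch_eq F h]
  exact map_one F.chi

theorem ch_inv {g : G} (h : g * D.t = D.t * g) : ch F g⁻¹ = (ch F g)⁻¹ := by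
  have h1 := ch_mul F h (comm_inv h)
  rw [mul_inv_cancel, ch_one] at h1
  exact (inv_eq_of_mul_eq_one_right h1.symm).symm

theorem P_t {x : G} (hx : x ∈ D.P) : x * D.t = D.t * x := (D.t_P x hx).symm

theorem ch_A {x : G} (hx : x ∈ F.A) : ch F x = 1 := by
  rw [ch_eq F (F.A_t x hx)]
  exact F.chi_A ⟨x, _⟩ hx

theorem ch_P {x : G} (hx : x ∈ D.P) : ch F x = 1 := ch_A F (F.P_A hx)

theorem ch_t : ch F D.t = 1 := by
  rw [ch_eq F rfl]
  exact F.chi_C ⟨D.t, _⟩ (fun a ha => (F.A_t a ha).symm)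

theorem ch_conj {g x : G} (hg : g * D.t = D.t * g) (hx : x * D.t = D.t * x) :
    ch F (g * x * g⁻¹) = ch F x := by
  rw [ch_mul F (comm_mul hg hx) (comm_inv hg), ch_mul F hg hx, ch_inv F hg, comm (ch F g),
    mul_assoc, mul_inv_cancel, mul_one]

theorem ch_ker {x : G} (hx : x ∈ F.Sg) (h : ch F x = 1) : x ∈ D.P ∨ x * D.t ∈ D.P := by
  rw [ch_eq F (F.Sg_t x hx)] at h
  exact F.chi_one ⟨x, _⟩ hx h

theorem ch_ca {x : G} (hx : x * D.t = D.t * x) (hP : ∀ p ∈ D.P, x * p * x⁻¹ ∈ D.P) :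
    ∃ c : K, c ≠ 0 ∧ (∀ p ∈ D.P, D.ca (x * p * x⁻¹) = c * ch F x (D.ca p)) ∧
      ∀ b, bar n b = b → x * D.z b * x⁻¹ = D.z (N n c * ch F x b) := by
  rw [ch_eq F hx]
  exact F.chi_ca ⟨x, _⟩ hP

/-! ### Counting -/

theorem card_le_two [Finite G] {H B : Subgroup G}
    (h : ∀ x ∈ B, x ∉ H → ∀ y ∈ B, y ∉ H → x⁻¹ * y ∈ H) : Nat.card B ≤ 2 * Nat.card H := by
  by_cases hx : ∃ x ∈ B, x ∉ H
  · obtain ⟨x, hx, hxH⟩ := hx
    have h1 : (B : Set G) ⊆ (H : Set G) ∪ (fun y => x * y) '' (H : Set G) := by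
      intro y hy
      by_cases hyH : y ∈ H
      · exact Or.inl hyH
      · exact Or.inr ⟨x⁻¹ * y, h x hx hxH y hy hyH, by simp⟩
    have h2 := (Set.ncard_le_ncard h1 (Set.toFinite _)).trans (Set.ncard_union_le _ _)
    have h3 := Set.ncard_image_le (f := fun y => x * y) (Set.toFinite (H : Set G))
    have h4 : Nat.card B = (B : Set G).ncard := rfl
    have h5 : Nat.card H = (H : Set G).ncard := rfl
    omega
  · push Not at hx
    have h1 : Nat.card B ≤ Nat.card H := Subgroup.card_le_of_le (fun x hx' => hx x hx')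
    omega

theorem card_inf_P [Finite G] {B : Subgroup G} (h2 : ∀ b ∈ B, b ∈ D.P → D.ca b = 0) :
    Nat.card (B ⊓ D.P : Subgroup G) ≤ 2 ^ n := by
  classical
  have h1 : ((B ⊓ D.P : Subgroup G) : Set G) ⊆ D.z '' {b : K | barE D.hq b = b} := by
    rintro x ⟨hxB, hxP⟩
    obtain ⟨b, hb, rfl⟩ := D.exists_z x hxP (h2 x hxB hxP)
    exact ⟨b, hb, rfl⟩
  have h3 := (Set.ncard_le_ncard h1 (Set.toFinite _)).trans
    (Set.ncard_image_le (Set.toFinite {b : K | barE D.hq b = b}))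
  have h4 := card_fix_le D.hq (barE_ne_one D.hq)
  have h5 : Nat.card {x : K // barE D.hq x = x} = ({b : K | barE D.hq b = b}).ncard := rfl
  rw [h5] at h4
  exact h3.trans h4

/-- the part of a subgroup of `C(t)` without Galois component -/
def ker (B : Subgroup G) (hB : ∀ b ∈ B, b * D.t = D.t * b) : Subgroup G where
  carrier := {x | x ∈ B ∧ ch F x = 1}
  one_mem' := ⟨B.one_mem, ch_one F⟩
  mul_mem' := by
    rintro a b ⟨ha, ha'⟩ ⟨hb, hb'⟩
    exact ⟨B.mul_mem ha hb, by rw [ch_mul F (hB a ha) (hB b hb), ha', hb', one_mul]⟩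
  inv_mem' := by
    rintro a ⟨ha, ha'⟩
    exact ⟨B.inv_mem ha, by rw [ch_inv F (hB a ha), ha', inv_one]⟩

theorem mem_ker {B : Subgroup G} {hB : ∀ b ∈ B, b * D.t = D.t * b} {x : G} :
    x ∈ ker F B hB ↔ x ∈ B ∧ ch F x = 1 := Iff.rfl

theorem Sg_sub {B : Subgroup G} (hB : B ≤ F.Sg) : ∀ b ∈ B, b * D.t = D.t * b :=
  fun b hb => F.Sg_t b (hB hb)

theorem card_ker [Finite G] {B : Subgroup G} (hB : B ≤ F.Sg) :
    Nat.card (ker F B (Sg_sub F hB)) ≤ 2 * Nat.card (B ⊓ D.P : Subgroup G) := by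
  apply card_le_two
  rintro x ⟨hxB, hx⟩ hx' y ⟨hyB, hy⟩ hy'
  have h1 : x * D.t ∈ D.P := (ch_ker F (hB hxB) hx).resolve_left (fun h => hx' ⟨hxB, h⟩)
  have h2 : y * D.t ∈ D.P := (ch_ker F (hB hyB) hy).resolve_left (fun h => hy' ⟨hyB, h⟩)
  refine ⟨B.mul_mem (B.inv_mem hxB) hyB, ?_⟩
  have h3 : x⁻¹ * y = (x * D.t)⁻¹ * (y * D.t) := by
    have h4 : (x * D.t)⁻¹ * (y * D.t) = D.t⁻¹ * (x⁻¹ * y * D.t) := by group
    rw [h4, Sg_sub F hB _ (B.mul_mem (B.inv_mem hxB) hyB)]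
    group
  rw [h3]
  exact D.P.mul_mem (D.P.inv_mem h1) h2

theorem card_elem_ker [Finite G] {B : Subgroup G} (hB : B ≤ F.Sg)
    (h2 : ∀ b ∈ B, b * b = 1) :
    Nat.card B ≤ 2 * Nat.card (ker F B (Sg_sub F hB)) := by
  apply card_le_two
  intro x hx hx' y hy hy'
  have h3 : ∀ x ∈ B, x ∉ ker F B (Sg_sub F hB) → ch F x = barE D.hq := by
    intro x hx hx'
    apply eq_bar D.hq
    · rw [← ch_mul F (Sg_sub F hB x hx) (Sg_sub F hB x hx), h2 x hx, ch_one]
    · exact fun h => hx' ⟨hx, h⟩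
  refine ⟨B.mul_mem (B.inv_mem hx) hy, ?_⟩
  rw [ch_mul F (comm_inv (Sg_sub F hB x hx)) (Sg_sub F hB y hy), ch_inv F (Sg_sub F hB x hx),
    h3 x hx hx', h3 y hy hy', inv_mul_cancel]

theorem ca_zero_of_sq {x : G} (hx : x ∈ D.P) (h : x * x = 1) : D.ca x = 0 := by
  have h1 := D.P_sq x hx
  rw [h] at h1
  exact N_eq_zero (D.z_inj _ (fixed_N D.hq _) h1.symm)

theorem card_elem_Sg [Finite G] {B : Subgroup G} (hB : B ≤ F.Sg)
    (h2 : ∀ b ∈ B, b * b = 1) : Nat.card B ≤ 4 * 2 ^ n := by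
  have h3 := card_elem_ker F hB h2
  have h4 := card_ker F hB
  have h5 := card_inf_P (D := D) (B := B) (fun b hb hbP => ca_zero_of_sq hbP (h2 b hb))
  omega

/-- an outer involution of `Sg` centralizes only `Z` in `P` -/
theorem ca_zero_of_outer {x : G} (hx : x * D.t = D.t * x) (hP : ∀ p ∈ D.P, x * p * x⁻¹ ∈ D.P)
    (hxx : x * x = 1) (hch : ch F x = barE D.hq) {p : G} (hp : p ∈ D.P) (hxp : x * p = p * x) :
    D.ca p = 0 := by
  obtain ⟨c, hc, h1, h2⟩ := ch_ca F hx hP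
  have h1' : ∀ p ∈ D.P, D.ca (x * p * x⁻¹) = c * bar n (D.ca p) := by
    intro p hp
    rw [h1 p hp, hch]; rfl
  have hpp : x * p * x⁻¹ = p := by rw [hxp]; group
  have hline : c * bar n (D.ca p) = D.ca p := by rw [← h1' p hp, hpp]
  obtain ⟨e, he⟩ := exists_Tr_one D.hq
  obtain ⟨y, hy, hye⟩ := D.ca_surj (D.ca p * e)
  have hxy := hP y hy
  set r := y⁻¹ * (x * y * x⁻¹) with hr
  have hrP : r ∈ D.P := mul_mem (inv_mem hy) hxy
  have hca : D.ca r = D.ca p := by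
    rw [hr, D.ca_mul _ (inv_mem hy) _ hxy, ca_inv D hy, h1' y hy, hye, bar_mul, ← mul_assoc,
      hline, ← mul_add]
    have : e + bar n e = 1 := he
    rw [this, mul_one]
  have hxi : x⁻¹ = x := by rw [inv_eq_iff_mul_eq_one, hxx]
  have hxr : x * r * x⁻¹ = r⁻¹ := by
    rw [hr, hxi]
    have e1 : x * (y⁻¹ * (x * y * x)) * x = x * y⁻¹ * x * y * (x * x) := by group
    rw [e1, hxx, mul_one]
    have e2 : (y⁻¹ * (x * y * x))⁻¹ = x⁻¹ * y⁻¹ * x⁻¹ * y := by group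
    rw [e2, hxi]
  obtain ⟨b, hb, hbr⟩ := eq_z_mul D hp hrP hca.symm
  have hzb : x * D.z b * x⁻¹ = D.z b := by
    -- `D.z b = p * r⁻¹`
    obtain ⟨c1, hc1⟩ := D.exists_z (x * D.z b * x⁻¹) (hP _ (D.z_mem b)) (by
      rw [h1' _ (D.z_mem b), D.ca_z, bar_zero, mul_zero])
    rw [h2 b hb, hch]
    show D.z (N n c * bar n b) = D.z b
    have hNc : N n c = 1 := by
      obtain ⟨y1, hy1, hy1'⟩ := D.ca_surj 1
      have e1 := h1' _ (hP y1 hy1)
      have e2 : x * (x * y1 * x⁻¹) * x⁻¹ = y1 := by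
        rw [hxi]
        have : x * (x * y1 * x) * x = (x * x) * y1 * (x * x) := by group
        rw [this, hxx]; group
      rw [e2, h1' y1 hy1, hy1', bar_one, mul_one] at e1
      exact e1.symm
    rw [hNc, one_mul, hb]
  have h5 : x * p * x⁻¹ = D.z b * r⁻¹ := by
    rw [hbr]
    have : x * (D.z b * r) * x⁻¹ = (x * D.z b * x⁻¹) * (x * r * x⁻¹) := by group
    rw [this, hzb, hxr]
  rw [hpp, hbr] at h5
  have h6 : r * r = 1 := by
    have h7 : r = r⁻¹ := mul_left_cancel h5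
    nth_rewrite 2 [h7]
    exact mul_inv_cancel r
  rw [← hca]
  exact ca_zero_of_sq hrP h6

theorem card_aut_le (h4 : 2 ^ n = 4) (hq : Qd K n) : Nat.card (K ≃+* K) ≤ 4 := by
  have : Fact (Nat.Prime 2) := ⟨Nat.prime_two⟩
  let _ : Algebra (ZMod 2) K := ZMod.algebra K 2
  have hinj : Function.Injective (toGal (F := K) 2) := by
    intro a b h
    ext x
    exact congrArg (fun f : K ≃ₐ[ZMod 2] K => f x) h
  have h1 := Nat.card_le_card_of_injective _ hinj
  have h2 : Nat.card (K ≃ₐ[ZMod 2] K) = Module.finrank (ZMod 2) K := IsGalois.card_aut_eq_finrank _ _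
  have h3 : Fintype.card K = 2 ^ Module.finrank (ZMod 2) K := by
    rw [Module.card_eq_pow_finrank (K := ZMod 2) (V := K), ZMod.card]
  rw [hq.hK, h4] at h3
  have h5 : Module.finrank (ZMod 2) K = 4 := by
    have h6 : (2 : ℕ) ^ 4 = 2 ^ Module.finrank (ZMod 2) K := by rw [← h3]; norm_num
    exact (Nat.pow_right_injective (le_refl 2) h6).symm
  rw [h2, h5] at h1
  exact h1

/-- at most `|Aut K|` cosets of the kernel of the Galois component. -/
theorem card_le_mul [Finite G] {B : Subgroup G} (hB : B ≤ F.Sg) :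
    Nat.card B ≤ Nat.card (K ≃+* K) * Nat.card (ker F B (Sg_sub F hB)) := by
  classical
  have := finite_aut (F := K)
  let f : B →* (K ≃+* K) :=
    { toFun := fun b => ch F b
      map_one' := ch_one F
      map_mul' := fun a b => ch_mul F (Sg_sub F hB a a.2) (Sg_sub F hB b b.2) }
  have h1 : Nat.card f.ker * Nat.card f.range = Nat.card B := by
    rw [← Nat.card_congr (QuotientGroup.quotientKerEquivRange f).toEquiv, mul_comm]
    exact (Subgroup.card_eq_card_quotient_mul_card_subgroup f.ker).symm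
  have h2 : Nat.card f.range ≤ Nat.card (K ≃+* K) :=
    Nat.card_le_card_of_injective _ f.range.subtype_injective
  have h3 : Nat.card f.ker ≤ Nat.card (ker F B (Sg_sub F hB)) := by
    refine Nat.card_le_card_of_injective
      (fun x : f.ker => (⟨(x : B), (x : B).2, x.2⟩ : ker F B (Sg_sub F hB))) ?_
    intro x y h
    apply Subtype.ext
    apply Subtype.ext
    exact congrArg (fun z : ker F B (Sg_sub F hB) => (z : G)) h
  calc Nat.card B = Nat.card f.ker * Nat.card f.range := h1.symm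
    _ ≤ Nat.card (ker F B (Sg_sub F hB)) * Nat.card (K ≃+* K) := Nat.mul_le_mul h3 h2
    _ = _ := mul_comm _ _

theorem false_of_Sg [Finite G] {B C : Subgroup G} (hC : C ≤ F.Sg) (hBC : B ≤ C)
    (h2 : ∀ b ∈ B, b * b = 1) (hcen : ∀ b ∈ B, ∀ c ∈ C, b * c = c * b)
    (hC3 : (2 ^ n) ^ 3 ≤ Nat.card C) (hB2 : (2 ^ n) ^ 2 ≤ Nat.card B) : False := by
  have h4 := four_le D.hq
  have hB : B ≤ F.Sg := hBC.trans hC
  have h5 := card_elem_Sg F hB h2
  have h6 : 2 ^ n = 4 := by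
    have : 2 ^ n * 2 ^ n ≤ 4 * 2 ^ n := by rw [← sq]; exact hB2.trans h5
    have := Nat.le_of_mul_le_mul_right this (by positivity)
    omega
  have h7 := card_elem_ker F hB h2
  have h8 := card_ker F hB
  have h9 := card_inf_P (D := D) (B := B) (fun b hb hbP => ca_zero_of_sq hbP (h2 b hb))
  rw [h6] at h9 hB2 hC3
  obtain ⟨x, hx, hx1⟩ : ∃ x ∈ B, ch F x ≠ 1 := by
    by_contra hcon
    push Not at hcon
    have h10 : Nat.card B ≤ Nat.card (ker F B (Sg_sub F hB)) :=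
      Subgroup.card_le_of_le (fun b hb => ⟨hb, hcon b hb⟩)
    omega
  have hxt := Sg_sub F hB x hx
  have hxb : ch F x = barE D.hq := by
    apply eq_bar D.hq
    · rw [← ch_mul F hxt hxt, h2 x hx, ch_one]
    · exact hx1
  have h11 := card_inf_P (D := D) (B := C) (fun c hc hcP =>
    ca_zero_of_outer F hxt (F.Sg_P x (hB hx)) (h2 x hx) hxb hcP (hcen x hx c hc))
  have h12 := card_ker F hC
  have h13 := card_le_mul F hC
  have h14 := card_aut_le h6 D.hq
  rw [h6] at h11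
  have h15 : Nat.card C ≤ 4 * (2 * 4) :=
    h13.trans (Nat.mul_le_mul h14 (h12.trans (Nat.mul_le_mul (le_refl 2) h11)))
  omega

/-! ### Transport to the conjugates of `t` -/

/-- 2-subgroups centralizing `d = y t y⁻¹` can be moved into `Sg`. -/
theorem exists_conj_Sg {C : Subgroup G} (hC : IsPGroup 2 C) {y : G}
    (h : ∀ c ∈ C, c * (y * D.t * y⁻¹) = (y * D.t * y⁻¹) * c) :
    ∃ g, g * (y * D.t * y⁻¹) * g⁻¹ = D.t ∧ ∀ x ∈ C, g * x * g⁻¹ ∈ F.Sg := by
  let C' : Subgroup G := C.map (MulAut.conj y⁻¹).toMonoidHom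
  have hC' : IsPGroup 2 C' := hC.map _
  have hmem : ∀ x ∈ C, y⁻¹ * x * y ∈ C' := fun x hx => ⟨x, hx, by simp⟩
  have hcomm : ∀ x ∈ C', x * D.t = D.t * x := by
    rintro _ ⟨x, hx, rfl⟩
    have h1 := h x hx
    have h2 : (MulAut.conj y⁻¹).toMonoidHom x = y⁻¹ * x * y := by simp
    rw [h2]
    calc y⁻¹ * x * y * D.t = y⁻¹ * (x * (y * D.t * y⁻¹)) * y := by group
      _ = D.t * (y⁻¹ * x * y) := by rw [h1]; group
  obtain ⟨g, hg, hg'⟩ := F.Sg_conj C' hC' hcomm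
  refine ⟨g⁻¹ * y⁻¹, ?_, ?_⟩
  · have : g⁻¹ * y⁻¹ * (y * D.t * y⁻¹) * (g⁻¹ * y⁻¹)⁻¹ = g⁻¹ * (D.t * g) := by group
    rw [this, ← hg]; group
  · intro x hx
    have := hg' _ (hmem x hx)
    have e : g⁻¹ * y⁻¹ * x * (g⁻¹ * y⁻¹)⁻¹ = g⁻¹ * (y⁻¹ * x * y) * g := by group
    rw [e]; exact this

theorem isPGroup_of_sq {B : Subgroup G} (h2 : ∀ b ∈ B, b * b = 1) : IsPGroup 2 B := by
  rintro ⟨b, hb⟩
  exact ⟨1, Subtype.ext (by simpa [pow_two] using h2 b hb)⟩

include F in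
/-- **elementary abelian subgroups of `C(d)`** -/
theorem card_elem [Finite G] {B : Subgroup G} (h2 : ∀ b ∈ B, b * b = 1) {y : G}
    (h : ∀ b ∈ B, b * (y * D.t * y⁻¹) = (y * D.t * y⁻¹) * b) : Nat.card B ≤ 4 * 2 ^ n := by
  obtain ⟨g, _, hg⟩ := exists_conj_Sg F (isPGroup_of_sq h2) h
  let B' : Subgroup G := B.map (MulAut.conj g).toMonoidHom
  have h1 : Nat.card B' = Nat.card B :=
    Nat.card_congr (B.equivMapOfInjective _ (MulAut.conj g).injective).toEquiv.symm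
  rw [← h1]
  apply card_elem_Sg F
  · rintro _ ⟨b, hb, rfl⟩
    exact hg b hb
  · rintro _ ⟨b, hb, rfl⟩
    rw [← map_mul, h2 b hb, map_one]

include F in
/-- **LEMMA R** -/
theorem false_of_big [Finite G] {B C : Subgroup G} (hC : IsPGroup 2 C) (hBC : B ≤ C)
    (h2 : ∀ b ∈ B, b * b = 1) (hcen : ∀ b ∈ B, ∀ c ∈ C, b * c = c * b)
    (hC3 : (2 ^ n) ^ 3 ≤ Nat.card C) (hB2 : (2 ^ n) ^ 2 ≤ Nat.card B) {y : G}
    (h : ∀ c ∈ C, c * (y * D.t * y⁻¹) = (y * D.t * y⁻¹) * c) : False := by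
  obtain ⟨g, _, hg⟩ := exists_conj_Sg F hC h
  have h1 : ∀ H : Subgroup G, Nat.card (H.map (MulAut.conj g).toMonoidHom) = Nat.card H :=
    fun H => Nat.card_congr (H.equivMapOfInjective _ (MulAut.conj g).injective).toEquiv.symm
  refine false_of_Sg F (B := B.map (MulAut.conj g).toMonoidHom)
    (C := C.map (MulAut.conj g).toMonoidHom) ?_ (Subgroup.map_mono hBC) ?_ ?_ ?_ ?_
  · rintro _ ⟨b, hb, rfl⟩
    exact hg b hb
  · rintro _ ⟨b, hb, rfl⟩
    rw [← map_mul, h2 b hb, map_one]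
  · rintro _ ⟨b, hb, rfl⟩ _ ⟨c, hc, rfl⟩
    rw [← map_mul, hcen b hb c hc, map_mul]
  · rw [h1]; exact hC3
  · rw [h1]; exact hB2

end Cfsg.Agent.StdU3.Rank
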