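import Cfsg.Agent.StdU3.Rank

/-!
# The swapping element

`e ∈ Sg` is an outer involution conjugate to `t` and `e t` is not conjugate to `t`.  There is a
2-element `y` which interchanges `t` and `e`, normalises `Z`, and whose square normalises `P`.
-/

set_option autoImplicit false
set_option linter.unusedSectionVars false
set_option linter.dupNamespace false

namespace Cfsg.Agent.StdU3.Swap

open Subgroup Cfsg.Agent.StdU3.Field Cfsg.Agent.StdU3.PreDef Cfsg.Agent.StdU3.FldDef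
open Cfsg.Agent.StdU3.LevelOne Cfsg.Agent.StdU3.FieldAut Cfsg.Agent.StdU3.Rank

variable {G : Type*} [Group G] {K : Type*} [Field K] [Fintype K] [CharP K 2] {n : ℕ}

/-- elements of given norm on the line `c ā = a`. -/
theorem exists_on_line (hq : Qd K n) {c : K} (hc : N n c = 1) {b : K} (hb : bar n b = b) :
    ∃ a, c * bar n a = a ∧ N n a = b := by
  by_cases h0 : b = 0
  · exact ⟨0, by rw [bar_zero, mul_zero], by rw [N_zero, h0]⟩
  obtain ⟨x, hx⟩ := exists_norm hq hb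
  have hx0 : x ≠ 0 := by
    rintro rfl
    rw [N_zero] at hx
    exact h0 hx.symm
  obtain ⟨v, hv⟩ := (bijective_frobenius K 2).2 (c * bar n x / x)
  have hv2 : v * v = c * bar n x / x := by
    rw [← hv, frobenius_def, sq]
  have hNv : N n v = 1 := by
    have h1 : N n v * N n v = 1 := by
      rw [← N_mul, hv2, div_eq_mul_inv, N_mul, N_mul, N_inv, hc, N_bar hq, one_mul,
        mul_inv_cancel₀ (N_ne_zero hx0)]
    have h2 : (N n v + 1) * (N n v + 1) = 0 := by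
      have : (N n v + 1) * (N n v + 1) = (N n v * N n v + 1) + (N n v + N n v) := by ring
      rw [this, h1, Field.add_self, Field.add_self, add_zero]
    exact Field.add_eq_zero.mp (mul_self_eq_zero.mp h2)
  have hv0 : v ≠ 0 := by
    rintro rfl
    rw [N_zero] at hNv
    exact zero_ne_one hNv
  refine ⟨x * v, ?_, by rw [N_mul, hNv, mul_one, hx]⟩
  have h1 : v * bar n v = 1 := hNv
  have h2 : c * bar n x = x * (v * v) := by
    rw [hv2]; field_simp
  calc c * bar n (x * v) = (c * bar n x) * bar n v := by rw [bar_mul, mul_assoc]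
    _ = x * v * (v * bar n v) := by rw [h2]; ring
    _ = x * v := by rw [h1, mul_one]

variable {D : Pre G K n} (F : Fld D)

/-- an outer involution of `C(t)` normalising `P`. -/
structure Inv (e : G) : Prop where
  t : e * D.t = D.t * e
  P : ∀ p ∈ D.P, e * p * e⁻¹ ∈ D.P
  sq : e * e = 1
  ch : ch F e = barE D.hq

variable {F} {e : G}

theorem Inv.inv (he : Inv F e) : e⁻¹ = e := by rw [inv_eq_iff_mul_eq_one, he.sq]

theorem Inv.line (he : Inv F e) : ∃ c : K, c ≠ 0 ∧ N n c = 1 ∧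
    (∀ p ∈ D.P, D.ca (e * p * e⁻¹) = c * bar n (D.ca p)) ∧
    ∀ b, bar n b = b → e * D.z b * e⁻¹ = D.z b := by
  obtain ⟨c, hc, h1, h2⟩ := ch_ca F he.t he.P
  have h1' : ∀ p ∈ D.P, D.ca (e * p * e⁻¹) = c * bar n (D.ca p) := by
    intro p hp
    rw [h1 p hp, he.ch]; rfl
  have hNc : N n c = 1 := by
    obtain ⟨y1, hy1, hy1'⟩ := D.ca_surj 1
    have e1 := h1' _ (he.P y1 hy1)
    have e2 : e * (e * y1 * e⁻¹) * e⁻¹ = y1 := by
      rw [he.inv]
      have : e * (e * y1 * e) * e = (e * e) * y1 * (e * e) := by group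
      rw [this, he.sq]; group
    rw [e2, h1' y1 hy1, hy1', bar_one, mul_one] at e1
    exact e1.symm
  refine ⟨c, hc, hNc, h1', ?_⟩
  intro b hb
  rw [h2 b hb, he.ch]
  show D.z (N n c * bar n b) = D.z b
  rw [hNc, one_mul, hb]

/-- conjugating by an element of `P`. -/
theorem Inv.conj_P (he : Inv F e) {y : G} (hy : y ∈ D.P) : Inv F (y * e * y⁻¹) := by
  have hyt := P_t (D := D) hy
  refine ⟨?_, ?_, ?_, ?_⟩
  · exact comm_mul (comm_mul hyt he.t) (comm_inv hyt)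
  · intro p hp
    have e1 : y * e * y⁻¹ * p * (y * e * y⁻¹)⁻¹ = y * (e * (y⁻¹ * p * y) * e⁻¹) * y⁻¹ := by group
    rw [e1]
    exact mul_mem (mul_mem hy (he.P _ (mul_mem (mul_mem (inv_mem hy) hp) hy))) (inv_mem hy)
  · have e1 : y * e * y⁻¹ * (y * e * y⁻¹) = y * (e * e) * y⁻¹ := by group
    rw [e1, he.sq]; group
  · rw [ch_conj F hyt he.t, he.ch]

theorem mul_mem_cls {x : G} (he : Inv F e) (h : (x * e) * (x * e) = 1) :
    e * x * e⁻¹ = x⁻¹ := by
  rw [he.inv]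
  have : x * (e * x * e) = 1 := by rw [← h]; group
  exact (inv_eq_of_mul_eq_one_right this).symm

/-- the involutions of `P e` are conjugate under `P`. -/
theorem Inv.conj_of_sq (he : Inv F e) {p : G} (hp : p ∈ D.P) (h : (p * e) * (p * e) = 1) :
    ∃ y ∈ D.P, p * e = y * e * y⁻¹ := by
  obtain ⟨c, hc, hNc, h1, h2⟩ := he.line
  have h3 := mul_mem_cls he h
  have hline : c * bar n (D.ca p) = D.ca p := by
    rw [← h1 p hp, h3, ca_inv D hp]
  obtain ⟨ε, hε⟩ := exists_Tr_one D.hq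
  obtain ⟨y, hy, hye⟩ := D.ca_surj (D.ca p * ε)
  set f := y⁻¹ * e * y with hf
  have hfe : f = y⁻¹ * e * y⁻¹⁻¹ := by rw [hf, inv_inv]
  have hfI : Inv F f := by rw [hfe]; exact he.conj_P (inv_mem hy)
  set r := f * e with hr
  have hr' : r = y⁻¹ * (e * y * e⁻¹) := by rw [hr, hf, he.inv]; group
  have hrP : r ∈ D.P := by rw [hr']; exact mul_mem (inv_mem hy) (he.P y hy)
  have hca : D.ca r = D.ca p := by
    rw [hr', D.ca_mul _ (inv_mem hy) _ (he.P y hy), ca_inv D hy, h1 y hy, hye, bar_mul, ← mul_assoc,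
      hline, ← mul_add]
    have : ε + bar n ε = 1 := hε
    rw [this, mul_one]
  obtain ⟨b, hb, hbr⟩ := eq_z_mul D hp hrP hca.symm
  have hpf : p * e = D.z b * f := by
    rw [hbr, hr]
    have : D.z b * (f * e) * e = D.z b * f * (e * e) := by group
    rw [this, he.sq, mul_one]
  -- `c'` for `f`
  have h1f : ∀ x ∈ D.P, D.ca (f * x * f⁻¹) = c * bar n (D.ca x) := by
    intro x hx
    have e1 : f * x * f⁻¹ = r * (e * x * e⁻¹) * r⁻¹ := by
      rw [hr]
      have : f * e * (e * x * e⁻¹) * (f * e)⁻¹ = f * (e * e) * x * (e * e)⁻¹ * f⁻¹ := by group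
      rw [this, he.sq]; group
    rw [e1, D.ca_mul _ (mul_mem hrP (he.P x hx)) _ (inv_mem hrP), D.ca_mul _ hrP _ (he.P x hx),
      ca_inv D hrP, h1 x hx]
    have : D.ca r + c * bar n (D.ca x) + D.ca r = c * bar n (D.ca x) + (D.ca r + D.ca r) := by ring
    rw [this, Field.add_self, add_zero]
  obtain ⟨a', ha', hNa'⟩ := exists_on_line D.hq hNc hb
  obtain ⟨y', hy', hye'⟩ := D.ca_surj (a' * ε)
  set r' := y'⁻¹ * (f * y' * f⁻¹) with hr2
  have hr2P : r' ∈ D.P := mul_mem (inv_mem hy') (hfI.P y' hy')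
  have hca' : D.ca r' = a' := by
    rw [hr2, D.ca_mul _ (inv_mem hy') _ (hfI.P y' hy'), ca_inv D hy', h1f y' hy', hye', bar_mul,
      ← mul_assoc, ha', ← mul_add]
    have : ε + bar n ε = 1 := hε
    rw [this, mul_one]
  have hfr : f * r' * f⁻¹ = r'⁻¹ := by
    rw [hr2, hfI.inv]
    have e1 : f * (y'⁻¹ * (f * y' * f)) * f = f * y'⁻¹ * f * y' * (f * f) := by group
    rw [e1, hfI.sq, mul_one]
    have e2 : (y'⁻¹ * (f * y' * f))⁻¹ = f⁻¹ * y'⁻¹ * f⁻¹ * y' := by group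
    rw [e2, hfI.inv]
  have hconj : r' * f * r'⁻¹ = D.z b * f := by
    have e1 : r' * f * r'⁻¹ = r' * (f * r' * f⁻¹)⁻¹ * f := by group
    rw [e1, hfr, inv_inv, D.P_sq r' hr2P, hca', hNa']
  refine ⟨r' * y⁻¹, mul_mem hr2P (inv_mem hy), ?_⟩
  rw [hpf, ← hconj, hf]; group

/-- the standing assumptions on `e`. -/
structure Hyp (F : Fld D) (e : G) : Prop extends Inv F e where
  mem : e ∈ F.Sg
  conj : ∃ g, g * D.t * g⁻¹ = e
  not : ∀ g, g * D.t * g⁻¹ ≠ e * D.t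

theorem Hyp.conj_P (he : Hyp F e) {x : G} (hx : x ∈ D.P ∨ x * D.t ∈ D.P) {g : G}
    (hg : x * e = g * D.t * g⁻¹) : ∃ y ∈ D.P, x * e = y * e * y⁻¹ := by
  have hsq : (x * e) * (x * e) = 1 := by
    rw [hg]
    have : g * D.t * g⁻¹ * (g * D.t * g⁻¹) = g * (D.t * D.t) * g⁻¹ := by group
    rw [this, D.t_sq]; group
  rcases hx with hx | hx
  · exact he.toInv.conj_of_sq hx hsq
  · exfalso
    have h1 : x * D.t * e = x * e * D.t := by rw [mul_assoc, ← he.t, mul_assoc]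
    have hxt : x * D.t = D.t * x := by
      have := P_t (D := D) hx
      calc x * D.t = (x * D.t * D.t) * D.t := by rw [mul_assoc x, D.t_sq, mul_one]
        _ = D.t * x * (D.t * D.t) := by rw [this]; group
        _ = D.t * x := by rw [D.t_sq, mul_one]
    have h2 : (x * D.t * e) * (x * D.t * e) = 1 := by
      have h3 : D.t * (x * e) = x * e * D.t := by
        rw [← mul_assoc, ← hxt, mul_assoc, ← he.t, mul_assoc]
      rw [h1]
      have : x * e * D.t * (x * e * D.t) = x * e * (D.t * (x * e)) * D.t := by group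
      rw [this, h3]
      have : x * e * (x * e * D.t) * D.t = (x * e) * (x * e) * (D.t * D.t) := by group
      rw [this, hsq, D.t_sq, mul_one]
    obtain ⟨y, hy, h4⟩ := he.toInv.conj_of_sq hx h2
    have h5 : x * e = y * (e * D.t) * y⁻¹ := by
      have h6 : x * e = x * D.t * e * D.t := by
        rw [h1, mul_assoc (x * e), D.t_sq, mul_one]
      rw [h6, h4]
      have h7 : y⁻¹ * D.t = D.t * y⁻¹ := P_t (D := D) (inv_mem hy)
      calc y * e * y⁻¹ * D.t = y * e * (y⁻¹ * D.t) := by group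
        _ = y * (e * D.t) * y⁻¹ := by rw [h7]; group
    apply he.not (y⁻¹ * g)
    have : y⁻¹ * g * D.t * (y⁻¹ * g)⁻¹ = y⁻¹ * (g * D.t * g⁻¹) * y := by group
    rw [this, ← hg, h5]; group

theorem hyp_of (hS : e ∈ F.Sg) (hch : ch F e = barE D.hq) (hconj : ∃ g, g * D.t * g⁻¹ = e)
    (hnot : ∀ g, g * D.t * g⁻¹ ≠ e * D.t) : Hyp F e where
  t := F.Sg_t e hS
  P := F.Sg_P e hS
  sq := by
    obtain ⟨g, rfl⟩ := hconj
    have : g * D.t * g⁻¹ * (g * D.t * g⁻¹) = g * (D.t * D.t) * g⁻¹ := by group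
    rw [this, D.t_sq]; group
  ch := hch
  mem := hS
  conj := hconj
  not := hnot

/-- the torus of `C(⟨t, e⟩)`. -/
theorem Hyp.exists_torus (he : Hyp F e) {l : Kˣ} (hl : bar n (l : K) = l) :
    ∃ m, m * D.t = D.t * m ∧ m * e = e * m ∧
      ∀ x ∈ D.P, m * x * m⁻¹ ∈ D.P ∧ D.ca (m * x * m⁻¹) = l * D.ca x := by
  obtain ⟨c, hc, hNc, h1, h2⟩ := he.line
  obtain ⟨g0, hg0⟩ := he.conj
  have hw : w n l = l := by
    unfold w
    rw [hl, sq, mul_assoc, mul_inv_cancel₀ l.ne_zero, mul_one]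
  set a := D.h l with ha
  have hat : a * D.t = D.t * a := (D.t_h l).symm
  have haP : ∀ x ∈ D.P, a * x * a⁻¹ ∈ D.P := D.h_P l
  have haca : ∀ x ∈ D.P, D.ca (a * x * a⁻¹) = l * D.ca x := by
    intro x hx
    rw [D.h_ca l x hx, hw]
  -- the inverse of `a`
  have haP' : ∀ x ∈ D.P, a⁻¹ * x * a ∈ D.P := by
    intro x hx
    have h3 := F.ti a⁻¹ (comm_inv hat)
    by_cases hb : ∀ b, bar n b = b → D.z b = 1
    · exfalso
      exact one_ne_zero (D.z_inj 1 (bar_one n) (hb 1 (bar_one n)))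
    · push Not at hb
      obtain ⟨b, hb, hb1⟩ := hb
      have h4 := h3 (a * D.z b * a⁻¹) (haP _ (D.z_mem b)) (by
        intro h5
        apply hb1
        have : D.z b = a⁻¹ * (a * D.z b * a⁻¹) * a := by group
        rw [this, h5]; group) (by
        have : a⁻¹ * (a * D.z b * a⁻¹) * a⁻¹⁻¹ = D.z b := by group
        rw [this]; exact D.z_mem b) x hx
      rwa [inv_inv] at h4
  have haca' : ∀ x ∈ D.P, D.ca (a⁻¹ * x * a) = (l : K)⁻¹ * D.ca x := by
    intro x hx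
    have h3 := haca _ (haP' x hx)
    have : a * (a⁻¹ * x * a) * a⁻¹ = x := by group
    rw [this] at h3
    rw [h3, ← mul_assoc, inv_mul_cancel₀ l.ne_zero, one_mul]
  set r := a * e * a⁻¹ * e⁻¹ with hr
  have hrt : r * D.t = D.t * r :=
    comm_mul (comm_mul (comm_mul hat he.t) (comm_inv hat)) (comm_inv he.t)
  obtain ⟨x, hx, k, hk, hrk⟩ := F.amb.dec r hrt (by
    intro p hp
    have hp1 : e⁻¹ * p * e ∈ D.P := by
      have := he.P p hp
      rwa [he.inv] at this ⊢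
    have e1 : r * p * r⁻¹ = a * (e * (a⁻¹ * (e⁻¹ * p * e) * a) * e⁻¹) * a⁻¹ := by
      rw [hr]; group
    have hp2 := haP' _ hp1
    have hp3 := he.P _ hp2
    refine ⟨by rw [e1]; exact haP _ hp3, ?_⟩
    rw [e1, haca _ hp3, h1 _ hp2, haca' _ hp1]
    have e2 : D.ca p = c * bar n (D.ca (e⁻¹ * p * e)) := by
      rw [← h1 _ hp1]
      congr 1
      group
    rw [bar_mul, bar_inv, hl, e2]
    have : (l : K) * (c * ((l : K)⁻¹ * bar n (D.ca (e⁻¹ * p * e)))) =
      ((l : K) * (l : K)⁻¹) * (c * bar n (D.ca (e⁻¹ * p * e))) := by ring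
    rw [this, mul_inv_cancel₀ l.ne_zero, one_mul])
  have hkt := F.amb.O_t k hk
  have hxt : x * D.t = D.t * x := by
    have : x = r * k⁻¹ := by rw [hrk]; group
    rw [this]
    exact comm_mul hrt (comm_inv hkt)
  have hxP := D.Q_T x hx hxt
  have hae : a * e * a⁻¹ = x * k * e := by
    rw [← hrk, hr]; group
  -- `k` commutes with `⟨t⟩ P`
  have hkcls : ∀ y, (y ∈ D.P ∨ y * D.t ∈ D.P) → k * y = y * k := by
    rintro y (hy | hy)
    · exact F.amb.O_P k hk y hy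
    · have h3 := F.amb.O_P k hk _ hy
      have e1 : y = y * D.t * D.t := by rw [mul_assoc, D.t_sq, mul_one]
      rw [e1]
      calc k * (y * D.t * D.t) = (k * (y * D.t)) * D.t := by group
        _ = (y * D.t) * (k * D.t) := by rw [h3]; group
        _ = y * D.t * D.t * k := by rw [hkt]; group
  have hex : e * x * e⁻¹ ∈ D.P ∨ e * x * e⁻¹ * D.t ∈ D.P := by
    rcases hxP with h3 | h3
    · exact Or.inl (he.P x h3)
    · right
      have e1 : e * x * e⁻¹ * D.t = e * (x * D.t) * e⁻¹ := by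
        have h4 : e⁻¹ * D.t = D.t * e⁻¹ := comm_inv he.t
        calc e * x * e⁻¹ * D.t = e * x * (e⁻¹ * D.t) := by group
          _ = _ := by rw [h4]; group
      rw [e1]; exact he.P _ h3
  have hcls_Q : ∀ y, (y ∈ D.P ∨ y * D.t ∈ D.P) → y ∈ D.Q := by
    rintro y (hy | hy)
    · exact D.P_le hy
    · have e1 : y = y * D.t * D.t := by rw [mul_assoc, D.t_sq, mul_one]
      rw [e1]
      exact mul_mem (D.P_le hy) D.Q_t
  have hsq : (x * (e * x * e⁻¹)) * (k * (e * k * e⁻¹)) = 1 := by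
    have h3 : (a * e * a⁻¹) * (a * e * a⁻¹) = 1 := by
      have : (a * e * a⁻¹) * (a * e * a⁻¹) = a * (e * e) * a⁻¹ := by group
      rw [this, he.sq]; group
    have h4 := hkcls _ hex
    rw [← h3, hae]
    have e1 : x * k * e * (x * k * e) = x * (k * (e * x * e⁻¹)) * (e * k * e⁻¹) * (e * e) := by group
    rw [e1, h4, he.sq, mul_one]; group
  have hkk : k * (e * k * e⁻¹) ∈ F.O := mul_mem hk (F.O_conj e he.t k hk)
  have hxx : x * (e * x * e⁻¹) = 1 := by
    have h3 : x * (e * x * e⁻¹) ∈ F.O := by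
      rw [eq_inv_of_mul_eq_one_left hsq]
      exact inv_mem hkk
    obtain ⟨j, hj⟩ := D.Q_two ⟨x * (e * x * e⁻¹), mul_mem hx (hcls_Q _ hex)⟩
    exact Next.eq_one_of_O D F.amb h3 (congrArg Subtype.val hj)
  have hkk1 : e * k * e⁻¹ = k⁻¹ := by
    rw [hxx, one_mul] at hsq
    exact (inv_eq_of_mul_eq_one_right hsq).symm
  obtain ⟨i, hi⟩ := F.amb.odd
  set j := k ^ (i + 1) with hj
  have hjj : j * j = k := by
    rw [hj, ← pow_add]
    have : i + 1 + (i + 1) = (2 * i + 1) + 1 := by ring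
    rw [this, pow_succ, ← hi, Next.pow_card_O hk, one_mul]
  have hjO : j ∈ F.O := pow_mem hk _
  have hje : e * j * e⁻¹ = j⁻¹ := by
    rw [hj, ← conj_pow, hkk1, inv_pow]
  have hjke : j * e * j⁻¹ = k * e := by
    have e1 : j * e * j⁻¹ = j * (e * j * e⁻¹)⁻¹ * e := by group
    rw [e1, hje, inv_inv, hjj]
  have hjx : j * x = x * j := by
    have : Commute k x := hkcls x hxP
    exact this.pow_left _
  have hconj : j⁻¹ * a * e * (j⁻¹ * a)⁻¹ = x * e := by
    have e1 : j⁻¹ * a * e * (j⁻¹ * a)⁻¹ = j⁻¹ * (a * e * a⁻¹) * j := by group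
    have hjx' : j⁻¹ * x = x * j⁻¹ := comm_inv (x := j) (d := x) hjx
    rw [e1, hae]
    calc j⁻¹ * (x * k * e) * j = (j⁻¹ * x) * (k * e) * j := by group
      _ = x * e := by rw [hjx', ← hjke]; group
  obtain ⟨y, hy, hye⟩ := he.conj_P hxP (g := j⁻¹ * a * g0) (by
    rw [← hconj, ← hg0]; group)
  have hyt := P_t (D := D) hy
  have hjt := F.amb.O_t j hjO
  refine ⟨y⁻¹ * (j⁻¹ * a), comm_mul (comm_inv hyt) (comm_mul (comm_inv hjt) hat), ?_, ?_⟩
  · have e1 : y⁻¹ * (j⁻¹ * a) * e = y⁻¹ * (j⁻¹ * a * e * (j⁻¹ * a)⁻¹) * (j⁻¹ * a) := by group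
    rw [e1, hconj, hye]; group
  · intro p hp
    have hap := haP p hp
    have hjp : j⁻¹ * (a * p * a⁻¹) * j = a * p * a⁻¹ := by
      have h3 := F.amb.O_P j hjO _ hap
      rw [mul_assoc, ← h3]; group
    have e1 : y⁻¹ * (j⁻¹ * a) * p * (y⁻¹ * (j⁻¹ * a))⁻¹ =
        y⁻¹ * (j⁻¹ * (a * p * a⁻¹) * j) * y := by group
    rw [e1, hjp]
    refine ⟨mul_mem (mul_mem (inv_mem hy) hap) hy, ?_⟩
    rw [D.ca_mul _ (mul_mem (inv_mem hy) hap) _ hy, D.ca_mul _ (inv_mem hy) _ hap, ca_inv D hy,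
      haca p hp]
    have : D.ca y + l * D.ca p + D.ca y = l * D.ca p + (D.ca y + D.ca y) := by ring
    rw [this, Field.add_self, add_zero]

/-- `t ∈ A` is impossible. -/
theorem cls_mem {x : G} (hx : x ∈ D.P ∨ x * D.t ∈ D.P) (hxA : x ∈ F.A) : x ∈ D.P := by
  rcases hx with hx | hx
  · exact hx
  · exfalso
    apply F.t_A
    have : D.t = x⁻¹ * (x * D.t) := by group
    rw [this]
    exact mul_mem (inv_mem hxA) (F.P_A hx)

theorem A_conj' {g : G} (hg : g * D.t = D.t * g) {a : G} (ha : a ∈ F.A) : g⁻¹ * a * g ∈ F.A := by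
  have := F.A_norm g⁻¹ (comm_inv hg) a ha
  rwa [inv_inv] at this

/-- a 2-subgroup of `C(t)` containing `P` and without Galois component, or a conjugate of `P`. -/
theorem exists_conj_fix [Finite G] {x : G} (hxt : x * D.t = D.t * x) (hx2 : ∃ k, x ^ (2 ^ k) = 1)
    (hxP : ∀ p ∈ D.P, x * p * x⁻¹ ∈ D.P) :
    ∃ g, g * D.t = D.t * g ∧ (∀ p ∈ D.P, g * p * g⁻¹ ∈ D.P) ∧ g⁻¹ * x * g ∈ F.Sg := by
  classical
  have : Fact (Nat.Prime 2) := ⟨Nat.prime_two⟩
  -- the group `P ⟨x⟩`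
  have hnorm : Subgroup.zpowers x ≤ Subgroup.normalizer (D.P : Set G) := by
    rw [Subgroup.zpowers_le, Subgroup.mem_normalizer_iff]
    intro p
    refine ⟨fun hp => hxP p hp, fun hp => ?_⟩
    have h2 : D.P.map (MulAut.conj x).toMonoidHom ≤ D.P := by
      rintro _ ⟨g, hg, rfl⟩
      exact hxP g hg
    have h3 : D.P.map (MulAut.conj x).toMonoidHom = D.P := by
      apply Subgroup.eq_of_le_of_card_ge h2
      rw [Subgroup.card_map_of_injective (MulAut.conj x).injective]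
    have hp' : x * p * x⁻¹ ∈ D.P.map (MulAut.conj x).toMonoidHom := by rw [h3]; exact hp
    obtain ⟨y, hy, he⟩ := hp'
    have : y = p := by
      have h4 : x * y * x⁻¹ = x * p * x⁻¹ := he
      exact mul_left_cancel (mul_right_cancel h4)
    rw [← this]; exact hy
  have hP2 : IsPGroup 2 D.P := D.Q_two.to_le D.P_le
  have hx2' : IsPGroup 2 (Subgroup.zpowers x) := by
    obtain ⟨k, hk⟩ := hx2
    rintro ⟨y, hy⟩
    obtain ⟨m, rfl⟩ := Subgroup.mem_zpowers_iff.mp hy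
    refine ⟨k, Subtype.ext ?_⟩
    show (x ^ m) ^ (2 ^ k) = 1
    rw [← zpow_natCast, ← zpow_mul, mul_comm, zpow_mul, zpow_natCast, hk, one_zpow]
  have hX2 : IsPGroup 2 (D.P ⊔ Subgroup.zpowers x : Subgroup G) :=
    IsPGroup.to_sup_of_normal_left' hP2 hx2' hnorm
  have hXt : ∀ y ∈ (D.P ⊔ Subgroup.zpowers x : Subgroup G), y * D.t = D.t * y := by
    have h1 : (D.P ⊔ Subgroup.zpowers x : Subgroup G) ≤ centralizer ({D.t} : Set G) := by
      rw [sup_le_iff, Subgroup.zpowers_le]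
      exact ⟨fun p hp => mem_cent (P_t (D := D) hp), mem_cent hxt⟩
    intro y hy
    exact mem_centralizer_singleton_iff.mp (h1 hy)
  obtain ⟨g, hg, hgX⟩ := F.Sg_conj _ hX2 hXt
  refine ⟨g, hg, ?_, hgX x (Subgroup.mem_sup_right (Subgroup.mem_zpowers x))⟩
  have h5 : ∀ p ∈ D.P, g⁻¹ * p * g ∈ D.P := by
    intro p hp
    have h6 := hgX p (Subgroup.mem_sup_left hp)
    have h7 : ch F (g⁻¹ * p * g) = 1 := by
      have := ch_conj F (comm_inv hg) (P_t (D := D) hp)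
      rw [inv_inv] at this
      rw [this, ch_P F hp]
    exact cls_mem (ch_ker F h6 h7) (A_conj' hg (F.P_A hp))
  intro p hp
  have h2 : D.P.map (MulAut.conj g⁻¹).toMonoidHom ≤ D.P := by
    rintro _ ⟨y, hy, rfl⟩
    show g⁻¹ * y * g⁻¹⁻¹ ∈ D.P
    rw [inv_inv]; exact h5 y hy
  have h3 : D.P.map (MulAut.conj g⁻¹).toMonoidHom = D.P := by
    apply Subgroup.eq_of_le_of_card_ge h2
    rw [Subgroup.card_map_of_injective (MulAut.conj g⁻¹).injective]
  rw [← h3] at hp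
  obtain ⟨y, hy, rfl⟩ := hp
  have : g * (MulAut.conj g⁻¹).toMonoidHom y * g⁻¹ = y := by
    show g * (g⁻¹ * y * g⁻¹⁻¹) * g⁻¹ = y
    group
  rw [this]; exact hy

/-- 2-elements of `C(t)` normalising `P` without Galois component. -/
theorem cls_of_ch [Finite G] {x : G} (hxt : x * D.t = D.t * x) (hx2 : ∃ k, x ^ (2 ^ k) = 1)
    (hxP : ∀ p ∈ D.P, x * p * x⁻¹ ∈ D.P) (hch : ch F x = 1) : x ∈ D.P ∨ x * D.t ∈ D.P := by
  obtain ⟨g, hg, hgP, hgx⟩ := exists_conj_fix (F := F) hxt hx2 hxP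
  have h1 : ch F (g⁻¹ * x * g) = 1 := by
    have := ch_conj F (comm_inv hg) hxt
    rw [inv_inv] at this
    rw [this, hch]
  rcases ch_ker F hgx h1 with h | h
  · left
    have : x = g * (g⁻¹ * x * g) * g⁻¹ := by group
    rw [this]; exact hgP _ h
  · right
    have h2 : g * D.t * g⁻¹ = D.t := by rw [hg]; group
    have : x * D.t = g * (g⁻¹ * x * g * D.t) * g⁻¹ := by
      calc x * D.t = x * (g * D.t * g⁻¹) := by rw [h2]
        _ = _ := by group
    rw [this]; exact hgP _ h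

theorem z_inv (b : K) : (D.z b)⁻¹ = D.z b := by
  rw [inv_eq_iff_mul_eq_one, ← D.z_add, Field.add_self, z_zero]

theorem z_sq (b : K) : D.z b * D.z b = 1 := by rw [← D.z_add, Field.add_self, z_zero]

theorem Inv.ze (he : Inv F e) {b : K} (hb : bar n b = b) : D.z b * e = e * D.z b := by
  obtain ⟨c, hc, hNc, hline, hez⟩ := he.line
  have := hez b hb
  rw [mul_inv_eq_iff_eq_mul] at this
  exact this.symm

/-- the group `Z`. -/
def Z (D : Pre G K n) : Subgroup G where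
  carrier := {x | ∃ b, bar n b = b ∧ x = D.z b}
  one_mem' := ⟨0, bar_zero n, (z_zero D).symm⟩
  mul_mem' := by
    rintro _ _ ⟨b, hb, rfl⟩ ⟨b', hb', rfl⟩
    exact ⟨b + b', fixed_add hb hb', (D.z_add b b').symm⟩
  inv_mem' := by
    rintro _ ⟨b, hb, rfl⟩
    exact ⟨b, hb, z_inv b⟩

theorem mem_Z {x : G} : x ∈ Z D ↔ ∃ b, bar n b = b ∧ x = D.z b := Iff.rfl

/-- `Z ≤ A_e`, more precisely -/
theorem Hyp.exists_g [Finite G] (he : Hyp F e) : ∃ g, g * D.t * g⁻¹ = e ∧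
    (∀ b, bar n b = b → g⁻¹ * D.z b * g ∈ D.P) := by
  classical
  obtain ⟨g0, hg0⟩ := he.conj
  obtain ⟨l, hl, hl1⟩ := exists_fixed_ne D.hq
  obtain ⟨m, hmt, hme, hmP⟩ := he.exists_torus hl
  -- action of `m` on `Z`
  have hmz : ∀ b, bar n b = b → m * D.z b * m⁻¹ = D.z ((l : K) ^ 2 * b) := by
    intro b hb
    obtain ⟨a, ha⟩ := exists_norm D.hq hb
    obtain ⟨x, hx, rfl⟩ := D.ca_surj a
    have h1 := D.P_sq x hx
    have h2 := D.P_sq _ (hmP x hx).1
    rw [(hmP x hx).2, N_mul, N_of_fixed hl, ha] at h2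
    rw [ha] at h1
    rw [← h2, ← h1]; group
  have hl2 : (l : K) ^ 2 + 1 ≠ 0 := by
    intro h
    have h1 : ((l : K) + 1) * ((l : K) + 1) = 0 := by
      have : ((l : K) + 1) * ((l : K) + 1) = ((l : K) ^ 2 + 1) + ((l : K) + l) := by ring
      rw [this, h, Field.add_self, add_zero]
    exact hl1 (Field.add_eq_zero.mp (mul_self_eq_zero.mp h1))
  have hZ2 : IsPGroup 2 (Z D) := isPGroup_of_sq (by
    rintro _ ⟨b, hb, rfl⟩
    exact z_sq b)
  obtain ⟨g, hgt, hgZ⟩ : ∃ g, g * D.t * g⁻¹ = e ∧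
      (∀ b, bar n b = b → g⁻¹ * D.z b * g ∈ F.Sg) := by
    obtain ⟨g', hg't, hg'Z⟩ := exists_conj_Sg F (y := g0) hZ2 (by
      rintro _ ⟨b, hb, rfl⟩
      rw [hg0]
      exact he.ze hb)
    refine ⟨g'⁻¹, ?_, fun b hb => ?_⟩
    · rw [← hg't, hg0]; group
    · rw [inv_inv]
      exact hg'Z _ ⟨b, hb, rfl⟩
  have hcomm : ∀ x, x * e = e * x → (g⁻¹ * x * g) * D.t = D.t * (g⁻¹ * x * g) := by
    intro x hx
    have h1 : D.t = g⁻¹ * e * g := by rw [← hgt]; group
    rw [h1]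
    calc g⁻¹ * x * g * (g⁻¹ * e * g) = g⁻¹ * (x * e) * g := by group
      _ = _ := by rw [hx]; group
  refine ⟨g, hgt, ?_⟩
  have hmt' := hcomm m hme
  -- `Z = [Z, m]`
  have hdec : ∀ b, bar n b = b → ∃ b', bar n b' = b' ∧
      g⁻¹ * D.z b * g = (g⁻¹ * m * g) * (g⁻¹ * D.z b' * g) * (g⁻¹ * m * g)⁻¹ *
        (g⁻¹ * D.z b' * g)⁻¹ := by
    intro b hb
    refine ⟨b * ((l : K) ^ 2 + 1)⁻¹, ?_, ?_⟩
    · apply fixed_mul hb
      apply fixed_inv
      apply fixed_add _ (bar_one n)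
      rw [bar_pow, hl]
    · set b' := b * ((l : K) ^ 2 + 1)⁻¹ with hb'
      have hfix : bar n b' = b' := by
        apply fixed_mul hb
        apply fixed_inv
        apply fixed_add _ (bar_one n)
        rw [bar_pow, hl]
      have hbb : b = (l : K) ^ 2 * b' + b' := by
        rw [hb']
        field_simp
      have h1 : D.z b = m * D.z b' * m⁻¹ * (D.z b')⁻¹ := by
        rw [hmz b' hfix, z_inv, ← D.z_add, ← hbb]
      rw [h1]; group
  have hch1 : ∀ b, bar n b = b → ch F (g⁻¹ * D.z b * g) = 1 := by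
    intro b hb
    obtain ⟨b', hb', h2⟩ := hdec b hb
    have hyt := hcomm _ (he.ze hb')
    rw [h2, ch_mul F (comm_mul (comm_mul hmt' hyt) (comm_inv hmt')) (comm_inv hyt),
      ch_conj F hmt' hyt, ch_inv F hyt, mul_inv_cancel]
  intro b hb
  obtain ⟨b', hb', h2⟩ := hdec b hb
  apply cls_mem (F := F) (ch_ker F (hgZ b hb) (hch1 b hb))
  rw [h2]
  set y := g⁻¹ * D.z b' * g with hy
  set m' := g⁻¹ * m * g with hm'
  rcases ch_ker F (hgZ b' hb') (hch1 b' hb') with h3 | h3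
  · exact mul_mem (F.A_norm _ hmt' _ (F.P_A h3)) (inv_mem (F.P_A h3))
  · have h4 : m' * y * m'⁻¹ * y⁻¹ = m' * (y * D.t) * m'⁻¹ * (y * D.t)⁻¹ := by
      have h5 : D.t * m'⁻¹ * D.t⁻¹ = m'⁻¹ := by
        rw [← comm_inv hmt']; group
      calc m' * y * m'⁻¹ * y⁻¹ = m' * y * (D.t * m'⁻¹ * D.t⁻¹) * y⁻¹ := by rw [h5]
        _ = _ := by group
    rw [h4]
    exact mul_mem (F.A_norm _ hmt' _ (F.P_A h3)) (inv_mem (F.P_A h3))

/-- `y` interchanges `t` and `e`, normalises `Z`, and `y²` normalises `P`. -/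
structure Swap (D : Pre G K n) (e y : G) : Prop where
  te : y * D.t * y⁻¹ = e
  et : y * e * y⁻¹ = D.t
  z : ∀ b, bar n b = b → ∃ c, bar n c = c ∧ y * D.z b * y⁻¹ = D.z c
  P : ∀ p ∈ D.P, y * (y * p * y⁻¹) * y⁻¹ ∈ D.P

/-- **the swapping element**. -/
theorem Hyp.exists_swap [Finite G] (he : Hyp F e) : ∃ y, Swap D e y := by
  classical
  obtain ⟨g, hgt, hzP⟩ := he.exists_g
  have hcomm : ∀ x, x * e = e * x → (g⁻¹ * x * g) * D.t = D.t * (g⁻¹ * x * g) := by
    intro x hx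
    have h1 : D.t = g⁻¹ * e * g := by rw [← hgt]; group
    rw [h1]
    calc g⁻¹ * x * g * (g⁻¹ * e * g) = g⁻¹ * (x * e) * g := by group
      _ = _ := by rw [hx]; group
  have hzz : ∀ b, bar n b = b → ∃ c, bar n c = c ∧ g⁻¹ * D.z b * g = D.z c := by
    intro b hb
    apply D.exists_z _ (hzP b hb)
    apply ca_zero_of_sq (hzP b hb)
    have : g⁻¹ * D.z b * g * (g⁻¹ * D.z b * g) = g⁻¹ * (D.z b * D.z b) * g := by group
    rw [this, z_sq]; group
  -- the other direction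
  have hzz' : ∀ b, bar n b = b → ∃ c, bar n c = c ∧ g * D.z b * g⁻¹ = D.z c := by
    have h2 : (Z D).map (MulAut.conj g⁻¹).toMonoidHom ≤ Z D := by
      rintro _ ⟨_, ⟨b, hb, rfl⟩, rfl⟩
      show g⁻¹ * D.z b * g⁻¹⁻¹ ∈ Z D
      rw [inv_inv]; exact hzz b hb
    have h3 : (Z D).map (MulAut.conj g⁻¹).toMonoidHom = Z D := by
      apply Subgroup.eq_of_le_of_card_ge h2
      rw [Subgroup.card_map_of_injective (MulAut.conj g⁻¹).injective]
    intro b hb
    have h4 : D.z b ∈ Z D := ⟨b, hb, rfl⟩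
    rw [← h3] at h4
    obtain ⟨y, hy, hyb⟩ := h4
    have : g * D.z b * g⁻¹ = y := by
      rw [← hyb]
      show g * (g⁻¹ * y * g⁻¹⁻¹) * g⁻¹ = y
      group
    rw [this]; exact hy
  -- an element of `Z`
  obtain ⟨b0, hb0, hb01⟩ : ∃ b, bar n b = b ∧ D.z b ≠ 1 :=
    ⟨1, bar_one n, fun h => one_ne_zero (D.z_inj 1 (bar_one n) h)⟩
  set t' := g⁻¹ * D.t * g with ht'
  have ht't : t' * D.t = D.t * t' := hcomm _ he.t.symm
  have ht'sq : t' * t' = 1 := by
    have : t' * t' = g⁻¹ * (D.t * D.t) * g := by rw [ht']; group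
    rw [this, D.t_sq]; group
  have ht'P : ∀ p ∈ D.P, t' * p * t'⁻¹ ∈ D.P := by
    obtain ⟨c0, hc0, hc0'⟩ := hzz' b0 hb0
    have hh := hzz c0 hc0
    -- `t'` centralises `D.z b0`
    have h1 : t' * D.z b0 * t'⁻¹ = D.z b0 := by
      have h2 : D.t * D.z c0 = D.z c0 * D.t := D.t_P _ (D.z_mem c0)
      have h3 : D.z b0 = g⁻¹ * D.z c0 * g := by rw [← hc0']; group
      rw [h3, ht']
      have : g⁻¹ * D.t * g * (g⁻¹ * D.z c0 * g) * (g⁻¹ * D.t * g)⁻¹ =
        g⁻¹ * (D.t * D.z c0) * D.t⁻¹ * g := by group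
      rw [this, h2]; group
    exact F.ti t' ht't (D.z b0) (D.z_mem b0) hb01 (by rw [h1]; exact D.z_mem b0)
  have ht'2 : ∃ k, t' ^ (2 ^ k) = 1 := ⟨1, by rw [pow_one, pow_two, ht'sq]⟩
  have hch' : ch F t' = barE D.hq := by
    apply eq_bar D.hq
    · rw [← ch_mul F ht't ht't, ht'sq, ch_one]
    · intro h1
      have hback : D.t = g * t' * g⁻¹ := by rw [ht']; group
      rcases cls_of_ch ht't ht'2 ht'P h1 with h2 | h2
      · obtain ⟨b, hb, hbt⟩ := D.exists_z t' h2 (ca_zero_of_sq h2 ht'sq)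
        obtain ⟨b', hb', hbt'⟩ := hzz' b hb
        apply D.t_not
        rw [hback, hbt, hbt']
        exact D.z_mem b'
      · have h3 : t' * D.t * (t' * D.t) = 1 := by
          calc t' * D.t * (t' * D.t) = t' * (D.t * t') * D.t := by group
            _ = (t' * t') * (D.t * D.t) := by rw [← ht't]; group
            _ = 1 := by rw [ht'sq, D.t_sq, mul_one]
        obtain ⟨b, hb, hbt⟩ := D.exists_z _ h2 (ca_zero_of_sq h2 h3)
        obtain ⟨b', hb', hbt'⟩ := hzz' b hb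
        have h4 : e = D.t * D.z b' := by
          have h5 : t' = D.z b * D.t := by
            rw [← hbt, mul_assoc, D.t_sq, mul_one]
          have h6 : D.t = D.z b' * e := by
            calc D.t = g * t' * g⁻¹ := hback
              _ = (g * D.z b * g⁻¹) * (g * D.t * g⁻¹) := by rw [h5]; group
              _ = D.z b' * e := by rw [hbt', hgt]
          calc e = (D.z b' * D.z b') * e := by rw [z_sq, one_mul]
            _ = D.z b' * (D.z b' * e) := by group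
            _ = D.z b' * D.t := by rw [← h6]
            _ = D.t * D.z b' := (D.t_P _ (D.z_mem b')).symm
        have h8 := he.ch
        rw [h4, ch_mul F rfl (P_t (D := D) (D.z_mem b')), ch_t, ch_P F (D.z_mem b'), one_mul] at h8
        exact barE_ne_one D.hq h8.symm
  -- move `t'` into `Sg`
  obtain ⟨g2, hg2t, hg2P, hg2S⟩ := exists_conj_fix (F := F) ht't ht'2 ht'P
  set t2 := g2⁻¹ * t' * g2 with ht2
  have hcht2 : ch F t2 = barE D.hq := by
    have := ch_conj F (comm_inv hg2t) ht't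
    rw [inv_inv] at this
    rw [ht2, this, hch']
  have het := he.t
  obtain ⟨y, hy, hye⟩ := he.conj_P (x := t2 * e⁻¹)
    (ch_ker F (mul_mem hg2S (inv_mem he.mem)) (by
      rw [ch_mul F (F.Sg_t _ hg2S) (comm_inv het), ch_inv F het, hcht2, he.ch, mul_inv_cancel]))
    (g := g2⁻¹ * g⁻¹) (by rw [inv_mul_cancel_right, ht2, ht']; group)
  rw [inv_mul_cancel_right] at hye
  have hyt := P_t (D := D) hy
  have h1 : g * g2 * y * D.t * (g * g2 * y)⁻¹ = e := by
    calc g * g2 * y * D.t * (g * g2 * y)⁻¹ = g * g2 * (y * D.t) * y⁻¹ * g2⁻¹ * g⁻¹ := by group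
      _ = g * (g2 * D.t) * g2⁻¹ * g⁻¹ := by rw [hyt]; group
      _ = g * D.t * g⁻¹ := by rw [hg2t]; group
      _ = e := hgt
  have h2 : g * g2 * y * e * (g * g2 * y)⁻¹ = D.t := by
    calc g * g2 * y * e * (g * g2 * y)⁻¹ = g * g2 * (y * e * y⁻¹) * g2⁻¹ * g⁻¹ := by group
      _ = D.t := by rw [← hye, ht2, ht']; group
  have h3 : ∀ b, bar n b = b → ∃ c, bar n c = c ∧
      g * g2 * y * D.z b * (g * g2 * y)⁻¹ = D.z c := by
    intro b hb
    have e1 : y * D.z b * y⁻¹ = D.z b := by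
      rw [D.Q_Z y (D.P_le hy)]; group
    obtain ⟨b', hb', e2⟩ := D.exists_z _ (hg2P _ (D.z_mem b)) (by
      apply ca_zero_of_sq (hg2P _ (D.z_mem b))
      have : g2 * D.z b * g2⁻¹ * (g2 * D.z b * g2⁻¹) = g2 * (D.z b * D.z b) * g2⁻¹ := by group
      rw [this, z_sq]; group)
    obtain ⟨c, hc, e3⟩ := hzz' b' hb'
    refine ⟨c, hc, ?_⟩
    calc g * g2 * y * D.z b * (g * g2 * y)⁻¹ = g * (g2 * (y * D.z b * y⁻¹) * g2⁻¹) * g⁻¹ := by group
      _ = D.z c := by rw [e1, e2, e3]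
  refine ⟨g * g2 * y, h1, h2, h3, ?_⟩
  set Y := g * g2 * y with hY
  have h4 : (Y * Y) * D.t = D.t * (Y * Y) := by
    have : Y * Y * D.t * (Y * Y)⁻¹ = D.t := by
      have : Y * Y * D.t * (Y * Y)⁻¹ = Y * (Y * D.t * Y⁻¹) * Y⁻¹ := by group
      rw [this, h1, h2]
    rw [mul_inv_eq_iff_eq_mul] at this
    exact this
  obtain ⟨b1, hb1, h5⟩ := h3 b0 hb0
  obtain ⟨b2, hb2, h6⟩ := h3 b1 hb1
  have h7 : ∀ p, Y * Y * p * (Y * Y)⁻¹ = Y * (Y * p * Y⁻¹) * Y⁻¹ := by
    intro p; group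
  intro p hp
  rw [← h7]
  exact F.ti (Y * Y) h4 (D.z b0) (D.z_mem b0) hb01 (by rw [h7, h5, h6]; exact D.z_mem b2) p hp

theorem Swap.pow {y : G} (h : Swap D e y) (i : ℕ) : Swap D e (y ^ (2 * i + 1)) := by
  have h2t : (y * y) * D.t * (y * y)⁻¹ = D.t := by
    have : y * y * D.t * (y * y)⁻¹ = y * (y * D.t * y⁻¹) * y⁻¹ := by group
    rw [this, h.te, h.et]
  induction i with
  | zero => simpa using h
  | succ i ih =>
    have e1 : y ^ (2 * (i + 1) + 1) = (y * y) * y ^ (2 * i + 1) := by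
      rw [← pow_two, ← pow_add]
      congr 1
      ring
    set Y := y ^ (2 * i + 1) with hY
    have hc : y * y * Y = Y * (y * y) := by
      have : Commute (y * y) Y := by
        rw [hY]
        exact ((Commute.refl y).mul_left (Commute.refl y)).pow_right _
      exact this
    rw [e1]
    refine ⟨?_, ?_, ?_, ?_⟩
    · rw [hc]
      have : Y * (y * y) * D.t * (Y * (y * y))⁻¹ = Y * ((y * y) * D.t * (y * y)⁻¹) * Y⁻¹ := by group
      rw [this, h2t, ih.te]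
    · have : y * y * Y * e * (y * y * Y)⁻¹ = (y * y) * (Y * e * Y⁻¹) * (y * y)⁻¹ := by group
      rw [this, ih.et, h2t]
    · intro b hb
      obtain ⟨c, hc, e2⟩ := ih.z b hb
      obtain ⟨c', hc', e3⟩ := h.z c hc
      obtain ⟨c'', hc'', e4⟩ := h.z c' hc'
      refine ⟨c'', hc'', ?_⟩
      have : y * y * Y * D.z b * (y * y * Y)⁻¹ = y * (y * (Y * D.z b * Y⁻¹) * y⁻¹) * y⁻¹ := by group
      rw [this, e2, e3, e4]
    · intro p hp
      have e2 : y * y * Y * (y * y * Y * p * (y * y * Y)⁻¹) * (y * y * Y)⁻¹ =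
          y * (y * (y * (y * (Y * (Y * p * Y⁻¹) * Y⁻¹) * y⁻¹) * y⁻¹) * y⁻¹) * y⁻¹ := by
        have e3 : y * y * Y * (y * y * Y * p * (y * y * Y)⁻¹) * (y * y * Y)⁻¹ =
          (y * y) * (Y * (y * y)) * Y * p * ((y * y) * (Y * (y * y)) * Y)⁻¹ := by group
        rw [e3, ← hc]; group
      rw [e2]
      exact h.P _ (h.P _ (ih.P p hp))

/-- the swapping element can be chosen to be a 2-element, in any subgroup containing one. -/
theorem Swap.two [Finite G] {y : G} (h : Swap D e y) :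
    ∃ i, Swap D e (y ^ (2 * i + 1)) ∧ ∃ k, (y ^ (2 * i + 1)) ^ (2 ^ k) = 1 := by
  obtain ⟨k, m, hm, hk⟩ := Nat.exists_eq_two_pow_mul_odd (n := orderOf y) (orderOf_pos y).ne'
  obtain ⟨i, hi⟩ := hm
  refine ⟨i, h.pow i, k, ?_⟩
  rw [← hi, ← pow_mul, mul_comm, ← hk, pow_orderOf_eq_one]

/-- `P_e = P^y` -/
def Pe (D : Pre G K n) (y : G) : Subgroup G := D.P.map (MulAut.conj y).toMonoidHom

theorem mem_Pe {y x : G} : x ∈ Pe D y ↔ y⁻¹ * x * y ∈ D.P := by
  constructor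
  · rintro ⟨p, hp, rfl⟩
    have : y⁻¹ * (MulAut.conj y).toMonoidHom p * y = p := by
      show y⁻¹ * (y * p * y⁻¹) * y = p
      group
    rw [this]; exact hp
  · intro h
    refine ⟨_, h, ?_⟩
    show y * (y⁻¹ * x * y) * y⁻¹ = x
    group

theorem Swap.Pe_e {y : G} (h : Swap D e y) {x : G} (hx : x ∈ Pe D y) : x * e = e * x := by
  have h1 := P_t (D := D) (mem_Pe.mp hx)
  have h2 : e = y * D.t * y⁻¹ := h.te.symm
  rw [h2]
  calc x * (y * D.t * y⁻¹) = y * (y⁻¹ * x * y * D.t) * y⁻¹ := by group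
    _ = _ := by rw [h1]; group

/-- `t` acts on `P_e` as `e` on `P`. -/
theorem Swap.t_Pe {y : G} (h : Swap D e y) (he : Inv F e) {x : G} (hx : x ∈ Pe D y) :
    D.t * x * D.t⁻¹ ∈ Pe D y ∧ y⁻¹ * (D.t * x * D.t⁻¹) * y = e * (y⁻¹ * x * y) * e⁻¹ := by
  have h1 : y⁻¹ * (D.t * x * D.t⁻¹) * y = e * (y⁻¹ * x * y) * e⁻¹ := by
    rw [← h.et]; group
  refine ⟨?_, h1⟩
  rw [mem_Pe, h1]
  exact he.P _ (mem_Pe.mp hx)

theorem Swap.Z_Pe [Finite G] {y : G} (h : Swap D e y) {b : K} (hb : bar n b = b) :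
    ∃ c, bar n c = c ∧ y⁻¹ * D.z b * y = D.z c := by
  have h2 : (Z D).map (MulAut.conj y).toMonoidHom ≤ Z D := by
    rintro _ ⟨_, ⟨b, hb, rfl⟩, rfl⟩
    exact h.z b hb
  have h3 : (Z D).map (MulAut.conj y).toMonoidHom = Z D := by
    apply Subgroup.eq_of_le_of_card_ge h2
    rw [Subgroup.card_map_of_injective (MulAut.conj y).injective]
  have h4 : D.z b ∈ Z D := ⟨b, hb, rfl⟩
  rw [← h3] at h4
  obtain ⟨x, hx, hyb⟩ := h4
  have : y⁻¹ * D.z b * y = x := by
    rw [← hyb]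
    show y⁻¹ * (y * x * y⁻¹) * y = x
    group
  rw [this]; exact hx

theorem Swap.conj_Pe {y : G} (h : Swap D e y) {x : G} (hx : x ∈ Pe D y) : y * x * y⁻¹ ∈ D.P := by
  have := h.P _ (mem_Pe.mp hx)
  have e1 : y * (y * (y⁻¹ * x * y) * y⁻¹) * y⁻¹ = y * x * y⁻¹ := by group
  rwa [e1] at this

theorem Swap.conj_P {y : G} {x : G} (hx : x ∈ D.P) : y * x * y⁻¹ ∈ Pe D y := by
  rw [mem_Pe]
  have e1 : y⁻¹ * (y * x * y⁻¹) * y = x := by group
  rw [e1]; exact hx

end Cfsg.Agent.StdU3.Swap
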