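import Cfsg.Agent.StdU3.Swap
import Cfsg.Agent.StdU3.Outer

/-!
# The torus of `C(⟨t, e⟩)` and the conjugating element

Without the hypothesis that `e t` is not conjugate to `t`.
-/

set_option autoImplicit false
set_option linter.unusedSectionVars false
set_option linter.dupNamespace false

namespace Cfsg.Agent.StdU3.SwapTorus

open Subgroup Cfsg.Agent.StdU3.Field Cfsg.Agent.StdU3.PreDef Cfsg.Agent.StdU3.FldDef
open Cfsg.Agent.StdU3.LevelOne Cfsg.Agent.StdU3.FieldAut Cfsg.Agent.StdU3.Rank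
open Cfsg.Agent.StdU3.Swap Cfsg.Agent.StdU3.NormQ Cfsg.Agent.StdU3.Kernel Cfsg.Agent.StdU3.Next
open Cfsg.Agent.StdU3.Outer

variable {G : Type*} [Group G] {K : Type*} [Field K] [Fintype K] [CharP K 2] {n : ℕ}
variable {D : Pre G K n} {F : Fld D} {e : G}

/-- the interface with `Outer`. -/
theorem out_of (he : Inv F e) (hn : Norm D e) : ∃ c, Out D e c := by
  obtain ⟨c, -, -, h1, -⟩ := he.line
  refine ⟨c, he.t, he.sq, hn, fun b => ?_⟩
  obtain ⟨x, hx, rfl⟩ := D.ca_surj b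
  rw [← A_P D hn hx, a_P D (he.P x hx), h1 x hx]

theorem w_fixed {l : Kˣ} (hl : bar n (l : K) = l) : w n l = l := by
  unfold w
  rw [hl, sq, mul_assoc, mul_inv_cancel₀ l.ne_zero, mul_one]

/-- `s t s⁻¹ = t` for elements of the class. -/
theorem cls_t {x : G} (hx : x ∈ D.P ∨ x * D.t ∈ D.P) : x * D.t = D.t * x := by
  rcases hx with hx | hx
  · exact P_t (D := D) hx
  · have := P_t (D := D) hx
    calc x * D.t = (x * D.t * D.t) * D.t := by rw [mul_assoc x, D.t_sq, mul_one]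
      _ = D.t * x * (D.t * D.t) := by rw [this]; group
      _ = D.t * x := by rw [D.t_sq, mul_one]

theorem cls_Q {x : G} (hx : x ∈ D.P ∨ x * D.t ∈ D.P) : x ∈ D.Q := by
  rcases hx with hy | hy
  · exact D.P_le hy
  · have e1 : x = x * D.t * D.t := by rw [mul_assoc, D.t_sq, mul_one]
    rw [e1]
    exact mul_mem (D.P_le hy) D.Q_t

/-- the involutions of `P⟨t⟩ e` are conjugate under `P` to `e` or `e t`. -/
theorem conj_cls (he : Inv F e) {x : G} (hx : x ∈ D.P ∨ x * D.t ∈ D.P)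
    (hsq : (x * e) * (x * e) = 1) : ∃ y ∈ D.P, x * e = y * e * y⁻¹ ∨ x * e = y * (e * D.t) * y⁻¹ := by
  rcases hx with hx | hx
  · obtain ⟨y, hy, h⟩ := he.conj_of_sq hx hsq
    exact ⟨y, hy, Or.inl h⟩
  · have hxt := cls_t (D := D) (Or.inr hx)
    have h1 : x * D.t * e = x * e * D.t := by rw [mul_assoc, ← he.t, mul_assoc]
    have h2 : (x * D.t * e) * (x * D.t * e) = 1 := by
      have h3 : D.t * (x * e) = x * e * D.t := by
        rw [← mul_assoc, ← hxt, mul_assoc, ← he.t, mul_assoc]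
      rw [h1]
      have : x * e * D.t * (x * e * D.t) = x * e * (D.t * (x * e)) * D.t := by group
      rw [this, h3]
      have : x * e * (x * e * D.t) * D.t = (x * e) * (x * e) * (D.t * D.t) := by group
      rw [this, hsq, D.t_sq, mul_one]
    obtain ⟨y, hy, h4⟩ := he.conj_of_sq hx h2
    refine ⟨y, hy, Or.inr ?_⟩
    have h6 : x * e = x * D.t * e * D.t := by
      rw [h1, mul_assoc (x * e), D.t_sq, mul_one]
    rw [h6, h4]
    have h7 : y⁻¹ * D.t = D.t * y⁻¹ := P_t (D := D) (inv_mem hy)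
    calc y * e * y⁻¹ * D.t = y * e * (y⁻¹ * D.t) := by group
      _ = y * (e * D.t) * y⁻¹ := by rw [h7]; group

theorem A_pow {m : G} (hm : Norm D m) {c : K} (h : ∀ b, A D m b = c * b) (k : ℕ) :
    Norm D (m ^ k) ∧ ∀ b, A D (m ^ k) b = c ^ k * b := by
  induction k with
  | zero =>
    rw [pow_zero, pow_zero]
    exact ⟨Norm.one D, fun b => by rw [A_one, one_mul]⟩
  | succ k ih =>
    rw [pow_succ, pow_succ]
    refine ⟨Norm.mul D ih.1 hm, fun b => ?_⟩
    rw [A_mul D ih.1 hm, h, ih.2, mul_assoc]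

/-- the torus of `C(⟨t, e⟩)`, first form. -/
theorem torus_aux [Finite G] (he : Inv F e) (hn : Norm D e) {l : Kˣ} (hl : bar n (l : K) = l) :
    ∃ m, Norm D m ∧ m * D.t = D.t * m ∧ m * e = e * m ∧ (∀ b, A D m b = (l : K) ^ 2 * b) ∧
      ∀ x ∈ D.P, m * x * m⁻¹ ∈ D.P := by
  obtain ⟨c, ho⟩ := out_of he hn
  have hO := F.amb
  set a := D.h l with ha
  have hat : a * D.t = D.t * a := (D.t_h l).symm
  have han : Norm D a := norm_h D l
  have hA : ∀ b, A D a b = l * b := by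
    intro b
    rw [ha, A_h, w_fixed hl]
  have hAi : ∀ b, A D a⁻¹ b = (l : K)⁻¹ * b := by
    intro b
    have h1 := A_inv_right D han b
    rw [hA] at h1
    rw [eq_inv_mul_iff_mul_eq₀ l.ne_zero]
    exact h1
  set r := a * e * a⁻¹ * e⁻¹ with hr
  have hrt : r * D.t = D.t * r :=
    comm_mul (comm_mul (comm_mul hat he.t) (comm_inv hat)) (comm_inv he.t)
  have hrN2 : r ∈ N2 D := by
    refine ⟨Norm.mul D (Norm.mul D (Norm.mul D han hn) (Norm.inv D han)) (Norm.inv D hn), ?_⟩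
    intro b
    rw [A_mul D (Norm.mul D (Norm.mul D han hn) (Norm.inv D han)) (Norm.inv D hn),
      A_mul D (Norm.mul D han hn) (Norm.inv D han), A_mul D han hn, hA, ho.act, hAi, bar_mul,
      bar_inv, hl]
    have h1 : c * bar n (A D e⁻¹ b) = b := by rw [← ho.act, A_inv_right D hn]
    calc (l : K) * (c * ((l : K)⁻¹ * bar n (A D e⁻¹ b))) =
        ((l : K) * (l : K)⁻¹) * (c * bar n (A D e⁻¹ b)) := by ring
      _ = b := by rw [mul_inv_cancel₀ l.ne_zero, h1, one_mul]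
  obtain ⟨x, hx, k, hk, hrk⟩ := dec_of_comm D hO hrN2 hrt
  have hk' := (mem_D1 D).mp hk
  have hkt : k * D.t = D.t * k := (hk'.2 _ D.Q_t).symm
  have hxt : x * D.t = D.t * x := by
    have : x = r * k⁻¹ := by rw [hrk]; group
    rw [this]
    exact comm_mul hrt (comm_inv hkt)
  have hxP := D.Q_T x hx hxt
  have hae : a * e * a⁻¹ = x * k * e := by
    rw [← hrk, hr]; group
  have hexQ : e * x * e⁻¹ ∈ D.Q := hn.fwd x hx
  have hsq : (x * (e * x * e⁻¹)) * (k * (e * k * e⁻¹)) = 1 := by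
    have h3 : (a * e * a⁻¹) * (a * e * a⁻¹) = 1 := by
      have : (a * e * a⁻¹) * (a * e * a⁻¹) = a * (e * e) * a⁻¹ := by group
      rw [this, he.sq]; group
    have h4 := hk'.2 _ hexQ
    rw [← h3, hae]
    have e1 : x * k * e * (x * k * e) = x * (k * (e * x * e⁻¹)) * (e * k * e⁻¹) * (e * e) := by group
    rw [e1, ← h4, he.sq, mul_one]; group
  have hkk : k * (e * k * e⁻¹) ∈ D1 D F.O := mul_mem hk (D1_normal D hO hn hk)
  have hxx : x * (e * x * e⁻¹) = 1 := by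
    have h3 : x * (e * x * e⁻¹) ∈ D1 D F.O := by
      rw [eq_inv_of_mul_eq_one_left hsq]
      exact inv_mem hkk
    obtain ⟨j, hj⟩ := D.Q_two ⟨x * (e * x * e⁻¹), mul_mem hx hexQ⟩
    exact eq_one_of_O D hO ((mem_D1 D).mp h3).1 (congrArg Subtype.val hj)
  have hkk1 : e * k * e⁻¹ = k⁻¹ := by
    rw [hxx, one_mul] at hsq
    exact (inv_eq_of_mul_eq_one_right hsq).symm
  obtain ⟨i, hi⟩ := hO.odd
  set j := k ^ (i + 1) with hj
  have hjj : j * j = k := by
    rw [hj, ← pow_add]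
    have : i + 1 + (i + 1) = (2 * i + 1) + 1 := by ring
    rw [this, pow_succ, ← hi, Next.pow_card_O hk'.1, one_mul]
  have hjD : j ∈ D1 D F.O := pow_mem hk _
  have hj' := (mem_D1 D).mp hjD
  have hje : e * j * e⁻¹ = j⁻¹ := by
    rw [hj, ← conj_pow, hkk1, inv_pow]
  have hjke : j * e * j⁻¹ = k * e := by
    have e1 : j * e * j⁻¹ = j * (e * j * e⁻¹)⁻¹ * e := by group
    rw [e1, hje, inv_inv, hjj]
  have hjN2 : j ∈ N2 D := D1_le D hjD
  have hconj : j⁻¹ * a * e * (j⁻¹ * a)⁻¹ = x * e := by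
    have e1 : j⁻¹ * a * e * (j⁻¹ * a)⁻¹ = j⁻¹ * (a * e * a⁻¹) * j := by group
    have hjx : j⁻¹ * x = x * j⁻¹ := comm_inv (x := j) (d := x) (hj'.2 x hx).symm
    rw [e1, hae]
    calc j⁻¹ * (x * k * e) * j = (j⁻¹ * x) * (k * e) * j := by group
      _ = x * e := by rw [hjx, ← hjke]; group
  have hjt : j * D.t = D.t * j := (hj'.2 _ D.Q_t).symm
  have hsq2 : (x * e) * (x * e) = 1 := by
    rw [← hconj]
    have : j⁻¹ * a * e * (j⁻¹ * a)⁻¹ * (j⁻¹ * a * e * (j⁻¹ * a)⁻¹) =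
      j⁻¹ * a * (e * e) * (j⁻¹ * a)⁻¹ := by group
    rw [this, he.sq]; group
  obtain ⟨y, hy, hye⟩ := conj_cls he hxP hsq2
  have hyt := P_t (D := D) hy
  have hyQ := D.P_le hy
  set m := y⁻¹ * (j⁻¹ * a) with hm
  have hmt : m * D.t = D.t * m := comm_mul (comm_inv hyt) (comm_mul (comm_inv hjt) hat)
  have hmn : Norm D m :=
    Norm.mul D (Norm.inv D (Norm.of_mem D hyQ)) (Norm.mul D (Norm.inv D hjN2.1) han)
  have hmA : ∀ b, A D m b = l * b := by
    intro b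
    rw [hm, A_mul D (Norm.inv D (Norm.of_mem D hyQ)) (Norm.mul D (Norm.inv D hjN2.1) han),
      A_mul D (Norm.inv D hjN2.1) han, hA, (inv_mem hjN2 : j⁻¹ ∈ N2 D).2,
      A_of_mem D (inv_mem hyQ)]
  have hmP : ∀ x ∈ D.P, m * x * m⁻¹ ∈ D.P := by
    intro p hp
    have hap := D.h_P l p hp
    have hjp : j⁻¹ * (a * p * a⁻¹) * j = a * p * a⁻¹ := by
      have h3 := hj'.2 _ (D.P_le hap)
      rw [mul_assoc, ha, h3]; group
    have e1 : m * p * m⁻¹ = y⁻¹ * (j⁻¹ * (a * p * a⁻¹) * j) * y := by rw [hm]; group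
    rw [e1, hjp]
    exact mul_mem (mul_mem (inv_mem hy) hap) hy
  have hme : m * m * e = e * (m * m) := by
    have hmt' : m * D.t * m⁻¹ = D.t := by rw [hmt]; group
    have h1 : m * e * m⁻¹ = e ∨ m * e * m⁻¹ = e * D.t := by
      have e1 : m * e * m⁻¹ = y⁻¹ * (x * e) * y := by rw [← hconj, hm]; group
      rw [e1]
      rcases hye with h | h
      · left; rw [h]; group
      · right; rw [h]; group
    have h2 : m * m * e * (m * m)⁻¹ = e := by
      have e1 : m * m * e * (m * m)⁻¹ = m * (m * e * m⁻¹) * m⁻¹ := by group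
      rw [e1]
      rcases h1 with h | h
      · rw [h, h]
      · rw [h]
        have e2 : m * (e * D.t) * m⁻¹ = (m * e * m⁻¹) * (m * D.t * m⁻¹) := by group
        rw [e2, h, hmt', mul_assoc, D.t_sq, mul_one]
    rw [mul_inv_eq_iff_eq_mul] at h2
    exact h2
  refine ⟨m * m, Norm.mul D hmn hmn, comm_mul hmt hmt, hme, fun b => ?_, fun p hp => ?_⟩
  · rw [A_mul D hmn hmn, hmA, hmA, sq, mul_assoc]
  · have e1 : m * m * p * (m * m)⁻¹ = m * (m * p * m⁻¹) * m⁻¹ := by group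
    rw [e1]
    exact hmP _ (hmP p hp)

/-- **the torus of `C(⟨t, e⟩)`**. -/
theorem exists_torus [Finite G] (he : Inv F e) (hn : Norm D e) {l : Kˣ}
    (hl : bar n (l : K) = l) :
    ∃ o, Norm D o ∧ o * D.t = D.t * o ∧ o * e = e * o ∧ Odd (orderOf o) ∧
      (∀ b, A D o b = l * b) ∧
      ∀ x ∈ D.P, o * x * o⁻¹ ∈ D.P ∧ D.ca (o * x * o⁻¹) = l * D.ca x := by
  classical
  have h0 : Nat.card G ≠ 0 := Nat.card_pos.ne'
  obtain ⟨s, d, hd, hs⟩ := Nat.exists_eq_two_pow_mul_odd h0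
  -- the `2^(s+1)`-th root of `l`
  have hpow : ∀ i : ℕ, (l : K) ^ (2 ^ (n * i)) = l := by
    intro i
    induction i with
    | zero => rw [mul_zero, pow_zero, pow_one]
    | succ i ih =>
      rw [mul_add, mul_one, pow_add, pow_mul, ih]
      exact hl
  have hn2 := D.hq.hn
  set l0 : Kˣ := l ^ (2 ^ (n * (s + 1) - (s + 1))) with hl0
  have hl0f : bar n (l0 : K) = l0 := by
    rw [hl0, Units.val_pow_eq_pow_val, bar_pow, hl]
  have hl0p : ((l0 : K) ^ 2) ^ (2 ^ s) = l := by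
    rw [hl0, Units.val_pow_eq_pow_val, ← pow_mul, ← pow_mul]
    have e1 : 2 ^ (n * (s + 1) - (s + 1)) * (2 * 2 ^ s) = 2 ^ (n * (s + 1)) := by
      have e2 : n * (s + 1) = (n * (s + 1) - (s + 1)) + (s + 1) := by
        have : 1 * (s + 1) ≤ n * (s + 1) := Nat.mul_le_mul_right _ (by omega)
        omega
      conv_rhs => rw [e2, pow_add]
      rw [pow_succ]; ring
    rw [e1, hpow]
  obtain ⟨m, hmn, hmt, hme, hmA, hmP⟩ := torus_aux he hn hl0f
  obtain ⟨hon, hoA⟩ := A_pow hmn hmA (2 ^ s)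
  have hot : m ^ (2 ^ s) * D.t = D.t * m ^ (2 ^ s) :=
    (show Commute m D.t from hmt).pow_left _
  have hoe : m ^ (2 ^ s) * e = e * m ^ (2 ^ s) := (show Commute m e from hme).pow_left _
  refine ⟨m ^ (2 ^ s), hon, hot, hoe, ?_, fun b => by rw [hoA, hl0p], ?_⟩
  · have h1 : (m ^ (2 ^ s)) ^ d = 1 := by
      rw [← pow_mul, ← hs, pow_card_eq_one']
    exact hd.of_dvd_nat (orderOf_dvd_of_pow_eq_one h1)
  · have hP : ∀ k : ℕ, ∀ x ∈ D.P, m ^ k * x * (m ^ k)⁻¹ ∈ D.P := by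
      intro k
      induction k with
      | zero => intro x hx; simpa using hx
      | succ k ih =>
        intro x hx
        have e1 : m ^ (k + 1) * x * (m ^ (k + 1))⁻¹ = m ^ k * (m * x * m⁻¹) * (m ^ k)⁻¹ := by
          rw [pow_succ]; group
        rw [e1]
        exact ih _ (hmP x hx)
    intro x hx
    refine ⟨hP _ x hx, ?_⟩
    rw [← a_P D (hP _ x hx), A_P D hon hx, hoA, hl0p]

/-- `Z ≤ A_e`. -/
theorem exists_g [Finite G] (he : Inv F e) (hn : Norm D e) {g0 : G} (hg0 : g0 * D.t * g0⁻¹ = e) :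
    ∃ g, g * D.t * g⁻¹ = e ∧ (∀ b, bar n b = b → g⁻¹ * D.z b * g ∈ D.P) := by
  classical
  obtain ⟨l, hl, hl1⟩ := exists_fixed_ne D.hq
  obtain ⟨m, -, hmt, hme, -, -, hmP⟩ := exists_torus he hn hl
  -- action of `m` on `Z`
  have hmz : ∀ b, bar n b = b → m * D.z b * m⁻¹ = D.z ((l : K) ^ 2 * b) := by
    intro b hb
    obtain ⟨a, ha⟩ := exists_norm D.hq hb
    obtain ⟨x, hx, rfl⟩ := D.ca_surj a
    have h1 := D.P_sq x hx
    have h2 := D.P_sq _ (hmP x hx).1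
    rw [(hmP x hx).2, N_mul, N_of_fixed hl, ha] at h2
    rw [ha] at h1
    rw [← h2, ← h1]; group
  have hl2 : (l : K) ^ 2 + 1 ≠ 0 := by
    intro h
    have h1 : ((l : K) + 1) * ((l : K) + 1) = 0 := by
      have : ((l : K) + 1) * ((l : K) + 1) = ((l : K) ^ 2 + 1) + ((l : K) + l) := by ring
      rw [this, h, Field.add_self, add_zero]
    exact hl1 (Field.add_eq_zero.mp (mul_self_eq_zero.mp h1))
  have hZ2 : IsPGroup 2 (Swap.Z D) := isPGroup_of_sq (by
    rintro _ ⟨b, hb, rfl⟩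
    exact Swap.z_sq b)
  obtain ⟨g, hgt, hgZ⟩ : ∃ g, g * D.t * g⁻¹ = e ∧
      (∀ b, bar n b = b → g⁻¹ * D.z b * g ∈ F.Sg) := by
    obtain ⟨g', hg't, hg'Z⟩ := exists_conj_Sg F (y := g0) hZ2 (by
      rintro _ ⟨b, hb, rfl⟩
      rw [hg0]
      exact he.ze hb)
    refine ⟨g'⁻¹, ?_, fun b hb => ?_⟩
    · rw [← hg't, hg0]; group
    · rw [inv_inv]
      exact hg'Z _ ⟨b, hb, rfl⟩
  have hcomm : ∀ x, x * e = e * x → (g⁻¹ * x * g) * D.t = D.t * (g⁻¹ * x * g) := by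
    intro x hx
    have h1 : D.t = g⁻¹ * e * g := by rw [← hgt]; group
    rw [h1]
    calc g⁻¹ * x * g * (g⁻¹ * e * g) = g⁻¹ * (x * e) * g := by group
      _ = _ := by rw [hx]; group
  refine ⟨g, hgt, ?_⟩
  have hmt' := hcomm m hme
  -- `Z = [Z, m]`
  have hdec : ∀ b, bar n b = b → ∃ b', bar n b' = b' ∧
      g⁻¹ * D.z b * g = (g⁻¹ * m * g) * (g⁻¹ * D.z b' * g) * (g⁻¹ * m * g)⁻¹ *
        (g⁻¹ * D.z b' * g)⁻¹ := by
    intro b hb
    have hfix : bar n (b * ((l : K) ^ 2 + 1)⁻¹) = b * ((l : K) ^ 2 + 1)⁻¹ := by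
      apply fixed_mul hb
      apply fixed_inv
      apply fixed_add _ (bar_one n)
      rw [bar_pow, hl]
    refine ⟨b * ((l : K) ^ 2 + 1)⁻¹, hfix, ?_⟩
    set b' := b * ((l : K) ^ 2 + 1)⁻¹ with hb'
    have hbb : b = (l : K) ^ 2 * b' + b' := by
      rw [hb']
      field_simp
    have h1 : D.z b = m * D.z b' * m⁻¹ * (D.z b')⁻¹ := by
      rw [hmz b' hfix, Swap.z_inv, ← D.z_add, ← hbb]
    rw [h1]; group
  have hch1 : ∀ b, bar n b = b → ch F (g⁻¹ * D.z b * g) = 1 := by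
    intro b hb
    obtain ⟨b', hb', h2⟩ := hdec b hb
    have hyt := hcomm _ (he.ze hb')
    rw [h2, ch_mul F (comm_mul (comm_mul hmt' hyt) (comm_inv hmt')) (comm_inv hyt),
      ch_conj F hmt' hyt, ch_inv F hyt, mul_inv_cancel]
  intro b hb
  obtain ⟨b', hb', h2⟩ := hdec b hb
  apply cls_mem (F := F) (ch_ker F (hgZ b hb) (hch1 b hb))
  rw [h2]
  set y := g⁻¹ * D.z b' * g with hy
  set m' := g⁻¹ * m * g with hm'
  rcases ch_ker F (hgZ b' hb') (hch1 b' hb') with h3 | h3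
  · exact mul_mem (F.A_norm _ hmt' _ (F.P_A h3)) (inv_mem (F.P_A h3))
  · have h4 : m' * y * m'⁻¹ * y⁻¹ = m' * (y * D.t) * m'⁻¹ * (y * D.t)⁻¹ := by
      have h5 : D.t * m'⁻¹ * D.t⁻¹ = m'⁻¹ := by
        rw [← comm_inv hmt']; group
      calc m' * y * m'⁻¹ * y⁻¹ = m' * y * (D.t * m'⁻¹ * D.t⁻¹) * y⁻¹ := by rw [h5]
        _ = _ := by group
    rw [h4]
    exact mul_mem (F.A_norm _ hmt' _ (F.P_A h3)) (inv_mem (F.P_A h3))

/-- `g` moves `t` to `e`, normalises `Z`; `t` acts on `P_e = P^g` as an outer involution. -/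
structure Cj (F : Fld D) (e g : G) : Prop where
  te : g * D.t * g⁻¹ = e
  z : ∀ b, bar n b = b → ∃ c, bar n c = c ∧ g * D.z b * g⁻¹ = D.z c
  z' : ∀ b, bar n b = b → ∃ c, bar n c = c ∧ g⁻¹ * D.z b * g = D.z c
  mem : g⁻¹ * D.t * g ∈ F.Sg
  inv : Inv F (g⁻¹ * D.t * g)

/-- **the conjugating element**. -/
theorem exists_cj [Finite G] (he : Inv F e) (hn : Norm D e) {g0 : G}
    (hg0 : g0 * D.t * g0⁻¹ = e) : ∃ g, Cj F e g := by
  classical
  obtain ⟨g, hgt, hzP⟩ := exists_g he hn hg0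
  have hcomm : ∀ x, x * e = e * x → (g⁻¹ * x * g) * D.t = D.t * (g⁻¹ * x * g) := by
    intro x hx
    have h1 : D.t = g⁻¹ * e * g := by rw [← hgt]; group
    rw [h1]
    calc g⁻¹ * x * g * (g⁻¹ * e * g) = g⁻¹ * (x * e) * g := by group
      _ = _ := by rw [hx]; group
  have hzz : ∀ b, bar n b = b → ∃ c, bar n c = c ∧ g⁻¹ * D.z b * g = D.z c := by
    intro b hb
    apply D.exists_z _ (hzP b hb)
    apply ca_zero_of_sq (hzP b hb)
    have : g⁻¹ * D.z b * g * (g⁻¹ * D.z b * g) = g⁻¹ * (D.z b * D.z b) * g := by group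
    rw [this, Swap.z_sq]; group
  -- the other direction
  have hback : ∀ g : G, (∀ b, bar n b = b → ∃ c, bar n c = c ∧ g⁻¹ * D.z b * g = D.z c) →
      ∀ b, bar n b = b → ∃ c, bar n c = c ∧ g * D.z b * g⁻¹ = D.z c := by
    intro g hzz
    have h2 : (Swap.Z D).map (MulAut.conj g⁻¹).toMonoidHom ≤ Swap.Z D := by
      rintro _ ⟨_, ⟨b, hb, rfl⟩, rfl⟩
      show g⁻¹ * D.z b * g⁻¹⁻¹ ∈ Swap.Z D
      rw [inv_inv]; exact hzz b hb
    have h3 : (Swap.Z D).map (MulAut.conj g⁻¹).toMonoidHom = Swap.Z D := by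
      apply Subgroup.eq_of_le_of_card_ge h2
      rw [Subgroup.card_map_of_injective (MulAut.conj g⁻¹).injective]
    intro b hb
    have h4 : D.z b ∈ Swap.Z D := ⟨b, hb, rfl⟩
    rw [← h3] at h4
    obtain ⟨y, hy, hyb⟩ := h4
    have : g * D.z b * g⁻¹ = y := by
      rw [← hyb]
      show g * (g⁻¹ * y * g⁻¹⁻¹) * g⁻¹ = y
      group
    rw [this]; exact hy
  have hzz' := hback g hzz
  -- an element of `Z`
  obtain ⟨b0, hb0, hb01⟩ : ∃ b, bar n b = b ∧ D.z b ≠ 1 :=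
    ⟨1, bar_one n, fun h => one_ne_zero (D.z_inj 1 (bar_one n) h)⟩
  set t' := g⁻¹ * D.t * g with ht'
  have ht't : t' * D.t = D.t * t' := hcomm _ he.t.symm
  have ht'sq : t' * t' = 1 := by
    have : t' * t' = g⁻¹ * (D.t * D.t) * g := by rw [ht']; group
    rw [this, D.t_sq]; group
  have ht'P : ∀ p ∈ D.P, t' * p * t'⁻¹ ∈ D.P := by
    obtain ⟨c0, hc0, hc0'⟩ := hzz' b0 hb0
    have hh := hzz c0 hc0
    -- `t'` centralises `D.z b0`
    have h1 : t' * D.z b0 * t'⁻¹ = D.z b0 := by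
      have h2 : D.t * D.z c0 = D.z c0 * D.t := D.t_P _ (D.z_mem c0)
      have h3 : D.z b0 = g⁻¹ * D.z c0 * g := by rw [← hc0']; group
      rw [h3, ht']
      have : g⁻¹ * D.t * g * (g⁻¹ * D.z c0 * g) * (g⁻¹ * D.t * g)⁻¹ =
        g⁻¹ * (D.t * D.z c0) * D.t⁻¹ * g := by group
      rw [this, h2]; group
    exact F.ti t' ht't (D.z b0) (D.z_mem b0) hb01 (by rw [h1]; exact D.z_mem b0)
  have ht'2 : ∃ k, t' ^ (2 ^ k) = 1 := ⟨1, by rw [pow_one, pow_two, ht'sq]⟩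
  have hch' : ch F t' = FieldAut.barE D.hq := by
    apply eq_bar D.hq
    · rw [← ch_mul F ht't ht't, ht'sq, ch_one]
    · intro h1
      have hback : D.t = g * t' * g⁻¹ := by rw [ht']; group
      rcases cls_of_ch ht't ht'2 ht'P h1 with h2 | h2
      · obtain ⟨b, hb, hbt⟩ := D.exists_z t' h2 (ca_zero_of_sq h2 ht'sq)
        obtain ⟨b', hb', hbt'⟩ := hzz' b hb
        apply D.t_not
        rw [hback, hbt, hbt']
        exact D.z_mem b'
      · have h3 : t' * D.t * (t' * D.t) = 1 := by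
          calc t' * D.t * (t' * D.t) = t' * (D.t * t') * D.t := by group
            _ = (t' * t') * (D.t * D.t) := by rw [← ht't]; group
            _ = 1 := by rw [ht'sq, D.t_sq, mul_one]
        obtain ⟨b, hb, hbt⟩ := D.exists_z _ h2 (ca_zero_of_sq h2 h3)
        obtain ⟨b', hb', hbt'⟩ := hzz' b hb
        have h4 : e = D.t * D.z b' := by
          have h5 : t' = D.z b * D.t := by
            rw [← hbt, mul_assoc, D.t_sq, mul_one]
          have h6 : D.t = D.z b' * e := by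
            calc D.t = g * t' * g⁻¹ := hback
              _ = (g * D.z b * g⁻¹) * (g * D.t * g⁻¹) := by rw [h5]; group
              _ = D.z b' * e := by rw [hbt', hgt]
          calc e = (D.z b' * D.z b') * e := by rw [Swap.z_sq, one_mul]
            _ = D.z b' * (D.z b' * e) := by group
            _ = D.z b' * D.t := by rw [← h6]
            _ = D.t * D.z b' := (D.t_P _ (D.z_mem b')).symm
        have h8 := he.ch
        rw [h4, ch_mul F rfl (P_t (D := D) (D.z_mem b')), ch_t, ch_P F (D.z_mem b'), one_mul] at h8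
        exact FieldAut.barE_ne_one D.hq h8.symm
  -- move `t'` into `Sg`
  obtain ⟨g2, hg2t, hg2P, hg2S⟩ := exists_conj_fix (F := F) ht't ht'2 ht'P
  have e0 : (g * g2)⁻¹ * D.t * (g * g2) = g2⁻¹ * t' * g2 := by rw [ht']; group
  have hz1 : ∀ b, bar n b = b → ∃ c, bar n c = c ∧ g * g2 * D.z b * (g * g2)⁻¹ = D.z c := by
    intro b hb
    obtain ⟨b', hb', e2⟩ := D.exists_z _ (hg2P _ (D.z_mem b)) (by
      apply ca_zero_of_sq (hg2P _ (D.z_mem b))
      have : g2 * D.z b * g2⁻¹ * (g2 * D.z b * g2⁻¹) = g2 * (D.z b * D.z b) * g2⁻¹ := by group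
      rw [this, Swap.z_sq]; group)
    obtain ⟨c, hc, e3⟩ := hzz' b' hb'
    refine ⟨c, hc, ?_⟩
    calc g * g2 * D.z b * (g * g2)⁻¹ = g * (g2 * D.z b * g2⁻¹) * g⁻¹ := by group
      _ = D.z c := by rw [e2, e3]
  refine ⟨g * g2, ?_, hz1, ?_, ?_, ?_⟩
  · calc g * g2 * D.t * (g * g2)⁻¹ = g * (g2 * D.t) * g2⁻¹ * g⁻¹ := by group
      _ = g * D.t * g⁻¹ := by rw [hg2t]; group
      _ = e := hgt
  · have h1 := hback (g * g2)⁻¹ (by
      intro b hb
      rw [inv_inv]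
      exact hz1 b hb)
    intro b hb
    have := h1 b hb
    rwa [inv_inv] at this
  · rw [e0]; exact hg2S
  · rw [e0]
    refine ⟨F.Sg_t _ hg2S, F.Sg_P _ hg2S, ?_, ?_⟩
    · have : g2⁻¹ * t' * g2 * (g2⁻¹ * t' * g2) = g2⁻¹ * (t' * t') * g2 := by group
      rw [this, ht'sq]; group
    · have := ch_conj F (comm_inv hg2t) ht't
      rw [inv_inv] at this
      rw [this, hch']

end Cfsg.Agent.StdU3.SwapTorus
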