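import Cfsg.Agent.StdU3.TermInst
import Cfsg.Agent.StdU3.LevelOneD
import Cfsg.Agent.StdU3.FldDef

/-!
# Levels 1 and 2: `TermDef.Term` from `FldDef.Fld`
-/

set_option autoImplicit false
set_option linter.unusedSectionVars false

namespace Cfsg.Agent.StdU3.TermLevels

open Cfsg.Agent.StdU3.Field Cfsg.Agent.StdU3.PreDef Cfsg.Agent.StdU3.LevelOne
open Cfsg.Agent.StdU3.LevelOneW Cfsg.Agent.StdU3.NormQ Cfsg.Agent.StdU3.Kernel
open Cfsg.Agent.StdU3.Next Cfsg.Agent.StdU3.LevelTwo Cfsg.Agent.StdU3.Card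
open Cfsg.Agent.StdU3.TermTwo Cfsg.Agent.StdU3.TermDef Cfsg.Agent.StdU3.FldDef
open Cfsg.Agent.StdU3.LevelOneD

variable {G : Type*} [Group G] {K : Type*} [Field K] [Fintype K] [CharP K 2] {n : ℕ}
variable {D : Pre G K n}

theorem fl_of_fld (F : Fld D) : Fl D F.Sg where
  two := F.Sg_two
  P_le := F.P_Sg
  t_mem := F.t_Sg
  comm := F.Sg_t
  norm_P := F.Sg_P
  sl := by
    intro x hx
    have hxc : x ∈ Subgroup.centralizer ({D.t} : Set G) :=
      Subgroup.mem_centralizer_singleton_iff.mpr (F.Sg_t x hx)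
    obtain ⟨c, -, h, -⟩ := F.chi_ca ⟨x, hxc⟩ (F.Sg_P x hx)
    exact ⟨c, F.chi ⟨x, hxc⟩, h, fun h1 => F.chi_one ⟨x, hxc⟩ hx h1⟩
  conj := by
    intro Y hY hYt
    obtain ⟨g, hg, h⟩ := F.Sg_conj Y hY hYt
    refine ⟨g⁻¹, ?_, fun y hy => by rw [inv_inv]; exact h y hy⟩
    have : g⁻¹ * D.t = g⁻¹ * (D.t * g) * g⁻¹ := by group
    rw [this, ← hg]; group

/-- level 1, `t Z` is normalized by `N(Q)`. -/
noncomputable def one [Finite G] (F : Fld D)
    (hfix : ∀ s, Norm D s → ∃ g ∈ D.Q, (g⁻¹ * s) * D.t = D.t * (g⁻¹ * s)) : Term D :=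
  TermInst.one F.amb (fun g hg _ => by
    by_cases h : ∃ y : G, y * D.t * y⁻¹ = g * D.t
    · obtain ⟨y, hy⟩ := h
      exact Or.inl (LevelOneD.three F.amb (fl_of_fld F) hfix hg hy)
    · right
      intro y hy
      exact h ⟨y, hy⟩)

theorem one_U [Finite G] (F : Fld D)
    (hfix : ∀ s, Norm D s → ∃ g ∈ D.Q, (g⁻¹ * s) * D.t = D.t * (g⁻¹ * s)) :
    (one F hfix).U = V D := rfl

theorem two_U [Finite G] {O : Subgroup G} (hg0 : gam D = 0) (hO : Amb D O) (X : Next D O)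
    (hsurj : ∀ c, ∃ s ∈ X.S, a D (s * D.t * s⁻¹) = c) :
    (TermInst.two hg0 hO X hsurj).U = U D X := rfl

/-- **levels 1 and 2**: a terminal group of one of the first two levels, normalized by a given
2-subgroup `R` of `N(Q)`; or `gam = 1` and the tower goes on. -/
theorem levels [Finite G] (F : Fld D) (R : Subgroup G) (hR : IsPGroup 2 R)
    (hRQ : ∀ s ∈ R, Norm D s) :
    (∃ T : Term D, ∀ s ∈ R, ∀ g ∈ T.U, s * g * s⁻¹ ∈ T.U) ∨
    (gam D = 1 ∧ ∀ X : Next D F.O, ∀ c, bar n c = c → ∃ s ∈ X.S, u D (s * D.t * s⁻¹) = c) := by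
  rcases cases_of D F.O with h | ⟨hg, h⟩ | h
  · exact Or.inl ⟨one F h, fun s hs g hg => conj_V D (hRQ s hs) hg⟩
  · left
    obtain ⟨X, hX⟩ := exists_next D F.amb R hR (fun s hs => hRQ s hs)
    refine ⟨TermInst.two hg F.amb X (h X), fun s hs g hg => ?_⟩
    exact conj_U D X (hRQ s hs) (hX s hs) hg
  · exact Or.inr h

end Cfsg.Agent.StdU3.TermLevels
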