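import Cfsg.Agent.StdU3.Card
import Cfsg.Agent.StdU3.TermDef

/-!
# The field `two` of `TermDef.Term` for the first two levels

An involution `v` of `U`, not in `Z`, centralizes a subgroup `C` of `U` of order at least `q³`
whose centre contains an elementary abelian subgroup of order at least `q²`.
-/

set_option autoImplicit false
set_option linter.unusedSectionVars false

namespace Cfsg.Agent.StdU3.TermTwo

open Cfsg.Agent.StdU3.Field Cfsg.Agent.StdU3.PreDef Cfsg.Agent.StdU3.LevelOne
open Cfsg.Agent.StdU3.LevelOneW Cfsg.Agent.StdU3.NormQ Cfsg.Agent.StdU3.Kernel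
open Cfsg.Agent.StdU3.Next Cfsg.Agent.StdU3.LevelTwo Cfsg.Agent.StdU3.Card

variable {K : Type*} [Field K] [Fintype K] [CharP K 2] {n : ℕ}
variable {G : Type*} [Group G] (D : Pre G K n) {O : Subgroup G}

/-- the conclusion of `Term.two` for `v`. -/
def HasTwo (U : Subgroup G) (v : G) : Prop :=
  ∃ C : Subgroup G, C ≤ U ∧ (∀ c ∈ C, c * v = v * c) ∧ (2 ^ n) ^ 3 ≤ Nat.card C ∧
    ∃ B : Subgroup G, B ≤ C ∧ (∀ b ∈ B, b * b = 1) ∧ (∀ b ∈ B, ∀ c ∈ C, b * c = c * b) ∧
      (2 ^ n) ^ 2 ≤ Nat.card B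

theorem mem_cent {U : Subgroup G} {v g : G} :
    g ∈ U ⊓ Subgroup.centralizer {v} ↔ g ∈ U ∧ g * v = v * g := by
  rw [Subgroup.mem_inf, Subgroup.mem_centralizer_iff]
  constructor
  · rintro ⟨h1, h2⟩
    exact ⟨h1, (h2 v rfl).symm⟩
  · rintro ⟨h1, h2⟩
    refine ⟨h1, fun x hx => ?_⟩
    rw [Set.mem_singleton_iff.mp hx, h2]

/-- squares in `V` -/
theorem sq_V {g : G} (hg : g ∈ V D) : g * g = D.z (N n (a D g) + gam D * u D g) := by
  rw [sq_eq D (V_le D hg), e_zero D hg, zero_mul, add_zero]

theorem V_sq_one {g : G} (hg : g ∈ V D) (h : g * g = 1) : N n (a D g) + gam D * u D g = 0 := by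
  rw [sq_V D hg] at h
  exact D.z_inj _ (fixed_add (fixed_N D.hq _) (fixed_mul (gam_fixed D) (u_fixed D (V_le D hg)))) h

theorem V_comm {g k : G} (hg : g ∈ V D) (hk : k ∈ V D) :
    g * k = D.z (Tr n (a D g * bar n (a D k))) * (k * g) := by
  rw [comm_eq D (V_le D hg) (V_le D hk), e_zero D hg, e_zero D hk, zero_mul, zero_mul, add_zero,
    add_zero]

theorem V_comm_iff {g k : G} (hg : g ∈ V D) (hk : k ∈ V D) :
    g * k = k * g ↔ Tr n (a D g * bar n (a D k)) = 0 := by
  constructor
  · intro h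
    have h1 := V_comm D hg hk
    rw [h] at h1
    have h2 : D.z (Tr n (a D g * bar n (a D k))) = 1 := mul_eq_right.mp h1.symm
    exact D.z_inj _ (fixed_Tr D.hq _) h2
  · intro h
    rw [V_comm D hg hk, h, z_zero, one_mul]

theorem W_V_comm {y g : G} (hy : y ∈ W D) (hg : g ∈ V D) : y * g = g * y := by
  rw [V_comm_iff D (W_le_V D hy) hg, a_W D hy, zero_mul, Tr_zero]

/-- **level 1** -/
theorem levelOne [Finite G] {v : G} (hv : v ∈ V D) (h1 : v * v = 1) (hz : ∀ b, v ≠ D.z b) :
    HasTwo (n := n) (V D) v := by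
  have hq := four_le D.hq
  have h0 := V_sq_one D hv h1
  by_cases hg : gam D = 0
  · rw [hg, zero_mul, add_zero] at h0
    have hvW : v ∈ W D := W_of_ae D (V_le D hv) (N_eq_zero h0) (e_zero D hv)
    refine ⟨V D, le_rfl, fun c hc => (W_V_comm D hvW hc).symm, ?_, W D, W_le_V D, ?_, ?_, ?_⟩
    · rw [card_V]
      exact Nat.pow_le_pow_right (by omega) (by norm_num)
    · intro y hy
      rw [W_sq D hy, hg, zero_mul, z_zero]
    · intro y hy g hg
      exact W_V_comm D hy hg
    · rw [card_W]
  · have hav : a D v ≠ 0 := by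
      intro h
      rw [h, N_zero, zero_add] at h0
      have hu : u D v = 0 := (mul_eq_zero.mp h0).resolve_left hg
      obtain ⟨b, -, hb⟩ := ker_eq D (V_le D hv) h hu (e_zero D hv)
      exact hz b hb
    have hCf : ∀ g ∈ V D ⊓ Subgroup.centralizer {v}, bar n (a D g / a D v) = a D g / a D v := by
      intro g hg
      rw [mem_cent] at hg
      apply fixed_div_of_Tr D.hq _ hav
      rw [Tr_comm D.hq]
      exact (V_comm_iff D hg.1 hv).mp hg.2
    have hCf' : ∀ g ∈ V D, bar n (a D g / a D v) = a D g / a D v →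
        g ∈ V D ⊓ Subgroup.centralizer {v} := by
      intro g hg hf
      rw [mem_cent]
      refine ⟨hg, ?_⟩
      rw [V_comm_iff D hg hv]
      have : a D g * bar n (a D v) = (a D g / a D v) * N n (a D v) := by
        rw [N_def]; field_simp
      rw [this, Tr_mul_fixed hf, Tr_of_fixed (fixed_N D.hq _), mul_zero]
    have hCc : ∀ g ∈ V D ⊓ Subgroup.centralizer {v}, ∀ k ∈ V D ⊓ Subgroup.centralizer {v},
        g * k = k * g := by
      intro g hg k hk
      have hg' := mem_cent.mp hg
      have hk' := mem_cent.mp hk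
      rw [V_comm_iff D hg'.1 hk'.1]
      have h2 : a D g * bar n (a D k) = (a D g / a D v * (a D k / a D v)) * N n (a D v) := by
        have h3 : bar n (a D k) = (a D k / a D v) * bar n (a D v) := by
          rw [← hCf k hk, ← bar_mul, div_mul_cancel₀ _ hav]
        rw [h3, N_def]; field_simp
      rw [h2, Tr_mul_fixed (fixed_mul (hCf g hg) (hCf k hk)), Tr_of_fixed (fixed_N D.hq _),
        mul_zero]
    let B : Subgroup G :=
      { carrier := {g | g ∈ V D ⊓ Subgroup.centralizer {v} ∧ g * g = 1}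
        one_mem' := ⟨one_mem _, one_mul 1⟩
        mul_mem' := by
          rintro x y ⟨hx, hx1⟩ ⟨hy, hy1⟩
          refine ⟨mul_mem hx hy, ?_⟩
          have : x * y * (x * y) = x * (y * x) * y := by group
          rw [this, ← hCc x hx y hy]
          have : x * (x * y) * y = (x * x) * (y * y) := by group
          rw [this, hx1, hy1, one_mul]
        inv_mem' := by
          rintro x ⟨hx, hx1⟩
          refine ⟨inv_mem hx, ?_⟩
          rw [← mul_inv_rev, hx1, inv_one] }
    have hB : ∀ g, g ∈ B ↔ g ∈ V D ⊓ Subgroup.centralizer {v} ∧ g * g = 1 := fun _ => Iff.rfl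
    refine ⟨V D ⊓ Subgroup.centralizer {v}, inf_le_left, fun c hc => (mem_cent.mp hc).2, ?_, B,
      fun g hg => ((hB g).mp hg).1, fun g hg => ((hB g).mp hg).2, ?_, ?_⟩
    · have h3 := card_le_cent_Q D (V_le D) (V_le D hv)
      rw [card_V] at h3
      have h4 : (2 ^ n) ^ 4 = (2 ^ n) ^ 3 * 2 ^ n := by ring
      rw [h4] at h3
      exact Nat.le_of_mul_le_mul_right h3 (by positivity)
    · intro g hg c hc
      exact hCc g ((hB g).mp hg).1 c hc
    · have h3 := card_of_hom B (Z D) (fun g => a D g / a D v) (Fq K n) (by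
        intro x hx y hy
        have hx' := V_le D (mem_cent.mp ((hB x).mp hx).1).1
        have hy' := V_le D (mem_cent.mp ((hB y).mp hy).1).1
        show a D (x * y) / a D v = a D x / a D v + a D y / a D v
        rw [a_mul D hx' hy', add_div]) (by
        intro x
        constructor
        · rintro ⟨b, hb, rfl⟩
          refine ⟨?_, ?_⟩
          · rw [hB]
            refine ⟨hCf' _ (W_le_V D (z_mem_W D b)) ?_, z_self D b⟩
            rw [a_z, zero_div, bar_zero]
          · show a D (D.z b) / a D v = 0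
            rw [a_z, zero_div]
        · rintro ⟨hx, h5⟩
          rw [hB] at hx
          have hxV := (mem_cent.mp hx.1).1
          have h6 : a D x = 0 := (div_eq_zero_iff.mp h5).resolve_right hav
          have h7 := V_sq_one D hxV hx.2
          rw [h6, N_zero, zero_add] at h7
          exact ker_eq D (V_le D hxV) h6 ((mul_eq_zero.mp h7).resolve_left hg) (e_zero D hxV))
        (by
          intro x hx
          exact hCf x ((hB x).mp hx).1) (by
        intro m hm
        have hgi : bar n (gam D)⁻¹ = (gam D)⁻¹ := fixed_inv (gam_fixed D)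
        obtain ⟨g, hg1, hg2, hg3, hg4⟩ := surj D (a0 := m * a D v)
          (u0 := (gam D)⁻¹ * N n (m * a D v)) (e0 := 0) (fixed_mul hgi (fixed_N D.hq _))
          (Or.inl rfl)
        have hgV : g ∈ V D := (e_eq_zero_iff D).mp hg4
        have h5 : a D g / a D v = m := by rw [hg2, mul_div_cancel_right₀ _ hav]
        refine ⟨g, ?_, h5⟩
        rw [hB]
        refine ⟨hCf' g hgV (by rw [h5]; exact hm), ?_⟩
        rw [sq_V D hgV, hg2, hg3, ← mul_assoc, mul_inv_cancel₀ hg, one_mul, add_self, z_zero])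
      rw [h3, card_Z, card_Fq D.hq, sq]

variable {D} in
/-- **level 2** -/
theorem levelTwo [Finite G] (hg0 : gam D = 0) (hO : Amb D O) (X : Next D O)
    (hsurj : ∀ c, ∃ s ∈ X.S, a D (s * D.t * s⁻¹) = c) {v : G} (hv : v ∈ U D X) :
    HasTwo (n := n) (U D X) v := by
  have hq := four_le D.hq
  refine ⟨U D X ⊓ Subgroup.centralizer {v}, inf_le_left, fun c hc => (mem_cent.mp hc).2, ?_,
    W D, ?_, ?_, ?_, ?_⟩
  · exact (Nat.pow_le_pow_right (by omega) (by norm_num)).trans (card_le_cent_U hg0 hO X hsurj hv)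
  · intro y hy
    rw [mem_cent]
    exact ⟨W_le_U D X hy, ((mem_U D).mp hv).2 y hy⟩
  · intro y hy
    rw [W_sq D hy, hg0, zero_mul, z_zero]
  · intro y hy c hc
    exact ((mem_U D).mp (mem_cent.mp hc).1).2 y hy
  · rw [card_W]

end Cfsg.Agent.StdU3.TermTwo
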